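import Mathlib

/-!
# Properties of morphisms of schemes that are etale local on the source

`g : V' ⟶ V` etale surjective and `P (g ≫ f)` imply `P f` for `P` flat, formally unramified,
locally of finite type, locally of finite presentation, etale.
-/

set_option autoImplicit false
universe u
open CategoryTheory CategoryTheory.Limits AlgebraicGeometry MorphismProperty TensorProduct

namespace Groth.Agent.H53

theorem isPullback_of_comp_mono {C : Type*} [Category C] {W X Y Z Z' : C} {fst : W ⟶ X}
    {snd : W ⟶ Y} {f : X ⟶ Z} {g : Y ⟶ Z} (i : Z ⟶ Z') [Mono i]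
    (sq : IsPullback fst snd (f ≫ i) (g ≫ i)) : IsPullback fst snd f g :=
  ⟨⟨by rw [← cancel_mono i, Category.assoc, Category.assoc, sq.w]⟩,
   ⟨PullbackCone.IsLimit.mk _
     (fun s => sq.lift s.fst s.snd (by rw [← Category.assoc, s.condition, Category.assoc]))
     (fun s => sq.lift_fst _ _ _) (fun s => sq.lift_snd _ _ _)
     (fun s m h1 h2 => sq.hom_ext (by simpa using h1) (by simpa using h2))⟩⟩

/-- Special case of source-descent: if the etale cover of the source is the base change of an
etale map to the target whose image contains the image of `f`, fpqc descent on the target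
applies. -/
theorem descends_of_etale_of_isPullback {P : MorphismProperty Scheme.{u}}
    [P.DescendsAlong (@Surjective ⊓ @Flat ⊓ @QuasiCompact)]
    [P.IsStableUnderComposition]
    (hP : ∀ {X Y : Scheme.{u}} (j : X ⟶ Y) [IsOpenImmersion j], P j)
    {X T T' W : Scheme.{u}} [IsAffine T] [IsAffine T'] (f : X ⟶ T) (h : T' ⟶ T) [Etale h]
    (fst : W ⟶ X) (snd : W ⟶ T') (sq : IsPullback fst snd f h) [Surjective fst]
    (hsnd : P snd) : P f := by
  let O : T.Opens := ⟨Set.range h, h.isOpenMap.isOpen_range⟩
  have hO : Set.range O.ι = Set.range h := Scheme.Opens.range_ι O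
  have hf : Set.range f ⊆ Set.range O.ι := by
    rintro _ ⟨x, rfl⟩
    obtain ⟨w, rfl⟩ := fst.surjective x
    rw [hO]
    refine ⟨snd w, ?_⟩
    rw [← Scheme.Hom.comp_apply, ← sq.w, Scheme.Hom.comp_apply]
  have hh : Set.range h ⊆ Set.range O.ι := by rw [hO]
  have hf₀ : IsOpenImmersion.lift O.ι f hf ≫ O.ι = f := IsOpenImmersion.lift_fac _ _ _
  have hh₀ : IsOpenImmersion.lift O.ι h hh ≫ O.ι = h := IsOpenImmersion.lift_fac _ _ _
  generalize IsOpenImmersion.lift O.ι f hf = f₀ at hf₀
  generalize IsOpenImmersion.lift O.ι h hh = h₀ at hh₀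
  have sq₀ : IsPullback fst snd f₀ h₀ := isPullback_of_comp_mono O.ι (by rwa [hf₀, hh₀])
  have : Etale h₀ := by
    have : Etale (h₀ ≫ O.ι) := by rw [hh₀]; infer_instance
    exact Etale.of_comp h₀ O.ι
  have : Surjective h₀ := ⟨fun o => by
    obtain ⟨t', ht'⟩ : O.ι o ∈ Set.range h := by
      rw [← hO]; exact ⟨o, rfl⟩
    refine ⟨t', ?_⟩
    apply O.ι.injective
    rw [← Scheme.Hom.comp_apply, hh₀]
    exact ht'⟩
  have : QuasiCompact h₀ := by
    have : QuasiCompact (h₀ ≫ O.ι) := by rw [hh₀]; infer_instance
    exact QuasiCompact.of_comp h₀ O.ι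
  have key : P f₀ := DescendsAlong.of_isPullback (P := P)
    (Q := @Surjective ⊓ @Flat ⊓ @QuasiCompact) sq₀.flip ⟨⟨‹_›, inferInstance⟩, ‹_›⟩ hsnd
  rw [← hf₀]
  exact P.comp_mem _ _ key (hP O.ι)


/-! ## Ring level -/


theorem flat_of_flat_comp_of_faithfullyFlat (A B C : Type*) [CommRing A] [CommRing B] [CommRing C]
    [Algebra A B] [Algebra B C] [Algebra A C] [IsScalarTower A B C]
    [Module.FaithfullyFlat B C] [Module.Flat A C] : Module.Flat A B := by
  rw [Module.Flat.iff_lTensor_preserves_injective_linearMap]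
  intro N N' _ _ _ _ f hf
  have h1 : Function.Injective (f.lTensor C) :=
    Module.Flat.lTensor_preserves_injective_linearMap f hf
  change Function.Injective (f.baseChange B)
  rw [← Module.FaithfullyFlat.lTensor_injective_iff_injective B C]
  have hcomm : ∀ x, (AlgebraTensorModule.cancelBaseChange A B C C N')
      ((f.baseChange B).lTensor C x) =
      (f.lTensor C) (AlgebraTensorModule.cancelBaseChange A B C C N x) := by
    intro x
    induction x using TensorProduct.induction_on with
    | zero => simp
    | tmul c y =>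
      induction y using TensorProduct.induction_on with
      | zero => simp
      | tmul b n => simp
      | add y₁ y₂ h₁ h₂ => simp only [TensorProduct.tmul_add, map_add, h₁, h₂]
    | add x y hx hy => simp only [map_add, hx, hy]
  intro x y hxy
  apply (AlgebraTensorModule.cancelBaseChange A B C C N).injective
  apply h1
  rw [← hcomm, ← hcomm, hxy]

theorem formallyUnramified_of_comp_of_formallyEtale_faithfullyFlat (A B C : Type*)
    [CommRing A] [CommRing B] [CommRing C]
    [Algebra A B] [Algebra B C] [Algebra A C] [IsScalarTower A B C]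
    [Algebra.FormallyEtale B C] [Module.FaithfullyFlat B C] [Algebra.FormallyUnramified A C] :
    Algebra.FormallyUnramified A B := by
  constructor
  have e := KaehlerDifferential.tensorKaehlerEquivOfFormallyEtale A B C
  have : Subsingleton (C ⊗[B] Ω[B⁄A]) := e.toEquiv.subsingleton
  exact (Module.FaithfullyFlat.subsingleton_tensorProduct_iff_right B C).mp this



/-- Spec of a faithfully flat ring map is surjective. -/
theorem surjective_SpecMap_of_faithfullyFlat {R S : CommRingCat.{u}} (f : R ⟶ S)
    (hf : f.hom.FaithfullyFlat) : Surjective (Spec.map f) :=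
  ((flat_and_surjective_SpecMap_iff f).mpr hf).2

/-- Ring-level special case of source descent, stated for a general scheme-level property `P`. -/
theorem spec_descends_of_etale_tensor {P : MorphismProperty Scheme.{u}}
    [P.DescendsAlong (@Surjective ⊓ @Flat ⊓ @QuasiCompact)]
    [P.IsStableUnderComposition]
    (hP : ∀ {X Y : Scheme.{u}} (j : X ⟶ Y) [IsOpenImmersion j], P j)
    (R B D : Type u) [CommRing R] [CommRing B] [CommRing D] [Algebra R B] [Algebra R D]
    [Algebra.Etale R D] (hff : Module.FaithfullyFlat B (B ⊗[R] D))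
    (h : P (Spec.map (CommRingCat.ofHom
      (Algebra.TensorProduct.includeRight.toRingHom : D →+* B ⊗[R] D)))) :
    P (Spec.map (CommRingCat.ofHom (algebraMap R B))) := by
  have po := CommRingCat.isPushout_tensorProduct R B D
  have sq := isPullback_SpecMap_of_isPushout _ _ _ _ po
  have hsurj : Surjective (Spec.map (CommRingCat.ofHom
      (Algebra.TensorProduct.includeLeftRingHom : B →+* B ⊗[R] D))) := by
    apply surjective_SpecMap_of_faithfullyFlat
    exact (RingHom.faithfullyFlat_algebraMap_iff).mpr hff
  have hEt : Etale (Spec.map (CommRingCat.ofHom (algebraMap R D))) :=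
    (HasRingHomProperty.Spec_iff (P := @Etale)).mpr (RingHom.etale_algebraMap.mpr inferInstance)
  exact descends_of_etale_of_isPullback (P := P) hP _ _ _ _ sq h

/-- the composite `A → C ≃ B ⊗[R] D` factors through `D` -/
theorem comp_eq_includeRight_comp (A R B C D : Type u) [CommRing A] [CommRing R] [CommRing B]
    [CommRing C] [CommRing D] [Algebra A R] [Algebra R B] [Algebra A B] [IsScalarTower A R B]
    [Algebra B C] [Algebra A C] [IsScalarTower A B C] [Algebra R D]
    (e : C ≃ₐ[B] B ⊗[R] D) :
    (e : C →+* B ⊗[R] D).comp (algebraMap A C) =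
        (Algebra.TensorProduct.includeRight.toRingHom : D →+* B ⊗[R] D).comp
          ((algebraMap R D).comp (algebraMap A R)) := by
  ext a
  simp only [RingHom.coe_comp, Function.comp_apply, RingHom.coe_coe, AlgHom.toRingHom_eq_coe,
    Algebra.TensorProduct.includeRight_apply]
  rw [IsScalarTower.algebraMap_apply A B C, e.commutes,
    Algebra.TensorProduct.algebraMap_apply, Algebra.algebraMap_self_apply]
  rw [← mul_one (algebraMap R D _), ← Algebra.smul_def, TensorProduct.tmul_smul,
    TensorProduct.smul_tmul', Algebra.smul_def, mul_one, ← IsScalarTower.algebraMap_apply]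

theorem finiteType_of_comp_of_etale_faithfullyFlat (A B C : Type u) [CommRing A] [CommRing B]
    [CommRing C] [Algebra A B] [Algebra B C] [Algebra A C] [IsScalarTower A B C]
    [Algebra.Etale B C] [Module.FaithfullyFlat B C] [Algebra.FiniteType A C] :
    Algebra.FiniteType A B := by
  obtain ⟨B₀, C₀, _, _, hfg, het, ⟨e⟩⟩ := Algebra.Etale.exists_subalgebra_fg A B C
  have h1 : Algebra.FiniteType A B₀ := (Subalgebra.fg_iff_finiteType B₀).mp hfg
  suffices h2 : Algebra.FiniteType B₀ B from Algebra.FiniteType.trans h1 h2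
  have hff : Module.FaithfullyFlat B (B ⊗[B₀] C₀) :=
    Module.FaithfullyFlat.of_linearEquiv B C e.symm.toLinearEquiv
  have hsnd : LocallyOfFiniteType (Spec.map (CommRingCat.ofHom
      (Algebra.TensorProduct.includeRight.toRingHom : C₀ →+* B ⊗[B₀] C₀))) := by
    refine (HasRingHomProperty.Spec_iff (P := @LocallyOfFiniteType)).mpr ?_
    have hθ : ((e : C →+* B ⊗[B₀] C₀).comp (algebraMap A C)).FiniteType :=
      (RingHom.finiteType_algebraMap.mpr inferInstance).comp_surjective e.surjective
    rw [comp_eq_includeRight_comp A B₀ B C C₀ e] at hθ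
    exact hθ.of_comp_finiteType
  have key := spec_descends_of_etale_tensor (P := @LocallyOfFiniteType)
    (fun j _ => inferInstance) B₀ B C₀ hff hsnd
  exact RingHom.finiteType_algebraMap.mp
    ((HasRingHomProperty.Spec_iff (P := @LocallyOfFiniteType)).mp key)


theorem exists_ideal_lift_of_fg (A B : Type u) [CommRing A] [CommRing B] [Algebra A B]
    (hs : Function.Surjective (algebraMap A B)) (B₀ : Subalgebra ℤ B) (hfg : B₀.FG) :
    ∃ (J : Ideal A) (hJle : J ≤ RingHom.ker (algebraMap A B)) (ρ : B₀ →+* A ⧸ J), J.FG ∧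
      ∀ b₀ : B₀, Ideal.Quotient.lift J (algebraMap A B) (fun a ha => hJle ha) (ρ b₀) = b₀ := by
  classical
  obtain ⟨s, hs'⟩ := hfg
  let π : A →ₐ[ℤ] B := (algebraMap A B).toIntAlgHom
  let s' : Finset A := s.image (Function.surjInv hs)
  let A₁ : Subalgebra ℤ A := Algebra.adjoin ℤ (s' : Set A)
  have hmap : A₁.map π = B₀ := by
    rw [← hs', AlgHom.map_adjoin]
    congr 1
    ext b
    simp only [s', Finset.coe_image, Set.mem_image, Finset.mem_coe, exists_exists_and_eq_and]
    constructor
    · rintro ⟨b', hb', rfl⟩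
      have : π (Function.surjInv hs b') = b' := Function.surjInv_eq hs b'
      rwa [this]
    · intro hb
      exact ⟨b, hb, Function.surjInv_eq hs b⟩
  have hπmem : ∀ a : A₁, (π.comp A₁.val) a ∈ B₀ := fun a => by
    rw [← hmap]; exact ⟨a, a.2, rfl⟩
  let π₁ : A₁ →+* B₀ := ((π.comp A₁.val).codRestrict B₀ hπmem).toRingHom
  have hπ₁ : Function.Surjective π₁ := by
    rintro ⟨b, hb⟩
    rw [← hmap] at hb
    obtain ⟨a, ha, rfl⟩ := hb
    exact ⟨⟨a, ha⟩, Subtype.ext rfl⟩
  have : Algebra.FiniteType ℤ A₁ := (Subalgebra.fg_iff_finiteType A₁).mp ⟨s', rfl⟩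
  have : IsNoetherianRing A₁ := Algebra.FiniteType.isNoetherianRing ℤ A₁
  have hJ₁ : (RingHom.ker π₁).FG := IsNoetherian.noetherian _
  have hJle : (RingHom.ker π₁).map (algebraMap A₁ A) ≤ RingHom.ker (algebraMap A B) := by
    rw [Ideal.map_le_iff_le_comap]
    intro a ha
    rw [Ideal.mem_comap, RingHom.mem_ker]
    have : π₁ a = 0 := ha
    exact congrArg Subtype.val this
  refine ⟨(RingHom.ker π₁).map (algebraMap A₁ A), hJle,
    (Ideal.quotientMap _ (algebraMap A₁ A) Ideal.le_comap_map).comp
      (RingHom.quotientKerEquivOfSurjective hπ₁).symm.toRingHom, hJ₁.map _, fun b₀ => ?_⟩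
  obtain ⟨a, rfl⟩ := hπ₁ b₀
  simp only [RingHom.coe_comp, Function.comp_apply, RingEquiv.toRingHom_eq_coe,
    RingHom.coe_coe, RingHom.quotientKerEquivOfSurjective_symm_apply, Ideal.quotientMap_mk,
    Ideal.Quotient.lift_mk]
  rfl

/-- Core of the finite presentation descent: an etale model of `C` over a finitely presented
quotient `R` of `A`. -/
theorem finitePresentation_of_model (A R B C B₀ C₀ : Type u) [CommRing A] [CommRing R] [CommRing B]
    [CommRing C] [CommRing B₀] [CommRing C₀]
    [Algebra A R] [Algebra R B] [Algebra A B] [IsScalarTower A R B]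
    [Algebra B C] [Algebra A C] [IsScalarTower A B C]
    [Algebra B₀ R] [Algebra B₀ B] [IsScalarTower B₀ R B] [Algebra B₀ C₀] [Algebra.Etale B₀ C₀]
    (e : C ≃ₐ[B] B ⊗[B₀] C₀) [Module.FaithfullyFlat B C] [Algebra.FinitePresentation A C]
    [Algebra.FinitePresentation A R] : Algebra.FinitePresentation A B := by
  let ε : C ≃ₐ[B] B ⊗[R] (R ⊗[B₀] C₀) :=
    e.trans (Algebra.TensorProduct.cancelBaseChange B₀ R B B C₀).symm
  have hff : Module.FaithfullyFlat B (B ⊗[R] (R ⊗[B₀] C₀)) :=
    Module.FaithfullyFlat.of_linearEquiv B C ε.symm.toLinearEquiv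
  have key : LocallyOfFinitePresentation
      (Spec.map (CommRingCat.ofHom (algebraMap R B))) := by
    refine spec_descends_of_etale_tensor (P := @LocallyOfFinitePresentation)
      (fun j _ => inferInstance) R B (R ⊗[B₀] C₀) hff ?_
    refine (HasRingHomProperty.Spec_iff (P := @LocallyOfFinitePresentation)).mpr ?_
    have hθ : ((ε : C →+* B ⊗[R] (R ⊗[B₀] C₀)).comp
        (algebraMap A C)).FinitePresentation :=
      (RingHom.FinitePresentation.of_bijective ε.bijective).comp
        (RingHom.finitePresentation_algebraMap.mpr inferInstance)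
    rw [comp_eq_includeRight_comp A R B C (R ⊗[B₀] C₀) ε] at hθ
    refine RingHom.FinitePresentation.of_comp_finiteType _ hθ ?_
    have h1 : (algebraMap A R).FiniteType :=
      RingHom.finiteType_algebraMap.mpr inferInstance
    have h2 : (algebraMap R (R ⊗[B₀] C₀)).FiniteType :=
      RingHom.finiteType_algebraMap.mpr inferInstance
    exact h2.comp h1
  have h3 : Algebra.FinitePresentation R B := RingHom.finitePresentation_algebraMap.mp
    ((HasRingHomProperty.Spec_iff (P := @LocallyOfFinitePresentation)).mp key)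
  exact Algebra.FinitePresentation.trans A R B

theorem finitePresentation_of_surjective_of_comp (A B C : Type u) [CommRing A] [CommRing B]
    [CommRing C] [Algebra A B] [Algebra B C] [Algebra A C] [IsScalarTower A B C]
    (hs : Function.Surjective (algebraMap A B))
    [Algebra.Etale B C] [Module.FaithfullyFlat B C] [Algebra.FinitePresentation A C] :
    Algebra.FinitePresentation A B := by
  obtain ⟨B₀, C₀, _, _, hfg, het, ⟨e⟩⟩ := Algebra.Etale.exists_subalgebra_fg ℤ B C
  obtain ⟨J, hJle, ρ, hJ, hρ⟩ := exists_ideal_lift_of_fg A B hs B₀ hfg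
  let _ : Algebra B₀ (A ⧸ J) := ρ.toAlgebra
  let _ : Algebra (A ⧸ J) B :=
    (Ideal.Quotient.lift J (algebraMap A B) (fun a ha => hJle ha)).toAlgebra
  have : IsScalarTower B₀ (A ⧸ J) B := IsScalarTower.of_algebraMap_eq (fun b₀ => (hρ b₀).symm)
  have : IsScalarTower A (A ⧸ J) B := IsScalarTower.of_algebraMap_eq (fun a => rfl)
  have : Algebra.FinitePresentation A (A ⧸ J) := Algebra.FinitePresentation.quotient hJ
  exact finitePresentation_of_model A (A ⧸ J) B C B₀ C₀ e


theorem finitePresentation_of_comp_of_etale_faithfullyFlat (A B C : Type u) [CommRing A]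
    [CommRing B] [CommRing C] [Algebra A B] [Algebra B C] [Algebra A C] [IsScalarTower A B C]
    [Algebra.Etale B C] [Module.FaithfullyFlat B C] [Algebra.FinitePresentation A C] :
    Algebra.FinitePresentation A B := by
  have hft : Algebra.FiniteType A B := finiteType_of_comp_of_etale_faithfullyFlat A B C
  obtain ⟨n, f, hf⟩ := Algebra.FiniteType.iff_quotient_mvPolynomial''.mp hft
  let _ : Algebra (MvPolynomial (Fin n) A) B := f.toRingHom.toAlgebra
  let _ : Algebra (MvPolynomial (Fin n) A) C := ((algebraMap B C).comp f.toRingHom).toAlgebra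
  have : IsScalarTower (MvPolynomial (Fin n) A) B C := IsScalarTower.of_algebraMap_eq (fun _ => rfl)
  have : IsScalarTower A (MvPolynomial (Fin n) A) B :=
    IsScalarTower.of_algebraMap_eq (fun a => (f.commutes a).symm)
  have : IsScalarTower A (MvPolynomial (Fin n) A) C :=
    IsScalarTower.of_algebraMap_eq (fun a => by
      change algebraMap A C a = algebraMap B C (f (algebraMap A _ a))
      rw [f.commutes, ← IsScalarTower.algebraMap_apply])
  have : Algebra.FinitePresentation (MvPolynomial (Fin n) A) C :=
    Algebra.FinitePresentation.of_restrict_scalars_finitePresentation A _ C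
  have : Algebra.FinitePresentation (MvPolynomial (Fin n) A) B :=
    finitePresentation_of_surjective_of_comp (MvPolynomial (Fin n) A) B C hf
  exact Algebra.FinitePresentation.trans A (MvPolynomial (Fin n) A) B



/-! ## Scheme level -/


theorem etale_of_comp_of_etale_faithfullyFlat (A B C : Type u) [CommRing A]
    [CommRing B] [CommRing C] [Algebra A B] [Algebra B C] [Algebra A C] [IsScalarTower A B C]
    [Algebra.Etale B C] [Module.FaithfullyFlat B C] [Algebra.Etale A C] :
    Algebra.Etale A B := by
  have := finitePresentation_of_comp_of_etale_faithfullyFlat A B C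
  have := flat_of_flat_comp_of_faithfullyFlat A B C
  have := formallyUnramified_of_comp_of_formallyEtale_faithfullyFlat A B C
  exact Algebra.Etale.of_formallyUnramified_of_flat

/-- A property `Q` of ring homomorphisms descends on the source along etale faithfully flat
maps. -/
def RingSourceLocal (Q : ∀ {R S : Type u} [CommRing R] [CommRing S], (R →+* S) → Prop) : Prop :=
  ∀ {A B C : Type u} [CommRing A] [CommRing B] [CommRing C] (φ : A →+* B) (ψ : B →+* C),
    ψ.Etale → ψ.FaithfullyFlat → Q (ψ.comp φ) → Q φ

theorem ringSourceLocal_flat : RingSourceLocal.{u} @RingHom.Flat := by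
  intro A B C _ _ _ φ ψ h1 h2 h3
  algebraize [φ, ψ, ψ.comp φ]
  have : Module.FaithfullyFlat B C := h2
  have : Module.Flat A C := h3
  exact flat_of_flat_comp_of_faithfullyFlat A B C

theorem ringSourceLocal_formallyUnramified : RingSourceLocal.{u} @RingHom.FormallyUnramified := by
  intro A B C _ _ _ φ ψ h1 h2 h3
  algebraize [φ, ψ, ψ.comp φ]
  have : Module.FaithfullyFlat B C := h2
  have : Algebra.Etale B C := h1
  have : Algebra.FormallyUnramified A C := h3
  exact formallyUnramified_of_comp_of_formallyEtale_faithfullyFlat A B C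

theorem ringSourceLocal_finiteType : RingSourceLocal.{u} @RingHom.FiniteType := by
  intro A B C _ _ _ φ ψ h1 h2 h3
  algebraize [φ, ψ, ψ.comp φ]
  have : Module.FaithfullyFlat B C := h2
  have : Algebra.Etale B C := h1
  have : Algebra.FiniteType A C := h3
  exact finiteType_of_comp_of_etale_faithfullyFlat A B C

theorem ringSourceLocal_finitePresentation : RingSourceLocal.{u} @RingHom.FinitePresentation := by
  intro A B C _ _ _ φ ψ h1 h2 h3
  algebraize [φ, ψ, ψ.comp φ]
  have : Module.FaithfullyFlat B C := h2
  have : Algebra.Etale B C := h1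
  have : Algebra.FinitePresentation A C := h3
  exact finitePresentation_of_comp_of_etale_faithfullyFlat A B C

theorem ringSourceLocal_etale : RingSourceLocal.{u} @RingHom.Etale := by
  intro A B C _ _ _ φ ψ h1 h2 h3
  algebraize [φ, ψ, ψ.comp φ]
  have : Module.FaithfullyFlat B C := h2
  have : Algebra.Etale B C := h1
  have : Algebra.Etale A C := h3
  exact etale_of_comp_of_etale_faithfullyFlat A B C


/-- A quasi-compact scheme admits an etale surjection from an affine scheme. -/
theorem exists_affine_etale_surjective' (U : Scheme.{u}) [CompactSpace U] :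
    ∃ (U' : Scheme.{u}) (π : U' ⟶ U), IsAffine U' ∧ Etale π ∧ Surjective π := by
  let 𝒰 := U.affineCover.finiteSubcover
  have hfin : Finite 𝒰.I₀ := inferInstance
  have haff : ∀ i, IsAffine (𝒰.X i) := fun i => by
    dsimp [𝒰]
    infer_instance
  refine ⟨∐ 𝒰.X, Sigma.desc 𝒰.f, inferInstance, ?_, ?_⟩
  · exact IsZariskiLocalAtSource.sigmaDesc (fun i => inferInstance)
  · constructor
    intro x
    obtain ⟨i, y, rfl⟩ := 𝒰.exists_eq x
    exact ⟨Sigma.ι 𝒰.X i y, by simp [← Scheme.Hom.comp_apply]⟩

/-- Over a quasi-compact open of the target of an etale surjective morphism there is an affine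
scheme etale over the source whose image is that open. -/
theorem exists_affine_etale_of_isCompact {V' V : Scheme.{u}} (g : V' ⟶ V) [Etale g]
    [Surjective g] (W : V.Opens) (hW : IsCompact (W : Set V)) :
    ∃ (V'' : Scheme.{u}) (k : V'' ⟶ V'), IsAffine V'' ∧ Etale k ∧
      Set.range (k ≫ g) = (W : Set V) := by
  have h1 : ∀ w : W, ∃ N : V'.Opens, IsAffineOpen N ∧ N ≤ g ⁻¹ᵁ W ∧ (w : V) ∈ g '' (N : Set V') := by
    intro w
    obtain ⟨v', hv'⟩ := g.surjective w
    have hv'W : v' ∈ g ⁻¹ᵁ W := by
      change g v' ∈ W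
      rw [hv']; exact w.2
    obtain ⟨_, ⟨N, hN : IsAffineOpen N, rfl⟩, hvN, hNle⟩ :=
      V'.isBasis_affineOpens.exists_subset_of_mem_open hv'W (g ⁻¹ᵁ W).2
    exact ⟨N, hN, hNle, v', hvN, hv'⟩
  choose N hNaff hNle hNmem using h1
  obtain ⟨t, ht⟩ := hW.elim_finite_subcover (fun w : W => g '' (N w : Set V'))
    (fun w => g.isOpenMap _ (N w).2) (fun w hw => Set.mem_iUnion.2 ⟨⟨w, hw⟩, hNmem ⟨w, hw⟩⟩)
  let V'₀ : V'.Opens := ⨆ w : t, N w.1
  have hcpt : IsCompact (V'₀ : Set V') := by
    rw [TopologicalSpace.Opens.coe_iSup]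
    exact isCompact_iUnion (fun w => (hNaff w.1).isCompact)
  have : CompactSpace ↥(V'₀.toScheme) := isCompact_iff_compactSpace.mp hcpt
  obtain ⟨V'', p, haff, hpe, hps⟩ := exists_affine_etale_surjective' V'₀.toScheme
  refine ⟨V'', p ≫ V'₀.ι, haff, inferInstance, ?_⟩
  have hr : Set.range (p ≫ V'₀.ι) = (V'₀ : Set V') := by
    rw [Scheme.Hom.comp_base, TopCat.coe_comp, Set.range_comp, p.surjective.range_eq,
      Set.image_univ, Scheme.Opens.range_ι]
  rw [Scheme.Hom.comp_base (p ≫ V'₀.ι) g, TopCat.coe_comp, Set.range_comp, hr]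
  apply Set.Subset.antisymm
  · rintro _ ⟨v', hv', rfl⟩
    rw [TopologicalSpace.Opens.coe_iSup] at hv'
    obtain ⟨w, hw⟩ := Set.mem_iUnion.1 hv'
    exact hNle w.1 hw
  · intro w hw
    obtain ⟨i, hi, hwi⟩ := Set.mem_iUnion₂.1 (ht hw)
    obtain ⟨v', hv', rfl⟩ := hwi
    refine ⟨v', ?_, rfl⟩
    rw [TopologicalSpace.Opens.coe_iSup]
    exact Set.mem_iUnion.2 ⟨⟨i, hi⟩, hv'⟩


/-- Main globalisation: a property of morphisms of schemes induced by a ring-hom property that
descends on the source along etale faithfully flat maps is etale local on the source. -/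
theorem of_comp_etale_surjective {P : MorphismProperty Scheme.{u}}
    {Q : ∀ {R S : Type u} [CommRing R] [CommRing S], (R →+* S) → Prop} [HasRingHomProperty P Q]
    (hQ : RingSourceLocal @Q) [P.IsStableUnderBaseChange]
    (hPet : ∀ {X Y Z : Scheme.{u}} (k : X ⟶ Y) (f : Y ⟶ Z) [Etale k], P f → P (k ≫ f))
    {V' V T : Scheme.{u}} (g : V' ⟶ V) (f : V ⟶ T) [Etale g] [Surjective g] (h : P (g ≫ f)) :
    P f := by
  rw [HasRingHomProperty.iff_appLE (P := P)]
  intro U W e
  obtain ⟨V'', k, haff, hk, hr⟩ := exists_affine_etale_of_isCompact g W.1 W.2.isCompact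
  have hle : Set.range (k ≫ g) ⊆ Set.range W.1.ι := by rw [hr, Scheme.Opens.range_ι]
  have ha₀ : IsOpenImmersion.lift W.1.ι (k ≫ g) hle ≫ W.1.ι = k ≫ g :=
    IsOpenImmersion.lift_fac _ _ _
  generalize IsOpenImmersion.lift W.1.ι (k ≫ g) hle = a at ha₀
  have : IsAffine W.1.toScheme := W.2
  have : IsAffine U.1.toScheme := U.2
  have hae : Etale a := by
    have : Etale (a ≫ W.1.ι) := by rw [ha₀]; infer_instance
    exact Etale.of_comp a W.1.ι
  have has : Surjective a := ⟨fun w => by
    have : W.1.ι w ∈ Set.range (k ≫ g) := by rw [hr]; exact w.2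
    obtain ⟨x, hx⟩ := this
    refine ⟨x, W.1.ι.injective ?_⟩
    rw [← Scheme.Hom.comp_apply, ha₀]; exact hx⟩
  have hb : f.resLE U.1 W.1 e ≫ U.1.ι = W.1.ι ≫ f := Scheme.Hom.resLE_comp_ι _ _
  have hab : P (a ≫ f.resLE U.1 W.1 e) := by
    apply P.of_postcomp (W' := @IsOpenImmersion) _ U.1.ι inferInstance
    rw [Category.assoc, hb, ← Category.assoc, ha₀, Category.assoc]
    exact hPet k _ h
  rw [HasRingHomProperty.iff_of_isAffine (P := P), Scheme.Hom.comp_appTop,
    CommRingCat.hom_comp] at hab
  have hQb : Q ((f.resLE U.1 W.1 e).appTop).hom :=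
    hQ _ _ ((HasRingHomProperty.iff_of_isAffine (P := @Etale)).mp hae)
      ((Flat.flat_and_surjective_iff_faithfullyFlat_of_isAffine (f := a)).mp ⟨inferInstance, has⟩) hab
  have hPb : P (f.resLE U.1 W.1 e) := (HasRingHomProperty.iff_of_isAffine (P := P)).mpr hQb
  have key := HasRingHomProperty.appLE P _ hPb ⟨⊤, isAffineOpen_top _⟩ ⟨⊤, isAffineOpen_top _⟩
    le_top
  rw [Scheme.Hom.resLE_appLE] at key
  exact (Scheme.Hom.appLE_congr f _ (by simp) (by simp) (fun φ => Q φ.hom)).mp key


variable {V' V T : Scheme.{u}} (g : V' ⟶ V) (f : V ⟶ T) [Etale g] [Surjective g]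

theorem flat_of_comp_etale_surjective (h : Flat (g ≫ f)) : Flat f :=
  of_comp_etale_surjective (P := @Flat) ringSourceLocal_flat
    (fun k f _ hf => by have : Flat f := hf; exact (inferInstance : Flat (k ≫ f))) g f h

theorem formallyUnramified_of_comp_etale_surjective (h : FormallyUnramified (g ≫ f)) :
    FormallyUnramified f :=
  of_comp_etale_surjective (P := @FormallyUnramified) ringSourceLocal_formallyUnramified
    (fun k f _ hf => by
      have : FormallyUnramified f := hf
      have : FormallyUnramified k := inferInstance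
      exact MorphismProperty.comp_mem _ k f ‹FormallyUnramified k› hf) g f h

theorem locallyOfFiniteType_of_comp_etale_surjective (h : LocallyOfFiniteType (g ≫ f)) :
    LocallyOfFiniteType f :=
  of_comp_etale_surjective (P := @LocallyOfFiniteType) ringSourceLocal_finiteType
    (fun k f _ hf => by
      have : LocallyOfFiniteType f := hf
      exact (inferInstance : LocallyOfFiniteType (k ≫ f))) g f h

theorem locallyOfFinitePresentation_of_comp_etale_surjective
    (h : LocallyOfFinitePresentation (g ≫ f)) : LocallyOfFinitePresentation f :=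
  of_comp_etale_surjective (P := @LocallyOfFinitePresentation) ringSourceLocal_finitePresentation
    (fun k f _ hf => by
      have : LocallyOfFinitePresentation f := hf
      exact (inferInstance : LocallyOfFinitePresentation (k ≫ f))) g f h

theorem etale_of_comp_etale_surjective (h : Etale (g ≫ f)) : Etale f :=
  of_comp_etale_surjective (P := @Etale) ringSourceLocal_etale
    (fun k f _ hf => by
      have : Etale f := hf
      exact (inferInstance : Etale (k ≫ f))) g f h



/-! ## Unramified morphisms are locally quasi-finite -/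


theorem quasiFinite_of_unramified (R S : Type*) [CommRing R] [CommRing S] [Algebra R S]
    [Algebra.FiniteType R S] [Algebra.FormallyUnramified R S] : Algebra.QuasiFinite R S where
  finite_fiber P _ := by
    have : Algebra.FormallyUnramified P.ResidueField (P.Fiber S) :=
      inferInstanceAs (Algebra.FormallyUnramified P.ResidueField (P.ResidueField ⊗[R] S))
    have : Algebra.FiniteType P.ResidueField (P.Fiber S) :=
      inferInstanceAs (Algebra.FiniteType P.ResidueField (P.ResidueField ⊗[R] S))
    exact Algebra.FormallyUnramified.finite_of_free P.ResidueField (P.Fiber S)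

theorem locallyQuasiFinite_of_formallyUnramified {X Y : Scheme.{u}} (f : X ⟶ Y)
    [LocallyOfFiniteType f] [FormallyUnramified f] : LocallyQuasiFinite f := by
  rw [HasRingHomProperty.iff_appLE (P := @LocallyQuasiFinite)]
  intro U V e
  have h1 := HasRingHomProperty.appLE @LocallyOfFiniteType f inferInstance U V e
  have h2 := HasRingHomProperty.appLE @FormallyUnramified f inferInstance U V e
  algebraize [(f.appLE U V e).hom]
  exact quasiFinite_of_unramified _ _

theorem locallyQuasiFinite_of_etale {X Y : Scheme.{u}} (f : X ⟶ Y) [Etale f] :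
    LocallyQuasiFinite f := locallyQuasiFinite_of_formallyUnramified f


end Groth.Agent.H53
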