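import Groth.Agent.H53.SpBasic
import Mathlib.AlgebraicGeometry.Noetherian

set_option autoImplicit false
universe u
open CategoryTheory CategoryTheory.Limits AlgebraicGeometry Opposite Topology

namespace Groth.Agent.H53
open AlgSp

variable {S : Scheme.{u}}

theorem ofPt_eq_comp {T : Over S} {F : Sp S} (g : (yon S).obj T ⟶ F) :
    Points.ofPt g = Points.map g ∘ (Points.schemeHomeo T) := by
  funext t
  exact Points.ofPt_eq_map_ofScheme g t

/-- A representable etale map from a scheme induces an open map `|U| → |F|`. -/
theorem isOpenMap_ofPt_of_etale {T : Over S} {F : Sp S} (g : (yon S).obj T ⟶ F)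
    (hg : RepWith @Etale g) : IsOpenMap (Points.ofPt g) := by
  rw [ofPt_eq_comp]
  exact (H52.isOpenMap_points_of_etale g hg).comp (Points.schemeHomeo T).isOpenMap

/-- A representable surjective map from a scheme induces a surjection `|U| → |F|`. -/
theorem surjective_ofPt_of_surjective {T : Over S} {F : Sp S} (g : (yon S).obj T ⟶ F)
    (hg : RepWith @Surjective g) : Function.Surjective (Points.ofPt g) := by
  rw [ofPt_eq_comp]
  exact (H52.surjective_points_of_repWith_surjective g hg).comp (Points.schemeHomeo T).surjective

theorem isQuotientMap_ofPt_of_etale_surjective {T : Over S} {F : Sp S} (g : (yon S).obj T ⟶ F)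
    (hg : RepWith @Etale g) (hs : RepWith @Surjective g) : IsQuotientMap (Points.ofPt g) :=
  (isOpenMap_ofPt_of_etale g hg).isQuotientMap (Points.continuous_ofPt g)
    (surjective_ofPt_of_surjective g hs)

end Groth.Agent.H53
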