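import Groth.Agent.H53.SourceLocal
import Groth.Agent.H53.SpTop

/-!
# Etale morphisms of algebraic spaces (`AlgSp.IsEtaleMor`): basic calculus
-/

set_option autoImplicit false
universe u
open CategoryTheory CategoryTheory.Limits AlgebraicGeometry Opposite Topology

namespace Groth.Agent.H53
open AlgSp

variable {S : Scheme.{u}}

/-- If `χ : U ⟶ U'` is etale surjective and `h_χ ≫ φ'` is representable etale, so is `φ'`
(all maps from schemes to the target being representable). -/
theorem repWith_etale_of_precomp_etale_surjective {Y : Sp S}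
    (hY : ∀ ⦃T : Over S⦄ (t : (yon S).obj T ⟶ Y), Representable t) {U U' : Over S}
    (χ : U ⟶ U') [Etale χ.left] [Surjective χ.left] (φ' : (yon S).obj U' ⟶ Y)
    (h : RepWith @Etale ((yon S).map χ ≫ φ')) : RepWith @Etale φ' := by
  refine ⟨hY φ', fun T V g fst snd sq => ?_⟩
  have hχ : Representable ((yon S).map χ) := representable_yon_map χ
  have hχe : RepWith @Etale ((yon S).map χ) := (repWith_yon_map_iff _ _).2 inferInstance
  have hχs : RepWith @Surjective ((yon S).map χ) := (repWith_yon_map_iff _ _).2 inferInstance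
  have sq' := hχ.isPullback fst
  have h1 : Etale (hχ.snd fst).left := hχe.property fst _ _ sq'
  have h2 : Surjective (hχ.snd fst).left := hχs.property fst _ _ sq'
  have big := sq'.paste_vert sq
  rw [← Functor.map_comp] at big
  have h3 : Etale (hχ.snd fst ≫ snd).left := h.property g _ _ big
  rw [Over.comp_left] at h3
  exact etale_of_comp_etale_surjective (hχ.snd fst).left snd.left h3

/-- `f` is etale as soon as `a ≫ f` is representable etale for one etale surjective chart `a`
of the source. -/
theorem isEtaleMor_of_chart {X Y : Sp S}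
    (hY : ∀ ⦃T : Over S⦄ (t : (yon S).obj T ⟶ Y), Representable t) (f : X ⟶ Y) {U : Over S}
    (a : (yon S).obj U ⟶ X) (hae : RepWith @Etale a) (has : RepWith @Surjective a)
    (haf : RepWith @Etale (a ≫ f)) : IsEtaleMor f := by
  intro W φ hφ
  have hr : Representable a := hae.rep
  have sq := hr.isPullback φ
  obtain ⟨pU, hpU⟩ := (yon S).map_surjective (hr.fst φ)
  rw [← hpU] at sq
  have h1 : Etale (hr.snd φ).left := hae.property φ _ _ sq
  have h2 : Surjective (hr.snd φ).left := has.property φ _ _ sq
  have h3 : Etale pU.left := hφ.property a _ _ sq.flip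
  refine repWith_etale_of_precomp_etale_surjective hY (hr.snd φ) (φ ≫ f) ?_
  rw [← Category.assoc, ← sq.w, Category.assoc]
  exact (RepWith (S := S) @Etale).comp_mem _ _ ((repWith_yon_map_iff _ _).2 h3) haf

/-- A morphism between schemes which are both representable etale over a sheaf is etale. -/
theorem etale_of_repWith_etale_triangle {Z : Sp S} {A B : Over S} (p : (yon S).obj A ⟶ Z)
    (q : (yon S).obj B ⟶ Z) (hp : RepWith @Etale p) (hq : RepWith @Etale q) (m : A ⟶ B)
    (w : (yon S).map m ≫ q = p) : Etale m.left := by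
  have hr : Representable q := hq.rep
  have sq := hr.isPullback p
  obtain ⟨pB, hpB⟩ := (yon S).map_surjective (hr.fst p)
  rw [← hpB] at sq
  -- `C = B ×_Z A`, `hr.snd p : C ⟶ A` etale, `pB : C ⟶ B` etale
  have h1 : Etale (hr.snd p).left := hq.property p _ _ sq
  have h2 : Etale pB.left := hp.property q _ _ sq.flip
  -- the graph section `A ⟶ C`
  obtain ⟨s, hs⟩ := (yon S).map_surjective
    (sq.lift ((yon S).map m) (𝟙 _) (by rw [w, Category.id_comp]))
  have hs1 : s ≫ pB = m := by
    apply (yon S).map_injective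
    rw [Functor.map_comp, hs, sq.lift_fst]
  have hs2 : s ≫ hr.snd p = 𝟙 A := by
    apply (yon S).map_injective
    rw [Functor.map_comp, hs, sq.lift_snd]
    exact ((yon S).map_id A).symm
  have h3 : Etale s.left := by
    have : Etale (s.left ≫ (hr.snd p).left) := by
      rw [← Over.comp_left, hs2]
      exact (inferInstance : Etale (𝟙 A.left))
    exact Etale.of_comp s.left (hr.snd p).left
  rw [← hs1, Over.comp_left]
  infer_instance


/-- A representable morphism has a (source-etale-local) property `P` as soon as its base change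
to an etale surjective chart of the target has it. -/
theorem repWith_of_isPullback_chart (P : MorphismProperty Scheme.{u})
    (hPsrc : ∀ {A B C : Scheme.{u}} (g : A ⟶ B) (f : B ⟶ C) [Etale g] [Surjective g],
      P (g ≫ f) → P f)
    (hPet : ∀ {A B C : Scheme.{u}} (r : A ⟶ B) (p : B ⟶ C) [Etale p], P r → P (r ≫ p))
    {F Y : Sp S} (ψ : F ⟶ Y) (hψ : Representable ψ) {W : Over S} (b : (yon S).obj W ⟶ Y)
    (hbe : RepWith @Etale b) (hbs : RepWith @Surjective b) {FW : Sp S} (fW : FW ⟶ F)
    (sW : FW ⟶ (yon S).obj W) (sqW : IsPullback fW sW ψ b) (hsW : RepWith P sW) :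
    RepWith P ψ := by
  refine ⟨hψ, fun T V t fst snd sq => ?_⟩
  -- `T' = W ×_Y T`
  have hbr : Representable b := hbe.rep
  have sqT' := hbr.isPullback t
  obtain ⟨pW', hpW'⟩ := (yon S).map_surjective (hbr.fst t)
  rw [← hpW'] at sqT'
  have hpTe : Etale (hbr.snd t).left := hbe.property t _ _ sqT'
  have hpTs : Surjective (hbr.snd t).left := hbs.property t _ _ sqT'
  -- `V' = V ×_T T'`
  have hT : Representable ((yon S).map (hbr.snd t)) := representable_yon_map _
  have sqV' := hT.isPullback ((yon S).map snd)
  obtain ⟨r, hr⟩ := (yon S).map_surjective (hT.fst ((yon S).map snd))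
  rw [← hr] at sqV'
  have hpVe : Etale (hT.snd ((yon S).map snd)).left :=
    ((repWith_yon_map_iff @Etale (hbr.snd t)).2 hpTe).property _ _ _ sqV'
  have hpVs : Surjective (hT.snd ((yon S).map snd)).left :=
    ((repWith_yon_map_iff @Surjective (hbr.snd t)).2 hpTs).property _ _ _ sqV'
  -- `r : V' ⟶ T'` is a base change of `sW`
  have big := sqV'.flip.paste_horiz sq
  rw [← sqT'.w] at big
  have hcomm : ((yon S).map (hT.snd ((yon S).map snd)) ≫ fst) ≫ ψ =
      ((yon S).map r ≫ (yon S).map pW') ≫ b := by
    rw [big.w, Category.assoc]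
  have left : IsPullback (sqW.lift _ _ hcomm) ((yon S).map r) sW ((yon S).map pW') := by
    refine IsPullback.of_right ?_ (sqW.lift_snd _ _ hcomm) sqW
    rw [sqW.lift_fst]
    exact big
  have hrP : P r.left := hsW.property _ _ _ left
  -- conclude by source locality
  have hw : hT.snd ((yon S).map snd) ≫ snd = r ≫ hbr.snd t := by
    apply (yon S).map_injective
    rw [Functor.map_comp, Functor.map_comp]
    exact sqV'.w.symm
  have h3 : P ((hT.snd ((yon S).map snd)).left ≫ snd.left) := by
    rw [← Over.comp_left, hw, Over.comp_left]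
    exact hPet _ _ hrP
  exact hPsrc (hT.snd ((yon S).map snd)).left snd.left h3

/-- If `h` is etale and `ψ ≫ h` is representable etale for `ψ : h_U ⟶ Y`, then `ψ` is
representable etale. -/
theorem repWith_etale_of_comp_isEtaleMor {Y Z : Sp S} (hY : IsAlgSpace Y) {U : Over S}
    (ψ : (yon S).obj U ⟶ Y) (h : Y ⟶ Z) (hh : IsEtaleMor h)
    (hψh : RepWith @Etale (ψ ≫ h)) : RepWith @Etale ψ := by
  obtain ⟨W, b, hbe, hbs⟩ := hY.atlas
  have hbr : Representable b := hbe.rep
  have sqN := hbr.isPullback ψ
  obtain ⟨pWN, hpWN⟩ := (yon S).map_surjective (hbr.fst ψ)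
  rw [← hpWN] at sqN
  have hpU : Etale (hbr.snd ψ).left := hbe.property ψ _ _ sqN
  have hm : Etale pWN.left := by
    refine etale_of_repWith_etale_triangle ((yon S).map (hbr.snd ψ) ≫ ψ ≫ h) (b ≫ h) ?_
      (hh b hbe) pWN ?_
    · exact (RepWith (S := S) @Etale).comp_mem _ _ ((repWith_yon_map_iff _ _).2 hpU) hψh
    · rw [← Category.assoc, sqN.w, Category.assoc]
  exact repWith_of_isPullback_chart @Etale
    (fun g f _ _ hgf => etale_of_comp_etale_surjective g f hgf)
    (fun r p _ hr => by have : Etale r := hr; exact (inferInstance : Etale (r ≫ p)))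
    ψ (hY.representable_from_yon ψ) b hbe hbs _ _ sqN.flip ((repWith_yon_map_iff _ _).2 hm)

end Groth.Agent.H53
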