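import Groth.Agent.H53.EtaleMor
import Groth.Agent.H52.LocP
import Groth.Agent.H52.FibreProd
import Groth.Agent.Lib.Helper54.LocPChart
import Groth.Agent.Lib.Helper54.Transfer

/-!
# Calculus of `AlgSp.LocP` (helper53)

For a property `P` of morphisms of schemes that contains etale morphisms, is stable under base
change and composition, and is etale local on the source (`LocPCalc P`), we prove:

* `locP_of_chart`: `LocP P f` can be checked on a single chart diagram whose source chart is
  surjective;
* `locP_of_isPullback`: `LocP P` is stable under base change (algebraic spaces);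
* `locP_comp`: `LocP P` is stable under composition (algebraic spaces).
-/

set_option autoImplicit false
universe u
open CategoryTheory CategoryTheory.Limits AlgebraicGeometry Opposite Topology

namespace Groth.Agent.H53
open AlgSp

variable {S : Scheme.{u}}

/-- The hypotheses on a property of morphisms of schemes needed for the calculus of `LocP`. -/
structure LocPCalc (P : MorphismProperty Scheme.{u}) : Prop where
  mult : P.IsMultiplicative
  bc : P.IsStableUnderBaseChange
  etale : ∀ ⦃A B : Scheme.{u}⦄ (φ : A ⟶ B), Etale φ → P φ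
  src : ∀ ⦃A B C : Scheme.{u}⦄ (g : A ⟶ B) (f : B ⟶ C), Etale g → Surjective g → P (g ≫ f) → P f

/-- `LocP P f` can be checked on one chart diagram with surjective source chart. -/
theorem locP_of_chart {P : MorphismProperty Scheme.{u}} (hP : LocPCalc P) {X Y : Sp S} (f : X ⟶ Y)
    {U V : Over S} (a : (yon S).obj U ⟶ X) (b : (yon S).obj V ⟶ Y) (h : U ⟶ V)
    (hae : RepWith @Etale a) (has : RepWith @Surjective a) (hbe : RepWith @Etale b)
    (w : a ≫ f = (yon S).map h ≫ b) (hPh : P h.left) : LocP P f := by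
  have := hP.mult
  have := hP.bc
  have hpost := Lib.Helper54.hasOfPostcompProperty_etale P hP.etale
  intro U' V' a' b' h' ha' hb' w'
  have hr := hae.rep
  have sqU := hr.isPullback a'
  obtain ⟨pU, hpU⟩ := (yon S).map_surjective (hr.fst a')
  rw [← hpU] at sqU
  have h1e : Etale (hr.snd a').left := hae.property a' _ _ sqU
  have h1s : Surjective (hr.snd a').left := has.property a' _ _ sqU
  have h2e : Etale pU.left := ha'.property a _ _ sqU.flip
  have hbr := hbe.rep
  have sqV := hbr.isPullback b'
  obtain ⟨pV, hpV⟩ := (yon S).map_surjective (hbr.fst b')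
  rw [← hpV] at sqV
  have h3e : Etale (hbr.snd b').left := hbe.property b' _ _ sqV
  have h4e : Etale pV.left := hb'.property b _ _ sqV.flip
  have comm : (yon S).map (pU ≫ h) ≫ b = (yon S).map (hr.snd a' ≫ h') ≫ b' := by
    rw [Functor.map_comp, Functor.map_comp, Category.assoc, Category.assoc, ← w, ← w',
      ← Category.assoc, ← Category.assoc, sqU.w]
  obtain ⟨m, hm⟩ := (yon S).map_surjective (sqV.lift _ _ comm)
  have hm1 : m ≫ pV = pU ≫ h := by
    apply (yon S).map_injective
    rw [Functor.map_comp, hm, sqV.lift_fst]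
  have hm2 : m ≫ hbr.snd b' = hr.snd a' ≫ h' := by
    apply (yon S).map_injective
    rw [Functor.map_comp, hm, sqV.lift_snd]
  have hPm : P m.left := by
    have : P (m.left ≫ pV.left) := by
      rw [← Over.comp_left, hm1, Over.comp_left]
      exact P.comp_mem _ _ (hP.etale _ h2e) hPh
    exact P.of_postcomp (W' := @Etale) m.left pV.left h4e this
  have : P ((hr.snd a').left ≫ h'.left) := by
    rw [← Over.comp_left, ← hm2, Over.comp_left]
    exact P.comp_mem _ _ hPm (hP.etale _ h3e)
  exact hP.src _ _ h1e h1s this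

/-- Base change of `LocP` along an etale chart of the target. -/
theorem locP_snd_of_etale {P : MorphismProperty Scheme.{u}} {X Y : Sp S} {f : X ⟶ Y}
    (hf : LocP P f) {V : Over S} (b : (yon S).obj V ⟶ Y) (hb : RepWith @Etale b) {Q : Sp S}
    {p₁ : Q ⟶ X} {p₂ : Q ⟶ (yon S).obj V} (sq : IsPullback p₁ p₂ f b) : LocP P p₂ := by
  intro U'' T' a'' b'' h'' ha'' hb'' w''
  have hp₁ : RepWith @Etale p₁ := MorphismProperty.of_isPullback sq.flip hb
  refine hf (a'' ≫ p₁) (b'' ≫ b) h'' ((RepWith (S := S) @Etale).comp_mem _ _ ha'' hp₁)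
    ((RepWith (S := S) @Etale).comp_mem _ _ hb'' hb) ?_
  rw [Category.assoc, sq.w, ← Category.assoc, w'', Category.assoc]

/-- `LocP P f'` holds as soon as it holds after base change to every etale chart of the target. -/
theorem locP_of_forall_etale_chart {P : MorphismProperty Scheme.{u}} {X' Y' : Sp S}
    (hX' : IsAlgSpace X') (hY' : IsAlgSpace Y') (f' : X' ⟶ Y')
    (H : ∀ ⦃V' : Over S⦄ (b' : (yon S).obj V' ⟶ Y'), RepWith @Etale b' →
      LocP P (pullback.snd f' b')) : LocP P f' := by
  intro U' V' a' b' h' ha' hb' w'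
  have sqQ := IsPullback.of_hasPullback f' b'
  have hQ : IsAlgSpace (pullback f' b') :=
    H52.isAlgSpace_of_isPullback sqQ hX' hY' (IsAlgSpace.yon_obj V')
  have hp₁ : RepWith @Etale (pullback.fst f' b') := MorphismProperty.of_isPullback sqQ.flip hb'
  have hp₁' : IsEtaleMor (pullback.fst f' b') :=
    fun W φ hφ => (RepWith (S := S) @Etale).comp_mem _ _ hφ hp₁
  have hψ : RepWith @Etale (pullback.lift a' ((yon S).map h') w') :=
    repWith_etale_of_comp_isEtaleMor hQ _ _ hp₁' (by rw [pullback.lift_fst]; exact ha')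
  exact H b' hb' _ (𝟙 _) h' hψ (repWith_id _ V') (by rw [pullback.lift_snd, Category.comp_id])

/-- Base change of `LocP`, scheme target, along a morphism of schemes. -/
theorem locP_snd_of_yon_map {P : MorphismProperty Scheme.{u}} (hP : LocPCalc P) {X : Sp S}
    (hX : IsAlgSpace X) {V T : Over S} {f : X ⟶ (yon S).obj V} (hf : LocP P f) (t : T ⟶ V)
    {Q : Sp S} {p₁ : Q ⟶ X} {p₂ : Q ⟶ (yon S).obj T} (sq : IsPullback p₁ p₂ f ((yon S).map t)) :
    LocP P p₂ := by
  have := hP.mult
  have := hP.bc
  obtain ⟨U, a, hae, has⟩ := hX.atlas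
  obtain ⟨k, hk⟩ := (yon S).map_surjective (a ≫ f)
  have hPk : P k.left := hf a (𝟙 _) k hae (repWith_id _ V) (by rw [Category.comp_id, hk])
  obtain ⟨W, q, aW, bW, -, hq2, sqW, hq⟩ := H52.exists_chart_of_isPullback sq
    (fun _ y => representable_of_yon y) a (𝟙 ((yon S).obj T))
  rw [← hk, Category.id_comp] at sqW
  have hPbW : P bW.left := ((repWith_yon_map_iff P k).2 hPk).property _ _ _ sqW
  refine locP_of_chart hP p₂ q (𝟙 _) bW (hq @Etale hae (repWith_id _ T))
    (hq @Surjective has (repWith_id _ T)) (repWith_id _ T) ?_ hPbW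
  rw [hq2]

/-- Base change of `LocP` along an arbitrary morphism from a scheme. -/
theorem locP_snd_of_yon {P : MorphismProperty Scheme.{u}} (hP : LocPCalc P) {X Y : Sp S}
    (hX : IsAlgSpace X) (hY : IsAlgSpace Y) {f : X ⟶ Y} (hf : LocP P f) {T : Over S}
    (y : (yon S).obj T ⟶ Y) {Q : Sp S} {p₁ : Q ⟶ X} {p₂ : Q ⟶ (yon S).obj T}
    (sq : IsPullback p₁ p₂ f y) : LocP P p₂ := by
  have := hP.mult
  have := hP.bc
  obtain ⟨V, c, hce, hcs⟩ := hY.atlas
  have sqXV := IsPullback.of_hasPullback f c
  have hXV : IsAlgSpace (pullback f c) :=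
    H52.isAlgSpace_of_isPullback sqXV hX hY (IsAlgSpace.yon_obj V)
  have hfV : LocP P (pullback.snd f c) := locP_snd_of_etale hf c hce sqXV
  have hc := hce.rep
  have sqT := hc.isPullback y
  obtain ⟨tV, htV⟩ := (yon S).map_surjective (hc.fst y)
  rw [← htV] at sqT
  have hse : Etale (hc.snd y).left := hce.property y _ _ sqT
  have hss : Surjective (hc.snd y).left := hcs.property y _ _ sqT
  have sqQV := IsPullback.of_hasPullback (pullback.snd f c) ((yon S).map tV)
  have hQV : IsAlgSpace (pullback (pullback.snd f c) ((yon S).map tV)) :=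
    H52.isAlgSpace_of_isPullback sqQV hXV (IsAlgSpace.yon_obj V) (IsAlgSpace.yon_obj _)
  have hfQV : LocP P (pullback.snd (pullback.snd f c) ((yon S).map tV)) :=
    locP_snd_of_yon_map hP hXV hfV tV sqQV
  have big := sqQV.paste_horiz sqXV
  have hcomm : (pullback.fst (pullback.snd f c) ((yon S).map tV) ≫ pullback.fst f c) ≫ f =
      (pullback.snd (pullback.snd f c) ((yon S).map tV) ≫ (yon S).map (hc.snd y)) ≫ y := by
    rw [big.w, Category.assoc, sqT.w]
  have sqR : IsPullback (sq.lift _ _ hcomm) (pullback.snd (pullback.snd f c) ((yon S).map tV)) p₂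
      ((yon S).map (hc.snd y)) := by
    refine IsPullback.of_right ?_ (sq.lift_snd _ _ hcomm) sq
    rw [sq.lift_fst, ← sqT.w]
    exact big
  have hre : RepWith @Etale (sq.lift _ _ hcomm) :=
    MorphismProperty.of_isPullback sqR.flip ((repWith_yon_map_iff _ _).2 hse)
  have hrs : RepWith @Surjective (sq.lift _ _ hcomm) :=
    MorphismProperty.of_isPullback sqR.flip ((repWith_yon_map_iff _ _).2 hss)
  obtain ⟨A, α, hαe, hαs⟩ := hQV.atlas
  obtain ⟨kA, hkA⟩ := (yon S).map_surjective
    (α ≫ pullback.snd (pullback.snd f c) ((yon S).map tV))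
  have hPkA : P kA.left := hfQV α (𝟙 _) kA hαe (repWith_id _ _) (by rw [Category.comp_id, hkA])
  refine locP_of_chart hP p₂ (α ≫ sq.lift _ _ hcomm) (𝟙 _) (kA ≫ hc.snd y)
    ((RepWith (S := S) @Etale).comp_mem _ _ hαe hre)
    ((RepWith (S := S) @Surjective).comp_mem _ _ hαs hrs) (repWith_id _ T) ?_ ?_
  · rw [Category.assoc, sqR.w, ← Category.assoc, ← hkA, ← Functor.map_comp, Category.comp_id]
  · rw [Over.comp_left]
    exact P.comp_mem _ _ hPkA (hP.etale _ hse)

/-- `LocP P` is stable under base change (between algebraic spaces). -/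
theorem locP_of_isPullback {P : MorphismProperty Scheme.{u}} (hP : LocPCalc P) {X Y Y' X' : Sp S}
    (hX : IsAlgSpace X) (hY : IsAlgSpace Y) (hY' : IsAlgSpace Y') {f : X ⟶ Y} {g : Y' ⟶ Y}
    {fst : X' ⟶ X} {f' : X' ⟶ Y'} (sq : IsPullback fst f' f g) (hf : LocP P f) : LocP P f' := by
  have hX' : IsAlgSpace X' := H52.isAlgSpace_of_isPullback sq hX hY hY'
  refine locP_of_forall_etale_chart hX' hY' f' fun V' b' _ => ?_
  have sqQ := IsPullback.of_hasPullback f' b'
  exact locP_snd_of_yon hP hX hY hf (b' ≫ g) (sqQ.paste_horiz sq)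

/-- `LocP P` is stable under composition (between algebraic spaces). -/
theorem locP_comp {P : MorphismProperty Scheme.{u}} (hP : LocPCalc P) {X Y Z : Sp S}
    (hX : IsAlgSpace X) (hY : IsAlgSpace Y) (hZ : IsAlgSpace Z) (f : X ⟶ Y) (g : Y ⟶ Z)
    (hf : LocP P f) (hg : LocP P g) : LocP P (f ≫ g) := by
  have := hP.mult
  obtain ⟨W, e, hee, hes⟩ := hZ.atlas
  obtain ⟨V, b, hbe, hbs⟩ := hY.atlas
  obtain ⟨U, a, hae, has⟩ := hX.atlas
  obtain ⟨V₁, b₁, kV, hb₁, sqV, hrepV⟩ := Lib.Helper54.exists_chart_square g b hbe e hee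
  have hsV := Lib.Helper54.repWith_surjective_of_chart_square hbs hes sqV
  have hPkV : P kV.left := Lib.Helper54.locP_of_chart_square hg hee sqV hrepV
  obtain ⟨U₁, a₁, kU, ha₁, sqU, hrepU⟩ :=
    Lib.Helper54.exists_chart_square f a hae ((yon S).map b₁ ≫ b) hrepV
  have hsU := Lib.Helper54.repWith_surjective_of_chart_square has hsV sqU
  have hPkU : P kU.left := Lib.Helper54.locP_of_chart_square hf hrepV sqU hrepU
  refine locP_of_chart hP (f ≫ g) ((yon S).map a₁ ≫ a) e (kU ≫ kV) hrepU hsU hee ?_ ?_
  · have w1 := sqU.w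
    have w2 := sqV.w
    rw [Functor.map_comp, Category.assoc, ← Category.assoc a f g, ← Category.assoc _ (a ≫ f) g,
      w1, Category.assoc, Category.assoc, w2, Category.assoc]
  · rw [Over.comp_left]
    exact P.comp_mem _ _ hPkU hPkV

/-! ### Instances of the calculus -/

theorem locPCalc_locallyOfFiniteType : LocPCalc.{u} @LocallyOfFiniteType where
  mult := inferInstance
  bc := inferInstance
  etale _ _ φ hφ := by have := hφ; infer_instance
  src _ _ _ g f hg hs h := by
    have := hg; have := hs
    exact locallyOfFiniteType_of_comp_etale_surjective g f h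

theorem locPCalc_locallyOfFinitePresentation : LocPCalc.{u} @LocallyOfFinitePresentation where
  mult := { id_mem := fun _ => inferInstance }
  bc := inferInstance
  etale _ _ φ hφ := by have := hφ; infer_instance
  src _ _ _ g f hg hs h := by
    have := hg; have := hs
    exact locallyOfFinitePresentation_of_comp_etale_surjective g f h

theorem locPCalc_flat : LocPCalc.{u} @Flat where
  mult := inferInstance
  bc := inferInstance
  etale _ _ φ hφ := by have := hφ; infer_instance
  src _ _ _ g f hg hs h := by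
    have := hg; have := hs
    exact flat_of_comp_etale_surjective g f h

theorem locPCalc_etale : LocPCalc.{u} @Etale where
  mult := inferInstance
  bc := inferInstance
  etale _ _ φ hφ := hφ
  src _ _ _ g f hg hs h := by
    have := hg; have := hs
    exact etale_of_comp_etale_surjective g f h

theorem locPCalc_formallyUnramified : LocPCalc.{u} @FormallyUnramified where
  mult := inferInstance
  bc := inferInstance
  etale _ _ φ hφ := by have := hφ; infer_instance
  src _ _ _ g f hg hs h := by
    have := hg; have := hs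
    exact formallyUnramified_of_comp_etale_surjective g f h

theorem LocPCalc.inf {P Q : MorphismProperty Scheme.{u}} (hP : LocPCalc P) (hQ : LocPCalc Q) :
    LocPCalc (P ⊓ Q) where
  mult := by have := hP.mult; have := hQ.mult; infer_instance
  bc := by have := hP.bc; have := hQ.bc; infer_instance
  etale _ _ φ hφ := ⟨hP.etale φ hφ, hQ.etale φ hφ⟩
  src _ _ _ g f hg hs h := ⟨hP.src g f hg hs h.1, hQ.src g f hg hs h.2⟩

theorem locPCalc_unramified : LocPCalc.{u} (@LocallyOfFiniteType ⊓ @FormallyUnramified) :=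
  locPCalc_locallyOfFiniteType.inf locPCalc_formallyUnramified

theorem LocPCalc.of_iff {P Q : MorphismProperty Scheme.{u}} (hP : LocPCalc P)
    (h : ∀ ⦃A B : Scheme.{u}⦄ (g : A ⟶ B), Q g ↔ P g) : LocPCalc Q := by
  have : Q = P := by
    ext A B g
    exact h g
  rw [this]
  exact hP

end Groth.Agent.H53
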