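import Groth.Agent.H52.Top3
import Groth.Agent.H52.LocP
import Groth.Agent.H52.QC5
import Groth.Agent.H52.Basic
import Groth.Agent.H52.QC2
import Groth.Agent.H52.QC3
import Groth.Agent.H52.QS
import Groth.Agent.H52.AffineLocal
import Groth.Agent.H52.Top2
import Groth.Agent.H53.LocPCalc

/-!
# Proper / universally closed morphisms of algebraic spaces (helper53)
-/

set_option autoImplicit false
universe u
open CategoryTheory CategoryTheory.Limits AlgebraicGeometry Opposite Topology

namespace Groth.Agent.H53
open AlgSp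

variable {S : Scheme.{u}}

theorem repWith_of_le {P Q : MorphismProperty Scheme.{u}}
    (h : ∀ ⦃A B : Scheme.{u}⦄ (φ : A ⟶ B), P φ → Q φ) {F G : Sp S} {f : F ⟶ G}
    (hf : RepWith P f) : RepWith Q f :=
  ⟨hf.rep, fun _ _ g fst snd sq => h _ (hf.property g fst snd sq)⟩

/-- A morphism representable by closed immersions is universally closed. -/
theorem isUnivClosedMor_of_repWith_isClosedImmersion {F G : Sp S} (f : F ⟶ G)
    (hf : RepWith @IsClosedImmersion f) : IsUnivClosedMor f := by
  intro Z Z' _ g fst snd sq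
  have : RepWith @IsClosedImmersion snd := MorphismProperty.of_isPullback sq hf
  exact H52.isClosedMap_points_of_repWith snd @IsClosedImmersion
    (fun _ _ φ hφ => hφ.isClosedEmbedding.isClosedMap) this

/-- A morphism representable by closed immersions is proper. -/
theorem isProperMor_of_repWith_isClosedImmersion {F G : Sp S} (f : F ⟶ G)
    (hf : RepWith @IsClosedImmersion f) : IsProperMor f := by
  have hmono : Mono f := H52.mono_of_repWith f @IsClosedImmersion
    (fun _ _ g hg => by have := hg; infer_instance) hf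
  refine ⟨H52.isSeparatedMor_of_repWith_mono f, ⟨?_, ?_⟩, isUnivClosedMor_of_repWith_isClosedImmersion f hf⟩
  · refine H52.locP_of_repWith f @LocallyOfFiniteType
      (fun _ _ φ hφ => by have := hφ; infer_instance) (repWith_of_le ?_ hf)
    intro A B φ hφ
    have := hφ
    infer_instance
  · refine H52.isQuasiCompactMor_of_repWith_quasiCompact f (repWith_of_le ?_ hf)
    intro A B φ hφ
    have := hφ
    infer_instance

/-- The target of a surjective morphism from a space universally closed over `B` is universally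
closed over `B`. -/
theorem isUnivClosedMor_of_surjective_triangle {X Y B : Sp S} (f : X ⟶ Y) (q : Y ⟶ B)
    (hf : Function.Surjective (Points.map f)) (hp : IsUnivClosedMor (f ≫ q)) :
    IsUnivClosedMor q := by
  intro Z Z' hZ g fst snd sq
  have sq2 := IsPullback.of_hasPullback f fst
  have big := sq2.paste_vert sq
  have hcl : IsClosedMap (Points.map (pullback.snd f fst ≫ snd)) := hp hZ g _ _ big
  have hsurj : Function.Surjective (Points.map (pullback.snd f fst)) :=
    H52.surjective_points_of_isPullback sq2 hf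
  intro C hC
  have : Points.map snd '' C =
      Points.map (pullback.snd f fst ≫ snd) '' (Points.map (pullback.snd f fst) ⁻¹' C) := by
    ext z
    constructor
    · rintro ⟨c, hc, rfl⟩
      obtain ⟨c', rfl⟩ := hsurj c
      exact ⟨c', hc, Points.map_comp _ _ _⟩
    · rintro ⟨c', hc', rfl⟩
      exact ⟨_, hc', (Points.map_comp _ _ _).symm⟩
  rw [this]
  exact hcl _ (hC.preimage (Points.continuous_map _))

/-! ### Base change and composition -/

theorem univSp_of_isPullback (Q : MorphismProperty (Sp S)) {X Y X' Y' : Sp S} {f : X ⟶ Y}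
    {g : Y' ⟶ Y} {fst : X' ⟶ X} {f' : X' ⟶ Y'} (sq : IsPullback fst f' f g) (hf : UnivSp Q f) :
    UnivSp Q f' := by
  intro Z Z' hZ h a b sq'
  exact hf hZ (h ≫ g) (a ≫ fst) b (sq'.paste_horiz sq)

theorem univSp_self (Q : MorphismProperty (Sp S)) {X Y : Sp S} (hY : IsAlgSpace Y) {f : X ⟶ Y}
    (hf : UnivSp Q f) : Q f :=
  hf hY (𝟙 Y) (𝟙 X) f (IsPullback.id_horiz f)

/-- Proper morphisms are stable under base change. -/
theorem isProperMor_of_isPullback {X Y Y' X' : Sp S} (hX : IsAlgSpace X) (hY : IsAlgSpace Y)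
    (hY' : IsAlgSpace Y') {f : X ⟶ Y} {g : Y' ⟶ Y} {fst : X' ⟶ X} {f' : X' ⟶ Y'}
    (sq : IsPullback fst f' f g) (hf : IsProperMor f) : IsProperMor f' :=
  ⟨H52.repWith_diagonal_of_isPullback _ sq hf.1,
    ⟨locP_of_isPullback locPCalc_locallyOfFiniteType hX hY hY' sq hf.2.1.1,
      H52.isQuasiCompactMor_of_isPullback sq hf.2.1.2⟩,
    univSp_of_isPullback _ sq hf.2.2⟩

theorem isUnivClosedMor_comp {X Y Z : Sp S} (hY : IsAlgSpace Y) (hZ : IsAlgSpace Z) (f : X ⟶ Y)
    (g : Y ⟶ Z) (hf : IsUnivClosedMor f) (hg : IsUnivClosedMor g) : IsUnivClosedMor (f ≫ g) := by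
  intro Z' P hZ' h a b sq
  have sqY := IsPullback.of_hasPullback g h
  have hPY : IsAlgSpace (pullback g h) := H52.isAlgSpace_of_isPullback sqY hY hZ hZ'
  have h1 : pullback.lift (a ≫ f) b (by rw [Category.assoc]; exact sq.w) ≫ pullback.fst g h =
      a ≫ f := pullback.lift_fst _ _ _
  have h2 : pullback.lift (a ≫ f) b (by rw [Category.assoc]; exact sq.w) ≫ pullback.snd g h = b :=
    pullback.lift_snd _ _ _
  have top : IsPullback a (pullback.lift (a ≫ f) b (by rw [Category.assoc]; exact sq.w)) f
      (pullback.fst g h) := by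
    refine IsPullback.of_bot ?_ h1.symm sqY
    rw [h2]
    exact sq
  have c1 : IsClosedMap (Points.map (pullback.lift (a ≫ f) b
      (by rw [Category.assoc]; exact sq.w))) := hf hPY _ _ _ top
  have c2 : IsClosedMap (Points.map (pullback.snd g h)) := hg hZ' _ _ _ sqY
  change IsClosedMap (Points.map b)
  rw [← h2]
  have : Points.map (pullback.lift (a ≫ f) b (by rw [Category.assoc]; exact sq.w) ≫
      pullback.snd g h) = Points.map (pullback.snd g h) ∘
        Points.map (pullback.lift (a ≫ f) b (by rw [Category.assoc]; exact sq.w)) := by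
    funext x
    exact Points.map_comp _ _ _
  rw [this]
  exact c2.comp c1

/-- Proper morphisms are stable under composition. -/
theorem isProperMor_comp {X Y Z : Sp S} (hX : IsAlgSpace X) (hY : IsAlgSpace Y) (hZ : IsAlgSpace Z)
    (f : X ⟶ Y) (g : Y ⟶ Z) (hf : IsProperMor f) (hg : IsProperMor g) : IsProperMor (f ≫ g) :=
  ⟨H52.repWith_diagonal_comp _ f g hf.1 hg.1,
    ⟨locP_comp locPCalc_locallyOfFiniteType hX hY hZ f g hf.2.1.1 hg.2.1.1,
      H52.isQuasiCompactMor_comp hY hZ f g hf.2.1.2 hg.2.1.2⟩,
    isUnivClosedMor_comp hY hZ f g hf.2.2 hg.2.2⟩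

end Groth.Agent.H53
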