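import Groth.Agent.H53.ZarGlue
import Groth.Prelude.Def_AlgSp3

set_option autoImplicit false
set_option backward.isDefEq.respectTransparency false
universe u
open CategoryTheory CategoryTheory.Limits AlgebraicGeometry Opposite

namespace Groth.Agent.H53.ZarGlue

open AlgSp Groth.Agent.Lib.Helper51

variable {S : Scheme.{u}}

/-- The open subscheme `U` of `T`, as a scheme over `S`. -/
noncomputable abbrev ov (T : Over S) (U : T.left.Opens) : Over S := Over.mk (U.ι ≫ T.hom)

/-- The inclusion `U ⟶ T` over `S`. -/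
noncomputable abbrev ovι (T : Over S) (U : T.left.Opens) : ov T U ⟶ T := Over.homMk U.ι rfl

/-- The restriction of `b : T' ⟶ T` over an open `U` of `T`, over `S`. -/
noncomputable def ovRestrict {T' T : Over S} (b : T' ⟶ T) (U : T.left.Opens) :
    ov T' (b.left ⁻¹ᵁ U) ⟶ ov T U :=
  Over.homMk (b.left ∣_ U) (by
    change (b.left ∣_ U) ≫ U.ι ≫ T.hom = (b.left ⁻¹ᵁ U).ι ≫ T'.hom
    rw [← Category.assoc, morphismRestrict_ι, Category.assoc, Over.w])

theorem ovRestrict_ovι {T' T : Over S} (b : T' ⟶ T) (U : T.left.Opens) :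
    ovRestrict b U ≫ ovι T U = ovι T' (b.left ⁻¹ᵁ U) ≫ b := by
  ext
  exact morphismRestrict_ι b.left U

theorem isPullback_ovRestrict {T' T : Over S} (b : T' ⟶ T) (U : T.left.Opens) :
    IsPullback (ovRestrict b U) (ovι T' (b.left ⁻¹ᵁ U)) (ovι T U) b :=
  IsPullback.of_map (Over.forget S) (ovRestrict_ovι b U) (isPullback_morphismRestrict b.left U)

/-- Restricting a representing pullback square over an open of the base. -/
theorem isPullback_restrict {F G : Sp S} {φ : F ⟶ G} {U V : Over S} {g : (yon S).obj U ⟶ G}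
    {fst : (yon S).obj V ⟶ F} {snd : V ⟶ U} (sq : IsPullback fst ((yon S).map snd) φ g)
    (U₀ : U.left.Opens) :
    IsPullback ((yon S).map (ovι V (snd.left ⁻¹ᵁ U₀)) ≫ fst) ((yon S).map (ovRestrict snd U₀)) φ
      ((yon S).map (ovι U U₀) ≫ g) :=
  ((isPullback_ovRestrict snd U₀).map (yon S)).flip.paste_horiz sq

/-- The base changes of an affine morphism of sheaves to schemes, when representable, are affine morphisms. -/
theorem isAffineHom_of_isAffineMor {F G : Sp S} {φ : F ⟶ G} (hφ : IsAffineMor φ) {U V : Over S}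
    (g : (yon S).obj U ⟶ G) (fst : (yon S).obj V ⟶ F) (snd : V ⟶ U)
    (sq : IsPullback fst ((yon S).map snd) φ g) : IsAffineHom snd.left := by
  constructor
  intro U₀ hU₀
  have hU₀' : IsAffine (ov U U₀).left := hU₀
  obtain ⟨W, i, fstW, sqW, hW⟩ := hφ hU₀' ((yon S).map (ovι U U₀) ≫ g)
  let e : (yon S).obj W ≅ (yon S).obj (ov V (snd.left ⁻¹ᵁ U₀)) :=
    sqW.isoIsPullback _ _ (isPullback_restrict sq U₀)
  let e' : W.left ≅ (ov V (snd.left ⁻¹ᵁ U₀)).left :=
    (Over.forget S).mapIso ((yon S).preimageIso e)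
  change IsAffine (ov V (snd.left ⁻¹ᵁ U₀)).left
  exact IsAffine.of_isIso e'.inv


/-- A morphism of sheaves whose base changes to affine schemes are representable (by any schemes) is
representable: Zariski gluing of the representing schemes. -/
theorem representable_of_affine_local {F G : Sp S} {φ : F ⟶ G}
    (hφ : ∀ ⦃Z : Over S⦄, IsAffine Z.left → ∀ (g : (yon S).obj Z ⟶ G),
      ∃ (W : Over S) (i : W ⟶ Z) (fst : (yon S).obj W ⟶ F), IsPullback fst ((yon S).map i) φ g) :
    Representable φ := by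
  intro T g
  choose W i fstW sqW using fun U : T.left.affineOpens =>
    hφ (Z := ov T U.1) U.2 ((yon S).map (ovι T U.1) ≫ g)
  let fU : ∀ U : T.left.affineOpens, (yon S).obj (W U) ⟶ pullback φ g := fun U =>
    pullback.lift (fstW U) ((yon S).map (i U ≫ ovι T U.1))
      (by rw [(sqW U).w, Functor.map_comp, Category.assoc])
  have sqL : ∀ U, IsPullback (fU U) ((yon S).map (i U)) (pullback.snd φ g)
      ((yon S).map (ovι T U.1)) := fun U =>
    IsPullback.of_right (by simpa [fU] using sqW U) (by simp [fU]) (IsPullback.of_hasPullback φ g)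
  have hfU : ∀ U, RepWith @IsOpenImmersion (fU U) := fun U =>
    MorphismProperty.of_isPullback (sqL U).flip
      ((repWith_yon_map_iff _ _).2 (inferInstanceAs (IsOpenImmersion U.1.ι)))
  have hcov : LocallyLifts fU := by
    intro T' g' t
    let b : T' ⟶ T := (yon S).preimage (g' ≫ pullback.snd φ g)
    have hb : (yon S).map b = g' ≫ pullback.snd φ g := Functor.map_preimage _ _
    obtain ⟨U, hU, hxU, -⟩ :=
      exists_isAffineOpen_mem_and_subset (x := b.left t) (U := ⊤) trivial
    let l' : (yon S).obj (ov T' (b.left ⁻¹ᵁ U)) ⟶ (yon S).obj (W ⟨U, hU⟩) :=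
      (sqL ⟨U, hU⟩).lift ((yon S).map (ovι T' (b.left ⁻¹ᵁ U)) ≫ g')
        ((yon S).map (ovRestrict b U)) (by
          rw [Category.assoc, ← hb, ← Functor.map_comp, ← Functor.map_comp, ovRestrict_ovι])
    refine ⟨⟨U, hU⟩, b.left ⁻¹ᵁ U, (yon S).preimage l', hxU, ?_⟩
    rw [Functor.map_preimage]
    exact ((sqL ⟨U, hU⟩).lift_fst _ _ _).symm
  obtain ⟨Yg, e, j, -, hj, -⟩ := exists_iso_yon hfU hcov
  refine ⟨Yg, (yon S).preimage (e.hom ≫ pullback.snd φ g), e.hom ≫ pullback.fst φ g, ?_⟩
  rw [Functor.map_preimage]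
  exact IsPullback.of_iso (IsPullback.of_hasPullback φ g) e.symm (Iso.refl _) (Iso.refl _)
    (Iso.refl _) (by simp) (by simp) (by simp) (by simp)

theorem representable_of_isAffineMor {F G : Sp S} {φ : F ⟶ G} (hφ : IsAffineMor φ) :
    Representable φ :=
  representable_of_affine_local fun Z hZ g => by
    obtain ⟨W, i, fst, sq, -⟩ := hφ hZ g
    exact ⟨W, i, fst, sq⟩

theorem repWith_isAffineHom_of_isAffineMor {F G : Sp S} {φ : F ⟶ G} (hφ : IsAffineMor φ) :
    RepWith @IsAffineHom φ :=
  ⟨representable_of_isAffineMor hφ, fun _ _ g fst snd sq => isAffineHom_of_isAffineMor hφ g fst snd sq⟩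

end Groth.Agent.H53.ZarGlue
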