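import Groth.Agent.H53.UnivHomeo
import Groth.Agent.H53.SpTop
import Mathlib.AlgebraicGeometry.Morphisms.Immersion

/-!
# Immersions of algebraic spaces: topology (helper53)
-/

set_option autoImplicit false
universe u
open CategoryTheory CategoryTheory.Limits AlgebraicGeometry Opposite Topology

namespace Groth.Agent.H53
open AlgSp

variable {S : Scheme.{u}}

/-- Descent of "inducing" along open surjections. -/
theorem isInducing_of_open_cover {U X Z W : Type*} [TopologicalSpace U] [TopologicalSpace X]
    [TopologicalSpace Z] [TopologicalSpace W] (π : U → X) (f : Z → X) (q : W → Z) (g : W → U)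
    (hπ : IsOpenMap π) (hf : Continuous f) (hq : Continuous q)
    (hqs : Function.Surjective q) (hg : IsInducing g) (hcomm : ∀ w, π (g w) = f (q w))
    (hfib : ∀ u z, π u = f z → ∃ w, g w = u ∧ q w = z) : IsInducing f := by
  rw [isInducing_iff]
  refine le_antisymm hf.le_induced ?_
  intro O hO
  have hO' : IsOpen O := hO
  have h1 : IsOpen (q ⁻¹' O) := hO'.preimage hq
  obtain ⟨O'', hO'', hO''eq⟩ := hg.isOpen_iff.1 h1
  refine ⟨π '' O'', hπ _ hO'', ?_⟩
  ext z
  constructor
  · rintro ⟨u, hu, huz⟩
    obtain ⟨w, hw1, hw2⟩ := hfib u z huz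
    have : w ∈ g ⁻¹' O'' := by
      change g w ∈ O''
      rw [hw1]; exact hu
    rw [hO''eq] at this
    rw [← hw2]
    exact this
  · intro hz
    obtain ⟨w, rfl⟩ := hqs z
    have : w ∈ g ⁻¹' O'' := by
      rw [hO''eq]; exact hz
    exact ⟨g w, this, hcomm w⟩

/-- Descent of "locally closed" along open quotient maps. -/
theorem isLocallyClosed_of_preimage {U X : Type*} [TopologicalSpace U] [TopologicalSpace X]
    (π : U → X) (hπ : IsOpenMap π) (hπc : Continuous π) (hπs : Function.Surjective π) (A : Set X)
    (h : IsLocallyClosed (π ⁻¹' A)) : IsLocallyClosed A := by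
  rw [isLocallyClosed_iff_isOpen_coborder] at h ⊢
  rw [coborder_preimage hπ hπc] at h
  exact (hπ.isQuotientMap hπc hπs).isOpen_preimage.1 h

/-- An immersion of algebraic spaces induces an embedding on points with locally closed image. -/
theorem isEmbedding_points_of_repWith_isImmersion {Z X : Sp S} (hX : IsAlgSpace X) (i : Z ⟶ X)
    (hi : RepWith @IsImmersion i) :
    IsEmbedding (Points.map i) ∧ IsLocallyClosed (Set.range (Points.map i)) := by
  obtain ⟨U, a, hae, has⟩ := hX.atlas
  have hr := hi.rep
  have sq := hr.isPullback a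
  have himm : IsImmersion (hr.snd a).left := hi.property_snd a
  have hfe : RepWith @Etale (hr.fst a) := MorphismProperty.of_isPullback sq.flip hae
  have hfs : RepWith @Surjective (hr.fst a) := MorphismProperty.of_isPullback sq.flip has
  have hcomm : ∀ w, Points.ofPt a ((hr.snd a).left w) = Points.map i (Points.ofPt (hr.fst a) w) := by
    intro w
    rw [Points.map_ofPt, sq.w, ofPt_yon_map_comp]
  have hfib : ∀ u z, Points.ofPt a u = Points.map i z →
      ∃ w, (hr.snd a).left w = u ∧ Points.ofPt (hr.fst a) w = z := by
    intro u z h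
    rw [Points.ofPt_eq_map_ofScheme] at h
    obtain ⟨p, hp1, hp2⟩ := H52.exists_point_of_isPullback sq z (Points.ofScheme U u) h.symm
    obtain ⟨w, rfl⟩ := (Points.schemeEquiv _).surjective p
    refine ⟨w, ?_, ?_⟩
    · apply (Points.schemeEquiv U).injective
      exact (H52.points_map_ofScheme _ w).symm.trans hp2
    · rw [Points.ofPt_eq_map_ofScheme]
      exact hp1
  have hinj : Function.Injective (Points.map i) :=
    injective_points_of_repWith i _ (fun A B φ hφ => by
      have : IsImmersion φ := hφ
      exact φ.isEmbedding.injective) hi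
  refine ⟨⟨?_, hinj⟩, ?_⟩
  · exact isInducing_of_open_cover (Points.ofPt a) (Points.map i) (Points.ofPt (hr.fst a))
      (hr.snd a).left (isOpenMap_ofPt_of_etale a hae) (Points.continuous_map i)
      (Points.continuous_ofPt _) (surjective_ofPt_of_surjective _ hfs)
      (hr.snd a).left.isEmbedding.isInducing hcomm hfib
  · refine isLocallyClosed_of_preimage (Points.ofPt a) (isOpenMap_ofPt_of_etale a hae)
      (Points.continuous_ofPt a) (surjective_ofPt_of_surjective a has) _ ?_
    have : Points.ofPt a ⁻¹' Set.range (Points.map i) = Set.range (hr.snd a).left := by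
      ext u
      constructor
      · rintro ⟨z, hz⟩
        obtain ⟨w, hw, -⟩ := hfib u z hz.symm
        exact ⟨w, hw⟩
      · rintro ⟨w, rfl⟩
        exact ⟨_, (hcomm w).symm⟩
    rw [this]
    exact (hr.snd a).left.isLocallyClosed_range

end Groth.Agent.H53
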