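import Groth.Agent.H52.Top2
import Mathlib.AlgebraicGeometry.Cover.Sigma

set_option autoImplicit false
universe u
open CategoryTheory CategoryTheory.Limits AlgebraicGeometry Opposite Topology

namespace Groth.Agent.H53
open AlgSp

/-- A quasi-compact scheme admits an etale surjection from an affine scheme (the disjoint union
of a finite affine open cover). -/
theorem exists_affine_etale_surjective (U : Scheme.{u}) [CompactSpace U] :
    ∃ (U' : Scheme.{u}) (π : U' ⟶ U), IsAffine U' ∧ Etale π ∧ Surjective π := by
  let 𝒰 := U.affineCover.finiteSubcover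
  have hfin : Finite 𝒰.I₀ := inferInstance
  have haff : ∀ i, IsAffine (𝒰.X i) := fun i => by
    dsimp [𝒰]
    infer_instance
  refine ⟨∐ 𝒰.X, Sigma.desc 𝒰.f, inferInstance, ?_, ?_⟩
  · exact IsZariskiLocalAtSource.sigmaDesc (fun i => inferInstance)
  · constructor
    intro x
    obtain ⟨i, y, rfl⟩ := 𝒰.exists_eq x
    exact ⟨Sigma.ι 𝒰.X i y, by simp [← Scheme.Hom.comp_apply]⟩

variable {S : Scheme.{u}}

/-- `ofPt (h_φ ≫ g) = ofPt g ∘ φ`. -/
theorem ofPt_yon_map_comp {T T' : Over S} {F : Sp S} (φ : T ⟶ T') (g : (yon S).obj T' ⟶ F)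
    (t : ↥T.left) : Points.ofPt ((yon S).map φ ≫ g) t = Points.ofPt g (φ.left t) := by
  rw [Points.ofPt_eq_map_ofScheme, Points.map_comp, Groth.Agent.H52.points_map_ofScheme,
    ← Points.ofPt_eq_map_ofScheme]

end Groth.Agent.H53

namespace Groth.Agent.H53
open AlgSp

variable {S : Scheme.{u}}

/-- For a pullback square `h_V = h_T ×_F h_U` of sheaves, the induced morphism of schemes
`V ⟶ T ×_S U` is a monomorphism. -/
theorem mono_lift_of_isPullback {F : Sp S} {T U V : Over S} {a : (yon S).obj U ⟶ F}
    {g : (yon S).obj T ⟶ F} {fst : V ⟶ U} {snd : V ⟶ T}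
    (sq : IsPullback ((yon S).map fst) ((yon S).map snd) a g) :
    Mono (pullback.lift snd.left fst.left (by rw [Over.w, Over.w]) :
      V.left ⟶ pullback T.hom U.hom) := by
  constructor
  intro W α β h
  have h1 : α ≫ snd.left = β ≫ snd.left := by
    have := congrArg (· ≫ pullback.fst T.hom U.hom) h
    simp only [Category.assoc] at this
    rwa [pullback.lift_fst] at this
  have h2 : α ≫ fst.left = β ≫ fst.left := by
    have := congrArg (· ≫ pullback.snd T.hom U.hom) h
    simp only [Category.assoc] at this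
    rwa [pullback.lift_snd] at this
  let W' : Over S := Over.mk (α ≫ V.hom)
  let α' : W' ⟶ V := Over.homMk α rfl
  have hβ : β ≫ V.hom = α ≫ V.hom := by
    rw [← Over.w snd, ← Category.assoc, ← Category.assoc, h1]
  let β' : W' ⟶ V := Over.homMk β hβ
  have e1 : α' ≫ fst = β' ≫ fst := Over.OverMorphism.ext (by simpa [α', β'] using h2)
  have e2 : α' ≫ snd = β' ≫ snd := Over.OverMorphism.ext (by simpa [α', β'] using h1)
  have e3 : (yon S).map α' = (yon S).map β' := by
    apply sq.hom_ext
    · rw [← Functor.map_comp, ← Functor.map_comp, e1]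
    · rw [← Functor.map_comp, ← Functor.map_comp, e2]
  have e4 : α' = β' := (yon S).map_injective e3
  exact congrArg (fun φ => φ.left) e4

/-- In the situation of `mono_lift_of_isPullback`, if `U` is a separated scheme then `V ⟶ T` is
separated. -/
theorem isSeparated_snd_of_isPullback {F : Sp S} {T U V : Over S} {a : (yon S).obj U ⟶ F}
    {g : (yon S).obj T ⟶ F} {fst : V ⟶ U} {snd : V ⟶ T}
    (sq : IsPullback ((yon S).map fst) ((yon S).map snd) a g) [U.left.IsSeparated] :
    IsSeparated snd.left := by
  have := mono_lift_of_isPullback sq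
  have h : snd.left = (pullback.lift snd.left fst.left (by rw [Over.w, Over.w]) :
      V.left ⟶ pullback T.hom U.hom) ≫ pullback.fst T.hom U.hom := by rw [pullback.lift_fst]
  rw [h]
  infer_instance

end Groth.Agent.H53
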