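import Groth.Agent.H52.Top
import Groth.Agent.H52.Points
import Groth.Prelude.Def_Flat

/-!
# Universal homeomorphisms: representable vs points (helper53)
-/

set_option autoImplicit false
universe u
open CategoryTheory CategoryTheory.Limits AlgebraicGeometry Opposite Topology

namespace Groth.Agent.H53
open AlgSp

variable {S : Scheme.{u}}

/-- A morphism representable by injective morphisms is injective on points. -/
theorem injective_points_of_repWith {F G : Sp S} (f : F ⟶ G) (P : MorphismProperty Scheme.{u})
    (hP : ∀ ⦃A B : Scheme.{u}⦄ (φ : A ⟶ B), P φ → Function.Injective φ) (hf : RepWith P f) :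
    Function.Injective (Points.map f) := by
  intro x₁ x₂ h
  obtain ⟨q, hq⟩ := Points.mk_surjective (Points.map f x₁)
  have hrep := hf.rep
  have sq := hrep.isPullback (H52.fieldPtToHom q)
  have h1 : Points.map f x₁ = Points.map (H52.fieldPtToHom q) (H52.tautPt q.str) := by
    rw [← hq, H52.points_mk_eq_map_tautPt]
  obtain ⟨e₁, he₁a, he₁b⟩ := H52.exists_point_of_isPullback sq x₁ _ h1
  obtain ⟨e₂, he₂a, he₂b⟩ := H52.exists_point_of_isPullback sq x₂ _ (h ▸ h1)
  have hinj : Function.Injective (Points.map ((yon S).map (hrep.snd (H52.fieldPtToHom q)))) := by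
    rw [Points.map_yon_map_eq]
    exact (Points.schemeHomeo _).injective.comp
      ((hP _ (hf.property_snd _)).comp (Points.schemeHomeo _).symm.injective)
  have : e₁ = e₂ := hinj (he₁b.trans he₂b.symm)
  rw [← he₁a, ← he₂a, this]

theorem isHomeomorph_left_of_points {T T' : Over S} (φ : T ⟶ T')
    (h : IsHomeomorph (Points.map ((yon S).map φ))) : IsHomeomorph φ.left := by
  rw [Points.map_yon_map_eq] at h
  have := ((Points.schemeHomeo T').symm.isHomeomorph.comp h).comp (Points.schemeHomeo T).isHomeomorph
  convert this using 1
  ext t
  simp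

/-- For a representable morphism, being a universal homeomorphism in the representable sense is
the same as inducing homeomorphisms on points after every base change. -/
theorem repWith_isUnivHomeo_iff {X Y : Sp S} (f : X ⟶ Y) (hf : Representable f) :
    RepWith FlatMor.IsUnivHomeo f ↔ IsUnivHomeoMor f := by
  constructor
  · intro h Z Z' _ g fst snd sq
    have hs : RepWith FlatMor.IsUnivHomeo snd := MorphismProperty.of_isPullback sq h
    have hle : ∀ ⦃A B : Scheme.{u}⦄ (φ : A ⟶ B), FlatMor.IsUnivHomeo φ → IsHomeomorph φ :=
      fun A B φ hφ => MorphismProperty.universally_le (P := topologically fun f => IsHomeomorph f) _ hφ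
    refine ⟨Points.continuous_map snd, ?_, ?_, ?_⟩
    · exact H52.isOpenMap_points_of_repWith snd _ (fun A B φ hφ => (hle φ hφ).isOpenMap) hs
    · exact injective_points_of_repWith snd _ (fun A B φ hφ => (hle φ hφ).injective) hs
    · refine H52.surjective_points_of_repWith_surjective snd ⟨hs.rep, fun T V g' fst' snd' sq' => ?_⟩
      exact ⟨(hle _ (hs.property g' fst' snd' sq')).surjective⟩
  · intro h
    exact H52.repWith_universally_of_univSp (Q₀ := fun f => IsHomeomorph f)
      (fun _ _ f => IsHomeomorph (Points.map f))
      (fun φ hφ => isHomeomorph_left_of_points φ hφ) f hf h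

end Groth.Agent.H53
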