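import Groth.Agent.H53.OpenSub
import Groth.Agent.H53.UnivHomeo
import Groth.Agent.H53.SourceLocal
import Groth.Agent.H53.SpBasic

/-!
# The open subspace defined by the image of an etale chart (helper53)
-/

set_option autoImplicit false
universe u
open CategoryTheory CategoryTheory.Limits AlgebraicGeometry Opposite Topology

namespace Groth.Agent.H53
open AlgSp

variable {S : Scheme.{u}}

/-- If `a' ≫ j` is representable with `P` and `j` is a monomorphism, then `a'` is representable
with `P`. -/
theorem repWith_of_comp_mono (P : MorphismProperty Scheme.{u}) {F X' X : Sp S} (a' : F ⟶ X')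
    (j : X' ⟶ X) [Mono j] (h : RepWith P (a' ≫ j)) : RepWith P a' := by
  have hr := h.rep
  refine ⟨fun T t => ?_, fun T V t fst snd sq => ?_⟩
  · have sq := hr.isPullback (t ≫ j)
    exact ⟨hr.pullback (t ≫ j), hr.snd (t ≫ j), hr.fst (t ≫ j), isPullback_of_comp_mono j sq⟩
  · have big : IsPullback fst ((yon S).map snd) (a' ≫ j) (t ≫ j) := by
      refine ⟨⟨by rw [← Category.assoc, sq.w, Category.assoc]⟩, ⟨PullbackCone.IsLimit.mk _
        (fun s => sq.lift s.fst s.snd ?_) (fun s => sq.lift_fst _ _ _) (fun s => sq.lift_snd _ _ _)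
        (fun s m h1 h2 => sq.hom_ext (by simpa using h1) (by simpa using h2))⟩⟩
      rw [← cancel_mono j, Category.assoc, Category.assoc]
      exact s.condition
    exact h.property (t ≫ j) fst snd big

theorem range_points_map_eq_range_ofPt {F : Sp S} {U : Over S} (a : (yon S).obj U ⟶ F) :
    Set.range (Points.map a) = Set.range (Points.ofPt a) := by
  ext x
  constructor
  · rintro ⟨ξ, rfl⟩
    obtain ⟨u, rfl⟩ := (Points.schemeEquiv U).surjective ξ
    exact ⟨u, Points.ofPt_eq_map_ofScheme a u⟩
  · rintro ⟨u, rfl⟩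
    exact ⟨Points.ofScheme U u, (Points.ofPt_eq_map_ofScheme a u).symm⟩

/-- An etale chart factors through the open subspace defined by its image, as an etale surjective
chart. -/
theorem exists_factor_etale_surjective {X X' : Sp S} {U : Over S} (a : (yon S).obj U ⟶ X)
    (ha : RepWith @Etale a) (j : X' ⟶ X) (hj : RepWith @IsOpenImmersion j)
    (himage : Set.range (Points.map j) = Set.range (Points.ofPt a)) :
    ∃ a' : (yon S).obj U ⟶ X', a' ≫ j = a ∧ RepWith @Etale a' ∧ RepWith @Surjective a' ∧ Mono j := by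
  have hmono : Mono j := H52.mono_of_repWith j @IsOpenImmersion
    (fun _ _ g hg => by have := hg; infer_instance) hj
  obtain ⟨a', ha'⟩ := exists_factor_of_range_subset j hj a
    (by rw [himage, range_points_map_eq_range_ofPt])
  have he : RepWith @Etale a' := repWith_of_comp_mono _ a' j (ha' ▸ ha)
  refine ⟨a', ha', he, ?_, hmono⟩
  refine H52.repWith_surjective_of_surjective_points a' he.rep ?_
  intro x'
  have hinj : Function.Injective (Points.map j) := injective_points_of_repWith j @IsOpenImmersion
    (fun _ _ φ hφ => by have := hφ; exact φ.isOpenEmbedding.injective) hj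
  have : Points.map j x' ∈ Set.range (Points.ofPt a) := himage ▸ ⟨x', rfl⟩
  obtain ⟨u, hu⟩ := this
  refine ⟨Points.ofScheme U u, hinj ?_⟩
  rw [← Points.map_comp, ha', ← Points.ofPt_eq_map_ofScheme]
  exact hu

theorem isEtaleEqvRel_of_isPullback {F : Sp S} {R U : Over S} (s t : R ⟶ U)
    (p : (yon S).obj U ⟶ F) (hp : RepWith @Etale p)
    (sq : IsPullback ((yon S).map t) ((yon S).map s) p p) : IsEtaleEqvRel s t := by
  refine ⟨⟨fun T r r' h1 h2 => ?_, fun T => ⟨fun a => ?_, fun {a b} h => ?_, fun {a b c} h1 h2 => ?_⟩⟩,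
    hp.property _ _ _ sq, hp.property _ _ _ sq.flip⟩
  · apply (yon S).map_injective
    apply sq.hom_ext
    · rw [← Functor.map_comp, ← Functor.map_comp, h1]
    · rw [← Functor.map_comp, ← Functor.map_comp, h2]
  · obtain ⟨r, hr⟩ := (yon S).map_surjective (sq.lift ((yon S).map a) ((yon S).map a) rfl)
    refine ⟨r, ?_, ?_⟩
    · apply (yon S).map_injective
      rw [Functor.map_comp, hr, sq.lift_fst]
    · apply (yon S).map_injective
      rw [Functor.map_comp, hr, sq.lift_snd]
  · obtain ⟨r, rfl, rfl⟩ := h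
    have w : (yon S).map (r ≫ s) ≫ p = (yon S).map (r ≫ t) ≫ p := by
      rw [Functor.map_comp, Functor.map_comp, Category.assoc, Category.assoc, sq.w]
    obtain ⟨r', hr'⟩ := (yon S).map_surjective (sq.lift _ _ w)
    refine ⟨r', ?_, ?_⟩
    · apply (yon S).map_injective
      rw [Functor.map_comp, hr', sq.lift_fst]
    · apply (yon S).map_injective
      rw [Functor.map_comp, hr', sq.lift_snd]
  · obtain ⟨r₁, rfl, rfl⟩ := h1
    obtain ⟨r₂, h2a, rfl⟩ := h2
    have w : (yon S).map (r₁ ≫ t) ≫ p = (yon S).map (r₂ ≫ s) ≫ p := by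
      calc (yon S).map (r₁ ≫ t) ≫ p = (yon S).map r₁ ≫ (yon S).map t ≫ p := by
            rw [Functor.map_comp, Category.assoc]
        _ = (yon S).map r₁ ≫ (yon S).map s ≫ p := by rw [sq.w]
        _ = (yon S).map (r₁ ≫ s) ≫ p := by rw [Functor.map_comp, Category.assoc]
        _ = (yon S).map (r₂ ≫ t) ≫ p := by rw [h2a]
        _ = (yon S).map r₂ ≫ (yon S).map t ≫ p := by rw [Functor.map_comp, Category.assoc]
        _ = (yon S).map r₂ ≫ (yon S).map s ≫ p := by rw [sq.w]
        _ = (yon S).map (r₂ ≫ s) ≫ p := by rw [Functor.map_comp, Category.assoc]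
    obtain ⟨r', hr'⟩ := (yon S).map_surjective (sq.lift _ _ w)
    refine ⟨r', ?_, ?_⟩
    · apply (yon S).map_injective
      rw [Functor.map_comp, hr', sq.lift_fst]
    · apply (yon S).map_injective
      rw [Functor.map_comp, hr', sq.lift_snd]

end Groth.Agent.H53
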