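import Groth.Agent.H53.QSDecent
import Groth.Agent.S10386
import Groth.Agent.H52.LocNoeth
import Groth.Agent.H52.QSChart3
import Groth.Prelude.Def_AlgSp3

set_option autoImplicit false
set_option backward.isDefEq.respectTransparency false
universe u
open CategoryTheory CategoryTheory.Limits AlgebraicGeometry Opposite
open AlgSp

namespace Groth.Agent.H53.FieldQuot

variable {S : Scheme.{u}}

theorem isQuasiSeparatedSp_yon_of_isAffine (Z : Over S) [IsAffine Z.left] :
    IsQuasiSeparatedSp ((yon S).obj Z) := by
  have := Groth.Agent.H52.isSeparated_hom_of_isAffine Z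
  exact (repWith_diag_yon_iff @QuasiCompact Z).2 inferInstance

theorem isDecentMor_of_representable {X Y : Space S} (f : X ⟶ Y) (hrep : Representable f.hom) :
    IsDecentMor f.hom := by
  intro T F' g fst snd sq
  have h1 : Representable snd := MorphismProperty.of_isPullback sq hrep
  exact Groth.Agent.Lib.Helper54.isDecent_of_representable snd h1
    (Groth.Agent.Lib.Helper54.isDecent_yon_obj T)

theorem isDecentMor_of_isQuasiSeparatedMor {X Y : Space S} (f : X ⟶ Y)
    (hf : IsQuasiSeparatedMor f.hom) : IsDecentMor f.hom := by
  refine Groth.Agent.S10386.result f ?_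
  intro Z g P fst snd hZ sq
  have hP : IsAlgSpace P :=
    Groth.Agent.H52.isAlgSpace_of_isPullback sq X.property Y.property (IsAlgSpace.yon_obj Z)
  have h1 : IsQuasiSeparatedMor snd :=
    MorphismProperty.of_isPullback (P := (RepWith (S := S) @QuasiCompact).diagonal) sq hf
  have h2 : IsQuasiSeparatedSp P :=
    Groth.Agent.H52.isQuasiSeparatedSp_of_isQuasiSeparatedMor snd h1
      (isQuasiSeparatedSp_yon_of_isAffine Z)
  exact isDecent_of_isQuasiSeparatedSp hP h2

end Groth.Agent.H53.FieldQuot
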