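import Groth.Agent.H52.Epi
import Groth.Prelude.Def_AlgSpOX
import Mathlib.CategoryTheory.Sites.RegularEpi

set_option autoImplicit false
set_option backward.isDefEq.respectTransparency false
universe u
open CategoryTheory CategoryTheory.Limits AlgebraicGeometry Opposite Topology
open AlgSp

namespace Groth.Agent.H53.HomAff

theorem exists_hom_appTop_eq {X Y : Scheme.{u}} [IsAffine Y] (ψ : Γ(Y, ⊤) ⟶ Γ(X, ⊤)) :
    ∃ f : X ⟶ Y, f.appTop = ψ := by
  refine ⟨X.toSpecΓ ≫ Spec.map ψ ≫ Y.isoSpec.inv, ?_⟩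
  have h : Y.isoSpec.inv.appTop = (Scheme.ΓSpecIso Γ(Y, ⊤)).inv := by
    have h1 : Y.isoSpec.hom.appTop = (Scheme.ΓSpecIso Γ(Y, ⊤)).hom := by
      simp [Scheme.isoSpec, Scheme.toSpecΓ_appTop]
    have h2 : Y.isoSpec.hom.appTop ≫ Y.isoSpec.inv.appTop = 𝟙 _ := by
      rw [← Scheme.Hom.comp_appTop]; simp
    rw [h1] at h2
    rw [← cancel_epi (Scheme.ΓSpecIso Γ(Y, ⊤)).hom, h2]; simp
  simp [h, Scheme.toSpecΓ_appTop, Scheme.ΓSpecIso_naturality]

variable {S : Scheme.{u}}

/-- Descent of a morphism along an epimorphism of sheaves with a given kernel pair. -/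
theorem exists_desc_of_epi {A R X Y : Sp S} (p : A ⟶ X) [Epi p] (s t : R ⟶ A)
    (sq : IsPullback s t p p) (g : A ⟶ Y) (hg : s ≫ g = t ≫ g) : ∃ f : X ⟶ Y, p ≫ f = g := by
  have : IsRegularEpi p := IsRegularEpiCategory.regularEpiOfEpi p
  refine ⟨IsRegularEpi.desc p g ?_, IsRegularEpi.fac p g _⟩
  obtain ⟨l, h1, h2⟩ : ∃ l, l ≫ s = IsRegularEpi.left p ∧ l ≫ t = IsRegularEpi.right p :=
    ⟨sq.lift _ _ (IsRegularEpi.w p), sq.lift_fst _ _ _, sq.lift_snd _ _ _⟩
  rw [← h1, ← h2, Category.assoc, Category.assoc, hg]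

section

variable {X : Sp S} {T : Over S} (φ : Γ(T.left, ⊤) →+* ↥(AlgSp.gsectEt (AlgSp.OEt X)))

/-- The component of `φ` at an object of the small étale site. -/
noncomputable def comp (E : EtOver X) : Γ(T.left, ⊤) ⟶ Γ(E.obj.left.left, ⊤) :=
  CommRingCat.ofHom ((ULift.ringEquiv.toRingHom.comp
    (limit.π (AlgSp.OEt X).obj (op E)).hom).comp φ)

theorem comp_apply (E : EtOver X) (r : Γ(T.left, ⊤)) :
    comp φ E r = ((limit.π (AlgSp.OEt X).obj (op E)) (φ r)).down := rfl

theorem comp_naturality {E E' : EtOver X} (g : E ⟶ E') :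
    comp φ E' ≫ g.hom.left.left.appTop = comp φ E := by
  ext r
  have h := limit.w (AlgSp.OEt X).obj g.op
  have h2 := congrArg (fun k => (k (φ r)).down) h
  exact h2

end

section Main

variable (hS : IsTerminal S) {X : Sp S} {T : Over S} [IsAffine T.left]
  (φ : Γ(T.left, ⊤) →+* ↥(AlgSp.gsectEt (AlgSp.OEt X)))

include hS in
theorem exists_arrow (E : EtOver X) : ∃ a : E.obj.left ⟶ T, a.left.appTop = comp φ E := by
  obtain ⟨f, hf⟩ := exists_hom_appTop_eq (comp φ E)
  exact ⟨Over.homMk f (hS.hom_ext _ _), hf⟩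

noncomputable def arrow (E : EtOver X) : E.obj.left ⟶ T := (exists_arrow hS φ E).choose

theorem arrow_appTop (E : EtOver X) : (arrow hS φ E).left.appTop = comp φ E :=
  (exists_arrow hS φ E).choose_spec

omit [IsAffine T.left] in
theorem hom_ext_affine [IsAffine T.left] {V : Over S} {a b : V ⟶ T}
    (h : a.left.appTop = b.left.appTop) : a = b :=
  Over.OverMorphism.ext (ext_of_isAffine h)

theorem arrow_naturality {E E' : EtOver X} (g : E ⟶ E') :
    g.hom.left ≫ arrow hS φ E' = arrow hS φ E := by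
  apply hom_ext_affine
  rw [Over.comp_left, Scheme.Hom.comp_appTop, arrow_appTop, arrow_appTop, comp_naturality]

theorem comp_eq_of_atlas {U : Over S} (p : (yon S).obj U ⟶ X) (hpe : RepWith @Etale p)
    (hps : RepWith @Surjective p) (f : X ⟶ (yon S).obj T)
    (hf : p ≫ f = (yon S).map (arrow hS φ (EtOver.mk p hpe))) (E : EtOver X) :
    E.obj.hom ≫ f = (yon S).map (arrow hS φ E) := by
  have sq := hpe.rep.isPullback' E.obj.hom
  have hsnd_et : Etale (hpe.rep.snd E.obj.hom).left := hpe.property_snd E.obj.hom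
  have hsnd_surj : Surjective (hpe.rep.snd E.obj.hom).left :=
    hps.2 _ _ _ (hpe.rep.isPullback E.obj.hom)
  have : Epi ((yon S).map (hpe.rep.snd E.obj.hom)) :=
    Groth.Agent.H52.epi_yon_map_of_fppf _
  let EW : EtOver X := EtOver.mk ((yon S).map (hpe.rep.snd E.obj.hom) ≫ E.obj.hom)
    ((repWith_isMultiplicative (S := S) @Etale).comp_mem _ _
      ((repWith_yon_map_iff _ _).2 hsnd_et) E.property)
  let g1 : EW ⟶ E := EtOver.homMk (hpe.rep.snd E.obj.hom) rfl
  let g2 : EW ⟶ EtOver.mk p hpe := EtOver.homMk (hpe.rep.fst' E.obj.hom) sq.w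
  have n1 := arrow_naturality hS φ g1
  have n2 := arrow_naturality hS φ g2
  rw [← cancel_epi ((yon S).map (hpe.rep.snd E.obj.hom)), ← Category.assoc, ← sq.w,
    Category.assoc, hf, ← Functor.map_comp, ← Functor.map_comp]
  congr 1
  exact n2.trans n1.symm

theorem exists_hom (hX : IsAlgSpace X) :
    ∃ f : X ⟶ (yon S).obj T, ∀ E : EtOver X, E.obj.hom ≫ f = (yon S).map (arrow hS φ E) := by
  obtain ⟨U, p, hpe, hps⟩ := hX.atlas
  have : Epi p := Groth.Agent.H52.epi_of_repWith_etale_surjective p hpe hps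
  have sq := hpe.rep.isPullback' p
  let EW : EtOver X := EtOver.mk ((yon S).map (hpe.rep.snd p) ≫ p)
    ((repWith_isMultiplicative (S := S) @Etale).comp_mem _ _
      ((repWith_yon_map_iff _ _).2 (hpe.property_snd p)) hpe)
  let g1 : EW ⟶ EtOver.mk p hpe := EtOver.homMk (hpe.rep.snd p) rfl
  let g2 : EW ⟶ EtOver.mk p hpe := EtOver.homMk (hpe.rep.fst' p) sq.w
  have n1 := arrow_naturality hS φ g1
  have n2 := arrow_naturality hS φ g2
  obtain ⟨f, hf⟩ := exists_desc_of_epi p _ _ sq ((yon S).map (arrow hS φ (EtOver.mk p hpe))) (by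
    rw [← Functor.map_comp, ← Functor.map_comp]
    congr 1
    exact n2.trans n1.symm)
  exact ⟨f, comp_eq_of_atlas hS φ p hpe hps f hf⟩

include hS in
theorem existsUnique_hom (hX : IsAlgSpace X) :
    ∃! f : X ⟶ (AlgSp.yon S).obj T,
      ∀ (E : AlgSp.EtOver X) (r : Γ(T.left, ⊤)),
        ((limit.π (AlgSp.OEt X).obj (Opposite.op E)) (φ r)).down =
          ((AlgSp.yon S).preimage (E.obj.hom ≫ f)).left.appTop r := by
  obtain ⟨f, hf⟩ := exists_hom hS φ hX
  refine ⟨f, fun E r => ?_, fun f' hf' => ?_⟩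
  · rw [hf E, Functor.preimage_map, arrow_appTop, comp_apply]
  · obtain ⟨U, p, hpe, hps⟩ := hX.atlas
    have : Epi p := Groth.Agent.H52.epi_of_repWith_etale_surjective p hpe hps
    rw [← cancel_epi p]
    have h1 := hf (EtOver.mk p hpe)
    have h2 : (AlgSp.yon S).preimage (p ≫ f') = arrow hS φ (EtOver.mk p hpe) := by
      apply hom_ext_affine
      rw [arrow_appTop]
      ext r
      exact (hf' (EtOver.mk p hpe) r).symm
    have h3 : p ≫ f' = (yon S).map (arrow hS φ (EtOver.mk p hpe)) := by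
      rw [← h2, Functor.map_preimage]
    exact h3.trans h1.symm

end Main

end Groth.Agent.H53.HomAff
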