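import Groth.Agent.H53.SchDenseFlat
import Groth.Agent.H52.QC5
import Groth.Agent.H52.ThickLift
import Groth.Agent.H52.Epi
import Groth.Agent.Lib.Helper54.LocPCalc

set_option autoImplicit false
set_option backward.isDefEq.respectTransparency false
universe u
open CategoryTheory CategoryTheory.Limits AlgebraicGeometry Opposite Topology TopologicalSpace
open AlgSp

namespace Groth.Agent.H53.DenseFactor

variable {S : Scheme.{u}}

/-- A surjective flat locally finitely presented morphism of algebraic spaces is an epimorphism of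
sheaves. -/
theorem epi_of_fppf {X Z : Sp S} (hX : IsAlgSpace X) (hZ : IsAlgSpace Z) (g : X ⟶ Z)
    (hgs : IsSurjectiveMor g) (hgf : LocP @Flat g) (hgp : LocP @LocallyOfFinitePresentation g) :
    Epi g := by
  obtain ⟨U, a, hae, has⟩ := hX.atlas
  obtain ⟨W, b, hbe, hbs⟩ := hZ.atlas
  obtain ⟨E, α, π, hα, sq, hrep⟩ := Groth.Agent.Lib.Helper54.exists_chart_square g a hae b hbe
  have hflat : Flat π.left := Groth.Agent.Lib.Helper54.locP_of_chart_square hgf hbe sq hrep
  have hlfp : LocallyOfFinitePresentation π.left :=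
    Groth.Agent.Lib.Helper54.locP_of_chart_square hgp hbe sq hrep
  have hsurj : Surjective π.left :=
    ⟨Groth.Agent.Lib.Helper54.surjective_of_chart_square sq
      (Groth.Agent.H52.surjective_points_of_repWith_surjective a has) hgs⟩
  have h1 : Epi ((yon S).map π) := Groth.Agent.H52.epi_yon_map_of_fppf π
  have h2 : Epi b := Groth.Agent.H52.epi_of_repWith_etale_surjective b hbe hbs
  have h3 : Epi (((yon S).map α ≫ a) ≫ g) := by
    rw [Category.assoc, sq.w]
    exact epi_comp _ _
  exact epi_of_epi ((yon S).map α ≫ a) g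

/-- Two morphisms to a separated space which agree on a quasi-compact scheme theoretically dense open subspace
are equal. -/
theorem eq_of_isSchDense {R G Y B : Sp S} (jR : G ⟶ R) (hj : IsSchDense jR)
    (hjq : IsQuasiCompactMor jR) (pY : Y ⟶ B) (hY : IsSeparatedMor pY) (u₁ u₂ : R ⟶ Y)
    (hB : u₁ ≫ pY = u₂ ≫ pY) (hu : jR ≫ u₁ = jR ≫ u₂) : u₁ = u₂ := by
  obtain ⟨hjo, V₀, φ₀, W, fstW, hφe, hφs, sqW, hW⟩ := hj
  have hqc : QuasiCompact W.ι :=
    (Groth.Agent.H52.repWith_quasiCompact_of_isQuasiCompactMor jR hjo.rep hjq).property φ₀ fstW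
      (Groth.Agent.H52.overOpenι V₀ W) sqW
  have hdom : IsSchemeTheoreticallyDominant W.ι :=
    Groth.Agent.Lib.Helper69.isSchemeTheoreticallyDominant_of_isSchematicallyDense W hW
  -- the equalizer as a closed subspace
  let w : R ⟶ pullback pY pY := pullback.lift u₁ u₂ hB
  have he : RepWith @IsClosedImmersion (pullback.snd (pullback.diagonal pY) w) :=
    MorphismProperty.of_isPullback (IsPullback.of_hasPullback (pullback.diagonal pY) w) hY
  have hc := pullback.condition (f := pullback.diagonal pY) (g := w)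
  have he₁ : pullback.fst (pullback.diagonal pY) w = pullback.snd (pullback.diagonal pY) w ≫ u₁ := by
    have := congrArg (· ≫ pullback.fst pY pY) hc
    simpa [w] using this
  have he₂ : pullback.fst (pullback.diagonal pY) w = pullback.snd (pullback.diagonal pY) w ≫ u₂ := by
    have := congrArg (· ≫ pullback.snd pY pY) hc
    simpa [w] using this
  -- the open subspace factors through the equalizer
  let l : G ⟶ pullback (pullback.diagonal pY) w := pullback.lift (jR ≫ u₁) jR (by
    apply pullback.hom_ext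
    · simp [w]
    · simp [w, hu])
  have hl : l ≫ pullback.snd (pullback.diagonal pY) w = jR := pullback.lift_snd _ _ _
  -- the chart
  have sqE := he.rep.isPullback φ₀
  have hci : IsClosedImmersion (he.rep.snd φ₀).left := he.property_snd φ₀
  obtain ⟨m₀, hm₀⟩ := (yon S).map_surjective (sqE.lift (fstW ≫ l)
    ((yon S).map (Groth.Agent.H52.overOpenι V₀ W)) (by rw [Category.assoc, hl, sqW.w]))
  have hm : m₀ ≫ he.rep.snd φ₀ = Groth.Agent.H52.overOpenι V₀ W := by
    apply (yon S).map_injective
    rw [Functor.map_comp, hm₀, sqE.lift_snd]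
  have hm' : m₀.left ≫ (he.rep.snd φ₀).left = W.ι := congrArg (·.left) hm
  have hker : (he.rep.snd φ₀).left.ker = ⊥ := by
    have h1 : (he.rep.snd φ₀).left.ker ≤ (m₀.left ≫ (he.rep.snd φ₀).left).ker :=
      Scheme.Hom.le_ker_comp _ _
    rw [hm', W.ι.ker_eq_bot] at h1
    exact le_bot_iff.1 h1
  have hiso : IsIso (he.rep.snd φ₀).left :=
    IsClosedImmersion.isIso_of_ker_eq (he.rep.snd φ₀).left (𝟙 V₀.left) (he.rep.snd φ₀).left
      (Category.comp_id _) (by rw [hker]; exact (Scheme.Hom.ker_eq_bot (𝟙 V₀.left)).symm)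
  have hiso' : IsIso (he.rep.snd φ₀) := by
    have : IsIso ((Over.forget S).map (he.rep.snd φ₀)) := hiso
    exact isIso_of_reflects_iso _ (Over.forget S)
  have hepi1 : Epi ((yon S).map (he.rep.snd φ₀)) := inferInstance
  have hepi2 : Epi φ₀ := Groth.Agent.H52.epi_of_repWith_etale_surjective φ₀ hφe hφs
  rw [← cancel_epi φ₀, ← cancel_epi ((yon S).map (he.rep.snd φ₀)), ← Category.assoc,
    ← Category.assoc, ← sqE.w, Category.assoc, Category.assoc, ← he₁, ← he₂]


/-- A morphism which factors through a flat cover over a quasi-compact scheme theoretically dense open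
subspace of the target of the cover factors through the cover. -/
theorem exists_factor {B X Y Z V : Sp S} (hX : IsAlgSpace X) (hZ : IsAlgSpace Z)
    (pX : X ⟶ B) (pY : Y ⟶ B) (pZ : Z ⟶ B)
    (f : X ⟶ Y) (g : X ⟶ Z) (hf : f ≫ pY = pX) (hg : g ≫ pZ = pX) (hY : IsSeparatedMor pY)
    (hgs : IsSurjectiveMor g) (hgf : LocP @Flat g) (hgp : LocP @LocallyOfFinitePresentation g)
    (v : V ⟶ Z) (hv : IsSchDense v) (hvq : IsQuasiCompactMor v)
    (hfac : ∃ φ : V ⟶ Y, pullback.fst g v ≫ f = pullback.snd g v ≫ φ) :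
    ∃ h : Z ⟶ Y, g ≫ h = f := by
  obtain ⟨φ, hφ⟩ := hfac
  have hepi := epi_of_fppf hX hZ g hgs hgf hgp
  have hfl := Groth.Agent.Lib.Helper54.etLocal_flat.{u}
  have sqR := IsPullback.of_hasPullback g g
  have hR : IsAlgSpace (pullback g g) := Groth.Agent.H52.isAlgSpace_of_isPullback sqR hX hZ hX
  have hfst : LocP @Flat (pullback.fst g g) :=
    Groth.Agent.Lib.Helper54.locP_of_isPullback_of_isAlgSpace hfl hX hZ sqR.flip hgf
  have hρ : LocP @Flat (pullback.fst g g ≫ g) := by
    obtain ⟨U, q, hqe, hqs⟩ := hX.atlas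
    exact Groth.Agent.Lib.Helper54.locP_comp hfl _ g q hqe hqs hfst hgf
  have sqG := IsPullback.of_hasPullback v (pullback.fst g g ≫ g)
  have hjd : IsSchDense (pullback.snd v (pullback.fst g g ≫ g)) :=
    Groth.Agent.H53.SchDenseFlat.isSchDense_preimage_of_flat hR _ hρ v hv hvq _ _ sqG
  have hjq : IsQuasiCompactMor (pullback.snd v (pullback.fst g g ≫ g)) :=
    Groth.Agent.H52.isQuasiCompactMor_of_isPullback sqG hvq
  have hk : ∀ k : pullback g g ⟶ X, k ≫ g = pullback.fst g g ≫ g →
      pullback.snd v (pullback.fst g g ≫ g) ≫ k ≫ f =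
        pullback.fst v (pullback.fst g g ≫ g) ≫ φ := by
    intro k hk
    have hc : (pullback.snd v (pullback.fst g g ≫ g) ≫ k) ≫ g =
        pullback.fst v (pullback.fst g g ≫ g) ≫ v := by
      rw [Category.assoc, hk, ← pullback.condition]
    have h1 : pullback.lift _ _ hc ≫ pullback.fst g v =
        pullback.snd v (pullback.fst g g ≫ g) ≫ k := pullback.lift_fst _ _ _
    have h2 : pullback.lift _ _ hc ≫ pullback.snd g v =
        pullback.fst v (pullback.fst g g ≫ g) := pullback.lift_snd _ _ _
    rw [← Category.assoc, ← h1, Category.assoc, hφ, ← Category.assoc, h2]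
  have key : pullback.fst g g ≫ f = pullback.snd g g ≫ f := by
    refine eq_of_isSchDense _ hjd hjq pY hY _ _ ?_ ?_
    · rw [Category.assoc, Category.assoc, hf, ← hg, ← Category.assoc, ← Category.assoc,
        pullback.condition]
    · rw [hk _ rfl, hk _ pullback.condition.symm]
  refine Groth.Agent.H52.exists_desc_of_epi g f (fun P p₁ p₂ h => ?_)
  calc p₁ ≫ f = (pullback.lift p₁ p₂ h ≫ pullback.fst g g) ≫ f := by rw [pullback.lift_fst]
    _ = (pullback.lift p₁ p₂ h ≫ pullback.snd g g) ≫ f := by
        rw [Category.assoc, key, Category.assoc]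
    _ = p₂ ≫ f := by rw [pullback.lift_snd]

end Groth.Agent.H53.DenseFactor
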