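import Groth.Agent.H52.Points
import Groth.Agent.H52.Basic
import Groth.Agent.Lib.Helper51.AlgSpBasic

/-!
# Open subspaces: factorisation criterion (helper53)
-/

set_option autoImplicit false
universe u
open CategoryTheory CategoryTheory.Limits AlgebraicGeometry Opposite Topology

namespace Groth.Agent.H53
open AlgSp

variable {S : Scheme.{u}}

/-- A morphism of sheaves all of whose base changes to schemes are isomorphisms is an
isomorphism. -/
theorem isIso_of_repWith_isomorphisms {F G : Sp S} (f : F ⟶ G)
    (hf : RepWith (MorphismProperty.isomorphisms Scheme.{u}) f) : IsIso f := by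
  have hmono : Mono f := H52.mono_of_repWith f _
    (fun _ _ g hg => by
      have : IsIso g := hg
      infer_instance) hf
  have hrep := hf.rep
  have hbij : ∀ T : (Over S)ᵒᵖ, Function.Bijective (f.hom.app T) := by
    rintro ⟨T⟩
    constructor
    · intro x₁ x₂ h
      have h' : Lib.Helper51.yonEquiv.symm x₁ ≫ f = Lib.Helper51.yonEquiv.symm x₂ ≫ f := by
        apply Lib.Helper51.yonEquiv.injective
        rw [Lib.Helper51.yonEquiv_comp, Lib.Helper51.yonEquiv_comp, Equiv.apply_symm_apply,
          Equiv.apply_symm_apply]
        exact h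
      have := (cancel_mono f).1 h'
      exact Lib.Helper51.yonEquiv.symm.injective this
    · intro y
      have sq := hrep.isPullback (Lib.Helper51.yonEquiv.symm y)
      have hiso : IsIso (hrep.snd (Lib.Helper51.yonEquiv.symm y)).left := hf.property_snd _
      have hiso' : IsIso (hrep.snd (Lib.Helper51.yonEquiv.symm y)) := by
        have : IsIso ((Over.forget S).map (hrep.snd (Lib.Helper51.yonEquiv.symm y))) := hiso
        exact isIso_of_reflects_iso _ (Over.forget S)
      refine ⟨Lib.Helper51.yonEquiv ((yon S).map (inv (hrep.snd (Lib.Helper51.yonEquiv.symm y))) ≫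
        hrep.fst (Lib.Helper51.yonEquiv.symm y)), ?_⟩
      rw [← Lib.Helper51.yonEquiv_comp, Category.assoc, sq.w, ← Category.assoc, ← Functor.map_comp,
        IsIso.inv_hom_id, CategoryTheory.Functor.map_id, Category.id_comp, Equiv.apply_symm_apply]
  have h1 : ∀ T : (Over S)ᵒᵖ, IsIso (f.hom.app T) := fun T => (isIso_iff_bijective _).2 (hbij T)
  have h2 : IsIso f.hom := NatIso.isIso_of_isIso_app f.hom
  have : IsIso ((ObjectProperty.ι _).map f) := h2
  exact isIso_of_reflects_iso f (ObjectProperty.ι _)

/-- A morphism factors through an open subspace iff it does so on points. -/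
theorem exists_factor_of_range_subset {X X' Y : Sp S} (j : X' ⟶ X)
    (hj : RepWith @IsOpenImmersion j) (f : Y ⟶ X)
    (h : Set.range (Points.map f) ⊆ Set.range (Points.map j)) : ∃ g : Y ⟶ X', g ≫ j = f := by
  have sq := IsPullback.of_hasPullback f j
  have h1 : RepWith @IsOpenImmersion (pullback.fst f j) := MorphismProperty.of_isPullback sq.flip hj
  have hsurj : Function.Surjective (Points.map (pullback.fst f j)) := by
    intro y
    obtain ⟨x', hx'⟩ := h ⟨y, rfl⟩
    obtain ⟨p, hp, -⟩ := H52.exists_point_of_isPullback sq y x' hx'.symm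
    exact ⟨p, hp⟩
  have h2 : RepWith @Surjective (pullback.fst f j) :=
    H52.repWith_surjective_of_surjective_points _ h1.rep hsurj
  have h3 : RepWith (MorphismProperty.isomorphisms Scheme.{u}) (pullback.fst f j) := by
    refine ⟨h1.rep, fun T V g fst snd sq' => ?_⟩
    have : IsOpenImmersion snd.left := h1.property g fst snd sq'
    have : Surjective snd.left := h2.property g fst snd sq'
    exact (isIso_iff_isOpenImmersion_and_surjective snd.left).mpr ⟨inferInstance, inferInstance⟩
  have := isIso_of_repWith_isomorphisms _ h3
  refine ⟨inv (pullback.fst f j) ≫ pullback.snd f j, ?_⟩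
  rw [Category.assoc, ← pullback.condition, IsIso.inv_hom_id_assoc]

end Groth.Agent.H53
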