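import Groth.Agent.H53.Unram
import Groth.Agent.H53.OpenSub
import Groth.Agent.H52.UnivInj
import Groth.Agent.H52.Epi

/-!
# Etale monomorphisms are open immersions (helper53)
-/

set_option autoImplicit false
universe u
open CategoryTheory CategoryTheory.Limits AlgebraicGeometry Opposite Topology

namespace Groth.Agent.H53
open AlgSp

variable {S : Scheme.{u}}

/-- The diagonal of an unramified morphism of algebraic spaces is an open immersion. -/
theorem repWith_isOpenImmersion_diagonal_of_unramified {X Y : Sp S} (hX : IsAlgSpace X)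
    (hY : IsAlgSpace Y) (f : X ⟶ Y) (hf : LocP (@LocallyOfFiniteType ⊓ @FormallyUnramified) f) :
    RepWith @IsOpenImmersion (pullback.diagonal f) := by
  apply H52.repWith_diagonal_of_forall_base_change
  intro T y
  have sq := IsPullback.of_hasPullback f y
  have hF' : IsAlgSpace (pullback f y) :=
    H52.isAlgSpace_of_isPullback sq hX hY (IsAlgSpace.yon_obj T)
  exact ⟨_, _, _, sq, repWith_isOpenImmersion_diagonal_of_unramified_yon hF' _
    (locP_snd_of_yon locPCalc_unramified hX hY hf y sq)⟩

/-- An etale morphism (in the sense of `IsEtaleMor`) is etale locally etale. -/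
theorem locP_etale_of_isEtaleMor {X Y : Sp S} (f : X ⟶ Y) (hf : IsEtaleMor f) :
    LocP @Etale f := by
  intro U V a b h ha hb w
  exact etale_of_repWith_etale_triangle (a ≫ f) b (hf a ha) hb h w.symm

/-- A monomorphism from an algebraic space to a scheme which is etale locally etale is an open
immersion. -/
theorem repWith_isOpenImmersion_of_mono_of_locP_etale_yon {F : Sp S} (hF : IsAlgSpace F)
    {T : Over S} (s : F ⟶ (yon S).obj T) [Mono s] (hs : LocP @Etale s) :
    RepWith @IsOpenImmersion s := by
  obtain ⟨U, a, hae, has⟩ := hF.atlas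
  obtain ⟨k, hk⟩ := (yon S).map_surjective (a ≫ s)
  have hket : Etale k.left := hs a (𝟙 _) k hae (repWith_id _ T) (by rw [Category.comp_id, hk])
  let W₀ : T.left.Opens := ⟨Set.range k.left, k.left.isOpenMap.isOpen_range⟩
  let W : Over S := Over.mk (W₀.ι ≫ T.hom)
  let ι : W ⟶ T := Over.homMk W₀.ι rfl
  have hrange : Set.range k.left ⊆ Set.range W₀.ι := by
    rw [Scheme.Opens.range_ι]
    exact fun x hx => hx
  let k'₀ : U.left ⟶ W₀.toScheme := IsOpenImmersion.lift W₀.ι k.left hrange
  have hk'₀ : k'₀ ≫ W₀.ι = k.left := IsOpenImmersion.lift_fac _ _ _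
  let k' : U ⟶ W := Over.homMk k'₀ (by
    simp only [W, Over.mk_hom]
    rw [← Category.assoc, hk'₀, Over.w k])
  have hk' : k' ≫ ι = k := by
    ext
    exact hk'₀
  have hk'et : Etale k'.left := by
    have : Etale (k'₀ ≫ W₀.ι) := by rw [hk'₀]; exact hket
    exact Etale.of_comp k'₀ W₀.ι
  have hk'surj : Surjective k'.left := by
    refine ⟨fun w => ?_⟩
    obtain ⟨u, hu⟩ : (W₀.ι w) ∈ Set.range k.left := w.2
    refine ⟨u, ?_⟩
    apply W₀.ι.injective
    change (k'₀ ≫ W₀.ι) u = _
    rw [hk'₀]
    exact hu
  have hι : RepWith @IsOpenImmersion ((yon S).map ι) :=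
    (repWith_yon_map_iff _ _).2 (by change IsOpenImmersion W₀.ι; infer_instance)
  have hmonoι : Mono ((yon S).map ι) := H52.mono_of_repWith _ _
    (fun _ _ g hg => by
      have : IsOpenImmersion g := hg
      infer_instance) hι
  obtain ⟨g, hg⟩ := exists_factor_of_range_subset ((yon S).map ι) hι s (by
    rintro _ ⟨x, rfl⟩
    obtain ⟨u, rfl⟩ := H52.surjective_points_of_repWith_surjective a has x
    refine ⟨Points.map ((yon S).map k') u, ?_⟩
    rw [← Points.map_comp, ← Points.map_comp, ← Functor.map_comp, hk', hk])
  have hgmono : Mono g := mono_of_mono_fac hg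
  have hag : a ≫ g = (yon S).map k' := by
    rw [← cancel_mono ((yon S).map ι), Category.assoc, hg, ← hk, ← Functor.map_comp, hk']
  have hepi : Epi (a ≫ g) := by
    rw [hag]
    exact H52.epi_of_repWith_etale_surjective _ ((repWith_yon_map_iff _ _).2 hk'et)
      ((repWith_yon_map_iff _ _).2 hk'surj)
  have hgepi : Epi g := epi_of_epi a g
  have hgiso : IsIso g := isIso_of_mono_of_epi g
  rw [← hg]
  exact (MorphismProperty.cancel_left_of_respectsIso (RepWith (S := S) @IsOpenImmersion) g _).2 hι

/-- An etale monomorphism of algebraic spaces is an open immersion. -/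
theorem repWith_isOpenImmersion_of_mono_of_locP_etale {X Y : Sp S} (hX : IsAlgSpace X)
    (hY : IsAlgSpace Y) (f : X ⟶ Y) [Mono f] (hf : LocP @Etale f) :
    RepWith @IsOpenImmersion f := by
  apply H52.repWith_of_forall_base_change
  intro T y
  have sq := IsPullback.of_hasPullback f y
  have hF' : IsAlgSpace (pullback f y) :=
    H52.isAlgSpace_of_isPullback sq hX hY (IsAlgSpace.yon_obj T)
  have : Mono (pullback.snd f y) := inferInstance
  exact ⟨_, _, _, sq, repWith_isOpenImmersion_of_mono_of_locP_etale_yon hF' _
    (locP_snd_of_yon locPCalc_etale hX hY hf y sq)⟩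

/-- An etale, universally injective morphism of algebraic spaces is a monomorphism. -/
theorem mono_of_isEtaleMor_of_isUnivInjectiveMor {X Y : Sp S} (hX : IsAlgSpace X)
    (hY : IsAlgSpace Y) (f : X ⟶ Y) (het : IsEtaleMor f) (hinj : IsUnivInjectiveMor f) :
    Mono f := by
  have hloc := locP_etale_of_isEtaleMor f het
  have hunr : LocP (@LocallyOfFiniteType ⊓ @FormallyUnramified) f := by
    intro U V a b h ha hb w
    have : Etale h.left := hloc a b h ha hb w
    exact ⟨inferInstance, inferInstance⟩
  have hΔo := repWith_isOpenImmersion_diagonal_of_unramified hX hY f hunr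
  have hΔs : RepWith @Surjective (pullback.diagonal f) :=
    H52.repWith_surjective_of_surjective_points _ hΔo.rep
      (H52.isSurjectiveMor_diagonal_of_isUnivInjectiveMor hX f hinj)
  have hΔi : RepWith (MorphismProperty.isomorphisms Scheme.{u}) (pullback.diagonal f) :=
    ⟨hΔo.rep, fun A B g fst snd sq => by
      have h1 : IsOpenImmersion snd.left := hΔo.property g fst snd sq
      have h2 : Surjective snd.left := hΔs.property g fst snd sq
      exact (isIso_iff_isOpenImmersion_and_surjective _).2 ⟨h1, h2⟩⟩
  have : IsIso (pullback.diagonal f) := isIso_of_repWith_isomorphisms _ hΔi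
  exact (pullback.isIso_diagonal_iff f).1 this

end Groth.Agent.H53
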