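import Groth.Agent.H53.DistSq
import Groth.Agent.H53.Proper

set_option autoImplicit false
set_option backward.isDefEq.respectTransparency false
universe u
open CategoryTheory CategoryTheory.Limits AlgebraicGeometry Opposite Topology TopologicalSpace
open AlgSp

namespace Groth.Agent.H53.DistSq

variable {S : Scheme.{u}}

/-- The comparison `U ×_X V ⟶ U ×_Y V` is an immersion when `U ⟶ X` is an open immersion and `U ⟶ Y` is
separated. -/
theorem repWith_isPreimmersion_comparison {X Y U V PX PY : Sp S} (g : X ⟶ Y) (j : U ⟶ X) (f : V ⟶ X)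
    (hj : RepWith @IsOpenImmersion j) (hU : IsSeparatedMor (j ≫ g))
    {pX : PX ⟶ U} {qX : PX ⟶ V} (hPX : IsPullback pX qX j f)
    {pY : PY ⟶ U} {qY : PY ⟶ V} (hPY : IsPullback pY qY (j ≫ g) (f ≫ g))
    (c : PX ⟶ PY) (hc₁ : c ≫ pY = pX) (hc₂ : c ≫ qY = qX) : RepWith @IsPreimmersion c := by
  have sq₁ := pullback_lift_diagonal_isPullback pX (j ≫ g)
  have h₁ := MorphismProperty.of_isPullback (P := RepWith (S := S) @IsClosedImmersion) sq₁ hU
  have e₁ : (pX ≫ j ≫ g) ≫ 𝟙 Y = qX ≫ f ≫ g := by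
    rw [Category.comp_id, ← Category.assoc, hPX.w, Category.assoc]
  let c₂ : pullback (pX ≫ j ≫ g) (j ≫ g) ⟶ pullback (f ≫ g) (j ≫ g) :=
    pullback.map (pX ≫ j ≫ g) (j ≫ g) (f ≫ g) (j ≫ g) qX (𝟙 U) (𝟙 Y) e₁ (by simp)
  have sq₂ : IsPullback (pullback.fst (pX ≫ j ≫ g) (j ≫ g)) c₂ qX (pullback.fst (f ≫ g) (j ≫ g)) := by
    refine IsPullback.of_bot ?_ (by simp [c₂]) (IsPullback.of_hasPullback (f ≫ g) (j ≫ g))
    have : c₂ ≫ pullback.snd (f ≫ g) (j ≫ g) = pullback.snd (pX ≫ j ≫ g) (j ≫ g) := by simp [c₂]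
    rw [this, ← e₁, Category.comp_id]
    exact IsPullback.of_hasPullback (pX ≫ j ≫ g) (j ≫ g)
  have hq : RepWith @IsOpenImmersion qX := MorphismProperty.of_isPullback hPX hj
  have h₂ : RepWith @IsOpenImmersion c₂ := MorphismProperty.of_isPullback sq₂ hq
  have h₁' :=
    Groth.Agent.H53.repWith_of_le (Q := @IsPreimmersion) (fun _ _ φ hφ => by
      have : IsClosedImmersion φ := hφ; infer_instance) h₁
  have h₂' : RepWith @IsPreimmersion c₂ :=
    Groth.Agent.H53.repWith_of_le (fun _ _ φ hφ => by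
      have : IsOpenImmersion φ := hφ; infer_instance) h₂
  have hmul : (RepWith (S := S) @IsPreimmersion).IsMultiplicative := repWith_isMultiplicative _
  have h₁₂ := (RepWith (S := S) @IsPreimmersion).comp_mem _ _ h₁' h₂'
  have key : c = (pullback.lift (𝟙 PX) pX (by simp) ≫ c₂) ≫ hPY.flip.isoPullback.inv := by
    rw [Iso.eq_comp_inv]
    apply pullback.hom_ext
    · simp [c₂, hc₂]
      exact (Category.id_comp _).symm
    · simp [c₂, hc₁]
  rw [key]
  exact (MorphismProperty.cancel_right_of_respectsIso _ _ _).2 h₁₂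

end Groth.Agent.H53.DistSq
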