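import Groth.Agent.H53.DistSq
import Groth.Agent.H53.DistSqB
import Groth.Prelude.Def_AlgSpSub

set_option autoImplicit false
set_option backward.isDefEq.respectTransparency false
universe u
open CategoryTheory CategoryTheory.Limits AlgebraicGeometry Opposite Topology TopologicalSpace
open AlgSp

namespace Groth.Agent.H53.DistSq

variable {S : Scheme.{u}}

/-- The two-member family of an elementary distinguished square. -/
def famObj (U V : Sp S) : ULift.{u} Bool → Sp S
  | ⟨true⟩ => U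
  | ⟨false⟩ => V

/-- The two-member family of an elementary distinguished square. -/
def famHom {U V X : Sp S} (j : U ⟶ X) (f : V ⟶ X) : ∀ b, famObj U V b ⟶ X
  | ⟨true⟩ => j
  | ⟨false⟩ => f

theorem isEtaleMor_of_repWith_etale {F G : Sp S} (j : F ⟶ G) (hj : RepWith @Etale j) :
    IsEtaleMor j := by
  intro T φ hφ
  have hmul : (RepWith (S := S) @Etale).IsMultiplicative := repWith_isMultiplicative _
  exact (RepWith (S := S) @Etale).comp_mem _ _ hφ hj

/-- The members of an elementary distinguished square cover the points. -/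
theorem exists_mem_range_of_isElemDistSq {U V X : Sp S} (j : U ⟶ X) (f : V ⟶ X)
    (hsq : IsElemDistSq j f) (x : Points X) :
    x ∈ Set.range (Points.map j) ∨ x ∈ Set.range (Points.map f) := by
  obtain ⟨-, -, T, P, i, p₁, p₂, hi, sq, hiso⟩ := hsq
  by_cases hx : x ∈ Set.range (Points.map j)
  · exact Or.inl hx
  · right
    have hx' : x ∈ Set.range (Points.map i) := by
      rw [hi.2.1]
      exact hx
    obtain ⟨t, rfl⟩ := hx'
    refine ⟨Points.map p₂ (Points.map (inv p₁) t), ?_⟩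
    rw [← Points.map_comp, ← sq.w, ← Points.map_comp, IsIso.inv_hom_id_assoc]

theorem isFpqcCover_of_isElemDistSq {U V X : Sp S} (hU : IsAlgSpace U) (hV : IsAlgSpace V)
    (hX : IsAlgSpace X) (j : U ⟶ X) (f : V ⟶ X)
    (hsq : IsElemDistSq j f) : IsFpqcCover (famObj U V) (famHom j f) := by
  have hA : ∀ b, IsAlgSpace (famObj U V b) := by
    rintro ⟨_ | _⟩
    · exact hV
    · exact hU
  have hje : IsEtaleMor j := isEtaleMor_of_repWith_etale j
    (Groth.Agent.H53.repWith_of_le (fun _ _ φ hφ => by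
      have : IsOpenImmersion φ := hφ; infer_instance) hsq.1)
  have het : ∀ b, IsEtaleMor (famHom j f b) := by
    rintro ⟨_ | _⟩
    · exact hsq.2.1
    · exact hje
  refine Groth.Agent.S10505.result (S := S) ⟨X, hX⟩ (fun b => ⟨famObj U V b, hA b⟩)
    (fun b => ObjectProperty.homMk (famHom j f b)) ⟨fun b => ⟨?_, ?_⟩, fun x => ?_⟩
  · exact Groth.Agent.Lib.Helper54.locP_mono (fun _ _ φ hφ => by
      have : Etale φ := hφ; infer_instance)
      (Groth.Agent.Lib.Helper54.locP_etale_of_isEtaleMor (het b))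
  · exact Groth.Agent.Lib.Helper54.locP_mono (fun _ _ φ hφ => by
      have : Etale φ := hφ; infer_instance)
      (Groth.Agent.Lib.Helper54.locP_etale_of_isEtaleMor (het b))
  · rcases exists_mem_range_of_isElemDistSq j f hsq x with h | h
    · exact ⟨⟨true⟩, h⟩
    · exact ⟨⟨false⟩, h⟩

/-- Separatedness from an elementary distinguished square. -/
theorem main {U V X Y PX PY QX QY : Sp S} (hUa : IsAlgSpace U) (hVa : IsAlgSpace V)
    (hXa : IsAlgSpace X) (hYa : IsAlgSpace Y) (g : X ⟶ Y)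
    (j : U ⟶ X) (f : V ⟶ X) (hsq : IsElemDistSq j f)
    (hU : IsSeparatedMor (j ≫ g))
    (pX : PX ⟶ U) (qX : PX ⟶ V) (hPX : IsPullback pX qX j f)
    (pY : PY ⟶ U) (qY : PY ⟶ V) (hPY : IsPullback pY qY (j ≫ g) (f ≫ g))
    (c : PX ⟶ PY) (hc₁ : c ≫ pY = pX) (hc₂ : c ≫ qY = qX) (hcl : IsClosedMor c)
    (rX₁ rX₂ : QX ⟶ V) (hQX : IsPullback rX₁ rX₂ f f)
    (rY₁ rY₂ : QY ⟶ V) (hQY : IsPullback rY₁ rY₂ (f ≫ g) (f ≫ g))
    (d : QX ⟶ QY) (hd₁ : d ≫ rY₁ = rX₁) (hd₂ : d ≫ rY₂ = rX₂)
    (hdcl : RepWith @IsClosedImmersion d) : IsSeparatedMor g := by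
  have hA : ∀ b, IsAlgSpace (famObj U V b) := by
    rintro ⟨_ | _⟩
    · exact hVa
    · exact hUa
  have hcci : RepWith @IsClosedImmersion c :=
    repWith_isClosedImmersion_of_isPreimmersion c
      (repWith_isPreimmersion_comparison g j f hsq.1 hU hPX hPY c hc₁ hc₂) hcl
  have hjm : Mono j := Groth.Agent.H52.mono_of_repWith j @IsOpenImmersion (fun A B φ hφ => by
    have : IsOpenImmersion φ := hφ
    infer_instance) hsq.1
  refine isSeparatedMor_of_fpqc_cover hXa hYa g (famObj U V) (famHom j f) hA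
    (isFpqcCover_of_isElemDistSq hUa hVa hXa j f hsq) ?_
  rintro ⟨_ | _⟩ ⟨_ | _⟩
  · exact repWith_map_of_iso g f f hQX hQY d hd₁ hd₂ hdcl
  · exact repWith_map_of_iso g f j hPX.flip hPY.flip c hc₂ hc₁ hcci
  · exact repWith_map_of_iso g j f hPX hPY c hc₁ hc₂ hcci
  · exact repWith_map_of_iso g j j (IsKernelPair.id_of_mono j)
      (IsPullback.of_hasPullback (j ≫ g) (j ≫ g)) (pullback.diagonal (j ≫ g)) (by simp) (by simp) hU

end Groth.Agent.H53.DistSq
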