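import Groth.Agent.H53.Proper2

/-!
# Integral and finite morphisms of algebraic spaces (helper53)
-/

set_option autoImplicit false
universe u
open CategoryTheory CategoryTheory.Limits AlgebraicGeometry Opposite Topology

namespace Groth.Agent.H53
open AlgSp

variable {S : Scheme.{u}}

/-- If one pullback of `f` along `g` is `h_i` with `Q i`, every pullback projection is
representable with `Q`. -/
theorem repWith_snd_of_isPullback_yon (Q : MorphismProperty Scheme.{u}) [Q.IsStableUnderBaseChange]
    {X Y : Sp S} {f : X ⟶ Y} {Z W : Over S} {g : (yon S).obj Z ⟶ Y} {i : W ⟶ Z}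
    {fst' : (yon S).obj W ⟶ X} (sq' : IsPullback fst' ((yon S).map i) f g) (hi : Q i.left)
    {P : Sp S} {p₁ : P ⟶ X} {p₂ : P ⟶ (yon S).obj Z} (sq : IsPullback p₁ p₂ f g) :
    RepWith Q p₂ := by
  have : Q.RespectsIso := MorphismProperty.IsStableUnderBaseChange.respectsIso
  have he : (sq.isoIsPullback _ _ sq').hom ≫ (yon S).map i = p₂ := sq.isoIsPullback_hom_snd _ _ sq'
  rw [← he]
  exact (MorphismProperty.cancel_left_of_respectsIso (RepWith (S := S) Q) _ _).2
    ((repWith_yon_map_iff Q i).2 hi)

/-- A morphism of schemes whose associated morphism of sheaves is universally closed is universally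
closed. -/
theorem universallyClosed_of_isUnivClosedMor {T T' : Over S} (i : T ⟶ T')
    (h : IsUnivClosedMor ((yon S).map i)) : UniversallyClosed i.left := by
  have := H52.repWith_universally_of_univSp (Q₀ := @IsClosedMap) IsClosedMor
    (fun φ hφ => H52.isClosedMap_left_of_points φ hφ) ((yon S).map i) (representable_yon_map i) h
  exact ⟨(repWith_yon_map_iff _ i).1 this⟩

/-- A morphism of schemes which is universally closed gives a universally closed morphism of
sheaves. -/
theorem isUnivClosedMor_of_repWith_universallyClosed {X Y : Sp S} (f : X ⟶ Y)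
    (hf : RepWith @UniversallyClosed f) : IsUnivClosedMor f := by
  intro Z Z' _ g fst snd sq
  have : RepWith @UniversallyClosed snd := MorphismProperty.of_isPullback sq hf
  exact H52.isClosedMap_points_of_repWith snd @UniversallyClosed
    (fun _ _ φ hφ => by have := hφ; exact φ.isClosedMap) this

/-- Integral morphisms are affine and universally closed, and conversely. -/
theorem isIntegralMor_iff {X Y : Sp S} (f : X ⟶ Y) :
    IsIntegralMor f ↔ IsAffineMor f ∧ IsUnivClosedMor f := by
  constructor
  · intro hf
    refine ⟨fun Z hZ g => ?_, ?_⟩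
    · obtain ⟨W, i, fst, sq, hW, -⟩ := hf hZ g
      exact ⟨W, i, fst, sq, hW⟩
    · refine H52.univSp_of_affine IsClosedMor
        (fun hZ snd h => H52.isClosedMap_points_of_affine_charts hZ snd h) f
        (fun Z hZ g Q p₁ p₂ sq => ?_)
      obtain ⟨W, i, fst, sq', hW, hint⟩ := hf hZ g
      have h1 : RepWith @IsIntegralHom p₂ := repWith_snd_of_isPullback_yon _ sq' hint sq
      exact H52.isClosedMap_points_of_repWith p₂ @IsIntegralHom
        (fun _ _ φ hφ => by have := hφ; exact φ.isClosedMap) h1
  · rintro ⟨haff, huc⟩ Z hZ g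
    obtain ⟨W, i, fst, sq, hW⟩ := haff hZ g
    refine ⟨W, i, fst, sq, hW, ?_⟩
    have h1 : UniversallyClosed i.left :=
      universallyClosed_of_isUnivClosedMor i (univSp_of_isPullback _ sq huc)
    have : IsAffine W.left := hW
    have : IsAffine Z.left := hZ
    exact IsIntegralHom.iff_universallyClosed_and_isAffineHom.2 ⟨h1, inferInstance⟩

end Groth.Agent.H53
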