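import Groth.Agent.H53.CodimQF2
import Groth.Agent.H53.SpTop

set_option autoImplicit false
set_option backward.isDefEq.respectTransparency false
universe u
open CategoryTheory CategoryTheory.Limits AlgebraicGeometry Opposite Topology
open AlgSp

namespace Groth.Agent.H53.CodimQF

variable {S : Scheme.{u}}

/-- Quasi-finiteness at a point does not depend on the chart diagram. -/
theorem quasiFiniteAt_of_hasAtMor {X Y : Sp S} (f : X ⟶ Y) (hf : LocP @LocallyOfFiniteType f)
    {U V : Over S} (a : (yon S).obj U ⟶ X) (b : (yon S).obj V ⟶ Y) (h : U ⟶ V)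
    (ha : RepWith @Etale a) (hb : RepWith @Etale b) (comm : a ≫ f = (yon S).map h ≫ b)
    (u : ↥U.left) (hx : HasAtMor QF f (Points.ofPt a u)) : h.left.QuasiFiniteAt u := by
  obtain ⟨U₂, V₂, a₂, b₂, h₂, u₂, ha₂, hb₂, comm₂, hpt, hQ⟩ := hx
  have hlft : LocallyOfFiniteType h.left := hf a b h ha hb comm
  have hlft₂ : LocallyOfFiniteType h₂.left := hf a₂ b₂ h₂ ha₂ hb₂ comm₂
  have hq₂ : h₂.left.QuasiFiniteAt u₂ := (qf_iff_quasiFiniteAt h₂.left u₂).1 hQ
  obtain ⟨U₃, p₁, p₂, sqU, hp₁⟩ := exists_pullback_charts a a₂ ha₂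
  have hp₂ : Etale p₂.left := ha.property a₂ _ _ sqU
  obtain ⟨V₃, q₁, q₂, sqV, hq₁⟩ := exists_pullback_charts b b₂ hb₂
  have hq₂' : Etale q₂.left := hb.property b₂ _ _ sqV
  have hcompat : (yon S).map (p₁ ≫ h) ≫ b = (yon S).map (p₂ ≫ h₂) ≫ b₂ := by
    rw [Functor.map_comp, Functor.map_comp, Category.assoc, Category.assoc, ← comm, ← comm₂,
      ← Category.assoc, ← Category.assoc, sqU.w]
  obtain ⟨h₃, hh₃⟩ := (yon S).map_surjective (sqV.lift _ _ hcompat)
  have e1 : h₃ ≫ q₁ = p₁ ≫ h := by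
    apply (yon S).map_injective
    rw [Functor.map_comp, hh₃, sqV.lift_fst]
  have e2 : h₃ ≫ q₂ = p₂ ≫ h₂ := by
    apply (yon S).map_injective
    rw [Functor.map_comp, hh₃, sqV.lift_snd]
  obtain ⟨u₃, hu1, hu2⟩ := exists_point_of_isPullback_yon sqU u u₂ hpt.symm
  have e1' : h₃.left ≫ q₁.left = p₁.left ≫ h.left := by
    rw [← Over.comp_left, ← Over.comp_left, e1]
  have e2' : h₃.left ≫ q₂.left = p₂.left ≫ h₂.left := by
    rw [← Over.comp_left, ← Over.comp_left, e2]
  have hlqf₁ : LocallyQuasiFinite q₁.left := locallyQuasiFinite_of_etale q₁.left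
  have hlqf₂ : LocallyQuasiFinite q₂.left := locallyQuasiFinite_of_etale q₂.left
  -- transfer
  have s1 : (p₂.left ≫ h₂.left).QuasiFiniteAt u₃ :=
    (quasiFiniteAt_comp_etale_iff p₂.left h₂.left u₃).2 (by rw [hu2]; exact hq₂)
  rw [← e2', Scheme.Hom.quasiFiniteAt_comp_iff] at s1
  have s2 : (h₃.left ≫ q₁.left).QuasiFiniteAt u₃ := Scheme.Hom.quasiFiniteAt_comp_iff.2 s1
  rw [e1'] at s2
  have s3 := (quasiFiniteAt_comp_etale_iff p₁.left h.left u₃).1 s2
  rwa [hu1] at s3

/-- The key chart square through a point of the fibre over `y`. -/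
theorem exists_chart_through {X Y : Sp S} (hX : IsAlgSpace X) (f : X ⟶ Y)
    (hf : LocP @LocallyOfFiniteType f) {V : Over S} (b : (yon S).obj V ⟶ Y)
    (hb : RepWith @Etale b) (v : ↥V.left) (x : Points X) (hx : Points.map f x = Points.ofPt b v) :
    ∃ (U : Over S) (a : (yon S).obj U ⟶ X) (h : U ⟶ V) (u : ↥U.left), RepWith @Etale a ∧
      a ≫ f = (yon S).map h ≫ b ∧ Points.ofPt a u = x ∧ h.left u = v ∧
      LocallyOfFiniteType h.left := by
  obtain ⟨U₀, a₀, ha₀e, ha₀s⟩ := hX.atlas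
  obtain ⟨u₀, rfl⟩ := surjective_ofPt_of_surjective a₀ ha₀s x
  obtain ⟨U₁, a₁, k, ha₁, sq, hrep⟩ := Lib.Helper54.exists_chart_square f a₀ ha₀e b hb
  obtain ⟨u₁, hu1, hu2⟩ := exists_point_of_isPullback_yon sq u₀ v (by rw [← hx]; rfl)
  have comm : ((yon S).map a₁ ≫ a₀) ≫ f = (yon S).map k ≫ b := by
    rw [Category.assoc]; exact sq.w
  refine ⟨U₁, (yon S).map a₁ ≫ a₀, k, u₁, hrep, comm, ?_, hu2, hf _ b k hrep hb comm⟩
  rw [ofPt_yon_map_comp, hu1]

/-- Points over a codimension 0 point `y`: codimension 0 versus quasi-finiteness. -/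
theorem codim_zero_fibre {X Y : Sp S} (hX : IsAlgSpace X) (f : X ⟶ Y)
    (hf : LocP @LocallyOfFiniteType f) (y : Points Y)
    (hy : HasAt (fun U u => ringKrullDim ↥(U.presheaf.stalk u) = 0) Y y) :
    ((∀ x : Points X, Points.map f x = y →
        HasAt (fun U u => ringKrullDim ↥(U.presheaf.stalk u) = 0) X x) ↔
      (∀ x : Points X, Points.map f x = y → HasAtMor QF f x)) ∧
    ((∀ x : Points X, Points.map f x = y →
        HasAt (fun U u => ringKrullDim ↥(U.presheaf.stalk u) = 0) X x → HasAtMor QF f x) →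
      ∀ x : Points X, Points.map f x = y →
        HasAt (fun U u => ringKrullDim ↥(U.presheaf.stalk u) = 0) X x) := by
  obtain ⟨V, b, v, hbe, rfl, hdim⟩ := hy
  -- points of a chart over `v` map to points of `X` over `y`
  have hover : ∀ {U : Over S} (a : (yon S).obj U ⟶ X) (h : U ⟶ V)
      (_ : a ≫ f = (yon S).map h ≫ b) (u' : ↥U.left), h.left u' = v →
      Points.map f (Points.ofPt a u') = Points.ofPt b v := by
    intro U a h comm u' hu'
    rw [Points.map_ofPt, comm, ofPt_yon_map_comp, hu']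
  refine ⟨⟨fun H x hx => ?_, fun H x hx => ?_⟩, fun H x hx => ?_⟩
  · -- (1) ⇒ (2)
    obtain ⟨U, a, h, u, hae, comm, rfl, hu, hlft⟩ := exists_chart_through hX f hf b hbe v x hx
    have hq : h.left.QuasiFiniteAt u := by
      apply quasiFiniteAt_of_fibre_dim_zero h.left v _ u hu
      intro u' hu'
      exact stalk_dim_zero_of_hasAt a hae u' (H _ (hover a h comm u' hu'))
    exact ⟨U, V, a, b, h, u, hae, hbe, comm, rfl, (qf_iff_quasiFiniteAt h.left u).2 hq⟩
  · -- (2) ⇒ (1)
    obtain ⟨U, a, h, u, hae, comm, rfl, hu, hlft⟩ := exists_chart_through hX f hf b hbe v x hx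
    have hq : h.left.QuasiFiniteAt u :=
      quasiFiniteAt_of_hasAtMor f hf a b h hae hbe comm u (H _ hx)
    obtain ⟨W, huW, hW, -⟩ := (qf_iff_quasiFiniteAt h.left u).2 hq
    exact ⟨U, a, u, hae, rfl,
      stalk_dim_zero_of_quasiFinite_nbhd h.left u W huW hW (by rw [hu]; exact hdim)⟩
  · -- (3) ⇒ (1)
    obtain ⟨U, a, h, u, hae, comm, rfl, hu, hlft⟩ := exists_chart_through hX f hf b hbe v x hx
    obtain ⟨u', hu'u, hu'dim⟩ := exists_generalization_dim_zero U.left u
    have hu'v : h.left u' = v := by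
      have h1 : h.left u' ⤳ h.left u := hu'u.map h.left.continuous
      rw [hu] at h1
      exact (stalk_dim_zero_iff V.left v).1 hdim _ h1
    have hx' : HasAtMor QF f (Points.ofPt a u') :=
      H _ (hover a h comm u' hu'v) ⟨U, a, u', hae, rfl, hu'dim⟩
    have hq : h.left.QuasiFiniteAt u' := quasiFiniteAt_of_hasAtMor f hf a b h hae hbe comm u' hx'
    have hcl := hq.isClopen_singleton_asFiber.1
    -- `u` lies in the closure of `u'` inside the fibre
    have hu_fib : u ∈ Set.range (h.left.fiberι (h.left u')) := by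
      rw [Scheme.Hom.range_fiberι]
      simp only [Set.mem_preimage, Set.mem_singleton_iff]
      rw [hu, hu'v]
    obtain ⟨z, hz⟩ := hu_fib
    have hzs : h.left.asFiber u' ⤳ z := by
      apply (h.left.fiberι (h.left u')).isEmbedding.toIsInducing.specializes_iff.1
      rw [Scheme.Hom.fiberι_asFiber, hz]
      exact hu'u
    have hzeq : z = h.left.asFiber u' := by
      have := hzs.mem_closed hcl rfl
      exact this
    have : u = u' := by rw [← hz, hzeq, Scheme.Hom.fiberι_asFiber]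
    subst this
    exact ⟨U, a, u, hae, rfl, hu'dim⟩

end Groth.Agent.H53.CodimQF
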