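import Groth.Agent.H53.Integral
import Groth.Agent.H52.Diag

/-!
# Finite morphisms of algebraic spaces are the affine proper ones (helper53)
-/

set_option autoImplicit false
universe u
open CategoryTheory CategoryTheory.Limits AlgebraicGeometry Opposite Topology

namespace Groth.Agent.H53
open AlgSp

variable {S : Scheme.{u}}

/-- A morphism representable by separated morphisms is separated. -/
theorem isSeparatedMor_of_repWith_isSeparated {X Y : Sp S} (f : X ⟶ Y)
    (hf : RepWith @IsSeparated f) : IsSeparatedMor f := by
  refine H52.repWith_diagonal_of_forall_base_change @IsClosedImmersion f fun U y => ?_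
  have hr := hf.rep
  refine ⟨_, hr.fst y, (yon S).map (hr.snd y), hr.isPullback y, ?_⟩
  exact (isSeparatedMor_yon_map_iff _).2 (hf.property_snd y)

/-- A morphism representable by proper morphisms is proper. -/
theorem isProperMor_of_repWith_isProper {X Y : Sp S} (f : X ⟶ Y) (hf : RepWith @IsProper f) :
    IsProperMor f := by
  refine ⟨isSeparatedMor_of_repWith_isSeparated f (repWith_of_le ?_ hf), ⟨?_, ?_⟩, ?_⟩
  · intro A B φ hφ
    have := hφ
    infer_instance
  · refine H52.locP_of_repWith f @LocallyOfFiniteType
      (fun _ _ φ hφ => by have := hφ; infer_instance) (repWith_of_le ?_ hf)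
    intro A B φ hφ
    have := hφ
    infer_instance
  · refine H52.isQuasiCompactMor_of_repWith_quasiCompact f (repWith_of_le ?_ hf)
    intro A B φ hφ
    have := hφ
    infer_instance
  · refine isUnivClosedMor_of_repWith_universallyClosed f (repWith_of_le ?_ hf)
    intro A B φ hφ
    have := hφ
    infer_instance

/-- Finite morphisms of algebraic spaces are exactly the affine proper ones. -/
theorem isFiniteMor_iff {X Y : Sp S} (hX : IsAlgSpace X) (hY : IsAlgSpace Y) (f : X ⟶ Y) :
    IsFiniteMor f ↔ IsAffineMor f ∧ IsProperMor f := by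
  constructor
  · intro hf
    refine ⟨fun Z hZ g => ?_, ?_⟩
    · obtain ⟨W, i, fst, sq, hW, -⟩ := hf hZ g
      exact ⟨W, i, fst, sq, hW⟩
    · refine isProperMor_of_forall_affine hX hY f fun Z hZ g Q p₁ p₂ sq => ?_
      obtain ⟨W, i, fst, sq', hW, hfin⟩ := hf hZ g
      have h1 : RepWith @IsFinite p₂ := repWith_snd_of_isPullback_yon _ sq' hfin sq
      refine isProperMor_of_repWith_isProper p₂ (repWith_of_le ?_ h1)
      intro A B φ hφ
      have := hφ
      infer_instance
  · rintro ⟨haff, hprop⟩ Z hZ g
    obtain ⟨W, i, fst, sq, hW⟩ := haff hZ g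
    refine ⟨W, i, fst, sq, hW, ?_⟩
    have h1 : UniversallyClosed i.left :=
      universallyClosed_of_isUnivClosedMor i (univSp_of_isPullback _ sq hprop.2.2)
    have : IsAffine W.left := hW
    have : IsAffine Z.left := hZ
    have h2 : IsIntegralHom i.left :=
      IsIntegralHom.iff_universallyClosed_and_isAffineHom.2 ⟨h1, inferInstance⟩
    have h3 : LocP @LocallyOfFiniteType ((yon S).map i) :=
      locP_snd_of_yon locPCalc_locallyOfFiniteType hX hY hprop.2.1.1 g sq
    have h4 : LocallyOfFiniteType i.left := locP_yon_map h3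
    exact (IsFinite.iff_isIntegralHom_and_locallyOfFiniteType _).2 ⟨h2, h4⟩

end Groth.Agent.H53
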