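import Groth.Agent.H53.ZarGlueAff

set_option autoImplicit false
set_option backward.isDefEq.respectTransparency false
universe u
open CategoryTheory CategoryTheory.Limits AlgebraicGeometry Opposite

namespace Groth.Agent.H53.ZarGlue

open AlgSp Groth.Agent.Lib.Helper51

variable {S : Scheme.{u}}

/-- A Zariski-local-at-the-target property that holds for the representing base changes to affine schemes holds for
every representing base change. -/
theorem prop_of_affine_local (P : MorphismProperty Scheme.{u}) [IsZariskiLocalAtTarget P]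
    {F G : Sp S} {φ : F ⟶ G}
    (hφ : ∀ ⦃Z : Over S⦄, IsAffine Z.left → ∀ (g : (yon S).obj Z ⟶ G),
      ∃ (W : Over S) (i : W ⟶ Z) (fst : (yon S).obj W ⟶ F),
        IsPullback fst ((yon S).map i) φ g ∧ P i.left)
    {U V : Over S} (g : (yon S).obj U ⟶ G) (fst : (yon S).obj V ⟶ F) (snd : V ⟶ U)
    (sq : IsPullback fst ((yon S).map snd) φ g) : P snd.left := by
  rw [IsZariskiLocalAtTarget.iff_of_iSup_eq_top (P := P) (fun U₀ : U.left.affineOpens => U₀.1)
    (iSup_affineOpens_eq_top _)]
  intro U₀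
  have hU₀' : IsAffine (ov U U₀.1).left := U₀.2
  obtain ⟨W, i, fstW, sqW, hW⟩ := hφ hU₀' ((yon S).map (ovι U U₀.1) ≫ g)
  let e : (yon S).obj W ≅ (yon S).obj (ov V (snd.left ⁻¹ᵁ U₀.1)) :=
    sqW.isoIsPullback _ _ (isPullback_restrict sq U₀.1)
  have he : e.hom ≫ (yon S).map (ovRestrict snd U₀.1) = (yon S).map i :=
    sqW.isoIsPullback_hom_snd _ _ (isPullback_restrict sq U₀.1)
  let e' : W ≅ ov V (snd.left ⁻¹ᵁ U₀.1) := (yon S).preimageIso e
  have he' : e'.hom ≫ ovRestrict snd U₀.1 = i := by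
    apply (yon S).map_injective
    rw [Functor.map_comp, Functor.preimageIso_hom, Functor.map_preimage, he]
  have he'' : ((Over.forget S).mapIso e').hom ≫ (snd.left ∣_ U₀.1) = i.left := by
    rw [← he']
    rfl
  rw [← he''] at hW
  exact (P.cancel_left_of_respectsIso _ _).1 hW

theorem repWith_of_affine_local (P : MorphismProperty Scheme.{u}) [IsZariskiLocalAtTarget P]
    {F G : Sp S} {φ : F ⟶ G}
    (hφ : ∀ ⦃Z : Over S⦄, IsAffine Z.left → ∀ (g : (yon S).obj Z ⟶ G),
      ∃ (W : Over S) (i : W ⟶ Z) (fst : (yon S).obj W ⟶ F),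
        IsPullback fst ((yon S).map i) φ g ∧ P i.left) : RepWith P φ :=
  ⟨representable_of_affine_local fun Z hZ g => by
      obtain ⟨W, i, fst, sq, -⟩ := hφ hZ g
      exact ⟨W, i, fst, sq⟩,
    fun _ _ g fst snd sq => prop_of_affine_local P hφ g fst snd sq⟩

theorem isIntegralMor_iff_repWith {F G : Sp S} (φ : F ⟶ G) :
    IsIntegralMor φ ↔ RepWith @IsIntegralHom φ := by
  constructor
  · intro h
    exact repWith_of_affine_local @IsIntegralHom fun Z hZ g => by
      obtain ⟨W, i, fst, sq, -, hi⟩ := h hZ g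
      exact ⟨W, i, fst, sq, hi⟩
  · intro h Z hZ g
    have hi : IsIntegralHom (h.rep.snd g).left := h.property_snd g
    exact ⟨h.rep.pullback g, h.rep.snd g, h.rep.fst g, h.rep.isPullback g,
      isAffine_of_isAffineHom (h.rep.snd g).left, hi⟩

theorem isFiniteMor_iff_repWith {F G : Sp S} (φ : F ⟶ G) :
    IsFiniteMor φ ↔ RepWith @IsFinite φ := by
  constructor
  · intro h
    exact repWith_of_affine_local @IsFinite fun Z hZ g => by
      obtain ⟨W, i, fst, sq, -, hi⟩ := h hZ g
      exact ⟨W, i, fst, sq, hi⟩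
  · intro h Z hZ g
    have hi : IsFinite (h.rep.snd g).left := h.property_snd g
    exact ⟨h.rep.pullback g, h.rep.snd g, h.rep.fst g, h.rep.isPullback g,
      isAffine_of_isAffineHom (h.rep.snd g).left, hi⟩

end Groth.Agent.H53.ZarGlue
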