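import Groth.Agent.H53.FiniteComp
import Groth.Prelude.Def_AlgSpMor5

/-!
# Composition of integral morphisms, relative normalization (helper53)
-/

set_option autoImplicit false
universe u
open CategoryTheory CategoryTheory.Limits AlgebraicGeometry Opposite Topology

namespace Groth.Agent.H53
open AlgSp

variable {S : Scheme.{u}}

/-- An affine morphism is separated. -/
theorem isSeparatedMor_of_isAffineMor {X Y : Sp S} (hX : IsAlgSpace X) (f : X ⟶ Y)
    (hf : IsAffineMor f) : IsSeparatedMor f := by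
  refine H52.repWith_diagonal_of_affine_base_change @IsClosedImmersion hX f
    (fun Z hZ g Q p₁ p₂ sq => ?_)
  obtain ⟨W, i, fst, sq', hW⟩ := hf hZ g
  have : IsAffine W.left := hW
  have : IsAffine Z.left := hZ
  have h1 : RepWith @IsSeparated p₂ :=
    repWith_snd_of_isPullback_yon @IsSeparated sq' (inferInstance : IsSeparated i.left) sq
  exact isSeparatedMor_of_repWith_isSeparated p₂ h1

theorem isAffineMor_of_isIntegralMor {X Y : Sp S} (f : X ⟶ Y) (hf : IsIntegralMor f) :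
    IsAffineMor f := fun Z hZ g => by
  obtain ⟨W, i, fst, sq, hW, -⟩ := hf hZ g
  exact ⟨W, i, fst, sq, hW⟩

/-- Composition of integral morphisms. -/
theorem isIntegralMor_comp {X Y Z : Sp S} (f : X ⟶ Y) (g : Y ⟶ Z) (hf : IsIntegralMor f)
    (hg : IsIntegralMor g) : IsIntegralMor (f ≫ g) := by
  intro T hT y
  obtain ⟨W, i, fst, sq, hW, hi⟩ := hg hT y
  obtain ⟨W', i', fst', sq', hW', hi'⟩ := hf hW fst
  refine ⟨W', i' ≫ i, fst', ?_, hW', ?_⟩
  · have := sq'.paste_vert sq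
    rwa [← Functor.map_comp] at this
  · rw [Over.comp_left]
    infer_instance

/-- If `h ≫ π` and `π` are integral then `h` is integral. -/
theorem isIntegralMor_of_comp {X' Z X : Sp S} (hZ : IsAlgSpace Z) (h : X' ⟶ Z) (π : Z ⟶ X)
    (hπ : IsIntegralMor π) (hν : IsIntegralMor (h ≫ π)) : IsIntegralMor h := by
  have hsep : IsSeparatedMor π := isSeparatedMor_of_isAffineMor hZ π (isAffineMor_of_isIntegralMor π hπ)
  intro T hT y
  obtain ⟨W, i, fstW, sq, hW, hi⟩ := hν hT (y ≫ π)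
  obtain ⟨W', c, fst', sq', hc⟩ := exists_closedImmersion_of_comp_separated h π hsep y i fstW sq
  have : IsAffine W.left := hW
  refine ⟨W', c ≫ i, fst', sq', isAffine_of_isAffineHom c.left, ?_⟩
  rw [Over.comp_left]
  infer_instance

/-- The normalization of `X` in `Y` induces the normalization of any integral `Z ⟶ X` in `Y`. -/
theorem isRelNormalization_desc {Y X X' Z : Sp S} (hZ : IsAlgSpace Z) (f : Y ⟶ X) (ν : X' ⟶ X)
    (f' : Y ⟶ X') (hn : IsRelNormalization f ν f') (π : Z ⟶ X) (hπ : IsIntegralMor π) (g : Y ⟶ Z)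
    (hg : g ≫ π = f) (h : X' ⟶ Z) (h1 : f' ≫ h = g) (h2 : h ≫ π = ν) :
    IsRelNormalization g h f' := by
  obtain ⟨hfac, hνint, huniv⟩ := hn
  refine ⟨h1, isIntegralMor_of_comp hZ h π hπ (h2 ▸ hνint), ?_⟩
  intro Z' hZ' π' g' hπ' hg'
  obtain ⟨h', ⟨hh'1, hh'2⟩, hh'u⟩ := huniv hZ' (π' ≫ π) g' (isIntegralMor_comp π' π hπ' hπ)
    (by rw [← Category.assoc, hg', hg])
  obtain ⟨k, -, hku⟩ := huniv hZ π g hπ hg
  have e1 : h' ≫ π' = k := hku _ ⟨by rw [← Category.assoc, hh'1, hg'], by rw [Category.assoc, hh'2]⟩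
  have e2 : h = k := hku _ ⟨h1, h2⟩
  refine ⟨h', ⟨hh'1, e1.trans e2.symm⟩, ?_⟩
  rintro h'' ⟨hh''1, hh''2⟩
  exact hh'u h'' ⟨hh''1, by rw [← Category.assoc, hh''2, h2]⟩

end Groth.Agent.H53
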