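import Groth.Agent.H53.ZarGlueCover
import Groth.Agent.H53.LocPCalc
import Groth.Agent.H52.LocPCalc4

set_option autoImplicit false
set_option backward.isDefEq.respectTransparency false
universe u
open CategoryTheory CategoryTheory.Limits AlgebraicGeometry Opposite

namespace Groth.Agent.H53.ZarGlue

open AlgSp Groth.Agent.Lib.Helper51

variable {S : Scheme.{u}}

theorem isFinLocFreeMor_iff {F G : Sp S} (hG : IsAlgSpace G) (φ : F ⟶ G) :
    IsFinLocFreeMor φ ↔
      (IsFiniteMor φ ∧ LocP @Flat φ ∧ LocP @LocallyOfFinitePresentation φ) := by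
  constructor
  · intro h
    have h1 : RepWith @IsFinite φ := ⟨h.rep, fun _ _ g fst snd sq => (h.property g fst snd sq).1⟩
    have h2 : RepWith @Flat φ := ⟨h.rep, fun _ _ g fst snd sq => (h.property g fst snd sq).2.1⟩
    have h3 : RepWith @LocallyOfFinitePresentation φ :=
      ⟨h.rep, fun _ _ g fst snd sq => (h.property g fst snd sq).2.2⟩
    exact ⟨(isFiniteMor_iff_repWith φ).2 h1, Groth.Agent.H52.isEtLocal_flat.locP_of_repWith' φ h2,
      Groth.Agent.H52.isEtLocal_lfp.locP_of_repWith' φ h3⟩
  · rintro ⟨h1, h2, h3⟩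
    have h1' : RepWith @IsFinite φ := (isFiniteMor_iff_repWith φ).1 h1
    have h2' : RepWith @Flat φ := Groth.Agent.H52.isEtLocal_flat.repWith_of_locP hG φ h1'.rep h2
    have h3' : RepWith @LocallyOfFinitePresentation φ :=
      Groth.Agent.H52.isEtLocal_lfp.repWith_of_locP hG φ h1'.rep h3
    exact ⟨h1'.rep, fun _ _ g fst snd sq =>
      ⟨h1'.property g fst snd sq, h2'.property g fst snd sq, h3'.property g fst snd sq⟩⟩

theorem locP_lfp_of_isFiniteMor_of_isLocNoethSp {F G : Sp S} (hG : IsLocNoethSp G) (φ : F ⟶ G)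
    (h : IsFiniteMor φ) : LocP @LocallyOfFinitePresentation φ := by
  obtain ⟨V, b, hbe, hbs, hV⟩ := hG
  have h' : RepWith @IsFinite φ := (isFiniteMor_iff_repWith φ).1 h
  have sq := h'.rep.isPullback b
  have hfin : IsFinite (h'.rep.snd b).left := h'.property_snd b
  have : IsLocallyNoetherian V.left := hV
  have hlfp : LocallyOfFinitePresentation (h'.rep.snd b).left := inferInstance
  exact locP_of_chart locPCalc_locallyOfFinitePresentation φ (h'.rep.fst b) b (h'.rep.snd b)
    (MorphismProperty.of_isPullback sq.flip hbe) (MorphismProperty.of_isPullback sq.flip hbs) hbe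
    sq.w hlfp

end Groth.Agent.H53.ZarGlue
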