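import Groth.Agent.H53.ZarGlueLoc
import Groth.Agent.H53.SpTop
import Groth.Agent.Lib.Helper54.OpenSubspace

set_option autoImplicit false
set_option backward.isDefEq.respectTransparency false
universe u
open CategoryTheory CategoryTheory.Limits AlgebraicGeometry Opposite

namespace Groth.Agent.H53.ZarGlue

open AlgSp Groth.Agent.Lib.Helper51 Groth.Agent.Lib.Helper54

variable {S : Scheme.{u}}

/-- Variant of `LocallyLifts` with arbitrary open immersions instead of open subschemes. -/
theorem locallyLifts_of_openImmersion {G : Sp S} {ι : Type u} {X : ι → Over S}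
    {f : ∀ i, (yon S).obj (X i) ⟶ G}
    (h : ∀ (T : Over S) (g : (yon S).obj T ⟶ G) (t : ↥T.left),
      ∃ (i : ι) (T' : Over S) (c : T' ⟶ T) (l : T' ⟶ X i), IsOpenImmersion c.left ∧
        t ∈ Set.range c.left ∧ (yon S).map c ≫ g = (yon S).map l ≫ f i) : LocallyLifts f := by
  intro T g t
  obtain ⟨i, T', c, l, hc, htc, hl⟩ := h T g t
  let ε₀ : T'.left ≅ (c.left.opensRange : T.left.Opens).toScheme :=
    IsOpenImmersion.isoOfRangeEq c.left (c.left.opensRange).ι (by simp)
  have hε₀ : ε₀.hom ≫ (c.left.opensRange).ι = c.left :=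
    IsOpenImmersion.isoOfRangeEq_hom_fac _ _ _
  let ε : T' ≅ ov T c.left.opensRange := Over.isoMk ε₀ (by
    change ε₀.hom ≫ (c.left.opensRange).ι ≫ T.hom = T'.hom
    rw [← Category.assoc, hε₀, Over.w])
  have hε : ε.hom ≫ ovι T c.left.opensRange = c := by ext; exact hε₀
  have hε' : ε.inv ≫ c = ovι T c.left.opensRange := by
    rw [Iso.inv_comp_eq]
    exact hε.symm
  refine ⟨i, c.left.opensRange, ε.inv ≫ l, htc, ?_⟩
  rw [Functor.map_comp, Category.assoc, ← hl, ← Category.assoc, ← Functor.map_comp, hε']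

theorem isPullback_of_mono_factor {C : Type*} [Category C] {T A B : C} (a : T ⟶ B) (b : T ⟶ A)
    (m : A ⟶ B) [Mono m] (h : b ≫ m = a) : IsPullback (𝟙 T) b a m := by
  refine ⟨⟨by rw [Category.id_comp, h]⟩, ⟨PullbackCone.IsLimit.mk _ (fun s => s.fst) ?_ ?_ ?_⟩⟩
  · intro s
    exact Category.comp_id _
  · intro s
    rw [← cancel_mono m, Category.assoc, h, s.condition]
  · intro s l hl _
    rw [← hl, Category.comp_id]

theorem isOpen_range_points_map_of_isOpenImmersion {F G : Sp S} (a : F ⟶ G)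
    (ha : RepWith @IsOpenImmersion a) : IsOpen (Set.range (Points.map a)) := by
  rw [← Set.image_univ]
  exact Groth.Agent.H52.isOpenMap_points_of_repWith a @IsOpenImmersion
    (fun _ _ φ hφ => by
      have : IsOpenImmersion φ := hφ
      exact φ.isOpenEmbedding.isOpenMap) ha _ isOpen_univ

/-- The set of points of `X` having an open neighbourhood which is a scheme. -/
def schematicLocus (X : Sp S) : Set (Points X) :=
  {x | ∃ (T : Over S) (a : (yon S).obj T ⟶ X), RepWith @IsOpenImmersion a ∧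
    x ∈ Set.range (Points.map a)}

theorem isOpen_schematicLocus (X : Sp S) : IsOpen (schematicLocus X) := by
  rw [isOpen_iff_forall_mem_open]
  rintro x ⟨T, a, ha, hx⟩
  exact ⟨Set.range (Points.map a), fun y hy => ⟨T, a, ha, hy⟩,
    isOpen_range_points_map_of_isOpenImmersion a ha, hx⟩


/-- The open subspace on the schematic locus is a scheme. -/
theorem exists_iso_yon_openSub_schematicLocus {X : Sp S} (hX : IsAlgSpace X) :
    ∃ (Y : Over S), Nonempty ((yon S).obj Y ≅ openSub X (schematicLocus X)) := by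
  obtain ⟨U, p, hpe, hps⟩ := hX.atlas
  let κ : Type u := {v : ↥U.left // Points.ofPt p v ∈ schematicLocus X}
  choose T a ha hmem using fun k : κ => k.2
  have hfac : ∀ k, ∃ b : (yon S).obj (T k) ⟶ openSub X (schematicLocus X),
      b ≫ openSubι X (schematicLocus X) = a k := fun k => by
    rw [exists_factor_openSubι_iff]
    intro t
    exact ⟨T k, a k, ha k, ⟨_, (Points.ofPt_eq_map_ofScheme (a k) t).symm⟩⟩
  choose b hb using hfac
  have hbo : ∀ k, RepWith @IsOpenImmersion (b k) := fun k =>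
    MorphismProperty.of_isPullback (isPullback_of_mono_factor (a k) (b k) _ (hb k)) (ha k)
  have hcov : LocallyLifts b := by
    apply locallyLifts_of_openImmersion
    intro T₀ g t
    have hx : Points.ofPt (g ≫ openSubι X (schematicLocus X)) t ∈ schematicLocus X :=
      (exists_factor_openSubι_iff (g ≫ openSubι X (schematicLocus X))).1 ⟨g, rfl⟩ t
    obtain ⟨v, hv⟩ := surjective_ofPt_of_surjective p hps
      (Points.ofPt (g ≫ openSubι X (schematicLocus X)) t)
    let k : κ := ⟨v, by rw [hv]; exact hx⟩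
    obtain ⟨xk, hxk⟩ := hmem k
    have hxk' : Points.map (a k) xk = Points.ofPt (g ≫ openSubι X (schematicLocus X)) t :=
      hxk.trans hv
    have sq := (ha k).rep.isPullback (g ≫ openSubι X (schematicLocus X))
    obtain ⟨t', -, ht'⟩ := exists_pt_of_isPullback_yon sq xk t hxk'
    refine ⟨k, (ha k).rep.pullback _, (ha k).rep.snd _, (yon S).preimage ((ha k).rep.fst _),
      (ha k).property_snd _, ⟨t', ht'⟩, ?_⟩
    apply openSubι_cancel
    rw [Category.assoc, Category.assoc, hb k, Functor.map_preimage, sq.w]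
  obtain ⟨Y, e, -⟩ := exists_iso_yon hbo hcov
  exact ⟨Y, ⟨e⟩⟩

/-- An algebraic space has a largest open subspace which is a scheme. -/
theorem exists_largest_open_subscheme {X : Sp S} (hX : IsAlgSpace X) :
    ∃ (X' : Sp S) (j : X' ⟶ X), IsAlgSpace X' ∧ RepWith @IsOpenImmersion j ∧
      X'.obj.IsRepresentable ∧
      ∀ (X'' : Sp S) (j'' : X'' ⟶ X), RepWith @IsOpenImmersion j'' → X''.obj.IsRepresentable →
        ∃ k : X'' ⟶ X', k ≫ j = j'' := by
  have hW := isOpen_schematicLocus X
  obtain ⟨Y, ⟨e⟩⟩ := exists_iso_yon_openSub_schematicLocus hX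
  refine ⟨openSub X (schematicLocus X), openSubι X (schematicLocus X),
    isAlgSpace_openSub hX _ hW, repWith_isOpenImmersion_openSubι X _ hW,
    (representableByOfIso e).isRepresentable, ?_⟩
  rintro X'' j'' hj'' ⟨⟨T'', ⟨r⟩⟩⟩
  let e'' : (yon S).obj T'' ≅ X'' := isoOfRepresentableBy r
  have ha'' : RepWith @IsOpenImmersion (e''.hom ≫ j'') :=
    MorphismProperty.RespectsIso.precomp _ _ _ hj''
  have hmem'' : ∀ t : ↥T''.left, Points.ofPt (e''.hom ≫ j'') t ∈ schematicLocus X := fun t =>
    ⟨T'', e''.hom ≫ j'', ha'', ⟨_, (Points.ofPt_eq_map_ofScheme _ t).symm⟩⟩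
  obtain ⟨k₀, hk₀⟩ := (exists_factor_openSubι_iff (e''.hom ≫ j'')).2 hmem''
  exact ⟨e''.inv ≫ k₀, by rw [Category.assoc, hk₀, Iso.inv_hom_id_assoc]⟩

end Groth.Agent.H53.ZarGlue
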