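import Groth.Agent.H53.ClosedPt2

set_option autoImplicit false
set_option backward.isDefEq.respectTransparency false
universe u
open CategoryTheory CategoryTheory.Limits AlgebraicGeometry Opposite Topology
open AlgSp

namespace Groth.Agent.H53.FibrePts

variable {S : Scheme.{u}}

theorem repWith_isFinite_of_isClosedImmersion {F G : Sp S} (g : F ⟶ G)
    (hg : RepWith @IsClosedImmersion g) : RepWith @IsFinite g :=
  ⟨hg.rep, fun _ _ a fst snd sq => by
    have : IsClosedImmersion snd.left := hg.2 a fst snd sq
    exact (inferInstance : IsFinite snd.left)⟩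

/-- A morphism from a scheme whose image point is represented by a closed immersion `m` from the
spectrum of a field factors through `m`, when the source is the spectrum of a field. -/
theorem exists_factor_of_closedImmersion {X : Sp S} (m : FieldPt X)
    (hm : RepWith @IsClosedImmersion m.toHom) {k : Type u} [Field k]
    (str : Spec (CommRingCat.of k) ⟶ S) (p : (yon S).obj (Over.mk str) ⟶ X)
    (hx : Points.ofPt p (IsLocalRing.closedPoint k) = Points.mk m) :
    ∃ c : Over.mk str ⟶ m.pt, (yon S).map c ≫ m.toHom = p := by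
  let B : Over S := hm.rep.pullback p
  let b1 : B ⟶ m.pt := hm.rep.fst' p
  let b2 : B ⟶ Over.mk str := hm.rep.snd p
  have sq : IsPullback ((yon S).map b1) ((yon S).map b2) m.toHom p := hm.rep.isPullback' p
  have hci : IsClosedImmersion b2.left := hm.property_snd p
  have hne : Nonempty ↥B.left := by
    have s0 : ↥m.pt.left := IsLocalRing.closedPoint m.K
    have hpt : Points.map p (Points.ofScheme (Over.mk str) (IsLocalRing.closedPoint k)) =
        Points.ofPt m.toHom s0 := by
      rw [← Points.ofPt_eq_map_ofScheme, hx, Points.ofPt_toHom]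
    obtain ⟨z, -, -⟩ := Groth.Agent.Lib.Helper54.exists_pt_of_isPullback_yon sq.flip _ s0 hpt
    exact ⟨z⟩
  have hsurj : Surjective b2.left :=
    Groth.Agent.H53.FieldQuot.surjective_to_spec_field (k := k) b2.left
  have hred : IsReduced (Over.mk str).left := by
    change IsReduced (Spec (CommRingCat.of k)); infer_instance
  have hiso : IsIso b2.left := AlgebraicGeometry.isIso_of_isClosedImmersion_of_surjective b2.left
  have hiso' : IsIso b2 := by
    have : IsIso ((Over.forget S).map b2) := hiso
    exact isIso_of_reflects_iso b2 (Over.forget S)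
  refine ⟨inv b2 ≫ b1, ?_⟩
  rw [Functor.map_comp, Category.assoc, sq.w, ← Category.assoc, ← Functor.map_comp,
    IsIso.inv_hom_id, CategoryTheory.Functor.map_id, Category.id_comp]

/-- S10358. -/
theorem repWith_isFinite_of_finite_point {X : Sp S} (hXalg : IsAlgSpace X) (hX : IsDecent X)
    (s : ↥S) (hs : IsClosed ({s} : Set ↥S))
    (k : Type u) [Field k] (φ : S.residueField s ⟶ CommRingCat.of k) (hφ : φ.hom.Finite)
    (p : (yon S).obj (Over.mk (Spec.map φ ≫ S.fromSpecResidueField s)) ⟶ X) :
    RepWith @IsFinite p ∧ (Function.Bijective φ.hom → RepWith @IsClosedImmersion p) := by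
  let t : ↥(Spec (CommRingCat.of k)) := IsLocalRing.closedPoint k
  have hcl := isClosed_singleton_of_integral_point hXalg hX s hs k φ hφ.to_isIntegral p t
  obtain ⟨m, hm1, hm2⟩ := exists_closedImmersion_of_isClosed hXalg hX _ hcl
  obtain ⟨c, hc⟩ := exists_factor_of_closedImmersion m hm2
    (Spec.map φ ≫ S.fromSpecResidueField s) p hm1.symm
  -- analyse `c`
  obtain ⟨γ, hγ⟩ : ∃ γ : CommRingCat.of m.K ⟶ CommRingCat.of k, Spec.map γ = c.left :=
    ⟨Spec.preimage c.left, Spec.map_preimage _⟩
  obtain ⟨⟨s', ψ⟩, hψ⟩ := (Scheme.SpecToEquivOfField m.K S).symm.surjective m.str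
  have hw : Spec.map γ ≫ m.str = Spec.map φ ≫ S.fromSpecResidueField s := by
    rw [hγ]; exact Over.w c
  have hw' : (Scheme.SpecToEquivOfField k S).symm ⟨s', ψ ≫ γ⟩ =
      (Scheme.SpecToEquivOfField k S).symm ⟨s, φ⟩ := by
    change Spec.map (ψ ≫ γ) ≫ S.fromSpecResidueField s' = Spec.map φ ≫ S.fromSpecResidueField s
    rw [Spec.map_comp, Category.assoc, ← hw, ← hψ]
    rfl
  have heq := (Scheme.SpecToEquivOfField k S).symm.injective hw'
  obtain ⟨e, he⟩ := Scheme.SpecToEquivOfField_eq_iff.1 heq
  dsimp only at e he
  have hcomp : (γ.hom.comp ψ.hom) = φ.hom.comp (S.residueFieldCongr e).hom.hom := by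
    have := congrArg CommRingCat.Hom.hom he
    simpa [CommRingCat.hom_comp] using this
  have hγfin : γ.hom.Finite := by
    apply RingHom.Finite.of_comp_finite (f := ψ.hom)
    rw [hcomp]
    refine RingHom.Finite.comp hφ ?_
    exact RingHom.Finite.of_surjective _ (ConcreteCategory.bijective_of_isIso
      (S.residueFieldCongr e).hom).2
  have hcfin : IsFinite c.left := by
    rw [← hγ]; exact (IsFinite.SpecMap_iff γ).2 hγfin
  have hm2f := repWith_isFinite_of_isClosedImmersion _ hm2
  refine ⟨?_, fun hbij => ?_⟩
  · rw [← hc]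
    exact MorphismProperty.comp_mem _ _ _ ((repWith_yon_map_iff _ _).2 hcfin) hm2f
  · have hγsurj : Function.Surjective γ.hom := by
      have h1 : Function.Surjective (γ.hom.comp ψ.hom) := by
        rw [hcomp]
        exact hbij.2.comp (ConcreteCategory.bijective_of_isIso (S.residueFieldCongr e).hom).2
      exact Function.Surjective.of_comp h1
    have hγbij : Function.Bijective γ.hom := ⟨γ.hom.injective, hγsurj⟩
    have hγiso : IsIso γ := (ConcreteCategory.isIso_iff_bijective γ).2 hγbij
    have hciso : IsIso c.left := by rw [← hγ]; infer_instance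
    have hcci : IsClosedImmersion c.left := inferInstance
    rw [← hc]
    exact MorphismProperty.comp_mem _ _ _ ((repWith_yon_map_iff _ _).2 hcci) hm2

end Groth.Agent.H53.FibrePts
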