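import Mathlib

set_option autoImplicit false
universe u
open CategoryTheory CategoryTheory.Limits AlgebraicGeometry

namespace Groth.Agent.H53.MonoDisc

/-- A monomorphism into a reduced scheme with discrete topology (a disjoint union of spectra of
fields) is an open immersion. -/
theorem isOpenImmersion_of_mono_of_discrete_reduced {F G : Scheme.{u}} (f : F ⟶ G) [Mono f]
    [DiscreteTopology G] [IsReduced G] : IsOpenImmersion f := by
  let 𝒰 : G.OpenCover := G.openCoverOfIsOpenCover
    (fun x : G ↦ ⟨{x}, isOpen_discrete _⟩) (.mk (by ext; simp))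
  rw [IsZariskiLocalAtTarget.iff_of_openCover (P := @IsOpenImmersion) 𝒰]
  intro g
  have hsub : Subsingleton ↥(𝒰.X g) := inferInstanceAs (Subsingleton ({g} : Set G))
  have hne : Nonempty ↥(𝒰.X g) := inferInstanceAs (Nonempty ({g} : Set G))
  have hred : IsReduced (𝒰.X g) := isReduced_of_isOpenImmersion (𝒰.f g)
  have hint : IsIntegral (𝒰.X g) := (isIntegral_iff_irreducibleSpace_and_isReduced _).mpr
    ⟨⟨inferInstance⟩, inferInstance⟩
  have hflat : Flat (pullback.snd f (𝒰.f g)) := inferInstance
  have hmono : Mono (pullback.snd f (𝒰.f g)) := inferInstance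
  change IsOpenImmersion (pullback.snd f (𝒰.f g))
  by_cases hP : IsEmpty ↥(pullback f (𝒰.f g))
  · infer_instance
  · rw [not_isEmpty_iff] at hP
    have hinj : Function.Injective (pullback.snd f (𝒰.f g)).base :=
      (pullback.snd f (𝒰.f g)).injective
    have hsubP : Subsingleton ↥(pullback f (𝒰.f g)) := hinj.subsingleton
    have hsurj : Surjective (pullback.snd f (𝒰.f g)) := by
      constructor
      intro v
      obtain ⟨p⟩ := hP
      exact ⟨p, Subsingleton.elim _ _⟩
    have hqc : QuasiCompact (pullback.snd f (𝒰.f g)) := inferInstance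
    have := Flat.isIso_of_surjective_of_mono (pullback.snd f (𝒰.f g))
    infer_instance

end Groth.Agent.H53.MonoDisc
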