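import Groth.Agent.H53.FieldQuotPts
import Groth.Agent.H53.MonoDisc
import Groth.Agent.H52.Points
import Groth.Agent.Lib.Helper54.Points
import Groth.Agent.Lib.Helper54.Reduced

set_option autoImplicit false
set_option backward.isDefEq.respectTransparency false
universe u
open CategoryTheory CategoryTheory.Limits AlgebraicGeometry Opposite
open AlgSp

namespace Groth.Agent.H53.FieldQuot

variable {S : Scheme.{u}}

/-- Over a quasi-separated algebraic space, every morphism from a scheme quasi-compact over the
base is representable quasi-compact. -/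
theorem repWith_quasiCompact_of_isQuasiSeparatedSp {X : Sp S} (hXalg : IsAlgSpace X)
    (hX : IsQuasiSeparatedSp X) {K : Over S} (hK : QuasiCompact K.hom)
    (m : (yon S).obj K ⟶ X) : RepWith @QuasiCompact m := by
  refine ⟨hXalg.representable_from_yon m, fun a b g fst snd sq => ?_⟩
  obtain ⟨fst0, rfl⟩ := (yon S).map_surjective fst
  have hqc : QuasiCompact (prod.lift fst0 snd).left :=
    Groth.Agent.H52.prop_prod_lift_of_repWith_diag @QuasiCompact hX m g fst0 snd sq
  have h2 : QuasiCompact (prod.snd : K ⨯ a ⟶ a).left := by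
    rw [← Over.prodLeftIsoPullback_hom_snd]
    infer_instance
  have h3 : snd = prod.lift fst0 snd ≫ prod.snd := by simp
  change QuasiCompact snd.left
  rw [h3, Over.comp_left]
  infer_instance

/-- A scheme étale over the spectrum of a field is reduced with discrete topology. -/
theorem discrete_reduced_of_etale_over_field {k : Type u} [Field k] {G : Scheme.{u}}
    (g : G ⟶ Spec (CommRingCat.of k)) [Etale g] : DiscreteTopology ↥G ∧ IsReduced G := by
  have h1 : LocallyQuasiFinite g := Groth.Agent.Lib.Helper54.locallyQuasiFinite_of_etale g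
  have h2 : IsLocallyArtinian (Spec (CommRingCat.of k)) :=
    Scheme.isLocallyArtinianScheme_Spec.mpr inferInstance
  have h3 : IsLocallyArtinian G := IsLocallyArtinian.of_locallyQuasiFinite g
  have h4 : IsReduced (Spec (CommRingCat.of k)) := inferInstance
  exact ⟨inferInstance, Groth.Agent.Lib.Helper54.isReduced_of_etale_scheme g⟩

/-- The kernel pair of the field point `Spec κ(u) ⟶ U ⟶ X` of an étale chart: it is represented by
a scheme étale over `Spec κ(u)`. -/
theorem exists_kernelPair_ofPt {X : Sp S} {U : Over S} (a : (yon S).obj U ⟶ X)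
    (hae : RepWith @Etale a) (u : ↥U.left) :
    ∃ (W : Over S) (s t : W ⟶ (FieldPt.ofPt a u).pt),
      IsPullback ((yon S).map s) ((yon S).map t) (FieldPt.ofPt a u).toHom (FieldPt.ofPt a u).toHom ∧
      Etale s.left := by
  let q := FieldPt.ofPt a u
  let iu : q.pt ⟶ U := Over.homMk (U.left.fromSpecResidueField u) rfl
  have hq : q.toHom = (yon S).map iu ≫ a := FieldPt.toHom_ofPt a u
  have sqG := hae.rep.isPullback' q.toHom
  have hg2 : Etale (hae.rep.snd q.toHom).left := hae.property_snd q.toHom
  have sqF : IsPullback (pullback.fst (hae.rep.fst' q.toHom) iu) (pullback.snd _ _)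
      (hae.rep.fst' q.toHom) iu := IsPullback.of_hasPullback _ _
  have sq1 := ((sqF.map (yon S)).flip).paste_vert sqG
  have sq : IsPullback ((yon S).map (pullback.fst (hae.rep.fst' q.toHom) iu ≫ hae.rep.snd q.toHom))
      ((yon S).map (pullback.snd (hae.rep.fst' q.toHom) iu)) q.toHom q.toHom := by
    have := sq1.flip
    rw [← hq, ← Functor.map_comp] at this
    exact this
  refine ⟨_, _, _, sq, ?_⟩
  -- étaleness
  have hmono_iu : Mono iu := by
    have : Mono iu.left := by
      change Mono (U.left.fromSpecResidueField u)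
      infer_instance
    exact Over.mono_of_mono_left iu
  have hmono1 : Mono (pullback.fst (hae.rep.fst' q.toHom) iu) := inferInstance
  have hmono2 : Mono (pullback.fst (hae.rep.fst' q.toHom) iu).left := inferInstance
  obtain ⟨hd, hr⟩ := discrete_reduced_of_etale_over_field (k := q.K) (hae.rep.snd q.toHom).left
  have hoi : IsOpenImmersion (pullback.fst (hae.rep.fst' q.toHom) iu).left :=
    Groth.Agent.H53.MonoDisc.isOpenImmersion_of_mono_of_discrete_reduced _
  rw [Over.comp_left]
  infer_instance

theorem compactSpace_prod_fieldPt {X : Sp S} (q : FieldPt X) : CompactSpace ↥(q.pt ⨯ q.pt).left := by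
  have hqcs : QuasiCompact q.pt.hom := quasiCompact_str q.str
  have hcK : CompactSpace ↥q.pt.left := by
    change CompactSpace ↥(Spec (CommRingCat.of q.K))
    infer_instance
  have h1 : CompactSpace ↥(pullback q.pt.hom q.pt.hom) := inferInstance
  exact (Over.prodLeftIsoPullback q.pt q.pt).hom.homeomorph.symm.compactSpace

/-- S10350: a quasi-separated algebraic space is decent. -/
theorem isDecent_of_isQuasiSeparatedSp {X : Sp S} (hXalg : IsAlgSpace X)
    (hX : IsQuasiSeparatedSp X) : IsDecent X := by
  intro x
  obtain ⟨U, a, hae, has⟩ := hXalg.atlas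
  obtain ⟨w, hw⟩ := Groth.Agent.H52.surjective_points_of_repWith_surjective a has x
  obtain ⟨u, hu⟩ := Groth.Agent.Lib.Helper54.exists_ofScheme_eq U w
  have hx : Points.ofPt a u = x := by rw [Points.ofPt_eq_map_ofScheme, hu, hw]
  obtain ⟨W, s, t, sq, hset⟩ := exists_kernelPair_ofPt a hae u
  have hqc : QuasiCompact (prod.lift s t).left :=
    Groth.Agent.H52.prop_prod_lift_of_repWith_diag @QuasiCompact hX _ _ s t sq
  have h2 := compactSpace_prod_fieldPt (FieldPt.ofPt a u)
  have hcW : CompactSpace ↥W.left :=
    QuasiCompact.compactSpace_of_compactSpace (prod.lift s t).left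
  have hfin : IsFinite s.left := isFinite_of_etale_of_compact (k := (FieldPt.ofPt a u).K) s.left
  obtain ⟨k', fk', str', c, m, -, hmono, hm⟩ :=
    exists_mono_of_kernelPair (FieldPt.ofPt a u).str s t _ sq
  refine ⟨fieldPtOfHom str' m, ?_, ?_, ?_⟩
  · rw [← hx]
    exact points_mk_eq_of_factor _ (FieldPt.ofPt a u) c (by rw [fieldPtOfHom_toHom]; exact hm)
  · rw [fieldPtOfHom_toHom]; exact hmono
  · rw [fieldPtOfHom_toHom]
    exact repWith_quasiCompact_of_isQuasiSeparatedSp hXalg hX (quasiCompact_str str') m

end Groth.Agent.H53.FieldQuot
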