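import Groth.Agent.H53.FibreHomeo
import Groth.Agent.H53.QSDecent
import Groth.Agent.H53.ClosedPt3
import Groth.Agent.H52.OpenSub
import Groth.Agent.H52.LocP
import Groth.Agent.Lib.Helper54.OpenSubspace

set_option autoImplicit false
set_option backward.isDefEq.respectTransparency false
universe u
open CategoryTheory CategoryTheory.Limits AlgebraicGeometry Opposite Topology
open AlgSp

namespace Groth.Agent.H53.Residual

variable {S : Scheme.{u}}

set_option backward.isDefEq.respectTransparency.types false in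
/-- Sections of the target of an epimorphism of fppf sheaves lift along flat, locally finitely
presented maps from affine schemes covering any given point. -/
theorem exists_flat_affine_lift_of_epi {F G : Sp S} (e : F ⟶ G) [Epi e] {T : Over S}
    (y : (yon S).obj T ⟶ G) (t : ↥T.left) :
    ∃ (W : Over S) (g : W ⟶ T) (l : (yon S).obj W ⟶ F), IsAffine W.left ∧ Flat g.left ∧
      LocallyOfFinitePresentation g.left ∧ t ∈ Set.range g.left ∧ l ≫ e = (yon S).map g ≫ y := by
  have : Sheaf.IsLocallySurjective e := (Sheaf.isLocallySurjective_iff_epi e).2 inferInstance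
  have hR := Presheaf.imageSieve_mem (AlgSp.J S) e.hom ((AlgSp.J S).uliftYonedaEquiv y)
  rw [GrothendieckTopology.mem_over_iff] at hR
  have := Groth.Agent.Lib.Helper54.isMultiplicative_flat_inf_lfp.{u}
  obtain ⟨𝒰, h𝒰⟩ := Scheme.mem_grothendieckTopology_iff.1 hR
  obtain ⟨v, hv⟩ := 𝒰.covers t
  have hmem := h𝒰 _ _ (Presieve.ofArrows.mk (𝒰.idx t))
  rw [Sieve.overEquiv_iff] at hmem
  have hP := 𝒰.map_prop (𝒰.idx t)
  obtain ⟨_, ⟨A0, hA, rfl⟩, hvA, -⟩ :=
    ((𝒰.X (𝒰.idx t)).isBasis_affineOpens).exists_subset_of_mem_open (Set.mem_univ v) isOpen_univ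
  let A : (𝒰.X (𝒰.idx t)).Opens := A0
  let W0 : Over S := Over.mk (𝒰.f (𝒰.idx t) ≫ T.hom)
  let g0 : W0 ⟶ T := Over.homMk (𝒰.f (𝒰.idx t)) rfl
  let W : Over S := Over.mk (A.ι ≫ 𝒰.f (𝒰.idx t) ≫ T.hom)
  let ιA : W ⟶ W0 := Over.homMk A.ι rfl
  have hmem' := (Presheaf.imageSieve e.hom ((AlgSp.J S).uliftYonedaEquiv y)).downward_closed hmem ιA
  obtain ⟨t', ht'⟩ := hmem'
  have hfl : Flat (𝒰.f (𝒰.idx t)) := hP.1
  have hlfp : LocallyOfFinitePresentation (𝒰.f (𝒰.idx t)) := hP.2
  refine ⟨W, ιA ≫ g0, (AlgSp.J S).uliftYonedaEquiv.symm t', hA, ?_, ?_, ?_, ?_⟩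
  · change Flat (A.ι ≫ 𝒰.f (𝒰.idx t)); infer_instance
  · change LocallyOfFinitePresentation (A.ι ≫ 𝒰.f (𝒰.idx t)); infer_instance
  · refine ⟨⟨v, hvA⟩, ?_⟩
    change (A.ι ≫ 𝒰.f (𝒰.idx t)) ⟨v, hvA⟩ = t
    rw [Scheme.Hom.comp_apply]
    exact hv
  · apply (AlgSp.J S).uliftYonedaEquiv.injective
    rw [GrothendieckTopology.uliftYonedaEquiv_comp, Equiv.apply_symm_apply,
      ← GrothendieckTopology.uliftYonedaEquiv_naturality]
    exact ht'


/-- Finite flat affine families lifting a section over an affine scheme along an epimorphism. -/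
theorem exists_flat_affine_lifts_of_epi {F G : Sp S} (e : F ⟶ G) [Epi e] {T : Over S}
    (hT : IsAffine T.left) (y : (yon S).obj T ⟶ G) :
    ∃ (m : ℕ) (W : Fin m → Over S) (c : ∀ j, W j ⟶ T) (l : ∀ j, (yon S).obj (W j) ⟶ F),
      (∀ j, IsAffine (W j).left) ∧ (∀ j, Flat (c j).left) ∧
      (∀ t : ↥T.left, ∃ j, t ∈ Set.range (c j).left) ∧ ∀ j, l j ≫ e = (yon S).map (c j) ≫ y := by
  have key := fun t => exists_flat_affine_lift_of_epi e y t
  choose W c l h1 h2 h3 h4 h5 using key
  have : CompactSpace ↥T.left := by have := hT; infer_instance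
  have hopen : ∀ v, IsOpen (Set.range (c v).left) := fun v => by
    have := h2 v
    have := h3 v
    exact (c v).left.isOpenMap.isOpen_range
  obtain ⟨t, ht⟩ := CompactSpace.elim_nhds_subcover (fun v => Set.range (c v).left)
    (fun v => (hopen v).mem_nhds (h4 v))
  let e' := t.equivFin
  refine ⟨t.card, fun j => W (e'.symm j), fun j => c (e'.symm j), fun j => l (e'.symm j),
    fun j => h1 _, fun j => h2 _, ?_, fun j => h5 _⟩
  intro a
  have : a ∈ ⋃ v ∈ t, Set.range (c v).left := by rw [ht]; trivial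
  simp only [Set.mem_iUnion] at this
  obtain ⟨v, hv, hav⟩ := this
  refine ⟨e' ⟨v, hv⟩, ?_⟩
  change a ∈ Set.range (c (e'.symm (e' ⟨v, hv⟩) : ↥T.left)).left
  rw [Equiv.symm_apply_apply]
  exact hav

/-- An epimorphism from a representable sheaf whose kernel pair is a scheme étale over the source
is representable by étale morphisms. -/
theorem repWith_etale_of_epi_of_kernelPair {G : Sp S} {P : Over S} (π : (yon S).obj P ⟶ G) [Epi π]
    (hrep : Representable π) {W : Over S} (s t : W ⟶ P)
    (sq : IsPullback ((yon S).map s) ((yon S).map t) π π) (hs : Etale s.left) :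
    RepWith @Etale π := by
  refine Groth.Agent.Lib.Helper54.repWith_of_fpqc_local @Etale π hrep ?_
  intro T hT y
  obtain ⟨m, W', c, l, haff, hflat, hsurj, hl⟩ := exists_flat_affine_lifts_of_epi π hT y
  refine ⟨m, W', c, haff, hflat, hsurj, fun j => ?_⟩
  obtain ⟨l', hl'⟩ := (yon S).map_surjective (l j)
  have sqL := (IsPullback.of_hasPullback s l').map (yon S)
  have big := sqL.paste_horiz sq.flip
  rw [hl', hl j] at big
  refine ⟨_, _, _, big, ?_⟩
  rw [repWith_yon_map_iff]
  have sqO := (IsPullback.of_hasPullback s l').map (Over.forget S)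
  exact MorphismProperty.of_isPullback (P := @Etale) sqO hs


/-- The image of a field point whose kernel pair is a scheme étale over the field is a residual
space. -/
theorem residualSpace_of_kernelPair {X : Sp S} (hX : IsAlgSpace X) (q : FieldPt X) {W : Over S}
    (s t : W ⟶ q.pt) (sqK : IsPullback ((yon S).map s) ((yon S).map t) q.toHom q.toHom)
    (hs : Etale s.left) :
    ∃ (Z : Sp S) (ι : Z ⟶ X), IsAlgSpace Z ∧ Mono ι ∧ Set.range (Points.map ι) = {Points.mk q} ∧
      ∃ (k : Type u) (_ : Field k) (str : Spec (CommRingCat.of k) ⟶ S)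
        (p : (yon S).obj (Over.mk str) ⟶ Z),
        LocP @LocallyOfFinitePresentation p ∧ LocP @Flat p ∧ IsSurjectiveMor p := by
  have hπι : Sheaf.toImage q.toHom ≫ Sheaf.imageι q.toHom = q.toHom := Sheaf.toImage_ι _
  have hrep : Representable (Sheaf.toImage q.toHom) := fun T g => by
    obtain ⟨V, snd, fst, sq⟩ := hX.representable_from_yon q.toHom (g ≫ Sheaf.imageι q.toHom)
    exact ⟨V, snd, fst, Groth.Agent.H53.isPullback_of_comp_mono (Sheaf.imageι q.toHom)
      (by rwa [hπι])⟩
  have sqπ : IsPullback ((yon S).map s) ((yon S).map t) (Sheaf.toImage q.toHom)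
      (Sheaf.toImage q.toHom) :=
    Groth.Agent.H53.isPullback_of_comp_mono (Sheaf.imageι q.toHom) (by rw [hπι]; exact sqK)
  have het : RepWith @Etale (Sheaf.toImage q.toHom) :=
    repWith_etale_of_epi_of_kernelPair _ hrep s t sqπ hs
  have hsurj : RepWith @Surjective (Sheaf.toImage q.toHom) :=
    Groth.Agent.H52.repWith_surjective_of_epi _ hrep
  have hZ : IsAlgSpace (Sheaf.image q.toHom) :=
    ⟨Groth.Agent.H52.representable_diag_of_mono (Sheaf.imageι q.toHom) hX.diag, q.pt,
      Sheaf.toImage q.toHom, het, hsurj⟩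
  have hsp := Groth.Agent.H52.surjective_points_of_repWith_surjective _ hsurj
  refine ⟨_, Sheaf.imageι q.toHom, hZ, inferInstance, ?_, q.K, inferInstance, q.str,
    Sheaf.toImage q.toHom, ?_, ?_, hsp⟩
  · ext y
    simp only [Set.mem_range, Set.mem_singleton_iff]
    constructor
    · rintro ⟨z, rfl⟩
      obtain ⟨w, rfl⟩ := hsp z
      rw [← Points.map_comp, hπι, Groth.Agent.H53.FibrePts.points_map_toHom_eq]
    · rintro rfl
      have hne : Nonempty ↥(Spec (CommRingCat.of q.K)) := inferInstance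
      obtain ⟨w⟩ : Nonempty (Points ((yon S).obj q.pt)) :=
        ⟨Points.ofScheme q.pt hne.some⟩
      refine ⟨Points.map (Sheaf.toImage q.toHom) w, ?_⟩
      rw [← Points.map_comp, hπι, Groth.Agent.H53.FibrePts.points_map_toHom_eq]
  · refine Groth.Agent.H52.locP_of_repWith _ @LocallyOfFinitePresentation
      (fun A B φ hφ => inferInstance) ⟨het.rep, fun T V g fst snd sq => ?_⟩
    have : Etale snd.left := het.property _ _ _ sq
    change LocallyOfFinitePresentation snd.left
    infer_instance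
  · refine Groth.Agent.H52.locP_of_repWith _ @Flat
      (fun A B φ hφ => inferInstance) ⟨het.rep, fun T V g fst snd sq => ?_⟩
    have : Etale snd.left := het.property _ _ _ sq
    change Flat snd.left
    infer_instance

/-- Existence of the residual space at a point of an algebraic space. -/
theorem exists_residualSpace {X : Sp S} (hX : IsAlgSpace X) (x : Points X) :
    ∃ (Z : Sp S) (ι : Z ⟶ X), IsAlgSpace Z ∧ Mono ι ∧ Set.range (Points.map ι) = {x} ∧
      ∃ (k : Type u) (_ : Field k) (str : Spec (CommRingCat.of k) ⟶ S)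
        (p : (yon S).obj (Over.mk str) ⟶ Z),
        LocP @LocallyOfFinitePresentation p ∧ LocP @Flat p ∧ IsSurjectiveMor p := by
  obtain ⟨U, a, u, hU, hae, hu⟩ := Groth.Agent.H53.FibrePts.exists_affine_chart hX x
  obtain ⟨W, s, t, sqK, hs⟩ := Groth.Agent.H53.FieldQuot.exists_kernelPair_ofPt a hae u
  have := residualSpace_of_kernelPair hX (FieldPt.ofPt a u) s t sqK hs
  have hqx : Points.mk (FieldPt.ofPt a u) = x := hu
  rwa [hqx] at this

end Groth.Agent.H53.Residual
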