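import Groth.Agent.H53.FieldQuotQC

set_option autoImplicit false
set_option backward.isDefEq.respectTransparency false
universe u
open CategoryTheory CategoryTheory.Limits AlgebraicGeometry Opposite
open AlgSp

namespace Groth.Agent.H53.FibrePts

variable {S : Scheme.{u}}

theorem ofPt_yon_map {U V : Over S} (d : V ⟶ U) (v : ↥V.left) :
    Points.ofPt ((yon S).map d) v = Points.ofScheme U (d.left v) := by
  rw [← Points.ofScheme_toScheme U (Points.ofPt ((yon S).map d) v), Points.toScheme_ofPt]

theorem ofPt_yon_map_comp {X : Sp S} {U V : Over S} (d : V ⟶ U) (φ : (yon S).obj U ⟶ X) (v : ↥V.left) :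
    Points.ofPt ((yon S).map d ≫ φ) v = Points.ofPt φ (d.left v) := by
  rw [← Points.map_ofPt, ofPt_yon_map, ← Points.ofPt_eq_map_ofScheme]

/-- The points of the fibre product `Spec K ×_X U` map onto the fibre of `|U| → |X|`. -/
theorem range_eq_fibre {X : Sp S} (p : FieldPt X) {U T : Over S} (φ : (yon S).obj U ⟶ X)
    (c : T ⟶ p.pt) (d : T ⟶ U) (sq : IsPullback ((yon S).map c) ((yon S).map d) p.toHom φ) :
    Set.range d.left = Points.ofPt φ ⁻¹' {Points.mk p} := by
  ext u
  simp only [Set.mem_range, Set.mem_preimage, Set.mem_singleton_iff]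
  constructor
  · rintro ⟨v, rfl⟩
    rw [← ofPt_yon_map_comp, ← sq.w]
    exact Groth.Agent.H53.FieldQuot.points_ofPt_comp_toHom p c v
  · intro h
    have s0 : ↥p.pt.left := IsLocalRing.closedPoint p.K
    have h' : Points.map φ (Points.ofScheme U u) = Points.ofPt p.toHom s0 := by
      rw [← Points.ofPt_eq_map_ofScheme, h]; exact (Points.ofPt_toHom p s0).symm
    obtain ⟨v, hv, -⟩ := Groth.Agent.Lib.Helper54.exists_pt_of_isPullback_yon sq.flip _ s0 h'
    refine ⟨v, ?_⟩
    rw [ofPt_yon_map] at hv
    have := congrArg (Points.toScheme U) hv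
    rwa [Points.toScheme_ofScheme, Points.toScheme_ofScheme] at this

/-- If `Spec K ⟶ X` is a monomorphism, the fibre product `Spec K ×_X U ⟶ U` is injective. -/
theorem injective_of_mono {X : Sp S} (p : FieldPt X) [Mono p.toHom] {U T : Over S}
    (φ : (yon S).obj U ⟶ X) (c : T ⟶ p.pt) (d : T ⟶ U)
    (sq : IsPullback ((yon S).map c) ((yon S).map d) p.toHom φ) : Function.Injective d.left := by
  have h1 : Mono ((yon S).map d) :=
    MorphismProperty.of_isPullback (P := MorphismProperty.monomorphisms (Sp S)) sq
      (MorphismProperty.monomorphisms.infer_property p.toHom)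
  have h2 : Mono d := (yon S).mono_of_mono_map h1
  have h3 : Mono d.left := inferInstance
  exact d.left.injective

theorem etale_fst {X : Sp S} (p : FieldPt X) {U T : Over S} (φ : (yon S).obj U ⟶ X)
    (hφ : RepWith @Etale φ) (c : T ⟶ p.pt) (d : T ⟶ U)
    (sq : IsPullback ((yon S).map c) ((yon S).map d) p.toHom φ) : Etale c.left :=
  hφ.2 _ _ _ sq.flip

theorem isFinite_iff_finite {k : Type u} [Field k] {W : Scheme.{u}}
    (f : W ⟶ Spec (CommRingCat.of k)) [Etale f] : IsFinite f ↔ Finite ↥W := by
  have hd := (Groth.Agent.H53.FieldQuot.discrete_reduced_of_etale_over_field f).1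
  constructor
  · intro h
    have : IsAffine W := isAffine_of_isAffineHom f
    exact finite_of_compact_of_discrete
  · intro h
    have : CompactSpace ↥W := Finite.compactSpace
    exact Groth.Agent.H53.FieldQuot.isFinite_of_etale_of_compact f

/-- `Spec K ×_X U` is finite over `Spec K` iff the fibre of `|U| → |X|` is finite, when `Spec K ⟶ X`
is a monomorphism and `U ⟶ X` is étale. -/
theorem isFinite_iff_fibre_finite {X : Sp S} (p : FieldPt X) [Mono p.toHom] {U T : Over S}
    (φ : (yon S).obj U ⟶ X) (hφ : RepWith @Etale φ) (c : T ⟶ p.pt) (d : T ⟶ U)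
    (sq : IsPullback ((yon S).map c) ((yon S).map d) p.toHom φ) :
    IsFinite c.left ↔ (Points.ofPt φ ⁻¹' {Points.mk p}).Finite := by
  have he : Etale c.left := etale_fst p φ hφ c d sq
  have h1 := isFinite_iff_finite (k := p.K) c.left
  rw [h1, ← range_eq_fibre p φ c d sq]
  constructor
  · intro h; exact Set.finite_range _
  · intro h
    have : Finite (Set.range d.left) := h
    exact Finite.of_injective (Set.rangeFactorization d.left)
      (fun a b hab => injective_of_mono p φ c d sq (congrArg Subtype.val hab))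

/-- Without the monomorphism hypothesis: finiteness of `Spec K ×_X U` implies finiteness of the
fibre. -/
theorem fibre_finite_of_isFinite {X : Sp S} (p : FieldPt X) {U T : Over S}
    (φ : (yon S).obj U ⟶ X) (hφ : RepWith @Etale φ) (c : T ⟶ p.pt) (d : T ⟶ U)
    (sq : IsPullback ((yon S).map c) ((yon S).map d) p.toHom φ) (h : IsFinite c.left) :
    (Points.ofPt φ ⁻¹' {Points.mk p}).Finite := by
  have he : Etale c.left := etale_fst p φ hφ c d sq
  have h1 := (isFinite_iff_finite (k := p.K) c.left).1 h
  rw [← range_eq_fibre p φ c d sq]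
  exact Set.finite_range _

/-- The fibre product of `Spec K` with `R = U ×_X U` over `X` is `T ×_{Spec K} T` for
`T = Spec K ×_X U`. -/
theorem exists_pullback_kernelPair {X : Sp S} (p : FieldPt X) {U T R : Over S}
    (φ : (yon S).obj U ⟶ X) (c : T ⟶ p.pt) (d : T ⟶ U)
    (sq : IsPullback ((yon S).map c) ((yon S).map d) p.toHom φ) (s t : R ⟶ U)
    (sqR : IsPullback ((yon S).map t) ((yon S).map s) φ φ) :
    ∃ (TT : Over S) (cc : TT ⟶ p.pt) (dd : TT ⟶ R),
      IsPullback ((yon S).map cc) ((yon S).map dd) p.toHom ((yon S).map t ≫ φ) ∧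
      (IsFinite c.left → IsFinite cc.left) := by
  have A0 : IsPullback (pullback.fst c c) (pullback.snd c c) c c := IsPullback.of_hasPullback _ _
  have A : IsPullback ((yon S).map (pullback.fst c c)) ((yon S).map (pullback.snd c c))
      ((yon S).map c) ((yon S).map c) := A0.map (yon S)
  have hw : (yon S).map (pullback.fst c c ≫ d) ≫ φ = (yon S).map (pullback.snd c c ≫ d) ≫ φ := by
    rw [Functor.map_comp, Functor.map_comp, Category.assoc, Category.assoc, ← sq.w,
      ← Category.assoc, ← Category.assoc, A.w]
  obtain ⟨r, hr⟩ := (yon S).map_surjective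
    (sqR.lift ((yon S).map (pullback.fst c c ≫ d)) ((yon S).map (pullback.snd c c ≫ d)) hw)
  have hr1 : (yon S).map r ≫ (yon S).map t = (yon S).map (pullback.fst c c) ≫ (yon S).map d := by
    rw [hr, sqR.lift_fst, Functor.map_comp]
  have hr2 : (yon S).map r ≫ (yon S).map s = (yon S).map (pullback.snd c c) ≫ (yon S).map d := by
    rw [hr, sqR.lift_snd, Functor.map_comp]
  -- outer rectangle
  have outer : IsPullback ((yon S).map r ≫ (yon S).map s) ((yon S).map (pullback.fst c c)) φ
      ((yon S).map d ≫ φ) := by
    rw [hr2, ← sq.w]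
    exact A.flip.paste_horiz sq.flip
  have L : IsPullback ((yon S).map r) ((yon S).map (pullback.fst c c)) ((yon S).map t)
      ((yon S).map d) := IsPullback.of_right outer hr1 sqR.flip
  have big := (L.paste_vert sq.flip).flip
  refine ⟨pullback c c, pullback.fst c c ≫ c, r, ?_, ?_⟩
  · rw [Functor.map_comp]; exact big
  · intro hc
    have A1 : IsPullback (pullback.fst c c).left (pullback.snd c c).left c.left c.left :=
      A0.map (Over.forget S)
    have h1 : IsFinite (pullback.fst c c).left := MorphismProperty.of_isPullback A1.flip hc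
    change IsFinite ((pullback.fst c c).left ≫ c.left)
    infer_instance

end Groth.Agent.H53.FibrePts
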