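import Groth.Prelude.Def_AlgSpMor5
import Mathlib.AlgebraicGeometry.Morphisms.ClosedImmersion

/-!
# Valuative squares: base change and composition (helper53)
-/

set_option autoImplicit false
universe u
open CategoryTheory CategoryTheory.Limits AlgebraicGeometry Opposite

namespace Groth.Agent.H53
open AlgSp

variable {S : Scheme.{u}}

theorem spec_comm_sq {A K A' K' : Type u} [CommRing A] [CommRing K] [CommRing A'] [CommRing K']
    (a : A →+* K) (φ : A →+* A') (ψ : K →+* K') (a' : A' →+* K') (h : a'.comp φ = ψ.comp a) :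
    Spec.map (CommRingCat.ofHom a') ≫ Spec.map (CommRingCat.ofHom φ) =
      Spec.map (CommRingCat.ofHom ψ) ≫ Spec.map (CommRingCat.ofHom a) := by
  rw [← Spec.map_comp, ← Spec.map_comp, ← CommRingCat.ofHom_comp, ← CommRingCat.ofHom_comp, h]

/-- Push a valuative square forward along a commutative square of sheaves. -/
noncomputable abbrev pushValSq {F G F' G' : Sp S} {f' : F' ⟶ G'} (sq : ValSq f') {f : F ⟶ G}
    (a : F' ⟶ F) (b : G' ⟶ G) (w : a ≫ f = f' ≫ b) : ValSq f where
  A := sq.A
  K := sq.K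
  str := sq.str
  top := sq.top ≫ a
  bot := sq.bot ≫ b
  comm := by rw [Category.assoc, w, ← Category.assoc, sq.comm, Category.assoc]

/-- Transport a dominating extension of a pushed square back to the original square. -/
noncomputable abbrev pullDomExt {F G F' G' : Sp S} {f' : F' ⟶ G'} (sq : ValSq f') {f : F ⟶ G}
    (a : F' ⟶ F) (b : G' ⟶ G) (w : a ≫ f = f' ≫ b) (e : (pushValSq sq a b w).DomExt) :
    sq.DomExt where
  A' := e.A'
  K' := e.K'
  φ := e.φ
  ψ := e.ψ
  comm := e.comm
  isLocalHom := e.isLocalHom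

theorem existVC_of_isPullback {F G F' G' : Sp S} {f : F ⟶ G} {g : G' ⟶ G} {fst : F' ⟶ F}
    {f' : F' ⟶ G'} (pb : IsPullback fst f' f g) (hf : ExistVC f) : ExistVC f' := by
  intro sq'
  obtain ⟨e, l, hl1, hl2⟩ := hf (pushValSq sq' fst g pb.w)
  refine ⟨pullDomExt sq' fst g pb.w e, pb.lift l (_ ≫ sq'.bot) hl2, ?_, ?_⟩
  · apply pb.hom_ext
    · rw [Category.assoc, pb.lift_fst, Category.assoc]
      exact hl1
    · rw [Category.assoc, pb.lift_snd, Category.assoc, sq'.comm, ← Category.assoc, ← Category.assoc]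
      refine congrArg (· ≫ sq'.bot) ?_
      refine ((yon S).map_comp _ _).symm.trans (Eq.trans (congrArg (yon S).map ?_) ((yon S).map_comp _ _))
      apply Over.OverMorphism.ext
      exact spec_comm_sq _ _ _ _ e.comm
  · exact pb.lift_snd _ _ _

theorem uniqVC_of_isPullback {F G F' G' : Sp S} {f : F ⟶ G} {g : G' ⟶ G} {fst : F' ⟶ F}
    {f' : F' ⟶ G'} (pb : IsPullback fst f' f g) (hf : UniqVC f) : UniqVC f' := by
  intro sq' l l' h1 h2 h1' h2'
  apply pb.hom_ext
  · refine hf (pushValSq sq' fst g pb.w) (l ≫ fst) (l' ≫ fst) ?_ ?_ ?_ ?_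
    · rw [← Category.assoc]; exact congrArg (· ≫ fst) h1
    · rw [Category.assoc, pb.w, ← Category.assoc]; exact congrArg (· ≫ g) h2
    · rw [← Category.assoc]; exact congrArg (· ≫ fst) h1'
    · rw [Category.assoc, pb.w, ← Category.assoc]; exact congrArg (· ≫ g) h2'
  · rw [h2, h2']

/-- The valuative square for `g` induced by a valuative square for `f ≫ g`. -/
noncomputable abbrev compValSq {F G H : Sp S} {f : F ⟶ G} {g : G ⟶ H} (sq : ValSq (f ≫ g)) :
    ValSq g where
  A := sq.A
  K := sq.K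
  str := sq.str
  top := sq.top ≫ f
  bot := sq.bot
  comm := (Category.assoc _ _ _).trans sq.comm

theorem uniqVC_comp {F G H : Sp S} (f : F ⟶ G) (g : G ⟶ H) (hf : UniqVC f) (hg : UniqVC g) :
    UniqVC (f ≫ g) := by
  intro sq l l' h1 h2 h1' h2'
  have e : l ≫ f = l' ≫ f := by
    refine hg (compValSq sq) (l ≫ f) (l' ≫ f) ?_ ?_ ?_ ?_
    · exact (Category.assoc _ _ _).symm.trans (congrArg (· ≫ f) h1)
    · exact (Category.assoc _ _ _).trans h2
    · exact (Category.assoc _ _ _).symm.trans (congrArg (· ≫ f) h1')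
    · exact (Category.assoc _ _ _).trans h2'
  let sqf : ValSq f :=
    { A := sq.A, K := sq.K, str := sq.str, top := sq.top, bot := l ≫ f
      comm := ((Category.assoc _ _ _).symm.trans (congrArg (· ≫ f) h1)).symm }
  exact hf sqf l l' h1 rfl h1' e.symm

/-- The valuative square for `f` over a lift `l₁` (along `g`) of an extended square. -/
noncomputable abbrev extValSq {F G H : Sp S} {f : F ⟶ G} {g : G ⟶ H} (sq : ValSq (f ≫ g))
    (e₁ : (compValSq sq).DomExt)
    (l₁ : (yon S).obj e₁.ptA' ⟶ G)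
    (h : (yon S).map (Over.homMk (Spec.map (CommRingCat.ofHom (algebraMap e₁.A' e₁.K'))) rfl :
        e₁.ptK' ⟶ e₁.ptA') ≫ l₁ =
      (yon S).map (Over.homMk (Spec.map (CommRingCat.ofHom e₁.ψ)) (by
          change Spec.map _ ≫ Spec.map _ ≫ _ = Spec.map _ ≫ Spec.map _ ≫ _
          rw [← Spec.map_comp_assoc, ← Spec.map_comp_assoc, ← CommRingCat.ofHom_comp,
            ← CommRingCat.ofHom_comp, e₁.comm]) :
        e₁.ptK' ⟶ (compValSq sq).ptK) ≫ sq.top ≫ f) :
    ValSq f where
  A := e₁.A'
  K := e₁.K'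
  str := Spec.map (CommRingCat.ofHom e₁.φ) ≫ sq.str
  top := (yon S).map (Over.homMk (Spec.map (CommRingCat.ofHom e₁.ψ)) (by
          change Spec.map _ ≫ Spec.map _ ≫ _ = Spec.map _ ≫ Spec.map _ ≫ _
          rw [← Spec.map_comp_assoc, ← Spec.map_comp_assoc, ← CommRingCat.ofHom_comp,
            ← CommRingCat.ofHom_comp, e₁.comm]) :
        e₁.ptK' ⟶ (compValSq sq).ptK) ≫ sq.top
  bot := l₁
  comm := (Category.assoc _ _ _).trans h.symm

theorem existVC_comp {F G H : Sp S} (f : F ⟶ G) (g : G ⟶ H) (hf : ExistVC f) (hg : ExistVC g) :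
    ExistVC (f ≫ g) := by
  intro sq
  obtain ⟨e₁, l₁, h1a, h1b⟩ := hg (compValSq sq)
  obtain ⟨e₂, l₂, h2a, h2b⟩ := hf (extValSq sq e₁ l₁ h1a)
  let e : sq.DomExt :=
    { A' := e₂.A', K' := e₂.K', φ := e₂.φ.comp e₁.φ, ψ := e₂.ψ.comp e₁.ψ
      comm := by
        have c1 := e₁.comm
        have c2 := e₂.comm
        rw [← RingHom.comp_assoc, c2, RingHom.comp_assoc]
        erw [c1]
        rw [RingHom.comp_assoc]
      isLocalHom := by
        have i1 := e₁.isLocalHom
        have i2 := e₂.isLocalHom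
        exact RingHom.isLocalHom_comp _ _ }
  let ι : e.ptA' ⟶ e₂.ptA' := Over.homMk (𝟙 _) (by
    change 𝟙 _ ≫ Spec.map _ ≫ Spec.map _ ≫ _ = Spec.map _ ≫ _
    rw [Category.id_comp, ← Spec.map_comp_assoc, ← CommRingCat.ofHom_comp])
  let ι' : e.ptK' ⟶ e₂.ptK' := Over.homMk (𝟙 _) (by
    change 𝟙 _ ≫ Spec.map _ ≫ Spec.map _ ≫ Spec.map _ ≫ _ = Spec.map _ ≫ Spec.map _ ≫ _
    rw [Category.id_comp, ← Spec.map_comp_assoc (CommRingCat.ofHom e₁.φ), ← CommRingCat.ofHom_comp])
  refine ⟨e, (yon S).map ι ≫ l₂, ?_, ?_⟩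
  · have step1 : (yon S).map (Over.homMk (Spec.map (CommRingCat.ofHom (algebraMap e.A' e.K'))) rfl :
          e.ptK' ⟶ e.ptA') ≫ (yon S).map ι ≫ l₂ =
        (yon S).map ι' ≫ ((yon S).map (Over.homMk
          (Spec.map (CommRingCat.ofHom (algebraMap e₂.A' e₂.K'))) rfl : e₂.ptK' ⟶ e₂.ptA') ≫ l₂) := by
      rw [← Category.assoc, ← Category.assoc, ← Functor.map_comp, ← Functor.map_comp]
      refine congrArg (· ≫ l₂) (congrArg (yon S).map (Over.OverMorphism.ext ?_))
      change Spec.map _ ≫ 𝟙 _ = 𝟙 _ ≫ Spec.map _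
      rw [Category.id_comp, Category.comp_id]
    rw [step1, h2a]
    change (yon S).map ι' ≫ (yon S).map _ ≫ (yon S).map _ ≫ sq.top = _
    rw [← Category.assoc, ← Category.assoc, ← Functor.map_comp, ← Functor.map_comp]
    refine congrArg (· ≫ sq.top) (congrArg (yon S).map (Over.OverMorphism.ext ?_))
    change (𝟙 _ ≫ Spec.map _) ≫ Spec.map _ = Spec.map _
    rw [Category.id_comp, ← Spec.map_comp, ← CommRingCat.ofHom_comp]
  · rw [← Category.assoc ((yon S).map ι ≫ l₂), Category.assoc ((yon S).map ι), h2b]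
    change ((yon S).map ι ≫ (yon S).map _ ≫ l₁) ≫ g = _
    rw [Category.assoc, Category.assoc, h1b]
    change (yon S).map ι ≫ (yon S).map _ ≫ (yon S).map _ ≫ sq.bot = _
    rw [← Category.assoc, ← Category.assoc, ← Functor.map_comp, ← Functor.map_comp]
    refine congrArg (· ≫ sq.bot) (congrArg (yon S).map (Over.OverMorphism.ext ?_))
    change (𝟙 _ ≫ Spec.map _) ≫ Spec.map _ = Spec.map _
    rw [Category.id_comp, ← Spec.map_comp, ← CommRingCat.ofHom_comp]

/-- A closed immersion into the spectrum of a domain through which the generic point factors is an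
isomorphism. -/
theorem isIso_of_isClosedImmersion_of_fractionRing_factor {A K : Type u} [CommRing A] [IsDomain A]
    [Field K] [Algebra A K] [IsFractionRing A K] {E : Scheme.{u}} (i : E ⟶ Spec (.of A))
    [IsClosedImmersion i] (k : Spec (.of K) ⟶ E)
    (hk : k ≫ i = Spec.map (CommRingCat.ofHom (algebraMap A K))) : IsIso i := by
  have hsurj : Surjective i := by
    constructor
    have hcl : IsClosed (Set.range i) := i.isClosedEmbedding.isClosed_range
    have hη : (⟨⊥, Ideal.isPrime_bot⟩ : PrimeSpectrum A) ∈ Set.range i := by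
      let p : Spec (.of K) := (⊥ : PrimeSpectrum K)
      refine ⟨k p, ?_⟩
      have : i (k p) = (k ≫ i) p := rfl
      rw [this, hk]
      apply PrimeSpectrum.ext
      change Ideal.comap (algebraMap A K) ⊥ = ⊥
      rw [← RingHom.ker_eq_comap_bot, RingHom.ker_eq_bot_iff_eq_zero]
      intro x hx
      exact (IsFractionRing.injective A K) (by rw [hx, map_zero])
    have hcl2 : closure {(⟨⊥, Ideal.isPrime_bot⟩ : PrimeSpectrum A)} ⊆ Set.range i :=
      hcl.closure_subset_iff.2 (Set.singleton_subset_iff.2 hη)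
    rw [PrimeSpectrum.closure_singleton] at hcl2
    intro x
    apply hcl2
    change x ∈ PrimeSpectrum.zeroLocus ((⊥ : Ideal A) : Set A)
    rw [PrimeSpectrum.zeroLocus_bot]
    exact Set.mem_univ _
  exact isIso_of_isClosedImmersion_of_surjective i

/-- A separated morphism satisfies the uniqueness part of the valuative criterion. -/
theorem uniqVC_of_isSeparatedMor {F G : Sp S} (f : F ⟶ G) (hf : IsSeparatedMor f) : UniqVC f := by
  intro sq l l' h1 h2 h1' h2'
  have hr : Representable (pullback.diagonal f) := hf.rep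
  let d : (yon S).obj sq.ptA ⟶ pullback f f := pullback.lift l l' (h2.trans h2'.symm)
  have pb := hr.isPullback d
  have hcl : IsClosedImmersion (hr.snd d).left := hf.property d _ _ pb
  have dfst : d ≫ pullback.fst f f = l := pullback.lift_fst _ _ _
  have dsnd : d ≫ pullback.snd f f = l' := pullback.lift_snd _ _ _
  have hw : sq.top ≫ pullback.diagonal f = (yon S).map sq.j ≫ d := by
    apply pullback.hom_ext
    · rw [Category.assoc, Category.assoc, pullback.diagonal_fst, Category.comp_id, dfst, h1]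
    · rw [Category.assoc, Category.assoc, pullback.diagonal_snd, Category.comp_id, dsnd, h1']
  obtain ⟨k, hk⟩ := (yon S).map_surjective (pb.lift sq.top ((yon S).map sq.j) hw)
  have hk2 : k ≫ hr.snd d = sq.j := by
    apply (yon S).map_injective
    rw [Functor.map_comp, hk, pb.lift_snd]
  have hiso : IsIso (hr.snd d).left :=
    isIso_of_isClosedImmersion_of_fractionRing_factor (A := sq.A) (K := sq.K) (hr.snd d).left k.left
      (by rw [← Over.comp_left, hk2]; rfl)
  have hiso' : IsIso (hr.snd d) := by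
    have : IsIso ((Over.forget S).map (hr.snd d)) := hiso
    exact isIso_of_reflects_iso (hr.snd d) (Over.forget S)
  have e1 : hr.fst d = (yon S).map (hr.snd d) ≫ l := by
    have := congrArg (· ≫ pullback.fst f f) pb.w
    simp only [Category.assoc, pullback.diagonal_fst, Category.comp_id] at this
    rw [this, dfst]
  have e2 : hr.fst d = (yon S).map (hr.snd d) ≫ l' := by
    have := congrArg (· ≫ pullback.snd f f) pb.w
    simp only [Category.assoc, pullback.diagonal_snd, Category.comp_id] at this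
    rw [this, dsnd]
  exact (cancel_epi ((yon S).map (hr.snd d))).1 (e1.symm.trans e2)

end Groth.Agent.H53
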