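import Groth.Agent.H53.LocalCharts
import Groth.Agent.H52.UnivInj
import Groth.Agent.H53.SpTop

set_option autoImplicit false
set_option backward.isDefEq.respectTransparency false
universe u
open CategoryTheory CategoryTheory.Limits AlgebraicGeometry Opposite Topology
open AlgSp

namespace Groth.Agent.H53.FibrePts

variable {S : Scheme.{u}}

/-- Every point of an algebraic space lies in an affine étale chart. -/
theorem exists_affine_chart {Y : Sp S} (hYalg : IsAlgSpace Y) (y : Points Y) :
    ∃ (V : Over S) (b : (yon S).obj V ⟶ Y) (v : ↥V.left), IsAffine V.left ∧ RepWith @Etale b ∧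
      Points.ofPt b v = y := by
  obtain ⟨U0, a, hae, has⟩ := hYalg.atlas
  obtain ⟨w, hw⟩ := Groth.Agent.H52.surjective_points_of_repWith_surjective a has y
  obtain ⟨u0, hu0⟩ := Groth.Agent.Lib.Helper54.exists_ofScheme_eq U0 w
  have hx0 : Points.ofPt a u0 = y := by rw [Points.ofPt_eq_map_ofScheme, hu0, hw]
  obtain ⟨_, ⟨W', hW, rfl⟩, hu0W, -⟩ :=
    (U0.left.isBasis_affineOpens).exists_subset_of_mem_open (Set.mem_univ u0) isOpen_univ
  let W : U0.left.Opens := W'
  refine ⟨Groth.Agent.H52.overOpen U0 W, (yon S).map (Groth.Agent.H52.overOpenι U0 W) ≫ a,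
    ⟨u0, hu0W⟩, hW, ?_, ?_⟩
  · exact MorphismProperty.comp_mem _ _ _ (Groth.Agent.H52.repWith_etale_overOpenι U0 W) hae
  · rw [ofPt_yon_map_comp]; exact hx0

/-- Compatible charts: given an étale chart `V` of `Y` through `f x`, there is an étale chart of
`X` through `x` mapping to `V`. -/
theorem exists_chart_over {X Y : Sp S} (hXalg : IsAlgSpace X) (hYalg : IsAlgSpace Y) (f : X ⟶ Y)
    {V : Over S} (b : (yon S).obj V ⟶ Y) (hb : RepWith @Etale b) (x : Points X) (v : ↥V.left)
    (hv : Points.ofPt b v = Points.map f x) :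
    ∃ (U : Over S) (a : (yon S).obj U ⟶ X) (h : U ⟶ V) (u : ↥U.left), RepWith @Etale a ∧
      a ≫ f = (yon S).map h ≫ b ∧ Points.ofPt a u = x := by
  have sqP : IsPullback (pullback.fst f b) (pullback.snd f b) f b := IsPullback.of_hasPullback _ _
  have hP : IsAlgSpace (pullback f b) :=
    Groth.Agent.H52.isAlgSpace_of_isPullback sqP hXalg hYalg (IsAlgSpace.yon_obj _)
  obtain ⟨π, hπ1, -⟩ := Groth.Agent.H52.exists_point_of_isPullback sqP x (Points.ofScheme V v)
    (by rw [← Points.ofPt_eq_map_ofScheme, hv])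
  obtain ⟨U, c, hce, hcs⟩ := hP.atlas
  obtain ⟨w, hw⟩ := Groth.Agent.H52.surjective_points_of_repWith_surjective c hcs π
  obtain ⟨u, hu⟩ := Groth.Agent.Lib.Helper54.exists_ofScheme_eq U w
  obtain ⟨h, hh⟩ := (yon S).map_surjective (c ≫ pullback.snd f b)
  refine ⟨U, c ≫ pullback.fst f b, h, u, ?_, ?_, ?_⟩
  · exact MorphismProperty.comp_mem _ _ _ hce (MorphismProperty.of_isPullback sqP.flip hb)
  · rw [hh, Category.assoc, Category.assoc, sqP.w]
  · rw [← Points.map_ofPt, Points.ofPt_eq_map_ofScheme, hu, hw, hπ1]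

end Groth.Agent.H53.FibrePts

namespace Groth.Agent.H53.FibrePts

variable {S : Scheme.{u}}

theorem points_map_toHom_eq {Y : Sp S} (r : FieldPt Y) (z : Points ((yon S).obj r.pt)) :
    Points.map r.toHom z = Points.mk r := by
  obtain ⟨s0, rfl⟩ := Groth.Agent.Lib.Helper54.exists_ofScheme_eq r.pt z
  rw [← Points.ofPt_eq_map_ofScheme, Points.ofPt_toHom]

/-- Local step for the embedding: around a point `w` of the fibre lying in an open `W`, there is an
open of `|X|` through its image whose preimage lies in `W`. -/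
theorem exists_open_preimage_subset {X Y Xk : Sp S} (hXalg : IsAlgSpace X) (hYalg : IsAlgSpace Y)
    (f : X ⟶ Y) (r : FieldPt Y) (hm : Mono r.toHom) (hq : RepWith @QuasiCompact r.toHom)
    (fst : Xk ⟶ X) (snd : Xk ⟶ (yon S).obj r.pt) (hsq : IsPullback fst snd f r.toHom)
    (W : Set (Points Xk)) (hW : IsOpen W) (w : Points Xk) (hw : w ∈ W) :
    ∃ O : Set (Points X), IsOpen O ∧ Points.map fst w ∈ O ∧ Points.map fst ⁻¹' O ⊆ W := by
  have hy : Points.map f (Points.map fst w) = Points.mk r := by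
    rw [← Points.map_comp, hsq.w, Points.map_comp, points_map_toHom_eq]
  obtain ⟨V, b, v, hV, hb, hv⟩ := exists_affine_chart hYalg (Points.mk r)
  obtain ⟨U, a, h, u, ha, hah, hu⟩ :=
    exists_chart_over hXalg hYalg f b hb (Points.map fst w) v (hv.trans hy.symm)
  -- the fibre over `V`
  have sqV : IsPullback ((yon S).map (hq.rep.fst' b)) ((yon S).map (hq.rep.snd b)) r.toHom b :=
    hq.rep.isPullback' b
  have sqR : IsPullback ((yon S).map (hb.rep.fst' b)) ((yon S).map (hb.rep.snd b)) b b :=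
    hb.rep.isPullback' b
  have hfin := ((finite_fibres_iff_exists_mono_qc hYalg (Points.mk r)).2 ⟨r, rfl, hm, hq⟩
    V b hV hb _ _ _ sqR).1
  haveI := hm
  have hj : IsPreimmersion (hq.rep.snd b).left :=
    isPreimmersion_of_finite_fibre r b hb _ _ sqV _ _ sqR hfin
  -- the fibre over `U`
  have sqU : IsPullback ((yon S).map (hq.rep.fst' (a ≫ f))) ((yon S).map (hq.rep.snd (a ≫ f)))
      r.toHom (a ≫ f) := hq.rep.isPullback' (a ≫ f)
  set TU := hq.rep.pullback (a ≫ f) with hTU
  set cU : TU ⟶ r.pt := hq.rep.fst' (a ≫ f) with hcU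
  set d : TU ⟶ U := hq.rep.snd (a ≫ f) with hd
  obtain ⟨l, hl⟩ := (yon S).map_surjective
    (sqV.lift ((yon S).map cU) ((yon S).map d ≫ (yon S).map h)
      (by rw [Category.assoc, ← hah]; exact sqU.w))
  have hl1 : (yon S).map l ≫ (yon S).map (hq.rep.fst' b) = (yon S).map cU := by
    rw [hl]; exact sqV.lift_fst _ _ _
  have hl2 : (yon S).map l ≫ (yon S).map (hq.rep.snd b) = (yon S).map d ≫ (yon S).map h := by
    rw [hl]; exact sqV.lift_snd _ _ _
  have sqL : IsPullback ((yon S).map l) ((yon S).map d) ((yon S).map (hq.rep.snd b))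
      ((yon S).map h) := by
    refine IsPullback.of_right ?_ hl2 sqV
    rw [hl1, ← hah]
    exact sqU
  have sqL' : IsPullback l d (hq.rep.snd b) h :=
    IsPullback.of_map (yon S) ((yon S).map_injective (by simpa using hl2)) sqL
  have sqLl : IsPullback l.left d.left (hq.rep.snd b).left h.left := sqL'.map (Over.forget S)
  have hdp : IsPreimmersion d.left := MorphismProperty.of_isPullback sqLl hj
  -- the étale chart `TU ⟶ Xk`
  let e : (yon S).obj TU ⟶ Xk := hsq.lift ((yon S).map d ≫ a) ((yon S).map cU)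
    (by rw [Category.assoc]; exact sqU.w.symm)
  have he1 : e ≫ fst = (yon S).map d ≫ a := hsq.lift_fst _ _ _
  have he2 : e ≫ snd = (yon S).map cU := hsq.lift_snd _ _ _
  have sqE : IsPullback ((yon S).map d) e a fst := by
    refine IsPullback.of_bot ?_ he1.symm hsq
    rw [he2]
    exact sqU.flip
  -- the point over `(u, w)`
  obtain ⟨τ, hτ1, hτ2⟩ :=
    Groth.Agent.Lib.Helper54.exists_pt_of_isPullback_yon sqE.flip w u hu.symm
  -- the open set
  have hopen : IsOpen (Points.ofPt e ⁻¹' W) := hW.preimage (Points.continuous_ofPt e)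
  obtain ⟨O2, hO2, hO2e⟩ := hdp.isEmbedding.isInducing.isOpen_iff.1 hopen
  refine ⟨Points.ofPt a '' O2, Groth.Agent.H53.isOpenMap_ofPt_of_etale a ha O2 hO2, ?_, ?_⟩
  · refine ⟨u, ?_, hu⟩
    have : τ ∈ d.left ⁻¹' O2 := by rw [hO2e]; simpa [hτ1] using hw
    simpa [hτ2] using this
  · rintro w' ⟨u', hu'O, hu'⟩
    obtain ⟨τ', hτ'1, hτ'2⟩ :=
      Groth.Agent.Lib.Helper54.exists_pt_of_isPullback_yon sqE.flip w' u' hu'.symm
    have : τ' ∈ d.left ⁻¹' O2 := by
      simp only [Set.mem_preimage]; rw [hτ'2]; exact hu'O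
    rw [hO2e] at this
    simpa [hτ'1] using this

/-- S10390. -/
theorem isEmbedding_fibre {X Y Xk : Sp S} (hXalg : IsAlgSpace X) (hYalg : IsAlgSpace Y)
    (f : X ⟶ Y) (r : FieldPt Y) (hm : Mono r.toHom) (hq : RepWith @QuasiCompact r.toHom)
    (fst : Xk ⟶ X) (snd : Xk ⟶ (yon S).obj r.pt) (hsq : IsPullback fst snd f r.toHom) :
    IsEmbedding (Points.map fst) ∧
      Set.range (Points.map fst) = Points.map f ⁻¹' {Points.mk r} := by
  refine ⟨⟨⟨?_⟩, ?_⟩, ?_⟩
  · -- induced topology
    apply le_antisymm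
    · exact (Points.continuous_map fst).le_induced
    · intro W hW
      have key := fun w (hw : w ∈ W) =>
        exists_open_preimage_subset hXalg hYalg f r hm hq fst snd hsq W hW w hw
      choose O hO1 hO2 hO3 using key
      rw [isOpen_induced_iff]
      refine ⟨⋃ w, ⋃ hw : w ∈ W, O w hw, isOpen_iUnion fun w => isOpen_iUnion fun hw => hO1 w hw, ?_⟩
      ext w
      simp only [Set.preimage_iUnion, Set.mem_iUnion, Set.mem_preimage]
      constructor
      · rintro ⟨w', hw', hmem⟩
        exact hO3 w' hw' hmem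
      · intro hw
        exact ⟨w, hw, hO2 w hw⟩
  · -- injective
    have hmono : Mono fst :=
      MorphismProperty.of_isPullback (P := MorphismProperty.monomorphisms (Sp S)) hsq.flip
        (MorphismProperty.monomorphisms.infer_property r.toHom)
    have hK : Groth.Agent.H52.KInj fst := fun K _ str a b hab => by
      change a ≫ fst = b ≫ fst at hab
      exact (cancel_mono fst).1 hab
    exact hK.injective_points
  · ext x
    simp only [Set.mem_range, Set.mem_preimage, Set.mem_singleton_iff]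
    constructor
    · rintro ⟨w, rfl⟩
      rw [← Points.map_comp, hsq.w, Points.map_comp, points_map_toHom_eq]
    · intro hx
      have s0 : ↥r.pt.left := IsLocalRing.closedPoint r.K
      obtain ⟨w, hw1, -⟩ := Groth.Agent.H52.exists_point_of_isPullback hsq x
        (Points.ofScheme r.pt s0) (by rw [hx, points_map_toHom_eq])
      exact ⟨w, hw1⟩

end Groth.Agent.H53.FibrePts
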