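import Groth.Agent.H53.FibrePts2

set_option autoImplicit false
set_option backward.isDefEq.respectTransparency false
universe u
open CategoryTheory CategoryTheory.Limits AlgebraicGeometry Opposite
open AlgSp

namespace Groth.Agent.H53.FibrePts

variable {S : Scheme.{u}}

/-- The condition "`Spec K ×_X U` is finite over `Spec K` for every affine scheme `U` étale over
`X`". -/
def FinFib {X : Sp S} (p : FieldPt X) : Prop :=
  ∀ (U : Over S) (φ : (yon S).obj U ⟶ X), IsAffine U.left → RepWith @Etale φ →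
    ∀ (T : Over S) (c : T ⟶ p.pt) (d : T ⟶ U),
      IsPullback ((yon S).map c) ((yon S).map d) p.toHom φ → IsFinite c.left

/-- local step -/
theorem exists_nhds_compact_preimage {X : Sp S} (hXalg : IsAlgSpace X) (p : FieldPt X)
    (hfin : FinFib p) {A B : Over S} (g : (yon S).obj A ⟶ X) (fst0 : B ⟶ p.pt) (snd : B ⟶ A)
    (sqB : IsPullback ((yon S).map fst0) ((yon S).map snd) p.toHom g) (v : ↥A.left) :
    ∃ O : Set ↥A.left, IsOpen O ∧ v ∈ O ∧ IsCompact (snd.left ⁻¹' O) := by
  obtain ⟨U0, a, hae, has⟩ := hXalg.atlas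
  let A' : Over S := hae.rep.pullback g
  let g' : A' ⟶ U0 := hae.rep.fst' g
  let π : A' ⟶ A := hae.rep.snd g
  have sqA : IsPullback ((yon S).map g') ((yon S).map π) a g := hae.rep.isPullback' g
  have hπs : Surjective π.left := has.property_snd g
  have hπe : Etale π.left := hae.property_snd g
  obtain ⟨v', hv'⟩ := hπs.surj v
  -- affine open nbhd of g' v'
  obtain ⟨_, ⟨U1', hU1, rfl⟩, hgU1, -⟩ :=
    (U0.left.isBasis_affineOpens).exists_subset_of_mem_open (Set.mem_univ (g'.left v')) isOpen_univ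
  let U1 : U0.left.Opens := U1'
  obtain ⟨_, ⟨N', hN, rfl⟩, hvN, hNsub⟩ :=
    (A'.left.isBasis_affineOpens).exists_subset_of_mem_open
      (show v' ∈ ((g'.left ⁻¹ᵁ U1 : A'.left.Opens) : Set ↥A'.left) from hgU1)
      (g'.left ⁻¹ᵁ U1).isOpen
  let N : A'.left.Opens := N'
  let NN : Over S := Groth.Agent.H52.overOpen A' N
  let UU : Over S := Groth.Agent.H52.overOpen U0 U1
  let ιN : NN ⟶ A' := Groth.Agent.H52.overOpenι A' N
  let ιU : UU ⟶ U0 := Groth.Agent.H52.overOpenι U0 U1
  have hrange : Set.range (N.ι ≫ g'.left) ⊆ Set.range U1.ι := by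
    rintro _ ⟨n, rfl⟩
    rw [Scheme.Opens.range_ι]
    exact hNsub n.2
  let gN0 : (N : Scheme.{u}) ⟶ (U1 : Scheme.{u}) := IsOpenImmersion.lift U1.ι (N.ι ≫ g'.left) hrange
  have hgN0 : gN0 ≫ U1.ι = N.ι ≫ g'.left := IsOpenImmersion.lift_fac _ _ _
  let gN : NN ⟶ UU := Over.homMk gN0 (by
    change gN0 ≫ U1.ι ≫ U0.hom = N.ι ≫ A'.hom
    rw [← Category.assoc, hgN0, Category.assoc, Over.w g'])
  have hgN : gN ≫ ιU = ιN ≫ g' := by
    apply Over.OverMorphism.ext
    exact hgN0
  let φ1 : (yon S).obj UU ⟶ X := (yon S).map ιU ≫ a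
  have hφ1 : RepWith @Etale φ1 :=
    MorphismProperty.comp_mem _ _ _ (Groth.Agent.H52.repWith_etale_overOpenι U0 U1) hae
  have hUUaff : IsAffine UU.left := hU1
  have hNNaff : IsAffine NN.left := hN
  have hrep : Representable p.toHom := hXalg.representable_from_yon p.toHom
  let T1 : Over S := hrep.pullback φ1
  let c1 : T1 ⟶ p.pt := hrep.fst' φ1
  let d1 : T1 ⟶ UU := hrep.snd φ1
  have sq1 : IsPullback ((yon S).map c1) ((yon S).map d1) p.toHom φ1 := hrep.isPullback' φ1
  have hc1 : IsFinite c1.left := hfin UU φ1 hUUaff hφ1 T1 c1 d1 sq1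
  have hKaff : IsAffine p.pt.left := by
    change IsAffine (Spec (CommRingCat.of p.K)); infer_instance
  have hT1aff : IsAffine T1.left := isAffine_of_isAffineHom c1.left
  -- B_N
  have sqBN0 : IsPullback (pullback.fst d1 gN) (pullback.snd d1 gN) d1 gN :=
    IsPullback.of_hasPullback _ _
  have sqBN : IsPullback ((yon S).map (pullback.fst d1 gN)) ((yon S).map (pullback.snd d1 gN))
      ((yon S).map d1) ((yon S).map gN) := sqBN0.map (yon S)
  have sqBNl : IsPullback (pullback.fst d1 gN).left (pullback.snd d1 gN).left d1.left gN.left :=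
    sqBN0.map (Over.forget S)
  have hBNaff : IsAffine (pullback d1 gN).left := by
    have : IsAffine (pullback d1.left gN.left) := inferInstance
    exact IsAffine.of_isIso sqBNl.isoPullback.hom
  have hBNc : CompactSpace ↥(pullback d1 gN).left := inferInstance
  have hbot : (yon S).map gN ≫ φ1 = (yon S).map (ιN ≫ π) ≫ g := by
    change (yon S).map gN ≫ (yon S).map ιU ≫ a = _
    rw [← Category.assoc, ← Functor.map_comp, hgN, Functor.map_comp, Category.assoc, sqA.w,
      ← Category.assoc, ← Functor.map_comp]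
  have big : IsPullback ((yon S).map (pullback.fst d1 gN ≫ c1)) ((yon S).map (pullback.snd d1 gN))
      p.toHom ((yon S).map (ιN ≫ π) ≫ g) := by
    rw [← hbot, Functor.map_comp]
    exact sqBN.paste_horiz sq1
  obtain ⟨ψ, hψ⟩ := (yon S).map_surjective
    (sqB.lift ((yon S).map (pullback.fst d1 gN ≫ c1))
      ((yon S).map (pullback.snd d1 gN) ≫ (yon S).map (ιN ≫ π))
      (by rw [Category.assoc]; exact big.w))
  have hψ1 : (yon S).map ψ ≫ (yon S).map fst0 = (yon S).map (pullback.fst d1 gN ≫ c1) := by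
    rw [hψ]; exact sqB.lift_fst _ _ _
  have hψ2 : (yon S).map ψ ≫ (yon S).map snd =
      (yon S).map (pullback.snd d1 gN) ≫ (yon S).map (ιN ≫ π) := by
    rw [hψ]; exact sqB.lift_snd _ _ _
  have sq' : IsPullback ((yon S).map ψ) ((yon S).map (pullback.snd d1 gN))
      ((yon S).map snd) ((yon S).map (ιN ≫ π)) := by
    apply IsPullback.of_right (t := sqB) _ hψ2
    rw [hψ1]
    exact big
  have hcomm : ψ ≫ snd = pullback.snd d1 gN ≫ ιN ≫ π :=
    (yon S).map_injective (by simpa using hψ2)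
  refine ⟨π.left '' (N : Set ↥A'.left), π.left.isOpenMap _ N.isOpen, ⟨v', hvN, hv'⟩, ?_⟩
  have hr : snd.left ⁻¹' (π.left '' (N : Set ↥A'.left)) = Set.range ψ.left := by
    ext b
    constructor
    · rintro ⟨n0, hn0, hn0b⟩
      obtain ⟨b', hb', -⟩ :=
        Groth.Agent.H52.exists_preimage_of_isPullback_yon sq' b (⟨n0, hn0⟩ : ↥N) hn0b.symm
      exact ⟨b', hb'⟩
    · rintro ⟨b', rfl⟩
      have := congrArg (fun φ => φ.left b') hcomm
      simp only [Over.comp_left, Scheme.Hom.comp_apply] at this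
      refine ⟨ιN.left ((pullback.snd d1 gN).left b'), ?_, this.symm⟩
      exact ((pullback.snd d1 gN).left b').2
  rw [hr]
  exact isCompact_range ψ.left.continuous

/-- (3) ⇒ (4): if `Spec K ×_X U` is finite over `Spec K` for all affine étale `U ⟶ X`, then
`Spec K ⟶ X` is quasi-compact. -/
theorem repWith_quasiCompact_of_finFib {X : Sp S} (hXalg : IsAlgSpace X) (p : FieldPt X)
    (hfin : FinFib p) : RepWith @QuasiCompact p.toHom := by
  have hrep : Representable p.toHom := hXalg.representable_from_yon p.toHom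
  refine repWith_quasiCompact_of_affine p.toHom hrep (fun A g hA => ?_)
  have sqB : IsPullback ((yon S).map (hrep.fst' g)) ((yon S).map (hrep.snd g)) p.toHom g :=
    hrep.isPullback' g
  have key := exists_nhds_compact_preimage hXalg p hfin g _ _ sqB
  choose O hO1 hO2 hO3 using key
  have : CompactSpace ↥A.left := by have := hA; infer_instance
  obtain ⟨t, ht⟩ := CompactSpace.elim_nhds_subcover O (fun v => (hO1 v).mem_nhds (hO2 v))
  constructor
  have : (Set.univ : Set ↥(hrep.pullback g).left) =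
      ⋃ v ∈ t, (hrep.snd g).left ⁻¹' O v := by
    rw [← Set.preimage_iUnion₂, ht]; rfl
  rw [this]
  exact t.isCompact_biUnion (fun v _ => hO3 v)

/-- (4) ⇒ (3). -/
theorem finFib_of_repWith_quasiCompact {X : Sp S} (p : FieldPt X)
    (hq : RepWith @QuasiCompact p.toHom) : FinFib p := by
  intro U φ hU hφ T c d sq
  have he : Etale c.left := etale_fst p φ hφ c d sq
  have hd : QuasiCompact d.left := hq.2 _ _ _ sq
  have : CompactSpace ↥U.left := by have := hU; infer_instance
  have : CompactSpace ↥T.left := QuasiCompact.compactSpace_of_compactSpace d.left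
  exact Groth.Agent.H53.FieldQuot.isFinite_of_etale_of_compact (k := p.K) c.left

end Groth.Agent.H53.FibrePts

namespace Groth.Agent.H53.FibrePts

variable {S : Scheme.{u}}

theorem repWith_etale_kernelPair_fst {X : Sp S} {U R : Over S} (φ : (yon S).obj U ⟶ X)
    (hφ : RepWith @Etale φ) (s t : R ⟶ U) (sqR : IsPullback ((yon S).map t) ((yon S).map s) φ φ) :
    RepWith @Etale ((yon S).map t ≫ φ) :=
  MorphismProperty.comp_mem _ _ _ (MorphismProperty.of_isPullback sqR.flip hφ) hφ

/-- Finite fibres of `U` and `R` over the point of a field point with finite fibre product. -/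
theorem fibres_finite_of_isFinite {X : Sp S} (p : FieldPt X) {U T R : Over S}
    (φ : (yon S).obj U ⟶ X) (hφ : RepWith @Etale φ) (c : T ⟶ p.pt) (d : T ⟶ U)
    (sq : IsPullback ((yon S).map c) ((yon S).map d) p.toHom φ) (hc : IsFinite c.left)
    (s t : R ⟶ U) (sqR : IsPullback ((yon S).map t) ((yon S).map s) φ φ) :
    (Points.ofPt φ ⁻¹' {Points.mk p}).Finite ∧
      (Points.ofPt ((yon S).map t ≫ φ) ⁻¹' {Points.mk p}).Finite := by
  refine ⟨fibre_finite_of_isFinite p φ hφ c d sq hc, ?_⟩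
  obtain ⟨TT, cc, dd, sqTT, hTT⟩ := exists_pullback_kernelPair p φ c d sq s t sqR
  exact fibre_finite_of_isFinite p _ (repWith_etale_kernelPair_fst φ hφ s t sqR) cc dd sqTT (hTT hc)

theorem finite_diag_fibre {X : Sp S} {U R : Over S} (φ : (yon S).obj U ⟶ X) (u : ↥U.left)
    (s t : R ⟶ U)
    (h : (Points.ofPt ((yon S).map t ≫ φ) ⁻¹' {Points.ofPt φ u}).Finite) :
    {r : ↥R.left | s.left r = u ∧ t.left r = u}.Finite := by
  refine h.subset ?_
  rintro r ⟨-, hr⟩
  simp only [Set.mem_preimage, Set.mem_singleton_iff]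
  rw [ofPt_yon_map_comp, hr]

/-- S10360. -/
theorem finite_fibres_iff_exists_mono_qc {X : Sp S} (hXalg : IsAlgSpace X) (x : Points X) :
    (∀ (U : Over S) (φ : (yon S).obj U ⟶ X), IsAffine U.left → RepWith @Etale φ →
        ∀ (R : Over S) (s t : R ⟶ U), IsPullback ((yon S).map t) ((yon S).map s) φ φ →
          (Points.ofPt φ ⁻¹' {x}).Finite ∧ (Points.ofPt ((yon S).map t ≫ φ) ⁻¹' {x}).Finite) ↔
      ∃ p : FieldPt X, Points.mk p = x ∧ Mono p.toHom ∧ RepWith @QuasiCompact p.toHom := by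
  constructor
  · intro H
    obtain ⟨U0, a, hae, has⟩ := hXalg.atlas
    obtain ⟨w, hw⟩ := Groth.Agent.H52.surjective_points_of_repWith_surjective a has x
    obtain ⟨u0, hu0⟩ := Groth.Agent.Lib.Helper54.exists_ofScheme_eq U0 w
    have hx0 : Points.ofPt a u0 = x := by rw [Points.ofPt_eq_map_ofScheme, hu0, hw]
    obtain ⟨_, ⟨W', hW, rfl⟩, hu0W, -⟩ :=
      (U0.left.isBasis_affineOpens).exists_subset_of_mem_open (Set.mem_univ u0) isOpen_univ
    let W : U0.left.Opens := W'
    let UU : Over S := Groth.Agent.H52.overOpen U0 W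
    let ιU : UU ⟶ U0 := Groth.Agent.H52.overOpenι U0 W
    let φ : (yon S).obj UU ⟶ X := (yon S).map ιU ≫ a
    have hφ : RepWith @Etale φ :=
      MorphismProperty.comp_mem _ _ _ (Groth.Agent.H52.repWith_etale_overOpenι U0 W) hae
    have hUUaff : IsAffine UU.left := hW
    let u : ↥UU.left := ⟨u0, hu0W⟩
    have hxu : Points.ofPt φ u = x := by
      rw [ofPt_yon_map_comp]; exact hx0
    let R : Over S := hφ.rep.pullback φ
    let t : R ⟶ UU := hφ.rep.fst' φ
    let s : R ⟶ UU := hφ.rep.snd φ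
    have sqR : IsPullback ((yon S).map t) ((yon S).map s) φ φ := hφ.rep.isPullback' φ
    have h2 := (H UU φ hUUaff hφ R s t sqR).2
    rw [← hxu] at h2
    obtain ⟨p, hp, hmono⟩ :=
      exists_mono_of_finite_fibre φ hφ u s t sqR (finite_diag_fibre φ u s t h2)
    have hpx : Points.mk p = x := hp.trans hxu
    refine ⟨p, hpx, hmono, ?_⟩
    apply repWith_quasiCompact_of_finFib hXalg p
    intro U' φ' hU' hφ' T c d sq
    haveI := hmono
    rw [isFinite_iff_fibre_finite p φ' hφ' c d sq, hpx]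
    exact (H U' φ' hU' hφ' (hφ'.rep.pullback φ') (hφ'.rep.snd φ') (hφ'.rep.fst' φ')
      (hφ'.rep.isPullback' φ')).1
  · rintro ⟨p, rfl, -, hq⟩ U φ hU hφ R s t sqR
    have sq : IsPullback ((yon S).map (hq.rep.fst' φ)) ((yon S).map (hq.rep.snd φ)) p.toHom φ :=
      hq.rep.isPullback' φ
    have hc : IsFinite (hq.rep.fst' φ).left :=
      finFib_of_repWith_quasiCompact p hq U φ hU hφ _ _ _ sq
    exact fibres_finite_of_isFinite p φ hφ _ _ sq hc s t sqR

/-- S10410. -/
theorem finite_fibres_iff_exists_mono_finite {X : Sp S} (x : Points X)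
    {U : Over S} (φ : (yon S).obj U ⟶ X) (hφ : RepWith @Etale φ) :
    (x ∈ Set.range (Points.ofPt φ) ∧ (Points.ofPt φ ⁻¹' {x}).Finite ∧
        ∀ (R : Over S) (s t : R ⟶ U), IsPullback ((yon S).map t) ((yon S).map s) φ φ →
          (Points.ofPt ((yon S).map t ≫ φ) ⁻¹' {x}).Finite) ↔
      ∃ p : FieldPt X, Points.mk p = x ∧ Mono p.toHom ∧
        ∀ (T : Over S) (c : T ⟶ p.pt) (snd : (yon S).obj T ⟶ (yon S).obj U),
          IsPullback ((yon S).map c) snd p.toHom φ → Nonempty ↥T.left ∧ IsFinite c.left := by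
  constructor
  · rintro ⟨⟨u, rfl⟩, hfinU, hfinR⟩
    let R : Over S := hφ.rep.pullback φ
    let t : R ⟶ U := hφ.rep.fst' φ
    let s : R ⟶ U := hφ.rep.snd φ
    have sqR : IsPullback ((yon S).map t) ((yon S).map s) φ φ := hφ.rep.isPullback' φ
    obtain ⟨p, hp, hmono⟩ :=
      exists_mono_of_finite_fibre φ hφ u s t sqR (finite_diag_fibre φ u s t (hfinR R s t sqR))
    refine ⟨p, hp, hmono, fun T c snd sq => ?_⟩
    obtain ⟨d, rfl⟩ := (yon S).map_surjective snd
    haveI := hmono
    constructor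
    · have hr := range_eq_fibre p φ c d sq
      have hu : u ∈ Points.ofPt φ ⁻¹' {Points.mk p} := by
        simp only [Set.mem_preimage, Set.mem_singleton_iff]; exact hp.symm
      rw [← hr] at hu
      obtain ⟨t0, -⟩ := hu
      exact ⟨t0⟩
    · rw [isFinite_iff_fibre_finite p φ hφ c d sq, hp]
      exact hfinU
  · rintro ⟨p, rfl, hmono, h⟩
    have sq : IsPullback ((yon S).map (hφ.rep.snd p.toHom)) ((yon S).map (hφ.rep.fst' p.toHom))
        p.toHom φ := (hφ.rep.isPullback' p.toHom).flip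
    obtain ⟨⟨t0⟩, hc⟩ := h _ _ _ sq
    refine ⟨⟨(hφ.rep.fst' p.toHom).left t0, ?_⟩, ?_, ?_⟩
    · have hr := range_eq_fibre p φ _ _ sq
      have : (hφ.rep.fst' p.toHom).left t0 ∈ Points.ofPt φ ⁻¹' {Points.mk p} := by
        rw [← hr]; exact ⟨t0, rfl⟩
      exact this
    · exact fibre_finite_of_isFinite p φ hφ _ _ sq hc
    · intro R s t sqR
      exact (fibres_finite_of_isFinite p φ hφ _ _ sq hc s t sqR).2

end Groth.Agent.H53.FibrePts
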