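import Groth.Agent.H53.Decent

/-!
# Decent spaces: lifting generalizations, Kolmogorov property (helper53)
-/

set_option autoImplicit false
universe u
open CategoryTheory CategoryTheory.Limits AlgebraicGeometry Opposite Topology

namespace Groth.Agent.H53
open AlgSp

variable {S : Scheme.{u}}

/-- Generalizations to a point represented by a quasi-compact morphism from the spectrum of a
field lift along etale charts. -/
theorem exists_generalization_of_quasiCompact_point {F : Sp S} (p : FieldPt F)
    (hq : RepWith @QuasiCompact p.toHom) {x : Points F} (h : Points.mk p ⤳ x) {U : Over S}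
    (a : (yon S).obj U ⟶ F) (ha : RepWith @Etale a) (u : ↥U.left) (hu : Points.ofPt a u = x) :
    ∃ u' : ↥U.left, u' ⤳ u ∧ Points.ofPt a u' = Points.mk p := by
  obtain ⟨W, hW, huW⟩ : ∃ W : U.left.Opens, IsAffineOpen W ∧ u ∈ W := by
    obtain ⟨_, ⟨W, hW, rfl⟩, huW, -⟩ :=
      (U.left.isBasis_affineOpens).exists_subset_of_mem_open (Set.mem_univ u) isOpen_univ
    exact ⟨W, hW, huW⟩
  let V : Over S := Over.mk (W.ι ≫ U.hom)
  let ι : V ⟶ U := Over.homMk W.ι rfl
  have hVaff : IsAffine V.left := hW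
  have hιet : RepWith @Etale ((yon S).map ι) :=
    (repWith_yon_map_iff _ _).2 (by change Etale W.ι; infer_instance)
  have hb : RepWith @Etale ((yon S).map ι ≫ a) :=
    (RepWith (S := S) @Etale).comp_mem _ _ hιet ha
  have : CompactSpace ↥V.left := inferInstance
  have hfin := finite_fibre_of_quasiCompact_point p hq _ hb
  let u₀ : ↥V.left := ⟨u, huW⟩
  -- `u₀` lies in the closure of the fibre
  have hcl : u₀ ∈ closure (Points.ofPt ((yon S).map ι ≫ a) ⁻¹' {Points.mk p}) := by
    rw [mem_closure_iff]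
    intro O hO hu₀O
    have hopen : IsOpen (Points.ofPt ((yon S).map ι ≫ a) '' O) :=
      isOpenMap_ofPt_of_etale _ hb O hO
    have hxmem : x ∈ Points.ofPt ((yon S).map ι ≫ a) '' O :=
      ⟨u₀, hu₀O, by rw [ofPt_yon_map_comp]; exact hu⟩
    obtain ⟨v, hvO, hv⟩ := h.mem_open hopen hxmem
    exact ⟨v, hvO, hv⟩
  rw [← Set.biUnion_of_singleton (Points.ofPt ((yon S).map ι ≫ a) ⁻¹' {Points.mk p}),
    hfin.closure_biUnion] at hcl
  simp only [Set.mem_iUnion] at hcl
  obtain ⟨e, he, hue⟩ := hcl
  refine ⟨ι.left e, ?_, ?_⟩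
  · have : e ⤳ u₀ := specializes_iff_mem_closure.2 hue
    exact this.map W.ι.continuous
  · rw [← ofPt_yon_map_comp]
    exact he

end Groth.Agent.H53

namespace Groth.Agent.H53
open AlgSp

variable {S : Scheme.{u}}

/-- The space of points of a decent algebraic space is Kolmogorov. -/
theorem t0Space_points_of_isDecent {F : Sp S} (hF : IsAlgSpace F) (hdec : IsDecent F) :
    T0Space (Points F) := by
  rw [t0Space_iff_inseparable]
  intro x y hxy
  have hxy1 : x ⤳ y := hxy.specializes
  have hyx1 : y ⤳ x := hxy.specializes'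
  obtain ⟨U, a, hae, has⟩ := hF.atlas
  obtain ⟨u, hu⟩ := surjective_ofPt_of_surjective a has y
  obtain ⟨px, hpx, -, hqx⟩ := hdec x
  obtain ⟨py, hpy, -, hqy⟩ := hdec y
  obtain ⟨u', hu'u, hu'⟩ := exists_generalization_of_quasiCompact_point px hqx
    (by rw [hpx]; exact hxy1) a hae u hu
  obtain ⟨u'', hu''u', hu''⟩ := exists_generalization_of_quasiCompact_point py hqy
    (by rw [hpy, hpx] at *; exact hyx1) a hae u' (hu'.trans hpx)
  have h1 : u = u'' := eq_of_specializes_of_isDecent hdec a hae u u''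
    (by rw [hu, hu'', hpy]) (hu''u'.trans hu'u)
  have h2 : u ⤳ u' := by rw [h1]; exact hu''u'
  have h3 : u' = u := (hu'u.antisymm h2).eq
  rw [← hpx, ← hu', h3, hu]

end Groth.Agent.H53
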