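import Mathlib.AlgebraicGeometry.Morphisms.Etale
import Mathlib.AlgebraicGeometry.Morphisms.FormallyUnramified
import Mathlib.AlgebraicGeometry.ResidueField
import Mathlib.RingTheory.Unramified.LocalRing

/-!
# Residue field extensions of étale morphisms to the spectrum of a field (helper53)
-/

set_option autoImplicit false
set_option backward.isDefEq.respectTransparency false
universe u
open CategoryTheory CategoryTheory.Limits AlgebraicGeometry Opposite IsLocalRing

namespace Groth.Agent.H53

/-- Residue field extensions of an unramified morphism locally of finite type are finite. -/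
theorem finite_residueField_of_unramified {X Y : Scheme.{u}} (f : X ⟶ Y) [FormallyUnramified f]
    [LocallyOfFiniteType f] (x : X) :
    letI : Algebra (Y.residueField (f.base x)) (X.residueField x) :=
      (f.residueFieldMap x).hom.toAlgebra
    Module.Finite (Y.residueField (f.base x)) (X.residueField x) := by
  algebraize [(f.stalkMap x).hom]
  have : IsLocalHom (algebraMap ↑(Y.presheaf.stalk (f x)) ↑(X.presheaf.stalk x)) :=
    (inferInstance : IsLocalHom (f.stalkMap x).hom)
  suffices h : Module.Finite
      (IsLocalRing.ResidueField <| Y.presheaf.stalk (f x))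
      (IsLocalRing.ResidueField <| X.presheaf.stalk x) by
    have halg : (f.residueFieldMap x).hom.toAlgebra =
        (inferInstance : Algebra (IsLocalRing.ResidueField (Y.presheaf.stalk (f x)))
          (IsLocalRing.ResidueField (X.presheaf.stalk x))) := by
      refine Algebra.algebra_ext _ _ fun x ↦ ?_
      obtain ⟨x, rfl⟩ := IsLocalRing.residue_surjective x
      rfl
    convert! h
    rw [halg]
    rfl
  have : Algebra.EssFiniteType (Y.presheaf.stalk (f x)) (X.presheaf.stalk x) := by
    rw [← RingHom.essFiniteType_algebraMap, RingHom.algebraMap_toAlgebra]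
    exact LocallyOfFiniteType.stalkMap f x
  have : Algebra.FormallyUnramified (Y.presheaf.stalk (f x)) (X.presheaf.stalk x) := by
    rw [← RingHom.formallyUnramified_algebraMap, RingHom.algebraMap_toAlgebra]
    exact FormallyUnramified.stalkMap f x
  infer_instance

/-- For a field `K` and the point `y` of `Spec K`, the map `K → κ(y)` is bijective. -/
theorem bijective_toResidueField_spec_field {K : Type u} [Field K] (y : ↥(Spec (CommRingCat.of K)))
    (r : CommRingCat.of K ⟶ (Spec (CommRingCat.of K)).residueField y)
    (hr : Spec.map r = (Spec (CommRingCat.of K)).fromSpecResidueField y) :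
    Function.Bijective r.hom := by
  obtain rfl : y = (𝟙 (Spec (CommRingCat.of K)) : _ ⟶ _) (closedPoint K) := Subsingleton.elim _ _
  have h1 := Scheme.descResidueField_stalkClosedPointTo_fromSpecResidueField K
    (Spec (CommRingCat.of K)) (𝟙 _)
  set d := Scheme.descResidueField (Scheme.stalkClosedPointTo (𝟙 (Spec (CommRingCat.of K)))) with hd
  rw [← hr, ← Spec.map_comp] at h1
  have h2 : r ≫ d = 𝟙 _ := Spec.map_injective (h1.trans (Spec.map_id _).symm)
  have h3 : ∀ k : K, d.hom (r.hom k) = k := fun k => by
    have := congrArg (fun t => t.hom k) h2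
    exact this
  have hdinj : Function.Injective d.hom := d.hom.injective
  refine ⟨r.hom.injective, fun z => ⟨d.hom z, hdinj (h3 _)⟩⟩

/-- Residue field extensions of an étale morphism to the spectrum of a field are finite separable. -/
theorem finite_separable_residueField_of_etale {K : Type u} [Field K] {Z : Scheme.{u}}
    (g : Z ⟶ Spec (CommRingCat.of K)) [Etale g] (ξ : Z) (ψ : K →+* Z.residueField ξ)
    (hψ : Spec.map (CommRingCat.ofHom ψ) = Z.fromSpecResidueField ξ ≫ g) :
    letI := ψ.toAlgebra
    Module.Finite K (Z.residueField ξ) ∧ Algebra.IsSeparable K (Z.residueField ξ) := by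
  letI := ψ.toAlgebra
  letI : Algebra ((Spec (CommRingCat.of K)).residueField (g.base ξ)) (Z.residueField ξ) :=
      (g.residueFieldMap ξ).hom.toAlgebra
  have hfin : Module.Finite ((Spec (CommRingCat.of K)).residueField (g.base ξ)) (Z.residueField ξ) :=
    finite_residueField_of_unramified g ξ
  have hsep : Algebra.IsSeparable ((Spec (CommRingCat.of K)).residueField (g.base ξ)) (Z.residueField ξ) :=
    inferInstance
  let r : CommRingCat.of K ⟶ (Spec (CommRingCat.of K)).residueField (g.base ξ) :=
    Spec.preimage ((Spec (CommRingCat.of K)).fromSpecResidueField (g.base ξ))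
  have hr : Spec.map r = (Spec (CommRingCat.of K)).fromSpecResidueField (g.base ξ) := Spec.map_preimage _
  have hbij := bijective_toResidueField_spec_field _ r hr
  let e₁ : (Spec (CommRingCat.of K)).residueField (g.base ξ) ≃+* K := (RingEquiv.ofBijective r.hom hbij).symm
  have hcomp : CommRingCat.ofHom ψ = r ≫ g.residueFieldMap ξ := by
    apply Spec.map_injective
    rw [hψ, Spec.map_comp, hr]
    exact (Scheme.Hom.SpecMap_residueFieldMap_fromSpecResidueField g ξ).symm
  have he : RingHom.comp (algebraMap K (Z.residueField ξ)) (e₁ : _ →+* K) =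
      RingHom.comp ((RingEquiv.refl (Z.residueField ξ) : _ →+* _))
        (algebraMap ((Spec (CommRingCat.of K)).residueField (g.base ξ)) (Z.residueField ξ)) := by
    ext z
    obtain ⟨k, rfl⟩ := hbij.2 z
    have h1 : e₁ (r.hom k) = k := (RingEquiv.ofBijective r.hom hbij).symm_apply_apply k
    have h2 := congrArg (fun t => t.hom k) hcomp
    simp only [RingHom.comp_apply, RingEquiv.coe_toRingHom, h1]
    exact h2
  exact ⟨Module.Finite.of_equiv_equiv e₁ (RingEquiv.refl _) he,
    Algebra.IsSeparable.of_equiv_equiv e₁ (RingEquiv.refl _) he⟩

end Groth.Agent.H53
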