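import Groth.Agent.H53.ChartDescent
import Groth.Agent.H52.AffineMor
import Groth.Agent.S10533

set_option autoImplicit false
set_option backward.isDefEq.respectTransparency false
universe u
open CategoryTheory CategoryTheory.Limits AlgebraicGeometry Opposite Topology TopologicalSpace
open AlgSp

namespace Groth.Agent.H53.AffineChart

variable {S : Scheme.{u}}

/-- A morphism from a sheaf represented by an affine scheme to an affine scheme is affine. -/
theorem isAffineMor_of_iso_affine {P : Sp S} {V W : Over S} [IsAffine V.left] [IsAffine W.left]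
    (e : (yon S).obj W ≅ P) (snd : P ⟶ (yon S).obj V) : IsAffineMor snd := by
  obtain ⟨w, hw⟩ := (yon S).map_surjective (e.hom ≫ snd)
  have h1 : IsAffineMor (e.hom ≫ snd) := by
    rw [← hw]
    apply Groth.Agent.H52.isAffineMor_of_repWith_isAffineHom
    rw [repWith_yon_map_iff]
    infer_instance
  have h2 : IsAffineMor e.inv :=
    Groth.Agent.H52.isAffineMor_of_repWith_isAffineHom _ (Groth.Agent.H52.repWith_of_isIso _ _)
  have := Groth.Agent.H52.isAffineMor_comp _ _ h2 h1
  rwa [Iso.inv_hom_id_assoc] at this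

theorem locP_flat_lfp_of_etale {F G : Sp S} (p : F ⟶ G) (hpe : RepWith @Etale p) :
    LocP @Flat p ∧ LocP @LocallyOfFinitePresentation p := by
  constructor
  · refine Groth.Agent.H52.locP_of_repWith _ @Flat
      (fun A B φ hφ => inferInstance) ⟨hpe.rep, fun T V g fst snd sq => ?_⟩
    have : Etale snd.left := hpe.property _ _ _ sq
    change Flat snd.left
    infer_instance
  · refine Groth.Agent.H52.locP_of_repWith _ @LocallyOfFinitePresentation
      (fun A B φ hφ => inferInstance) ⟨hpe.rep, fun T V g fst snd sq => ?_⟩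
    have : Etale snd.left := hpe.property _ _ _ sq
    change LocallyOfFinitePresentation snd.left
    infer_instance

/-- If the base change of `f` to every affine étale chart of the target is an affine scheme, then
`f` is affine. -/
theorem isAffineMor_of_affine_charts {X Y : Sp S} (hX : IsAlgSpace X) (hY : IsAlgSpace Y)
    (f : X ⟶ Y)
    (h : ∀ (V : Over S), IsAffine V.left → ∀ (b : (yon S).obj V ⟶ Y), RepWith @Etale b →
      ∀ (P : Sp S) (fst : P ⟶ X) (snd : P ⟶ (yon S).obj V), IsPullback fst snd f b →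
      ∃ (W : Over S), IsAffine W.left ∧ Nonempty ((yon S).obj W ≅ P)) :
    IsAffineMor f := by
  obtain ⟨U, a, hae, has⟩ := hY.atlas
  have key : ∀ u : ↥U.left, ∃ V' : U.left.Opens, IsAffineOpen V' ∧ u ∈ V' := by
    intro u
    obtain ⟨_, ⟨V', hV', rfl⟩, huV', -⟩ :=
      (U.left.isBasis_affineOpens).exists_subset_of_mem_open (Set.mem_univ u) isOpen_univ
    exact ⟨V', hV', huV'⟩
  choose V' hV' huV' using key
  have hbe : ∀ u, RepWith @Etale ((yon S).map (Groth.Agent.H52.overOpenι U (V' u)) ≫ a) :=
    fun u => MorphismProperty.comp_mem _ _ _ (Groth.Agent.H52.repWith_etale_overOpenι U (V' u)) hae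
  have hcov : IsFppfCover (fun u : ↥U.left => (yon S).obj (Groth.Agent.H52.overOpen U (V' u)))
      (fun u => (yon S).map (Groth.Agent.H52.overOpenι U (V' u)) ≫ a) := by
    refine ⟨fun u => locP_flat_lfp_of_etale _ (hbe u), fun x => ?_⟩
    obtain ⟨u, rfl⟩ := Groth.Agent.H53.surjective_ofPt_of_surjective a has x
    refine ⟨u, Points.ofScheme _ ⟨u, huV' u⟩, ?_⟩
    rw [← Points.ofPt_eq_map_ofScheme, Groth.Agent.H53.FibrePts.ofPt_yon_map_comp]
    rfl
  have hloc := Groth.Agent.H53.ChartDescent.isLocalOnBase_fppf_of_fpqc (Groth.Agent.S10533.result S)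
  refine (hloc _ _ hY (fun u => IsAlgSpace.yon_obj _) hcov f hX
    (fun u => pullback f ((yon S).map (Groth.Agent.H52.overOpenι U (V' u)) ≫ a))
    (fun u => pullback.snd _ _) (fun u => pullback.fst _ _)
    (fun u => Groth.Agent.H52.isAlgSpace_of_isPullback (IsPullback.of_hasPullback _ _) hX hY
      (IsAlgSpace.yon_obj _))
    (fun u => IsPullback.of_hasPullback _ _)).2 (fun u => ?_)
  have hVaff : IsAffine (Groth.Agent.H52.overOpen U (V' u)).left := hV' u
  obtain ⟨W, hW, ⟨e⟩⟩ := h _ hVaff _ (hbe u) _ _ _ (IsPullback.of_hasPullback f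
    ((yon S).map (Groth.Agent.H52.overOpenι U (V' u)) ≫ a))
  have : IsAffine W.left := hW
  exact isAffineMor_of_iso_affine e _

end Groth.Agent.H53.AffineChart
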