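import Mathlib.Topology.Algebra.InfiniteSum.Nonarchimedean
import Mathlib.Topology.Algebra.LinearTopology

set_option autoImplicit false
universe u v w

namespace Groth.Agent.H53

open Topology Filter

section Approx

variable {M : Type u} {N : Type v} [AddCommGroup M] [AddCommGroup N]
variable [UniformSpace M] [IsUniformAddGroup M] [CompleteSpace M] [NonarchimedeanAddGroup M]
variable [TopologicalSpace N] [IsTopologicalAddGroup N] [T2Space N]

/-- Successive approximation: if `N_k ⊆ f(M_k) + N_{k+1}` for all `k`, where `M_k`, `N_k` are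
sequences of subgroups eventually contained in any neighbourhood of zero (the `M_k` decreasing),
`M` is complete and `N` Hausdorff, then `N_k ⊆ f(closure M_k)`. -/
theorem exists_preimage_of_approx (f : M →+ N) (hf : Continuous f)
    (Mk : ℕ → AddSubgroup M) (Nk : ℕ → AddSubgroup N) (hMk : Antitone Mk)
    (hM : ∀ U ∈ 𝓝 (0 : M), ∃ k, (Mk k : Set M) ⊆ U)
    (hN : ∀ U ∈ 𝓝 (0 : N), ∃ k, ∀ i, k ≤ i → (Nk i : Set N) ⊆ U)
    (happrox : ∀ k, ∀ y ∈ Nk k, ∃ m ∈ Mk k, y - f m ∈ Nk (k + 1))
    (k : ℕ) (y : N) (hy : y ∈ Nk k) :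
    ∃ m ∈ closure (Mk k : Set M), f m = y := by
  classical
  -- total choice function
  have happrox' : ∀ (j : ℕ) (z : N), ∃ m : M, z ∈ Nk j → (m ∈ Mk j ∧ z - f m ∈ Nk (j + 1)) := by
    intro j z
    by_cases hz : z ∈ Nk j
    · obtain ⟨m, hm, hm'⟩ := happrox j z hz
      exact ⟨m, fun _ => ⟨hm, hm'⟩⟩
    · exact ⟨0, fun h => absurd h hz⟩
  choose g hg using happrox'
  -- the sequence of (partial sum, remainder)
  let sr : ℕ → M × N := fun K => Nat.rec (motive := fun _ => M × N) (0, y)
    (fun K p => (p.1 + g (k + K) p.2, p.2 - f (g (k + K) p.2))) K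
  have sr_zero : sr 0 = (0, y) := rfl
  have sr_succ : ∀ K, sr (K + 1) =
      ((sr K).1 + g (k + K) (sr K).2, (sr K).2 - f (g (k + K) (sr K).2)) := fun K => rfl
  have hr : ∀ K, (sr K).2 ∈ Nk (k + K) := by
    intro K
    induction K with
    | zero => simpa [sr_zero] using hy
    | succ K ih =>
      rw [sr_succ]
      exact (hg (k + K) _ ih).2
  have hstep : ∀ K, g (k + K) (sr K).2 ∈ Mk (k + K) := fun K => (hg (k + K) _ (hr K)).1
  have hs : ∀ K, (sr K).1 ∈ Mk k := by
    intro K
    induction K with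
    | zero => simp [sr_zero]
    | succ K ih =>
      rw [sr_succ]
      exact (Mk k).add_mem ih (hMk (Nat.le_add_right k K) (hstep K))
  have hsum : ∀ K, f (sr K).1 + (sr K).2 = y := by
    intro K
    induction K with
    | zero => simp [sr_zero]
    | succ K ih =>
      rw [sr_succ]
      simp only [map_add]
      rw [← ih]
      abel
  -- the partial sums form a Cauchy sequence
  have hdiff : Tendsto (fun K => (sr (K + 1)).1 - (sr K).1) atTop (𝓝 0) := by
    rw [tendsto_def]
    intro U hU
    obtain ⟨j, hj⟩ := hM U hU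
    rw [mem_atTop_sets]
    refine ⟨j, fun K hK => ?_⟩
    rw [Set.mem_preimage, sr_succ]
    simp only [add_sub_cancel_left]
    exact hj (hMk (le_trans hK (Nat.le_add_left K k)) (hstep K))
  have hcauchy : CauchySeq (fun K => (sr K).1) :=
    NonarchimedeanAddGroup.cauchySeq_of_tendsto_sub_nhds_zero hdiff
  obtain ⟨m, hm⟩ := cauchySeq_tendsto_of_complete hcauchy
  refine ⟨m, ?_, ?_⟩
  · exact mem_closure_of_tendsto hm (Eventually.of_forall hs)
  · -- `f (s K) → f m` and `f (s K) = y - r K → y`
    have h1 : Tendsto (fun K => f (sr K).1) atTop (𝓝 (f m)) := (hf.tendsto m).comp hm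
    have h2 : Tendsto (fun K => (sr K).2) atTop (𝓝 0) := by
      rw [tendsto_def]
      intro U hU
      obtain ⟨j, hj⟩ := hN U hU
      rw [mem_atTop_sets]
      exact ⟨j, fun K hK => hj (k + K) (le_trans hK (Nat.le_add_left K k)) (hr K)⟩
    have h3 : Tendsto (fun K => f (sr K).1) atTop (𝓝 y) := by
      have h4 : (fun K => f (sr K).1) = fun K => y - (sr K).2 := by
        funext K
        rw [← hsum K]
        abel
      rw [h4]
      simpa using tendsto_const_nhds.sub h2
    exact tendsto_nhds_unique h1 h3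

end Approx

section Nonarch

variable {A : Type u} [CommRing A] [TopologicalSpace A] [IsTopologicalRing A] [IsLinearTopology A A]

theorem nonarchimedeanRing_of_isLinearTopology : NonarchimedeanRing A where
  is_nonarchimedean := by
    intro U hU
    obtain ⟨I, hI, hIU⟩ := (IsLinearTopology.hasBasis_open_ideal (R := A)).mem_iff.mp hU
    exact ⟨⟨I.toAddSubgroup, hI⟩, hIU⟩

end Nonarch

end Groth.Agent.H53
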