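import Groth.Agent.H53.Finite
import Groth.Agent.H52.DiagSp2
import Mathlib.AlgebraicGeometry.ZariskisMainTheorem

/-!
# Morphisms over a separated base; separatedness via the diagonal (helper53)
-/

set_option autoImplicit false
universe u
open CategoryTheory CategoryTheory.Limits AlgebraicGeometry Opposite Topology

namespace Groth.Agent.H53
open AlgSp

variable {S : Scheme.{u}}

/-- The graph of `f : X ⟶ Y` over `B` is a closed immersion if `Y ⟶ B` is separated. -/
theorem repWith_isClosedImmersion_graph {X Y B : Sp S} (f : X ⟶ Y) (q : Y ⟶ B)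
    (hq : IsSeparatedMor q) :
    RepWith @IsClosedImmersion (pullback.lift (𝟙 X) f (by simp) : X ⟶ pullback (f ≫ q) q) :=
  MorphismProperty.of_isPullback (pullback_lift_diagonal_isPullback f q) hq

theorem isUnivClosedMor_of_comp_separated {X Y B : Sp S} (hX : IsAlgSpace X) (hY : IsAlgSpace Y)
    (hB : IsAlgSpace B) (f : X ⟶ Y) (q : Y ⟶ B) (hq : IsSeparatedMor q)
    (hp : IsUnivClosedMor (f ≫ q)) : IsUnivClosedMor f := by
  have hΓ := isUnivClosedMor_of_repWith_isClosedImmersion _ (repWith_isClosedImmersion_graph f q hq)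
  have sq2 := IsPullback.of_hasPullback (f ≫ q) q
  have hpr : IsUnivClosedMor (pullback.snd (f ≫ q) q) := univSp_of_isPullback _ sq2 hp
  have hP : IsAlgSpace (pullback (f ≫ q) q) := H52.isAlgSpace_of_isPullback sq2 hX hB hY
  have := isUnivClosedMor_comp hP hY _ _ hΓ hpr
  rwa [pullback.lift_snd] at this

theorem isProperMor_of_comp_separated {X Y B : Sp S} (hX : IsAlgSpace X) (hY : IsAlgSpace Y)
    (hB : IsAlgSpace B) (f : X ⟶ Y) (q : Y ⟶ B) (hq : IsSeparatedMor q)
    (hp : IsProperMor (f ≫ q)) : IsProperMor f := by
  have hΓ := isProperMor_of_repWith_isClosedImmersion _ (repWith_isClosedImmersion_graph f q hq)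
  have sq2 := IsPullback.of_hasPullback (f ≫ q) q
  have hpr : IsProperMor (pullback.snd (f ≫ q) q) := isProperMor_of_isPullback hX hB hY sq2 hp
  have hP : IsAlgSpace (pullback (f ≫ q) q) := H52.isAlgSpace_of_isPullback sq2 hX hB hY
  have := isProperMor_comp hX hP hY _ _ hΓ hpr
  rwa [pullback.lift_snd] at this

/-- A representable universally closed monomorphism locally of finite type is a closed immersion. -/
theorem repWith_isClosedImmersion_of_isUnivClosedMor_mono {F G : Sp S} (d : F ⟶ G)
    (hrep : Representable d) (hlft : RepWith @LocallyOfFiniteType d)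
    (hmono : RepWith (MorphismProperty.monomorphisms Scheme.{u}) d) (huc : IsUnivClosedMor d) :
    RepWith @IsClosedImmersion d := by
  refine ⟨hrep, fun T V g fst snd sq => ?_⟩
  have h1 : UniversallyClosed snd.left :=
    universallyClosed_of_isUnivClosedMor snd (univSp_of_isPullback _ sq huc)
  have h2 : Mono snd.left := hmono.property g fst snd sq
  have h3 : LocallyOfFiniteType snd.left := hlft.property g fst snd sq
  have h4 : IsProper snd.left := { }
  have h5 : IsFinite snd.left := IsFinite.of_isProper_of_locallyQuasiFinite snd.left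
  exact (IsClosedImmersion.iff_isFinite_and_mono _).2 ⟨h5, h2⟩

theorem isSeparatedMor_iff_isUnivClosedMor_diagonal {X Y : Sp S} (hX : IsAlgSpace X) (f : X ⟶ Y) :
    IsSeparatedMor f ↔ IsUnivClosedMor (pullback.diagonal f) := by
  constructor
  · intro h
    exact isUnivClosedMor_of_repWith_isClosedImmersion _ h
  · intro h
    obtain ⟨hrep, hlft, hmono, -, -⟩ := H52.diagonal_properties hX f
    exact repWith_isClosedImmersion_of_isUnivClosedMor_mono _ hrep hlft hmono h

theorem isSeparatedMor_iff_isProperMor_diagonal {X Y : Sp S} (hX : IsAlgSpace X) (f : X ⟶ Y) :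
    IsSeparatedMor f ↔ IsProperMor (pullback.diagonal f) := by
  constructor
  · intro h
    exact isProperMor_of_repWith_isClosedImmersion _ h
  · intro h
    exact (isSeparatedMor_iff_isUnivClosedMor_diagonal hX f).2 h.2.2

end Groth.Agent.H53
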