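import Groth.Agent.H53.GenFin
import Groth.Agent.H53.ProperSep
import Groth.Agent.H53.OpenSub
import Groth.Agent.H53.Integral
import Groth.Agent.H52.UCAssembly
import Groth.Agent.H52.QC
import Groth.Agent.Lib.Helper54.DecentPts
import Groth.Agent.Lib.Helper54.OpenSubspace

set_option autoImplicit false
set_option backward.isDefEq.respectTransparency false
universe u
open CategoryTheory CategoryTheory.Limits AlgebraicGeometry Opposite Topology
open AlgSp

namespace Groth.Agent.H53.GenFin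

open Groth.Agent.H53.CodimQF Groth.Agent.Lib.Helper54 Groth.Agent.H53.ZarGlue

variable {S : Scheme.{u}}

theorem range_ofPt_eq {T : Over S} {F : Sp S} (g : (yon S).obj T ⟶ F) :
    Set.range (Points.ofPt g) = Set.range (Points.map g) := by
  rw [ofPt_eq_comp]
  exact (Points.schemeHomeo T).surjective.range_comp _

theorem mono_of_isOpenImmersion {F G : Sp S} (f : F ⟶ G) (hf : RepWith @IsOpenImmersion f) :
    Mono f :=
  H52.mono_of_repWith f @IsOpenImmersion (fun _ _ g hg => by have := hg; infer_instance) hf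

/-- Assembling the base change square from the key containment. -/
theorem exists_pullback_finite_of_key {X Y : Sp S} (f : X ⟶ Y)
    {U₀ V₀ : Over S} (a₀ : (yon S).obj U₀ ⟶ X) (b₀ : (yon S).obj V₀ ⟶ Y) (g₀ : U₀ ⟶ V₀)
    (ha₀ : RepWith @IsOpenImmersion a₀) (hb₀ : RepWith @IsOpenImmersion b₀)
    (comm₀ : a₀ ≫ f = (yon S).map g₀ ≫ b₀) (hg₀ : IsFinite g₀.left)
    (V : V₀.left.Opens) (hV : IsAffineOpen V) (hVne : Nonempty V)
    (key : ∀ x' : Points X, Points.map f x' ∈ Points.ofPt b₀ '' (V : Set V₀.left) →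
      x' ∈ Set.range (Points.ofPt a₀)) :
    ∃ (V' : Over S) (b : (yon S).obj V' ⟶ Y) (U' : Over S) (g : U' ⟶ V')
      (a : (yon S).obj U' ⟶ X),
        IsAffine V'.left ∧ Nonempty ↥V'.left ∧ RepWith @IsOpenImmersion b ∧
          IsPullback a ((yon S).map g) f b ∧ IsAffine U'.left ∧ IsFinite g.left := by
  have hM : (RepWith (S := S) @IsOpenImmersion).IsMultiplicative := repWith_isMultiplicative _
  let U' : Over S := Over.mk ((g₀.left ⁻¹ᵁ V).ι ≫ U₀.hom)
  let V' : Over S := Over.mk (V.ι ≫ V₀.hom)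
  let ιU' : U' ⟶ U₀ := Over.homMk (g₀.left ⁻¹ᵁ V).ι rfl
  let ιV' : V' ⟶ V₀ := Over.homMk V.ι rfl
  let g : U' ⟶ V' := Over.homMk (g₀.left ∣_ V) (by
    change (g₀.left ∣_ V) ≫ V.ι ≫ V₀.hom = (g₀.left ⁻¹ᵁ V).ι ≫ U₀.hom
    rw [← Category.assoc, morphismRestrict_ι, Category.assoc, Over.w g₀])
  have hgc : ιU' ≫ g₀ = g ≫ ιV' := by
    ext1
    change (g₀.left ⁻¹ᵁ V).ι ≫ g₀.left = (g₀.left ∣_ V) ≫ V.ι
    rw [morphismRestrict_ι]
  let a : (yon S).obj U' ⟶ X := (yon S).map ιU' ≫ a₀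
  let b : (yon S).obj V' ⟶ Y := (yon S).map ιV' ≫ b₀
  have ha : RepWith @IsOpenImmersion a := (RepWith (S := S) @IsOpenImmersion).comp_mem _ _
    ((repWith_yon_map_iff _ _).2 (inferInstance : IsOpenImmersion (g₀.left ⁻¹ᵁ V).ι)) ha₀
  have hb : RepWith @IsOpenImmersion b := (RepWith (S := S) @IsOpenImmersion).comp_mem _ _
    ((repWith_yon_map_iff _ _).2 (inferInstance : IsOpenImmersion V.ι)) hb₀
  have comm : a ≫ f = (yon S).map g ≫ b := by
    simp only [a, b, Category.assoc]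
    rw [comm₀, ← Category.assoc, ← Functor.map_comp, hgc, Functor.map_comp, Category.assoc]
  haveI hma : Mono a := mono_of_isOpenImmersion a ha
  haveI hmb : Mono b := mono_of_isOpenImmersion b hb
  have hfin : IsFinite g.left := by
    change IsFinite (g₀.left ∣_ V)
    exact IsZariskiLocalAtTarget.restrict hg₀ V
  haveI : IsAffine V'.left := hV
  have hinjb₀ := injective_ofPt_of_isOpenImmersion b₀ hb₀
  refine ⟨V', b, U', g, a, hV, hVne, hb, ?_, ?_, hfin⟩
  · apply isPullback_of_forall_yon _ _ _ _ comm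
    · intro T α α' h1 _
      exact (cancel_mono a).1 h1
    · intro T β γ hβγ
      obtain ⟨γ', rfl⟩ := (yon S).map_surjective γ
      have hrange : Set.range (Points.map β) ⊆ Set.range (Points.map a) := by
        rw [← range_ofPt_eq, ← range_ofPt_eq]
        rintro _ ⟨t, rfl⟩
        have h1 : Points.map f (Points.ofPt β t) = Points.ofPt b₀ (ιV'.left (γ'.left t)) := by
          rw [Points.map_ofPt, hβγ, ofPt_yon_map_comp, ofPt_yon_map_comp]
        obtain ⟨u, hu⟩ := key (Points.ofPt β t) (by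
          rw [h1]
          exact ⟨_, (γ'.left t).2, rfl⟩)
        have h2 : Points.ofPt b₀ (g₀.left u) = Points.ofPt b₀ (ιV'.left (γ'.left t)) := by
          rw [← h1, ← hu, Points.map_ofPt, comm₀, ofPt_yon_map_comp]
        have h3 : g₀.left u = ιV'.left (γ'.left t) := hinjb₀ h2
        have hu' : u ∈ g₀.left ⁻¹ᵁ V := by
          change g₀.left u ∈ V
          rw [h3]
          exact (γ'.left t).2
        refine ⟨⟨u, hu'⟩, ?_⟩
        rw [ofPt_yon_map_comp]
        exact hu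
      obtain ⟨α, hα⟩ := exists_factor_of_range_subset a ha β hrange
      refine ⟨α, hα, ?_⟩
      rw [← cancel_mono b, Category.assoc, ← comm, ← Category.assoc, hα, hβγ]
  · haveI := hfin
    exact isAffine_of_isAffineHom g.left


/-- The key containment in the separated case. -/
theorem key_of_separated {X Y : Sp S} (hX : IsAlgSpace X) (hY : IsAlgSpace Y)
    [IrreducibleSpace (Points X)] (f : X ⟶ Y) (hsep : IsSeparatedMor f)
    {U₀ V₀ : Over S} (a₀ : (yon S).obj U₀ ⟶ X) (b₀ : (yon S).obj V₀ ⟶ Y) (g₀ : U₀ ⟶ V₀)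
    (ha₀ : RepWith @IsOpenImmersion a₀) (hb₀ : RepWith @IsOpenImmersion b₀)
    (comm₀ : a₀ ≫ f = (yon S).map g₀ ≫ b₀) (hg₀ : IsFinite g₀.left) (hne : Nonempty ↥U₀.left) :
    ∀ x' : Points X, Points.map f x' ∈ Set.range (Points.ofPt b₀) →
      x' ∈ Set.range (Points.ofPt a₀) := by
  have sq₀ := IsPullback.of_hasPullback f b₀
  have hV₀ := IsAlgSpace.yon_obj V₀
  have hU₀ := IsAlgSpace.yon_obj U₀
  have hP₀ : IsAlgSpace (pullback f b₀) := H52.isAlgSpace_of_isPullback sq₀ hX hY hV₀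
  let k₀ : (yon S).obj U₀ ⟶ pullback f b₀ := pullback.lift a₀ ((yon S).map g₀) comm₀
  have hk1 : k₀ ≫ pullback.fst f b₀ = a₀ := pullback.lift_fst _ _ _
  have hk2 : k₀ ≫ pullback.snd f b₀ = (yon S).map g₀ := pullback.lift_snd _ _ _
  have hsnd : IsSeparatedMor (pullback.snd f b₀) := H52.repWith_diagonal_of_isPullback _ sq₀ hsep
  have hgc : IsUnivClosedMor ((yon S).map g₀) :=
    isUnivClosedMor_of_repWith_universallyClosed _
      ((repWith_yon_map_iff _ _).2 (inferInstance : UniversallyClosed g₀.left))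
  have hkc : IsUnivClosedMor k₀ :=
    isUnivClosedMor_of_comp_separated hU₀ hP₀ hV₀ k₀ _ hsnd (by rw [hk2]; exact hgc)
  have hclosed : IsClosedMap (Points.map k₀) := univSp_self _ hP₀ hkc
  have hfst : RepWith @IsOpenImmersion (pullback.fst f b₀) :=
    MorphismProperty.of_isPullback sq₀.flip hb₀
  have hinj : Function.Injective (Points.map (pullback.fst f b₀)) :=
    injective_points_of_isOpenImmersion _ hfst
  have hopenmap : IsOpenMap (Points.map (pullback.fst f b₀)) :=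
    H52.isOpenMap_points_of_etale _ (repWith_etale_of_isOpenImmersion hfst)
  have hCeq : Set.range (Points.map k₀) =
      Points.map (pullback.fst f b₀) ⁻¹' Set.range (Points.map a₀) := by
    ext p
    constructor
    · rintro ⟨z, rfl⟩
      exact ⟨z, by rw [← hk1, Points.map_comp]⟩
    · rintro ⟨z, hz⟩
      refine ⟨z, hinj ?_⟩
      rw [← hz, ← hk1, Points.map_comp]
  have hCclosed : IsClosed (Set.range (Points.map k₀)) := hclosed.isClosed_range
  have hCopen : IsOpen (Set.range (Points.map k₀)) := by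
    rw [hCeq]
    exact ((H52.isOpenMap_points_of_etale a₀ (repWith_etale_of_isOpenImmersion ha₀)).isOpen_range).preimage
      (Points.continuous_map _)
  have hCne : (Set.range (Points.map k₀)).Nonempty := by
    obtain ⟨u₀⟩ := hne
    exact ⟨_, Points.schemeHomeo U₀ u₀, rfl⟩
  have hCuniv : ∀ p : Points (pullback f b₀), p ∈ Set.range (Points.map k₀) := by
    intro p
    by_contra hp
    have h1 : (Points.map (pullback.fst f b₀) '' Set.range (Points.map k₀) ∩
        Points.map (pullback.fst f b₀) '' (Set.range (Points.map k₀))ᶜ).Nonempty :=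
      nonempty_preirreducible_inter (hopenmap _ hCopen) (hopenmap _ hCclosed.isOpen_compl)
        (hCne.image _) ⟨_, p, hp, rfl⟩
    obtain ⟨_, ⟨p₁, hp₁, rfl⟩, ⟨p₂, hp₂, h12⟩⟩ := h1
    exact hp₂ (hinj h12 ▸ hp₁)
  rintro x' ⟨v, hv⟩
  obtain ⟨p, hp1, -⟩ := H52.exists_point_of_isPullback sq₀ x' (Points.ofScheme V₀ v)
    (by rw [← Points.ofPt_eq_map_ofScheme, hv])
  obtain ⟨z, rfl⟩ := hCuniv p
  rw [range_ofPt_eq]
  exact ⟨z, by rw [← hp1, ← hk1, Points.map_comp]⟩


/-- The key containment in the quasi-compact case. -/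
theorem key_of_quasiCompact {X Y : Sp S} (hX : IsAlgSpace X) (hXd : IsDecent X) (hY : IsAlgSpace Y)
    (f : X ⟶ Y) (hft : LocP @LocallyOfFiniteType f) (hqc : IsQuasiCompactMor f)
    (x : Points X) {U₀ V₀ : Over S} [IsAffine V₀.left]
    (a₀ : (yon S).obj U₀ ⟶ X) (b₀ : (yon S).obj V₀ ⟶ Y)
    (ha₀ : RepWith @IsOpenImmersion a₀) (hb₀ : RepWith @IsOpenImmersion b₀)
    (η : ↥V₀.left) (hηc : closure {η} ∈ irreducibleComponents ↥V₀.left)
    (hx : x ∈ Set.range (Points.ofPt a₀))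
    (huniq : ∀ x' : Points X, Points.map f x' = Points.ofPt b₀ η → x' = x) :
    ∃ V : V₀.left.Opens, IsAffineOpen V ∧ η ∈ V ∧ ∀ x' : Points X,
      Points.map f x' ∈ Points.ofPt b₀ '' (V : Set V₀.left) → x' ∈ Set.range (Points.ofPt a₀) := by
  have hE : (RepWith (S := S) @Etale).IsMultiplicative := repWith_isMultiplicative _
  have sq₀ := IsPullback.of_hasPullback f b₀
  have hV₀ := IsAlgSpace.yon_obj V₀
  have hP₀qc : IsQuasiCompactSp (pullback f b₀) :=
    hqc hV₀ (H52.isQuasiCompactSp_yon V₀) b₀ _ _ sq₀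
  obtain ⟨W, c, hWaff, hce, hcs⟩ := H52.UC.exists_affine_etale_chart' hP₀qc
  obtain ⟨h, hh⟩ := (yon S).map_surjective (c ≫ pullback.snd f b₀)
  have hfst : RepWith @IsOpenImmersion (pullback.fst f b₀) :=
    MorphismProperty.of_isPullback sq₀.flip hb₀
  let c' : (yon S).obj W ⟶ X := c ≫ pullback.fst f b₀
  have hc'e : RepWith @Etale c' :=
    (RepWith (S := S) @Etale).comp_mem _ _ hce (repWith_etale_of_isOpenImmersion hfst)
  have hb₀e := repWith_etale_of_isOpenImmersion hb₀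
  have comm' : c' ≫ f = (yon S).map h ≫ b₀ := by
    rw [hh, Category.assoc, Category.assoc, pullback.condition]
  haveI hlft : LocallyOfFiniteType h.left := hft c' b₀ h hc'e hb₀e comm'
  have hfibpt : ∀ w : ↥W.left, h.left w = η → Points.ofPt c' w = x := by
    intro w hw
    apply huniq
    rw [Points.map_ofPt, comm', ofPt_yon_map_comp, hw]
  have hfib : (h.left ⁻¹' {η}).Finite := by
    obtain ⟨p, rfl, -, hq⟩ := hXd x
    exact (finite_fibre_of_quasiCompact_point p hq c' hc'e).subset (fun w hw => hfibpt w hw)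
  obtain ⟨V, hV, hηV, hfin⟩ := (Groth.Agent.S2080.result h.left η hηc).1 hfib
  -- the bad closed set
  have hAopen : IsOpen (Set.range (Points.ofPt a₀)) :=
    (isOpenMap_ofPt_of_etale a₀ (repWith_etale_of_isOpenImmersion ha₀)).isOpen_range
  let Zset : Set ↥W.left := Points.ofPt c' ⁻¹' (Set.range (Points.ofPt a₀))ᶜ
  have hZclosed : IsClosed Zset := hAopen.isClosed_compl.preimage (Points.continuous_ofPt c')
  let ZV : Set ↥(h.left ⁻¹ᵁ V : Scheme.{u}) := (h.left ⁻¹ᵁ V).ι ⁻¹' Zset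
  have hZVclosed : IsClosed ZV := hZclosed.preimage (h.left ⁻¹ᵁ V).ι.continuous
  have hDclosed : IsClosed ((h.left ∣_ V) '' ZV) := (h.left ∣_ V).isClosedMap _ hZVclosed
  have hηD : (⟨η, hηV⟩ : ↥(V : Scheme.{u})) ∉ (h.left ∣_ V) '' ZV := by
    rintro ⟨z, hz, hzη⟩
    have h1 : h.left ((h.left ⁻¹ᵁ V).ι z) = η := by
      have := congrArg (fun t => V.ι t) hzη
      simp only at this
      rw [← Scheme.Hom.comp_apply, morphismRestrict_ι, Scheme.Hom.comp_apply] at this
      exact this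
    exact hz (by rw [hfibpt _ h1]; exact hx)
  have hO'open : IsOpen (V.ι '' ((h.left ∣_ V) '' ZV)ᶜ) :=
    V.ι.isOpenEmbedding.isOpenMap _ hDclosed.isOpen_compl
  obtain ⟨_, ⟨V₂, hV₂, rfl⟩, hηV₂, hV₂sub⟩ :=
    V₀.left.isBasis_affineOpens.exists_subset_of_mem_open
      (show η ∈ V.ι '' ((h.left ∣_ V) '' ZV)ᶜ from ⟨⟨η, hηV⟩, hηD, rfl⟩) hO'open
  refine ⟨V₂, hV₂, hηV₂, ?_⟩
  rintro x' ⟨v, hvV₂, hv⟩
  obtain ⟨vV, hvD, rfl⟩ := hV₂sub hvV₂
  obtain ⟨p, hp1, -⟩ := H52.exists_point_of_isPullback sq₀ x' (Points.ofScheme V₀ (V.ι vV))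
    (by rw [← Points.ofPt_eq_map_ofScheme, hv])
  obtain ⟨w, rfl⟩ := surjective_ofPt_of_surjective c hcs p
  have hw1 : Points.ofPt c' w = x' := by
    rw [← hp1, Points.map_ofPt]
  have hw2 : h.left w = V.ι vV := by
    apply injective_ofPt_of_isOpenImmersion b₀ hb₀
    rw [hv, ← hw1, Points.map_ofPt, comm', ofPt_yon_map_comp]
  have hwV : w ∈ h.left ⁻¹ᵁ V := by
    change h.left w ∈ V
    rw [hw2]
    exact vV.2
  by_contra hx'
  apply hvD
  refine ⟨⟨w, hwV⟩, ?_, ?_⟩
  · change Points.ofPt c' w ∈ (Set.range (Points.ofPt a₀))ᶜ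
    rw [hw1]
    exact hx'
  · apply V.ι.isOpenEmbedding.injective
    rw [← Scheme.Hom.comp_apply, morphismRestrict_ι, Scheme.Hom.comp_apply]
    exact hw2


/-- (5) ⇔ (6). -/
theorem unique_iff_exists_pullback_finite {X Y : Sp S} (hX : IsAlgSpace X) (hXd : IsDecent X)
    (hY : IsAlgSpace Y) (hYd : IsDecent Y)
    [IrreducibleSpace (Points X)] [IrreducibleSpace (Points Y)]
    (f : X ⟶ Y) (hft : LocP @LocallyOfFiniteType f) (hd : IsDominantMor f)
    (x : Points X) (hx : IsGenericPoint x (Set.univ : Set (Points X)))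
    (y : Points Y) (hy : IsGenericPoint y (Set.univ : Set (Points Y)))
    (hsq : IsSeparatedMor f ∨ IsQuasiCompactMor f) :
    (∀ x' : Points X, Points.map f x' = y → x' = x) ↔
      ∃ (V : Over S) (b : (yon S).obj V ⟶ Y) (U : Over S) (g : U ⟶ V) (a : (yon S).obj U ⟶ X),
        IsAffine V.left ∧ Nonempty ↥V.left ∧ RepWith @IsOpenImmersion b ∧
          IsPullback a ((yon S).map g) f b ∧ IsAffine U.left ∧ IsFinite g.left := by
  constructor
  · intro huniq
    obtain ⟨U₀, V₀, a₀, b₀, g₀, hU₀, hV₀, hne, ha₀, hb₀, comm₀, hg₀⟩ :=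
      exists_finite_chart_of_unique hX hXd hY hYd f hft hd x hx y hy huniq
    have hb₀e := repWith_etale_of_isOpenImmersion hb₀
    have ha₀e := repWith_etale_of_isOpenImmersion ha₀
    -- the generic points lie in the charts
    obtain ⟨u, hu⟩ : x ∈ Set.range (Points.ofPt a₀) := by
      rw [hx.mem_open_set_iff (isOpenMap_ofPt_of_etale a₀ ha₀e).isOpen_range]
      obtain ⟨u₀⟩ := hne
      exact ⟨_, trivial, u₀, rfl⟩
    have hfx : Points.map f x = y := map_generic_eq hY hYd f hd x hx y hy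
    have hη : Points.ofPt b₀ (g₀.left u) = y := by
      rw [← hfx, ← hu, Points.map_ofPt, comm₀, ofPt_yon_map_comp]
    rcases hsq with hsep | hqc
    · refine exists_pullback_finite_of_key f a₀ b₀ g₀ ha₀ hb₀ comm₀ hg₀ ⊤ (isAffineOpen_top _)
        ⟨⟨g₀.left u, trivial⟩⟩ ?_
      rintro x' ⟨v, -, hv⟩
      exact key_of_separated hX hY f hsep a₀ b₀ g₀ ha₀ hb₀ comm₀ hg₀ hne x' ⟨v, hv⟩
    · have hy0 := hasAt_dim_zero_of_isGenericPoint hY hYd y hy
      have hη0 : ringKrullDim (V₀.left.presheaf.stalk (g₀.left u)) = 0 :=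
        stalk_dim_zero_of_hasAt b₀ hb₀e _ (by rw [hη]; exact hy0)
      obtain ⟨V, hV, hηV, key⟩ := key_of_quasiCompact hX hXd hY f hft hqc x a₀ b₀ ha₀ hb₀
        (g₀.left u) (closure_mem_irreducibleComponents_of_dim_zero _ _ hη0) ⟨u, hu⟩
        (fun x' hx' => huniq x' (hx'.trans hη))
      exact exists_pullback_finite_of_key f a₀ b₀ g₀ ha₀ hb₀ comm₀ hg₀ V hV
        ⟨⟨g₀.left u, hηV⟩⟩ key
  · rintro ⟨V, b, U, g, a, -, ⟨v₀⟩, hb, sq, -, hg⟩
    have ha : RepWith @IsOpenImmersion a := MorphismProperty.of_isPullback sq.flip hb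
    have hbe := repWith_etale_of_isOpenImmersion hb
    have hne : Nonempty ↥U.left := by
      have hopen : IsOpen (Set.range (Points.ofPt b)) :=
        (isOpenMap_ofPt_of_etale b hbe).isOpen_range
      obtain ⟨_, ⟨v, hv⟩, ⟨x₀, rfl⟩⟩ := hd.inter_open_nonempty _ hopen ⟨_, v₀, rfl⟩
      obtain ⟨p, -, -⟩ := H52.exists_point_of_isPullback sq x₀ (Points.ofScheme V v)
        (by rw [← Points.ofPt_eq_map_ofScheme, hv])
      exact ⟨(Points.schemeEquiv U).symm p⟩
    exact unique_of_finite_chart hX hXd hY hYd f hft x hx y hy a b g hne ha hb sq.w hg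

end Groth.Agent.H53.GenFin
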