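import Groth.Prelude.Def_AlgSp
import Groth.Agent.Lib.Helper51.AlgSpBasic
import Mathlib.AlgebraicGeometry.Gluing

set_option autoImplicit false
set_option backward.isDefEq.respectTransparency false
universe u
open CategoryTheory CategoryTheory.Limits AlgebraicGeometry Opposite

namespace Groth.Agent.H53.ZarGlue

open AlgSp Groth.Agent.Lib.Helper51
open Functor.relativelyRepresentable

variable {S : Scheme.{u}} {G : Sp S} {ι : Type u} {X : ι → Over S}
  {f : ∀ i, (yon S).obj (X i) ⟶ G} (hf : ∀ i, RepWith @IsOpenImmersion (f i))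

theorem mono_of_repWith_isOpenImmersion {F G : Sp S} (g : F ⟶ G)
    (hg : RepWith @IsOpenImmersion g) : Mono g := by
  refine mono_of_representable_of_mono g hg.1 fun U V a fst snd hpb ↦ ?_
  have : IsOpenImmersion snd.left := hg.2 a fst snd hpb
  have : Mono snd.left := inferInstance
  exact Over.mono_of_mono_left snd

include hf in
theorem isOpenImmersion_fst' (i j : ι) : IsOpenImmersion ((hf i).rep.fst' (f j)).left :=
  (hf j).property _ _ _ ((hf i).rep.isPullback' (f j)).flip

include hf in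
theorem fst'_self_eq_snd (i : ι) : (hf i).rep.fst' (f i) = (hf i).rep.snd (f i) := by
  have := mono_of_repWith_isOpenImmersion (f i) (hf i)
  apply (yon S).map_injective
  rw [← cancel_mono (f i), ((hf i).rep.isPullback' (f i)).w]

include hf in
theorem isIso_fst'_self (i : ι) : IsIso ((hf i).rep.fst' (f i)) := by
  have := mono_of_repWith_isOpenImmersion (f i) (hf i)
  have := ((hf i).rep.isPullback' (f i)).isIso_fst_of_mono
  exact (Functor.FullyFaithful.ofFullyFaithful (yon S)).isIso_of_isIso_map _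

/-- The gluing datum in `Over S`. -/
noncomputable def glueDataOver : CategoryTheory.GlueData (Over S) where
  J := ι
  U := X
  V := fun (i, j) ↦ (hf i).rep.pullback (f j)
  f i j := (hf i).rep.fst' (f j)
  f_mono i j := by
    have := isOpenImmersion_fst' hf i j
    have : Mono ((hf i).rep.fst' (f j)).left := inferInstance
    exact Over.mono_of_mono_left _
  f_id i := isIso_fst'_self hf i
  t i j := (hf i).rep.symmetry (hf j).rep
  t_id i := by
    apply (hf i).rep.hom_ext' <;> simp [fst'_self_eq_snd hf i]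
  t' i j k := lift₃ _ _ _ (pullback₃.p₂ _ _ _) (pullback₃.p₃ _ _ _) (pullback₃.p₁ _ _ _)
    (by simp) (by simp)
  t_fac i j k := (hf j).rep.hom_ext' (by simp) (by simp)
  cocycle i j k := pullback₃.hom_ext (by simp) (by simp) (by simp)


/-- The gluing datum of schemes. -/
noncomputable def glueData : Scheme.GlueData where
  toGlueData := (glueDataOver hf).mapGlueData (Over.forget S)
  f_open i j := isOpenImmersion_fst' hf i j

/-- The structure morphism of the glued scheme. -/
noncomputable def gluedHom : (glueData hf).glued ⟶ S :=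
  Multicoequalizer.desc _ _ (fun i => (X i).hom) (by
    rintro ⟨i, j⟩
    change ((hf i).rep.fst' (f j)).left ≫ (X i).hom =
      (((hf i).rep.symmetry (hf j).rep).left ≫ ((hf j).rep.fst' (f i)).left) ≫ (X j).hom
    rw [Over.w, Category.assoc, Over.w, Over.w])

/-- The glued scheme over `S`. -/
noncomputable def glued : Over S := Over.mk (gluedHom hf)

theorem ι_gluedHom (i : ι) : (glueData hf).ι i ≫ gluedHom hf = (X i).hom :=
  Multicoequalizer.π_desc _ _ _ _ _

/-- The open immersions into the glued scheme, over `S`. -/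
noncomputable def toGlued (i : ι) : X i ⟶ glued hf :=
  Over.homMk ((glueData hf).ι i) (ι_gluedHom hf i)


theorem toGlued_left (i : ι) : (toGlued hf i).left = (glueData hf).ι i := rfl

instance (i : ι) : IsOpenImmersion (toGlued hf i).left :=
  inferInstanceAs (IsOpenImmersion ((glueData hf).ι i))

theorem exists_lift_of_toGlued_eq {Z : Over S} {i j : ι} (a : Z ⟶ X i) (b : Z ⟶ X j)
    (h : a ≫ toGlued hf i = b ≫ toGlued hf j) :
    ∃ l : Z ⟶ (hf i).rep.pullback (f j),
      l ≫ (hf i).rep.fst' (f j) = a ∧ l ≫ (hf i).rep.snd (f j) = b := by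
  have h' : a.left ≫ (glueData hf).ι i = b.left ≫ (glueData hf).ι j :=
    congrArg CommaMorphism.left h
  obtain ⟨l₀, hl₁, hl₂⟩ := PullbackCone.IsLimit.lift' ((glueData hf).vPullbackConeIsLimit i j)
    a.left b.left h'
  have hl₁' : l₀ ≫ ((hf i).rep.fst' (f j)).left = a.left := hl₁
  have hl₂' : l₀ ≫ ((hf i).rep.symmetry (hf j).rep).left ≫ ((hf j).rep.fst' (f i)).left = b.left :=
    hl₂
  refine ⟨Over.homMk l₀ ?_, ?_, ?_⟩
  · rw [← Over.w ((hf i).rep.fst' (f j)), ← Category.assoc, hl₁', Over.w]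
  · ext; exact hl₁'
  · ext
    rw [← (hf i).rep.symmetry_fst (hf j).rep]
    exact hl₂'

theorem yon_map_comp_eq_of_toGlued_eq {Z : Over S} {i j : ι} (a : Z ⟶ X i) (b : Z ⟶ X j)
    (h : a ≫ toGlued hf i = b ≫ toGlued hf j) :
    (yon S).map a ≫ f i = (yon S).map b ≫ f j := by
  obtain ⟨l, rfl, rfl⟩ := exists_lift_of_toGlued_eq hf a b h
  rw [Functor.map_comp, Functor.map_comp, Category.assoc, Category.assoc,
    ((hf i).rep.isPullback' (f j)).w]

theorem comp_toGlued_eq {Z : Over S} {i j : ι} (a : Z ⟶ X i) (b : Z ⟶ X j)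
    (h : (yon S).map a ≫ f i = (yon S).map b ≫ f j) :
    a ≫ toGlued hf i = b ≫ toGlued hf j := by
  rw [← (hf i).rep.lift'_fst a b h, Category.assoc]
  conv_rhs => rw [← (hf i).rep.lift'_snd a b h, Category.assoc]
  congr 1
  ext
  have h1 : ((hf i).rep.symmetry (hf j).rep).left ≫ ((hf j).rep.fst' (f i)).left ≫
      (glueData hf).ι j = ((hf i).rep.fst' (f j)).left ≫ (glueData hf).ι i :=
    (glueData hf).glue_condition i j
  change ((hf i).rep.fst' (f j)).left ≫ (glueData hf).ι i =
    ((hf i).rep.snd (f j)).left ≫ (glueData hf).ι j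
  rw [← h1, ← (hf i).rep.symmetry_fst (hf j).rep]
  rfl


theorem generate_toGlued_mem_J :
    Sieve.generate (Presieve.ofArrows X (toGlued hf)) ∈ J S (glued hf) := by
  rw [AlgSp.J_eq, GrothendieckTopology.mem_over_iff]
  refine Scheme.fppfTopology.superset_covering ?_
    (Precoverage.generate_mem_toGrothendieck
      (Scheme.zariskiPrecoverage_le_fppfPrecoverage _ (glueData hf).openCover.mem₀))
  rintro W g ⟨Z, k, q, ⟨i⟩, rfl⟩
  rw [Sieve.overEquiv_iff]
  refine ⟨X i, Over.homMk k (by simp [← ι_gluedHom hf i]; rfl), toGlued hf i, ⟨i⟩, ?_⟩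
  ext
  rfl


theorem existsUnique_section :
    ∃! s : G.obj.obj (op (glued hf)), ∀ i, G.obj.map (toGlued hf i).op s = yonEquiv (f i) := by
  have hG : Presieve.IsSheaf (J S) G.obj := (isSheaf_iff_isSheaf_of_type _ _).1 G.property
  have h1 := hG _ (generate_toGlued_mem_J hf)
  rw [← Presieve.isSheafFor_iff_generate, Presieve.isSheafFor_arrows_iff] at h1
  apply h1
  intro i j Z gi gj hcomm
  rw [yonEquiv_naturality, yonEquiv_naturality, yon_map_comp_eq_of_toGlued_eq hf gi gj hcomm]

/-- The morphism from the glued scheme to `G`. -/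
noncomputable def gluedToSheaf : (yon S).obj (glued hf) ⟶ G :=
  yonEquiv.symm (existsUnique_section hf).exists.choose

theorem yon_map_toGlued_gluedToSheaf (i : ι) :
    (yon S).map (toGlued hf i) ≫ gluedToSheaf hf = f i := by
  apply yonEquiv.injective
  rw [← yonEquiv_naturality, gluedToSheaf, Equiv.apply_symm_apply]
  exact (existsUnique_section hf).exists.choose_spec i


theorem gluedToSheaf_injective {T : Over S} (α β : T ⟶ glued hf)
    (h : (yon S).map α ≫ gluedToSheaf hf = (yon S).map β ≫ gluedToSheaf hf) : α = β := by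
  ext : 1
  apply Scheme.hom_ext_of_forall
  intro t
  obtain ⟨i, xi, hxi⟩ := (glueData hf).ι_jointly_surjective (α.left t)
  obtain ⟨j, xj, hxj⟩ := (glueData hf).ι_jointly_surjective (β.left t)
  let U : T.left.Opens := α.left ⁻¹ᵁ ((glueData hf).ι i).opensRange ⊓
    β.left ⁻¹ᵁ ((glueData hf).ι j).opensRange
  refine ⟨U, ⟨⟨xi, hxi⟩, ⟨xj, hxj⟩⟩, ?_⟩
  let Uo : Over S := Over.mk (U.ι ≫ T.hom)
  let u : Uo ⟶ T := Over.homMk U.ι rfl
  have hUa : Set.range (U.ι ≫ α.left) ⊆ Set.range ((glueData hf).ι i) := by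
    rintro _ ⟨y, rfl⟩
    exact y.2.1
  have hUb : Set.range (U.ι ≫ β.left) ⊆ Set.range ((glueData hf).ι j) := by
    rintro _ ⟨y, rfl⟩
    exact y.2.2
  let a₀ : U.toScheme ⟶ (X i).left := IsOpenImmersion.lift ((glueData hf).ι i) (U.ι ≫ α.left) hUa
  let b₀ : U.toScheme ⟶ (X j).left := IsOpenImmersion.lift ((glueData hf).ι j) (U.ι ≫ β.left) hUb
  have ha₀ : a₀ ≫ (glueData hf).ι i = U.ι ≫ α.left := IsOpenImmersion.lift_fac _ _ _
  have hb₀ : b₀ ≫ (glueData hf).ι j = U.ι ≫ β.left := IsOpenImmersion.lift_fac _ _ _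
  let a : Uo ⟶ X i := Over.homMk a₀ (by
    rw [← ι_gluedHom hf i, ← Category.assoc, ha₀, Category.assoc]
    congr 1
    exact Over.w α)
  let b : Uo ⟶ X j := Over.homMk b₀ (by
    rw [← ι_gluedHom hf j, ← Category.assoc, hb₀, Category.assoc]
    congr 1
    exact Over.w β)
  have ha : a ≫ toGlued hf i = u ≫ α := by ext; exact ha₀
  have hb : b ≫ toGlued hf j = u ≫ β := by ext; exact hb₀
  have key := comp_toGlued_eq hf a b (by
    rw [← yon_map_toGlued_gluedToSheaf hf i, ← yon_map_toGlued_gluedToSheaf hf j,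
      ← Category.assoc, ← Functor.map_comp, ha, ← Category.assoc, ← Functor.map_comp, hb,
      Functor.map_comp, Functor.map_comp, Category.assoc, Category.assoc, h])
  exact congrArg CommaMorphism.left (ha.symm.trans (key.trans hb))

theorem mem_J_of_openCover {T : Over S} (𝒰 : T.left.OpenCover) (R : Sieve T)
    (hR : ∀ i, R (Over.homMk (𝒰.f i) rfl : Over.mk (𝒰.f i ≫ T.hom) ⟶ T)) : R ∈ J S T := by
  rw [AlgSp.J_eq, GrothendieckTopology.mem_over_iff]
  refine Scheme.fppfTopology.superset_covering ?_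
    (Precoverage.generate_mem_toGrothendieck
      (Scheme.zariskiPrecoverage_le_fppfPrecoverage _ 𝒰.mem₀))
  rintro W g ⟨Z, k, q, ⟨i⟩, rfl⟩
  rw [Sieve.overEquiv_iff]
  have : (Over.homMk (k ≫ 𝒰.f i) : Over.mk ((k ≫ 𝒰.f i) ≫ T.hom) ⟶ T) =
      (Over.homMk k (by simp) : Over.mk ((k ≫ 𝒰.f i) ≫ T.hom) ⟶ Over.mk (𝒰.f i ≫ T.hom)) ≫
        (Over.homMk (𝒰.f i) rfl : Over.mk (𝒰.f i ≫ T.hom) ⟶ T) := by
    ext; simp
  rw [this]
  exact R.downward_closed (hR i) _

theorem app_eq_yonEquiv {F : Sp S} {T T' : Over S} (φ : (yon S).obj T ⟶ F) (α : T' ⟶ T) :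
    φ.hom.app (op T') ⟨α⟩ = yonEquiv ((yon S).map α ≫ φ) := by
  rw [yonEquiv_comp]
  congr 1


/-- The family `f` is jointly surjective Zariski locally: every `h_T ⟶ G` lifts to some `f i` on an open
neighbourhood of every point of `T`. -/
def LocallyLifts (f : ∀ i, (yon S).obj (X i) ⟶ G) : Prop :=
  ∀ (T : Over S) (g : (yon S).obj T ⟶ G) (t : ↥T.left),
    ∃ (i : ι) (U : T.left.Opens) (l : Over.mk (U.ι ≫ T.hom) ⟶ X i), t ∈ U ∧
      (yon S).map (Over.homMk U.ι rfl : Over.mk (U.ι ≫ T.hom) ⟶ T) ≫ g = (yon S).map l ≫ f i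

theorem isLocallySurjective_gluedToSheaf (hcov : LocallyLifts f) :
    Sheaf.IsLocallySurjective (gluedToSheaf hf) := by
  constructor
  intro T s
  choose i U l hU hl using hcov T (yonEquiv.symm s)
  let 𝒰 : T.left.OpenCover := {
    I₀ := T.left, X := fun t => (U t), f := fun t => (U t).ι,
    mem₀ := by
      rw [Scheme.presieve₀_mem_precoverage_iff]
      refine ⟨fun x ↦ ⟨x, by simpa using hU x⟩, inferInstance⟩ }
  refine mem_J_of_openCover 𝒰 _ fun t => ?_
  refine ⟨⟨l t ≫ toGlued hf (i t)⟩, ?_⟩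
  change (gluedToSheaf hf).hom.app _ ⟨l t ≫ toGlued hf (i t)⟩ = _
  rw [app_eq_yonEquiv, Functor.map_comp, Category.assoc, yon_map_toGlued_gluedToSheaf, ← hl t,
    ← yonEquiv_naturality, Equiv.apply_symm_apply]
  rfl

theorem isIso_gluedToSheaf (hcov : LocallyLifts f) : IsIso (gluedToSheaf hf) := by
  have : Mono (gluedToSheaf hf) := by
    apply mono_of_forall_yon
    intro T x y hxy
    obtain ⟨α, rfl⟩ := (yon S).map_surjective x
    obtain ⟨β, rfl⟩ := (yon S).map_surjective y
    rw [gluedToSheaf_injective hf α β hxy]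
  have := isLocallySurjective_gluedToSheaf hf hcov
  have : Epi (gluedToSheaf hf) := Sheaf.epi_of_isLocallySurjective' _
  exact isIso_of_mono_of_epi _

include hf in
/-- **Zariski gluing of representables**: a sheaf covered Zariski-locally by representable open subfunctors is
representable. -/
theorem exists_iso_yon (hcov : LocallyLifts f) :
    ∃ (Y : Over S) (e : (yon S).obj Y ≅ G) (j : ∀ i, X i ⟶ Y),
      (∀ i, IsOpenImmersion (j i).left) ∧ (∀ i, (yon S).map (j i) ≫ e.hom = f i) ∧
      ∀ y : ↥Y.left, ∃ i, y ∈ Set.range (j i).left := by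
  have := isIso_gluedToSheaf hf hcov
  refine ⟨glued hf, asIso (gluedToSheaf hf), toGlued hf, fun i => inferInstance,
    fun i => yon_map_toGlued_gluedToSheaf hf i, fun y => ?_⟩
  obtain ⟨i, x, hx⟩ := (glueData hf).ι_jointly_surjective y
  exact ⟨i, x, hx⟩

end Groth.Agent.H53.ZarGlue
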