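import Groth.Agent.H53.FibrePts5
import Groth.Agent.H52.OpenSub
import Groth.Agent.H52.QC3
import Groth.Agent.H53.ZarGlue
import Groth.Agent.H53.SourceLocal
import Groth.Prelude.Def_AlgSpCov

set_option autoImplicit false
set_option backward.isDefEq.respectTransparency false
universe u
open CategoryTheory CategoryTheory.Limits AlgebraicGeometry Opposite Topology
open AlgSp

namespace Groth.Agent.H53.QCCharts

variable {S : Scheme.{u}}

theorem repWith_etale_of_isOpenImmersion {F G : Sp S} (g : F ⟶ G)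
    (hg : RepWith @IsOpenImmersion g) : RepWith @Etale g :=
  ⟨hg.rep, fun _ _ a fst snd sq => by
    have : IsOpenImmersion snd.left := hg.2 a fst snd sq
    exact (inferInstance : Etale snd.left)⟩

/-- The étale map onto its image is quasi-compact when the projections of `U ×_X U` are. -/
theorem repWith_quasiCompact_toImage {X : Sp S} (hX : IsAlgSpace X) {U : Over S}
    (φ : (yon S).obj U ⟶ X) (hφ : RepWith @Etale φ)
    (hqc : ∀ (R : Over S) (s t : R ⟶ U), IsPullback ((yon S).map t) ((yon S).map s) φ φ →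
      QuasiCompact s.left ∧ QuasiCompact t.left) :
    RepWith @QuasiCompact (Sheaf.toImage φ) := by
  have hej : Sheaf.toImage φ ≫ Sheaf.imageι φ = φ := Sheaf.toImage_ι φ
  have hIm : IsAlgSpace (Sheaf.image φ) := Groth.Agent.H52.isAlgSpace_image hX φ hφ
  have het := Groth.Agent.H52.repWith_etale_toImage φ hφ
  have hsu := Groth.Agent.H52.repWith_surjective_toImage φ hφ
  have sqR : IsPullback ((yon S).map (hφ.rep.fst' φ)) ((yon S).map (hφ.rep.snd φ)) φ φ :=
    hφ.rep.isPullback' φ
  have hs : QuasiCompact (hφ.rep.snd φ).left := (hqc _ _ _ sqR).1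
  have sqR' : IsPullback ((yon S).map (hφ.rep.fst' φ)) ((yon S).map (hφ.rep.snd φ))
      (Sheaf.toImage φ) (Sheaf.toImage φ) := by
    apply Groth.Agent.H53.isPullback_of_comp_mono (Sheaf.imageι φ)
    rw [hej]; exact sqR
  have h1 : IsQuasiCompactMor ((yon S).map (hφ.rep.snd φ)) :=
    Groth.Agent.H52.isQuasiCompactMor_of_repWith_quasiCompact _ ((repWith_yon_map_iff _ _).2 hs)
  have h2 : IsQuasiCompactMor (Sheaf.toImage φ) :=
    Groth.Agent.H52.isQuasiCompactMor_of_etale_surjective_base_change (IsAlgSpace.yon_obj _) hIm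
      (IsAlgSpace.yon_obj _) _ _ _ _ sqR' (isEtaleMor_of_repWith _ het)
      (Groth.Agent.H52.surjective_points_of_repWith_surjective _ hsu) h1
  exact Groth.Agent.H52.repWith_quasiCompact_of_isQuasiCompactMor _ het.rep h2

/-- S10412. -/
theorem zar_qc_charts_iff (X : Space S) :
    (∃ (ι : Type u) (Xi : ι → Space S) (j : ∀ i, Xi i ⟶ X) (U : ι → Over S)
        (a : ∀ i, (yon S).obj (U i) ⟶ (Xi i).obj),
        IsZarCover (fun i => (Xi i).obj) (fun i => (j i).hom) ∧
          ∀ i, RepWith @Etale (a i) ∧ RepWith @Surjective (a i) ∧ RepWith @QuasiCompact (a i)) ↔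
      ∃ (ι : Type u) (U : ι → Over S) (φ : ∀ i, (yon S).obj (U i) ⟶ X.obj),
        (∀ i, RepWith @Etale (φ i)) ∧
          (∀ x : Points X.obj, ∃ (i : ι) (v : ↥(U i).left), Points.ofPt (φ i) v = x) ∧
          ∀ (i : ι) (R : Over S) (s t : R ⟶ U i),
            IsPullback ((yon S).map t) ((yon S).map s) (φ i) (φ i) →
            QuasiCompact s.left ∧ QuasiCompact t.left := by
  constructor
  · rintro ⟨ι, Xi, j, U, a, ⟨hj, hcov⟩, ha⟩
    refine ⟨ι, U, fun i => a i ≫ (j i).hom, fun i => ?_, fun x => ?_, fun i R s t sq => ?_⟩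
    · exact MorphismProperty.comp_mem _ _ _ (ha i).1 (repWith_etale_of_isOpenImmersion _ (hj i))
    · obtain ⟨i, xi, rfl⟩ := hcov x
      obtain ⟨w, rfl⟩ := Groth.Agent.H52.surjective_points_of_repWith_surjective _ (ha i).2.1 xi
      obtain ⟨v, rfl⟩ := Groth.Agent.Lib.Helper54.exists_ofScheme_eq (U i) w
      refine ⟨i, v, ?_⟩
      rw [Points.ofPt_eq_map_ofScheme, Points.map_comp]
    · have : Mono (j i).hom := Groth.Agent.H53.ZarGlue.mono_of_repWith_isOpenImmersion _ (hj i)
      have sq' : IsPullback ((yon S).map t) ((yon S).map s) (a i) (a i) :=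
        Groth.Agent.H53.isPullback_of_comp_mono (j i).hom sq
      exact ⟨(ha i).2.2.2 _ _ _ sq', (ha i).2.2.2 _ _ _ sq'.flip⟩
  · rintro ⟨ι, U, φ, hφ, hsurj, hqc⟩
    refine ⟨ι, fun i => ⟨Sheaf.image (φ i), Groth.Agent.H52.isAlgSpace_image X.property (φ i) (hφ i)⟩,
      fun i => ObjectProperty.homMk (Sheaf.imageι (φ i)), U, fun i => Sheaf.toImage (φ i),
      ⟨fun i => Groth.Agent.H52.repWith_isOpenImmersion_imageι (φ i) (hφ i), fun x => ?_⟩,
      fun i => ⟨Groth.Agent.H52.repWith_etale_toImage (φ i) (hφ i),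
        Groth.Agent.H52.repWith_surjective_toImage (φ i) (hφ i),
        repWith_quasiCompact_toImage X.property (φ i) (hφ i) (hqc i)⟩⟩
    obtain ⟨i, v, rfl⟩ := hsurj x
    refine ⟨i, ?_⟩
    change Points.ofPt (φ i) v ∈ Set.range (Points.map (Sheaf.imageι (φ i)))
    rw [Groth.Agent.H52.range_points_map_imageι (φ i) (hφ i)]
    exact ⟨v, rfl⟩

end Groth.Agent.H53.QCCharts
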