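import Groth.Agent.Lib.Helper54.ReducedFactor
import Groth.Agent.Lib.Helper54.ResidualSpace
import Groth.Agent.H53.FibreHomeo

set_option autoImplicit false
set_option backward.isDefEq.respectTransparency false
universe u
open CategoryTheory CategoryTheory.Limits AlgebraicGeometry Opposite Topology
open AlgSp

namespace Groth.Agent.H53.ElemNbhd

variable {S : Scheme.{u}}

/-- `Spec κ(u)` over `S`. -/
noncomputable abbrev resPt (U : Over S) (u : ↥U.left) : Over S :=
  Over.mk (U.left.fromSpecResidueField u ≫ U.hom)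

/-- `Spec κ(u) ⟶ U` over `S`. -/
noncomputable abbrev resι (U : Over S) (u : ↥U.left) : resPt U u ⟶ U :=
  Over.homMk (U.left.fromSpecResidueField u) rfl

instance (U : Over S) (u : ↥U.left) : Mono (resι U u) := by
  have : Mono (resι U u).left := by
    change Mono (U.left.fromSpecResidueField u)
    infer_instance
  exact Groth.Agent.H52.mono_over_of_mono_left _

theorem toHom_ofPt' {X : Sp S} {U : Over S} (a : (yon S).obj U ⟶ X) (u : ↥U.left) :
    (FieldPt.ofPt a u).toHom = (yon S).map (resι U u) ≫ a := FieldPt.toHom_ofPt a u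

/-- A morphism over `S` from a reduced scheme with image a single point `u` factors through
`Spec κ(u)`. -/
theorem exists_factor_resι {T U : Over S} [IsReduced T.left] (g : T ⟶ U) (u : ↥U.left)
    (hu : ∀ t : ↥T.left, g.left t = u) : ∃ r : T ⟶ resPt U u, r ≫ resι U u = g := by
  obtain ⟨r, hr⟩ :=
    Groth.Agent.Lib.Helper54.exists_factor_fromSpecResidueField_of_isReduced g.left u hu
  refine ⟨Over.homMk r ?_, ?_⟩
  · change r ≫ U.left.fromSpecResidueField u ≫ U.hom = T.hom
    rw [← Category.assoc, hr, Over.w]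
  · ext1
    exact hr

/-- Two monomorphic field points in the same class are isomorphic over the sheaf. -/
theorem exists_iso_of_mono_fieldPt {X : Sp S} (hX : IsAlgSpace X) (p₁ p₂ : FieldPt X)
    (h1 : Mono p₁.toHom) (h2 : Mono p₂.toHom) (h : Points.mk p₁ = Points.mk p₂) :
    ∃ e : p₁.pt ≅ p₂.pt, (yon S).map e.hom ≫ p₂.toHom = p₁.toHom := by
  have sq := IsPullback.of_hasPullback p₁.toHom p₂.toHom
  have hP : IsAlgSpace (pullback p₁.toHom p₂.toHom) :=
    Groth.Agent.H52.isAlgSpace_of_isPullback sq (IsAlgSpace.yon_obj _) hX (IsAlgSpace.yon_obj _)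
  obtain ⟨t, -, -⟩ := Groth.Agent.H52.exists_point_of_isPullback sq
    (Points.ofScheme p₁.pt (IsLocalRing.closedPoint p₁.K))
    (Points.ofScheme p₂.pt (IsLocalRing.closedPoint p₂.K)) (by
      rw [Groth.Agent.H53.FibrePts.points_map_toHom_eq,
        Groth.Agent.H53.FibrePts.points_map_toHom_eq, h])
  have hm1 : Mono (pullback.fst p₁.toHom p₂.toHom) := inferInstance
  have hm2 : Mono (pullback.snd p₁.toHom p₂.toHom) := inferInstance
  have hi1 : IsIso (pullback.fst p₁.toHom p₂.toHom) :=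
    Groth.Agent.Lib.Helper54.isIso_of_mono_to_field_of_isAlgSpace hP t _
  have hi2 : IsIso (pullback.snd p₁.toHom p₂.toHom) :=
    Groth.Agent.Lib.Helper54.isIso_of_mono_to_field_of_isAlgSpace hP t _
  let e' : (yon S).obj p₁.pt ≅ (yon S).obj p₂.pt :=
    (asIso (pullback.fst p₁.toHom p₂.toHom)).symm ≪≫ asIso (pullback.snd p₁.toHom p₂.toHom)
  refine ⟨(yon S).preimageIso e', ?_⟩
  rw [Functor.preimageIso_hom, Functor.map_preimage]
  change (inv (pullback.fst p₁.toHom p₂.toHom) ≫ pullback.snd p₁.toHom p₂.toHom) ≫ p₂.toHom = _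
  rw [Category.assoc, ← pullback.condition, IsIso.inv_hom_id_assoc]


/-- A split monomorphism between spectra of fields is an isomorphism. -/
theorem isIso_of_section_spec_field {K L : Type u} [Field K] [Field L]
    (l : Spec (CommRingCat.of K) ⟶ Spec (CommRingCat.of L))
    (m : Spec (CommRingCat.of L) ⟶ Spec (CommRingCat.of K)) (h : l ≫ m = 𝟙 _) : IsIso m := by
  obtain ⟨φl, rfl⟩ := Spec.map_surjective l
  obtain ⟨φm, rfl⟩ := Spec.map_surjective m
  have h' : φm ≫ φl = 𝟙 _ := by
    apply Spec.map_injective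
    rw [Spec.map_comp, h, Spec.map_id]
  have hsurj : Function.Surjective φl.hom := fun y => ⟨φm.hom y, by
    have := congrArg (fun f => f.hom y) h'
    simpa using this⟩
  have hinj : Function.Injective φl.hom := φl.hom.injective
  have hiso : IsIso φl := (ConcreteCategory.isIso_iff_bijective φl).2 ⟨hinj, hsurj⟩
  have : IsIso (Spec.map φl) := inferInstance
  have : IsIso (Spec.map φl ≫ Spec.map φm) := by rw [h]; infer_instance
  exact IsIso.of_isIso_comp_left (Spec.map φl) (Spec.map φm)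

/-- Key lemma: if `Spec κ(u₁) ⟶ U₁` lifts along `h : U ⟶ U₁` to `l`, then the image point `v` of
`l` lies over `u₁` and the field point of `v` is again a monomorphism. -/
theorem mono_ofPt_of_section {X : Sp S} {U₁ U : Over S} (a₁ : (yon S).obj U₁ ⟶ X) (u₁ : ↥U₁.left)
    (hm : Mono (FieldPt.ofPt a₁ u₁).toHom) (h : U ⟶ U₁) (l : resPt U₁ u₁ ⟶ U)
    (hl : l ≫ h = resι U₁ u₁) :
    h.left (l.left (IsLocalRing.closedPoint (U₁.left.residueField u₁))) = u₁ ∧
      Mono (FieldPt.ofPt ((yon S).map h ≫ a₁)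
        (l.left (IsLocalRing.closedPoint (U₁.left.residueField u₁)))).toHom := by
  set v := l.left (IsLocalRing.closedPoint (U₁.left.residueField u₁)) with hv
  have hv1 : h.left v = u₁ := by
    have := congrArg (fun g => g.left (IsLocalRing.closedPoint (U₁.left.residueField u₁))) hl
    simp only [Over.comp_left, Scheme.Hom.comp_apply] at this
    rw [hv, this]
    exact Scheme.fromSpecResidueField_apply _ _
  refine ⟨hv1, ?_⟩
  have hred : IsReduced (resPt U₁ u₁).left := by
    change IsReduced (Spec (U₁.left.residueField u₁))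
    infer_instance
  have hred' : IsReduced (resPt U v).left := by
    change IsReduced (Spec (U.left.residueField v))
    infer_instance
  have hone : ∀ t : ↥(resPt U₁ u₁).left, t = IsLocalRing.closedPoint (U₁.left.residueField u₁) :=
    fun t => Subsingleton.elim (α := ↥(Spec (U₁.left.residueField u₁))) _ _
  obtain ⟨l', hl'⟩ := exists_factor_resι l v (fun t => by rw [hone t])
  obtain ⟨m, hm'⟩ := exists_factor_resι (resι U v ≫ h) u₁ (fun t => by
    rw [Over.comp_left, Scheme.Hom.comp_apply]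
    have : (resι U v).left t = v := Scheme.fromSpecResidueField_apply _ _
    rw [this, hv1])
  have hlm : l' ≫ m = 𝟙 _ := by
    rw [← cancel_mono (resι U₁ u₁), Category.assoc, hm', ← Category.assoc, hl', hl,
      Category.id_comp]
  have hmiso : IsIso m.left := by
    have h0 : l'.left ≫ m.left = 𝟙 _ := by
      have := congrArg (fun g => g.left) hlm
      simpa using this
    exact isIso_of_section_spec_field (K := U₁.left.residueField u₁)
      (L := U.left.residueField v) l'.left m.left h0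
  have hmm : Mono m := Groth.Agent.H52.mono_over_of_mono_left _
  have hym : Mono ((yon S).map m) := Groth.Agent.H52.mono_yon_map _
  have heq : (FieldPt.ofPt ((yon S).map h ≫ a₁) v).toHom =
      (yon S).map m ≫ (FieldPt.ofPt a₁ u₁).toHom := by
    rw [toHom_ofPt', toHom_ofPt', ← Category.assoc, ← Functor.map_comp, ← hm',
      Functor.map_comp, Category.assoc]
  rw [heq]
  exact mono_comp _ _


theorem resι_closedPoint (U : Over S) (u : ↥U.left) (t : ↥(resPt U u).left) :
    (resι U u).left t = u := Scheme.fromSpecResidueField_apply _ _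

/-- Two elementary étale neighbourhoods are dominated by a third. -/
theorem cone_objs {X : Sp S} (hX : IsAlgSpace X) (x : Points X) {U₁ U₂ : Over S}
    (a₁ : (yon S).obj U₁ ⟶ X) (a₂ : (yon S).obj U₂ ⟶ X) (u₁ : ↥U₁.left) (u₂ : ↥U₂.left)
    (h₁ : IsElemEtaleNbhd a₁ u₁ x) (h₂ : IsElemEtaleNbhd a₂ u₂ x) :
    ∃ (U : Over S) (a : (yon S).obj U ⟶ X) (v : ↥U.left) (g₁ : U ⟶ U₁) (g₂ : U ⟶ U₂),
      IsElemEtaleNbhd a v x ∧ (yon S).map g₁ ≫ a₁ = a ∧ (yon S).map g₂ ≫ a₂ = a ∧
        g₁.left v = u₁ ∧ g₂.left v = u₂ := by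
  obtain ⟨e, he⟩ := exists_iso_of_mono_fieldPt hX (FieldPt.ofPt a₁ u₁) (FieldPt.ofPt a₂ u₂)
    h₁.mono h₂.mono (h₁.ofPt_eq.trans h₂.ofPt_eq.symm)
  have sq := h₁.etale.rep.isPullback' a₂
  have het1 : Etale (h₁.etale.rep.fst' a₂).left := h₂.etale.property a₁ _ _ sq.flip
  generalize h₁.etale.rep.fst' a₂ = pr₁ at sq het1
  generalize h₁.etale.rep.snd a₂ = pr₂ at sq
  generalize h₁.etale.rep.pullback a₂ = U at pr₁ pr₂
  let e₀ : resPt U₁ u₁ ⟶ resPt U₂ u₂ := e.hom
  have he' : (yon S).map e₀ ≫ (yon S).map (resι U₂ u₂) ≫ a₂ = (yon S).map (resι U₁ u₁) ≫ a₁ := by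
    rw [← toHom_ofPt', ← toHom_ofPt']; exact he
  obtain ⟨l, hl⟩ := (yon S).map_surjective
    (sq.lift ((yon S).map (resι U₁ u₁)) ((yon S).map (e₀ ≫ resι U₂ u₂)) (by
      rw [Functor.map_comp, Category.assoc, he']))
  have hl1 : l ≫ pr₁ = resι U₁ u₁ :=
    (yon S).map_injective (by rw [Functor.map_comp, hl, sq.lift_fst])
  have hl2 : l ≫ pr₂ = e₀ ≫ resι U₂ u₂ :=
    (yon S).map_injective (by rw [Functor.map_comp, hl, sq.lift_snd])
  obtain ⟨hv1, hvm⟩ := mono_ofPt_of_section a₁ u₁ h₁.mono pr₁ l hl1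
  set v := l.left (IsLocalRing.closedPoint (U₁.left.residueField u₁)) with hv
  have hv2 : pr₂.left v = u₂ := by
    have := congrArg (fun g => g.left (IsLocalRing.closedPoint (U₁.left.residueField u₁))) hl2
    simp only [Over.comp_left, Scheme.Hom.comp_apply] at this
    rw [hv, this]
    exact resι_closedPoint U₂ u₂ _
  have hae : RepWith @Etale ((yon S).map pr₁ ≫ a₁) :=
    MorphismProperty.comp_mem _ _ _ ((repWith_yon_map_iff _ _).2 het1) h₁.etale
  refine ⟨U, (yon S).map pr₁ ≫ a₁, v, pr₁, pr₂, ⟨hae, ?_, hvm⟩, rfl, sq.w.symm, hv1, hv2⟩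
  rw [Groth.Agent.H53.FibrePts.ofPt_yon_map_comp, hv1]
  exact h₁.ofPt_eq


/-- Two parallel morphisms of elementary étale neighbourhoods are equalized by a third. -/
theorem cone_maps {X : Sp S} (x : Points X) {U₁ U₂ : Over S}
    (a₁ : (yon S).obj U₁ ⟶ X) (a₂ : (yon S).obj U₂ ⟶ X) (u₁ : ↥U₁.left) (u₂ : ↥U₂.left)
    (b c : U₁ ⟶ U₂) (h₁ : IsElemEtaleNbhd a₁ u₁ x) (h₂ : IsElemEtaleNbhd a₂ u₂ x)
    (hb : (yon S).map b ≫ a₂ = a₁) (hc : (yon S).map c ≫ a₂ = a₁) (hbu : b.left u₁ = u₂)
    (hcu : c.left u₁ = u₂) :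
    ∃ (U : Over S) (a : (yon S).obj U ⟶ X) (v : ↥U.left) (g : U ⟶ U₁),
      IsElemEtaleNbhd a v x ∧ (yon S).map g ≫ a₁ = a ∧ g.left v = u₁ ∧ g ≫ b = g ≫ c := by
  -- the two maps agree on `Spec κ(u₁)`
  have hred : IsReduced (resPt U₁ u₁).left := by
    change IsReduced (Spec (U₁.left.residueField u₁))
    infer_instance
  obtain ⟨β, hβ⟩ := exists_factor_resι (resι U₁ u₁ ≫ b) u₂ (fun t => by
    rw [Over.comp_left, Scheme.Hom.comp_apply, resι_closedPoint, hbu])
  obtain ⟨γ, hγ⟩ := exists_factor_resι (resι U₁ u₁ ≫ c) u₂ (fun t => by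
    rw [Over.comp_left, Scheme.Hom.comp_apply, resι_closedPoint, hcu])
  have hβγ : β = γ := by
    apply (yon S).map_injective
    have := h₂.mono
    rw [← cancel_mono (FieldPt.ofPt a₂ u₂).toHom, toHom_ofPt', ← Category.assoc,
      ← Category.assoc, ← Functor.map_comp, ← Functor.map_comp, hβ, hγ, Functor.map_comp,
      Functor.map_comp, Category.assoc, Category.assoc, hb, hc]
  have hιbc : resι U₁ u₁ ≫ b = resι U₁ u₁ ≫ c := by rw [← hβ, ← hγ, hβγ]
  -- the kernel pair of `a₂` and its diagonal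
  have sqR := h₂.etale.rep.isPullback' a₂
  have hs : Etale (h₂.etale.rep.fst' a₂).left := h₂.etale.property a₂ _ _ sqR.flip
  generalize h₂.etale.rep.fst' a₂ = s at sqR hs
  generalize h₂.etale.rep.snd a₂ = t at sqR
  generalize h₂.etale.rep.pullback a₂ = R at s t
  obtain ⟨Δ, hΔ⟩ := (yon S).map_surjective (sqR.lift (𝟙 _) (𝟙 _) rfl)
  have hΔs : Δ ≫ s = 𝟙 _ := (yon S).map_injective (by
    rw [Functor.map_comp, hΔ, sqR.lift_fst, CategoryTheory.Functor.map_id])
  have hΔt : Δ ≫ t = 𝟙 _ := (yon S).map_injective (by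
    rw [Functor.map_comp, hΔ, sqR.lift_snd, CategoryTheory.Functor.map_id])
  obtain ⟨bc, hbc⟩ := (yon S).map_surjective
    (sqR.lift ((yon S).map b) ((yon S).map c) (hb.trans hc.symm))
  have hbcs : bc ≫ s = b := (yon S).map_injective (by rw [Functor.map_comp, hbc, sqR.lift_fst])
  have hbct : bc ≫ t = c := (yon S).map_injective (by rw [Functor.map_comp, hbc, sqR.lift_snd])
  have hΔet : Etale Δ.left := by
    have h0 : Δ.left ≫ s.left = 𝟙 _ := by
      have := congrArg (fun g => g.left) hΔs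
      simpa using this
    have : Etale (Δ.left ≫ s.left) := by rw [h0]; infer_instance
    exact Etale.of_comp Δ.left s.left
  have hΔmono : Mono Δ.left := by
    have h0 : Δ.left ≫ s.left = 𝟙 _ := by
      have := congrArg (fun g => g.left) hΔs
      simpa using this
    exact mono_of_mono_fac h0
  have hΔoi : IsOpenImmersion Δ.left := IsOpenImmersion.of_flat_of_mono _
  -- the equalizer
  have sqE := IsPullback.of_hasPullback Δ bc
  have hoi : IsOpenImmersion (pullback.snd Δ bc).left :=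
    MorphismProperty.of_isPullback (P := @IsOpenImmersion) (sqE.map (Over.forget S)) hΔoi
  have hgb : pullback.snd Δ bc ≫ b = pullback.fst Δ bc := by
    rw [← hbcs, ← Category.assoc, ← pullback.condition, Category.assoc, hΔs, Category.comp_id]
  have hgc : pullback.snd Δ bc ≫ c = pullback.fst Δ bc := by
    rw [← hbct, ← Category.assoc, ← pullback.condition, Category.assoc, hΔt, Category.comp_id]
  have hcond : (resι U₁ u₁ ≫ b) ≫ Δ = resι U₁ u₁ ≫ bc := by
    apply (yon S).map_injective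
    apply sqR.hom_ext
    · rw [← Functor.map_comp, ← Functor.map_comp, Category.assoc, Category.assoc, hΔs,
        Category.comp_id, Category.assoc, hbcs]
    · rw [← Functor.map_comp, ← Functor.map_comp, Category.assoc, Category.assoc, hΔt,
        Category.comp_id, Category.assoc, hbct, hιbc]
  have hl : pullback.lift (resι U₁ u₁ ≫ b) (resι U₁ u₁) hcond ≫ pullback.snd Δ bc =
      resι U₁ u₁ := pullback.lift_snd _ _ _
  obtain ⟨hv1, hvm⟩ := mono_ofPt_of_section a₁ u₁ h₁.mono (pullback.snd Δ bc) _ hl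
  have hget : Etale (pullback.snd Δ bc).left := inferInstance
  have hae : RepWith @Etale ((yon S).map (pullback.snd Δ bc) ≫ a₁) :=
    MorphismProperty.comp_mem _ _ _ ((repWith_yon_map_iff _ _).2 hget) h₁.etale
  refine ⟨pullback Δ bc, (yon S).map (pullback.snd Δ bc) ≫ a₁, _, pullback.snd Δ bc,
    ⟨hae, ?_, hvm⟩, rfl, hv1, hgb.trans hgc.symm⟩
  rw [Groth.Agent.H53.FibrePts.ofPt_yon_map_comp, hv1]
  exact h₁.ofPt_eq

end Groth.Agent.H53.ElemNbhd
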