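import Mathlib.AlgebraicGeometry.Noetherian
import Mathlib.AlgebraicGeometry.AffineScheme
import Mathlib.RingTheory.Ideal.Maximal
import Mathlib.AlgebraicGeometry.Properties

set_option autoImplicit false
set_option backward.isDefEq.respectTransparency false
universe u
open CategoryTheory CategoryTheory.Limits AlgebraicGeometry Opposite Topology

namespace Groth.Agent.H53.LocConst

/-- In a reduced ring, an element lying in every prime contained in `q` is killed by an element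
outside `q`. -/
theorem exists_not_mem_mul_eq_zero {B : Type*} [CommRing B] [IsReduced B] (q : Ideal B) [q.IsPrime]
    (b : B) (hb : ∀ q' : Ideal B, q'.IsPrime → q' ≤ q → b ∈ q') : ∃ s, s ∉ q ∧ s * b = 0 := by
  by_contra hcon
  simp only [not_exists, not_and] at hcon
  let T : Submonoid B := q.primeCompl ⊔ Submonoid.powers b
  have hT : Disjoint ((⊥ : Ideal B) : Set B) T := by
    rw [Set.disjoint_left]
    intro x hx hxT
    have hx0 : x = 0 := hx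
    obtain ⟨s, hs, z, ⟨n, rfl⟩, hsz⟩ := Submonoid.mem_sup.1 hxT
    rw [hx0] at hsz
    have h1 : (s * b) ^ (n + 1) = 0 := by
      rw [mul_pow, pow_succ b, pow_succ s]
      calc s ^ n * s * (b ^ n * b) = (s * b ^ n) * (s ^ n * b) := by ring
        _ = 0 := by rw [hsz, zero_mul]
    have h2 : s * b = 0 := pow_eq_zero_iff (n := n + 1) (by omega) |>.1 h1
    exact hcon s hs h2
  obtain ⟨q', hq', -, hdisj⟩ := Ideal.exists_le_prime_disjoint (⊥ : Ideal B) T hT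
  have hle : q' ≤ q := by
    intro y hy
    by_contra hyq
    exact Set.disjoint_left.1 hdisj hy (Submonoid.mem_sup_left hyq)
  exact Set.disjoint_left.1 hdisj (hb q' hq' hle)
    (Submonoid.mem_sup_right (Submonoid.mem_powers b))


theorem mem_basicOpen_iff_not_mem_primeIdealOf {V : Scheme.{u}} {V₀ : V.Opens} (hV₀ : IsAffineOpen V₀)
    (s : Γ(V, V₀)) (w : ↥V) (hw : w ∈ V₀) :
    w ∈ V.basicOpen s ↔ s ∉ (hV₀.primeIdealOf ⟨w, hw⟩).asIdeal := by
  have h1 : hV₀.fromSpec (hV₀.primeIdealOf ⟨w, hw⟩) = w := hV₀.fromSpec_primeIdealOf ⟨w, hw⟩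
  have h2 : hV₀.primeIdealOf ⟨w, hw⟩ ∈ hV₀.fromSpec ⁻¹ᵁ V.basicOpen s ↔
      hV₀.primeIdealOf ⟨w, hw⟩ ∈ PrimeSpectrum.basicOpen s := by
    rw [hV₀.fromSpec_preimage_basicOpen]
  rw [← PrimeSpectrum.mem_basicOpen, ← h2]
  change _ ↔ hV₀.fromSpec (hV₀.primeIdealOf ⟨w, hw⟩) ∈ V.basicOpen s
  rw [h1]

/-- A morphism from a reduced scheme to a locally Noetherian scheme whose image contains no
nontrivial specializations is locally constant. -/
theorem exists_open_nbhd_const {V U : Scheme.{u}} [IsReduced V] [IsLocallyNoetherian U] (h : V ⟶ U)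
    (hE : ∀ v v' : ↥V, h v' ⤳ h v → h v' = h v) (v : ↥V) :
    ∃ N : V.Opens, v ∈ N ∧ ∀ w ∈ N, h w = h v := by
  obtain ⟨_, ⟨U₀, hU₀, rfl⟩, huU₀, -⟩ :=
    (U.isBasis_affineOpens).exists_subset_of_mem_open (Set.mem_univ (h v)) isOpen_univ
  obtain ⟨_, ⟨V₀, hV₀, rfl⟩, hvV₀, hVU'⟩ :=
    (V.isBasis_affineOpens).exists_subset_of_mem_open (show v ∈ (h ⁻¹ᵁ U₀ : Set ↥V) from huU₀)
      (h ⁻¹ᵁ U₀).2
  have hVU : V₀ ≤ h ⁻¹ᵁ U₀ := hVU'
  have hN : IsNoetherianRing Γ(U, U₀) := IsLocallyNoetherian.component_noetherian ⟨U₀, hU₀⟩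
  have hred : _root_.IsReduced Γ(V, V₀) := inferInstance
  -- membership translation
  have hpt : ∀ (w : ↥V) (hw : w ∈ V₀) (a : Γ(U, U₀)),
      (h.appLE U₀ V₀ hVU).hom a ∈ (hV₀.primeIdealOf ⟨w, hw⟩).asIdeal ↔
        a ∈ (hU₀.primeIdealOf ⟨h w, hVU hw⟩).asIdeal := by
    intro w hw a
    rw [← IsAffineOpen.comap_primeIdealOf_appLE U₀ hU₀ V₀ hV₀ hVU hw]
    rfl
  -- every generator of `p` is killed near `v`
  have hkill : ∀ a ∈ (hU₀.primeIdealOf ⟨h v, hVU hvV₀⟩).asIdeal,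
      ∃ s, s ∉ (hV₀.primeIdealOf ⟨v, hvV₀⟩).asIdeal ∧ s * (h.appLE U₀ V₀ hVU).hom a = 0 := by
    intro a ha
    refine exists_not_mem_mul_eq_zero _ _ fun q' hq' hle => ?_
    let Q : PrimeSpectrum Γ(V, V₀) := ⟨q', hq'⟩
    have hQle : Q ≤ hV₀.primeIdealOf ⟨v, hvV₀⟩ := hle
    have hspec : hV₀.fromSpec Q ⤳ v := by
      have := ((PrimeSpectrum.le_iff_specializes _ _).1 hQle).map hV₀.fromSpec.continuous
      rwa [hV₀.fromSpec_primeIdealOf] at this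
    have hv'V₀ : hV₀.fromSpec Q ∈ V₀ := by
      have : hV₀.fromSpec Q ∈ Set.range hV₀.fromSpec := ⟨Q, rfl⟩
      rwa [hV₀.range_fromSpec] at this
    have hQ : hV₀.primeIdealOf ⟨hV₀.fromSpec Q, hv'V₀⟩ = Q :=
      hV₀.fromSpec.isOpenEmbedding.injective (hV₀.fromSpec_primeIdealOf _)
    have heq : h (hV₀.fromSpec Q) = h v := hE v _ (hspec.map h.continuous)
    have := (hpt (hV₀.fromSpec Q) hv'V₀ a).2 (by
      have e : (⟨h (hV₀.fromSpec Q), hVU hv'V₀⟩ : ↥U₀) = ⟨h v, hVU hvV₀⟩ := Subtype.ext heq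
      rw [e]; exact ha)
    rw [hQ] at this
    exact this
  -- finite generation
  obtain ⟨G, hG⟩ := (isNoetherianRing_iff_ideal_fg Γ(U, U₀)).1 hN
    (hU₀.primeIdealOf ⟨h v, hVU hvV₀⟩).asIdeal
  have hGmem : ∀ a ∈ G, a ∈ (hU₀.primeIdealOf ⟨h v, hVU hvV₀⟩).asIdeal := fun a ha => by
    rw [← hG]; exact Ideal.subset_span ha
  choose! σ hσ1 hσ2 using hkill
  let s : Γ(V, V₀) := ∏ a ∈ G, σ a
  have hs : s ∉ (hV₀.primeIdealOf ⟨v, hvV₀⟩).asIdeal := by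
    intro hmem
    obtain ⟨a, haG, ha⟩ := (Ideal.IsPrime.prod_mem_iff).1 hmem
    exact hσ1 a (hGmem a haG) ha
  refine ⟨V.basicOpen s, (mem_basicOpen_iff_not_mem_primeIdealOf hV₀ s v hvV₀).2 hs, ?_⟩
  intro w hw
  have hwV₀ : w ∈ V₀ := V.basicOpen_le s hw
  have hsw : s ∉ (hV₀.primeIdealOf ⟨w, hwV₀⟩).asIdeal :=
    (mem_basicOpen_iff_not_mem_primeIdealOf hV₀ s w hwV₀).1 hw
  -- `p ≤ p_w`
  have hle : (hU₀.primeIdealOf ⟨h v, hVU hvV₀⟩).asIdeal ≤
      (hU₀.primeIdealOf ⟨h w, hVU hwV₀⟩).asIdeal := by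
    rw [← hG, Ideal.span_le]
    intro a haG
    apply (hpt w hwV₀ a).1
    have h0 : s * (h.appLE U₀ V₀ hVU).hom a = 0 := by
      have hdvd : σ a ∣ s := Finset.dvd_prod_of_mem σ haG
      obtain ⟨c, hc⟩ := hdvd
      rw [hc, mul_comm (σ a) c, mul_assoc, hσ2 a (hGmem a haG), mul_zero]
    have h1 : s * (h.appLE U₀ V₀ hVU).hom a ∈ (hV₀.primeIdealOf ⟨w, hwV₀⟩).asIdeal := by
      rw [h0]; exact Ideal.zero_mem _
    exact ((Ideal.IsPrime.mem_or_mem inferInstance h1).resolve_left hsw)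
  have hspec : h v ⤳ h w := by
    have h1 : hU₀.primeIdealOf ⟨h v, hVU hvV₀⟩ ⤳ hU₀.primeIdealOf ⟨h w, hVU hwV₀⟩ :=
      (PrimeSpectrum.le_iff_specializes _ _).1 hle
    have := h1.map hU₀.fromSpec.continuous
    rwa [hU₀.fromSpec_primeIdealOf, hU₀.fromSpec_primeIdealOf] at this
  exact (hE w v hspec).symm

end Groth.Agent.H53.LocConst
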