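import Groth.Agent.H53.Unram2
import Groth.Agent.H53.SpTop
import Mathlib.AlgebraicGeometry.AlgClosed.Basic

/-!
# Lifting geometric points along etale morphisms (helper53)
-/

set_option autoImplicit false
universe u
open CategoryTheory CategoryTheory.Limits AlgebraicGeometry Opposite Topology

namespace Groth.Agent.H53
open AlgSp

variable {S : Scheme.{u}}

/-- A scheme etale over the spectrum of a field is discrete. -/
theorem discreteTopology_of_etale_field {V : Scheme.{u}} {K : Type u} [Field K]
    (h : V ⟶ Spec (CommRingCat.of K)) [Etale h] : DiscreteTopology ↥V := by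
  have : LocallyQuasiFinite h := locallyQuasiFinite_of_etale h
  by_cases hV : Nonempty ↥V
  · obtain ⟨v⟩ := hV
    have hd := h.isDiscrete_preimage_singleton (h v)
    have huniv : h ⁻¹' {h v} = Set.univ := by
      ext y
      simp only [Set.mem_preimage, Set.mem_singleton_iff, Set.mem_univ, iff_true]
      exact Subsingleton.elim _ _
    rw [huniv] at hd
    exact isDiscrete_univ_iff.1 hd
  · rw [not_nonempty_iff] at hV
    exact ⟨Subsingleton.elim _ _⟩

/-- Lifting a geometric point along an etale morphism of algebraic spaces. -/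
theorem exists_lift_geometric_point {U X : Sp S} (hU : IsAlgSpace U) (hX : IsAlgSpace X)
    (φ : U ⟶ X) (hφ : IsEtaleMor φ) (xbar : FieldPt X) (hx : xbar.IsGeometric)
    (u : Points U) (hu : Points.map φ u = Points.mk xbar) :
    ∃ ubar : (yon S).obj xbar.pt ⟶ U,
      ubar ≫ φ = xbar.toHom ∧ Points.ofPt ubar (IsLocalRing.closedPoint xbar.K) = u := by
  have : IsAlgClosed xbar.K := hx
  have sq := IsPullback.of_hasPullback φ xbar.toHom
  have hP : IsAlgSpace (pullback φ xbar.toHom) :=
    H52.isAlgSpace_of_isPullback sq hU hX (IsAlgSpace.yon_obj _)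
  have h0 : Points.map φ u =
      Points.map xbar.toHom (Points.ofScheme xbar.pt (IsLocalRing.closedPoint xbar.K)) := by
    rw [hu, ← Points.ofPt_eq_map_ofScheme, Points.ofPt_toHom]
  obtain ⟨p, hp1, hp2⟩ := H52.exists_point_of_isPullback sq u _ h0
  obtain ⟨V, a, hae, has⟩ := hP.atlas
  obtain ⟨v, hv⟩ := surjective_ofPt_of_surjective a has p
  have hloc : LocP @Etale (pullback.snd φ xbar.toHom) :=
    locP_snd_of_yon locPCalc_etale hU hX (locP_etale_of_isEtaleMor _ hφ) xbar.toHom sq
  obtain ⟨h, hh⟩ := (yon S).map_surjective (a ≫ pullback.snd φ xbar.toHom)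
  have het : Etale h.left :=
    hloc a (𝟙 _) h hae (repWith_id _ _) (by rw [Category.comp_id, hh])
  let h₀ : V.left ⟶ Spec (CommRingCat.of xbar.K) := h.left
  have het₀ : Etale h₀ := het
  have hdisc : DiscreteTopology ↥V.left := discreteTopology_of_etale_field h₀
  have hclosed : IsClosed ({v} : Set ↥V.left) := isClosed_discrete _
  let σ₀ : Spec (CommRingCat.of xbar.K) ⟶ V.left := pointOfClosedPoint h₀ v hclosed
  have hσ₀ : σ₀ ≫ h₀ = 𝟙 _ := pointOfClosedPoint_comp h₀ v hclosed
  let σ : xbar.pt ⟶ V := Over.homMk σ₀ (by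
    have hw := Over.w h
    change σ₀ ≫ V.hom = xbar.str
    rw [← hw, ← Category.assoc]
    change (σ₀ ≫ h₀) ≫ _ = _
    rw [hσ₀, Category.id_comp]
    rfl)
  have hσh : σ ≫ h = 𝟙 _ := by
    ext
    exact hσ₀
  refine ⟨(yon S).map σ ≫ a ≫ pullback.fst φ xbar.toHom, ?_, ?_⟩
  · rw [Category.assoc, Category.assoc, pullback.condition, ← Category.assoc a, ← hh,
      ← Category.assoc, ← Functor.map_comp, hσh, CategoryTheory.Functor.map_id, Category.id_comp]
  · rw [ofPt_yon_map_comp, ← Points.map_ofPt]
    have : σ.left (IsLocalRing.closedPoint xbar.K) = v := pointOfClosedPoint_apply h₀ v hclosed _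
    rw [this, hv, hp1]

end Groth.Agent.H53
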