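import Groth.Agent.H53.NoSpec
import Groth.Agent.H53.GeomPt

/-!
# Decent algebraic spaces: finite fibres of etale charts and consequences (helper53)
-/

set_option autoImplicit false
universe u
open CategoryTheory CategoryTheory.Limits AlgebraicGeometry Opposite Topology

namespace Groth.Agent.H53
open AlgSp

variable {S : Scheme.{u}}

/-- If a point of `F` is represented by a quasi-compact morphism from the spectrum of a field,
then the fibres over it of etale charts from quasi-compact schemes are finite. -/
theorem finite_fibre_of_quasiCompact_point {F : Sp S} (p : FieldPt F)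
    (hq : RepWith @QuasiCompact p.toHom) {V : Over S} [CompactSpace ↥V.left]
    (b : (yon S).obj V ⟶ F) (hb : RepWith @Etale b) :
    (Points.ofPt b ⁻¹' {Points.mk p}).Finite := by
  have hr := hq.rep
  have sq := hr.isPullback b
  obtain ⟨e, he⟩ := (yon S).map_surjective (hr.fst b)
  rw [← he] at sq
  have hqc : QuasiCompact (hr.snd b).left := hq.property b _ _ sq
  have het : Etale e.left := hb.property p.toHom _ _ sq.flip
  have hcomp : CompactSpace ↥(hr.pullback b).left :=
    QuasiCompact.compactSpace_of_compactSpace (hr.snd b).left
  let e₀ : (hr.pullback b).left ⟶ Spec (CommRingCat.of p.K) := e.left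
  have het₀ : Etale e₀ := het
  have hdisc : DiscreteTopology ↥(hr.pullback b).left := discreteTopology_of_etale_field e₀
  have hfin : Finite ↥(hr.pullback b).left := finite_of_compact_of_discrete
  refine (Set.finite_range (hr.snd b).left).subset ?_
  intro v hv
  have hv' : Points.ofPt b v = Points.mk p := hv
  have h0 : Points.map p.toHom (Points.ofScheme p.pt (IsLocalRing.closedPoint p.K)) =
      Points.map b (Points.ofScheme V v) := by
    rw [← Points.ofPt_eq_map_ofScheme, ← Points.ofPt_eq_map_ofScheme, Points.ofPt_toHom, hv']
  obtain ⟨q, -, hq2⟩ := H52.exists_point_of_isPullback sq _ _ h0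
  obtain ⟨w, rfl⟩ := (Points.schemeEquiv _).surjective q
  refine ⟨w, ?_⟩
  apply (Points.schemeEquiv V).injective
  exact (H52.points_map_ofScheme _ w).symm.trans hq2

/-- In a decent space, there are no nontrivial specializations in the fibres of etale charts. -/
theorem eq_of_specializes_of_isDecent {F : Sp S} (hF : IsDecent F) {U : Over S}
    (a : (yon S).obj U ⟶ F) (ha : RepWith @Etale a) (u u' : ↥U.left)
    (he : Points.ofPt a u = Points.ofPt a u') (hs : u' ⤳ u) : u = u' := by
  obtain ⟨p, hp, -, hq⟩ := hF (Points.ofPt a u)
  refine eq_of_specializes_of_finite_affine_fibres (Points.ofPt a u) ?_ a ha u u' rfl he.symm hs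
  intro V b hV hb
  rw [← hp]
  have : CompactSpace ↥V.left := inferInstance
  exact finite_fibre_of_quasiCompact_point p hq b hb

end Groth.Agent.H53
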