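import Groth.Agent.H53.SpTop
import Groth.Agent.H53.SourceLocal
import Groth.Agent.H52.Points
import Mathlib.AlgebraicGeometry.Morphisms.UniversallyOpen
import Mathlib.Order.Preorder.Finite

/-!
# No specializations in finite fibres of etale charts (helper53)
-/

set_option autoImplicit false
universe u
open CategoryTheory CategoryTheory.Limits AlgebraicGeometry Opposite Topology

namespace Groth.Agent.H53
open AlgSp

variable {S : Scheme.{u}}

/-- In a fibre of a locally quasi-finite morphism there are no nontrivial specializations. -/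
theorem eq_of_specializes_of_locallyQuasiFinite {A B : Scheme.{u}} (g : A ⟶ B)
    [LocallyQuasiFinite g] {r r' : ↥A} (h : r' ⤳ r) (he : g r' = g r) : r' = r := by
  have hd := g.isDiscrete_preimage_singleton (g r)
  have : DiscreteTopology ↥(g ⁻¹' {g r}) := hd.to_subtype
  have hs : (⟨r', he⟩ : ↥(g ⁻¹' {g r})) ⤳ ⟨r, rfl⟩ :=
    Topology.IsInducing.subtypeVal.specializes_iff.1 h
  exact congrArg Subtype.val (specializes_iff_eq.1 hs)

/-- The key step: a strict specialization inside a fibre of an etale chart produces a strict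
generalization of the generic end, again in the fibre. -/
theorem exists_strict_generalization_in_fibre {F : Sp S} {U : Over S} (a : (yon S).obj U ⟶ F)
    (ha : RepWith @Etale a) {y z : ↥U.left} (hyz : y ⤳ z) (hne : y ≠ z)
    (he : Points.ofPt a y = Points.ofPt a z) :
    ∃ y'' : ↥U.left, y'' ⤳ y ∧ y'' ≠ y ∧ Points.ofPt a y'' = Points.ofPt a y := by
  have hr := ha.rep
  have sq := hr.isPullback a
  obtain ⟨t, ht⟩ := (yon S).map_surjective (hr.fst a)
  rw [← ht] at sq
  have hs_et : Etale (hr.snd a).left := ha.property a _ _ sq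
  have ht_et : Etale t.left := ha.property a _ _ sq.flip
  have he' : Points.map a (Points.ofScheme U y) = Points.map a (Points.ofScheme U z) := by
    rw [← Points.ofPt_eq_map_ofScheme, ← Points.ofPt_eq_map_ofScheme, he]
  obtain ⟨p, hp1, hp2⟩ := H52.exists_point_of_isPullback sq _ _ he'
  obtain ⟨r, rfl⟩ := (Points.schemeEquiv _).surjective p
  have htr : t.left r = y := by
    apply (Points.schemeEquiv U).injective
    exact (H52.points_map_ofScheme t r).symm.trans hp1
  have hsr : (hr.snd a).left r = z := by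
    apply (Points.schemeEquiv U).injective
    exact (H52.points_map_ofScheme _ r).symm.trans hp2
  have hgen : GeneralizingMap (hr.snd a).left := Flat.generalizingMap _
  obtain ⟨r', hr'r, hr'y⟩ := hgen (a := r) (b := y) (by rw [hsr]; exact hyz)
  refine ⟨t.left r', ?_, ?_, ?_⟩
  · rw [← htr]
    exact hr'r.map t.left.continuous
  · intro hcon
    have : LocallyQuasiFinite t.left := locallyQuasiFinite_of_etale t.left
    have hrr : r' = r := eq_of_specializes_of_locallyQuasiFinite t.left hr'r (by rw [hcon, htr])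
    apply hne
    rw [← hr'y, hrr, hsr]
  · rw [← ofPt_yon_map_comp, sq.w, ofPt_yon_map_comp, hr'y]

/-- No nontrivial specializations inside a finite fibre of an etale chart. -/
theorem eq_of_specializes_of_finite_fibre {F : Sp S} {U : Over S} (a : (yon S).obj U ⟶ F)
    (ha : RepWith @Etale a) (x : Points F) (hfin : (Points.ofPt a ⁻¹' {x}).Finite)
    {u u' : ↥U.left} (hu : Points.ofPt a u = x) (hu' : Points.ofPt a u' = x) (hs : u' ⤳ u) :
    u = u' := by
  by_contra hne
  letI := specializationPreorder ↥U.left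
  let G : Set ↥U.left := {y | Points.ofPt a y = x ∧ ∃ z, Points.ofPt a z = x ∧ y ⤳ z ∧ y ≠ z}
  have hGfin : G.Finite := hfin.subset fun y hy => hy.1
  have hGne : G.Nonempty := ⟨u', hu', u, hu, hs, fun h => hne h.symm⟩
  obtain ⟨y₀, ⟨hy₀x, z, hzx, hy₀z, hy₀ne⟩, hmax⟩ := hGfin.exists_maximal hGne
  obtain ⟨y'', h1, h2, h3⟩ := exists_strict_generalization_in_fibre a ha hy₀z hy₀ne
    (hy₀x.trans hzx.symm)
  have hy''G : y'' ∈ G := ⟨h3.trans hy₀x, y₀, hy₀x, h1, h2⟩
  have hle : y₀ ≤ y'' := h1
  have hge : y'' ≤ y₀ := hmax hy''G hle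
  have : y₀ ⤳ y'' := hge
  exact h2 ((h1.antisymm this).eq)

/-- Reduction to an affine open neighbourhood. -/
theorem eq_of_specializes_of_finite_affine_fibres {F : Sp S} (x : Points F)
    (hx : ∀ (V : Over S) (b : (yon S).obj V ⟶ F), IsAffine V.left → RepWith @Etale b →
      (Points.ofPt b ⁻¹' {x}).Finite)
    {U : Over S} (a : (yon S).obj U ⟶ F) (ha : RepWith @Etale a) (u u' : ↥U.left)
    (hu : Points.ofPt a u = x) (hu' : Points.ofPt a u' = x) (hs : u' ⤳ u) : u = u' := by
  obtain ⟨W, hW, huW⟩ : ∃ W : U.left.Opens, IsAffineOpen W ∧ u ∈ W := by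
    obtain ⟨_, ⟨W, hW, rfl⟩, huW, -⟩ :=
      (U.left.isBasis_affineOpens).exists_subset_of_mem_open (Set.mem_univ u) isOpen_univ
    exact ⟨W, hW, huW⟩
  have hu'W : u' ∈ W := hs.mem_open W.2 huW
  let V : Over S := Over.mk (W.ι ≫ U.hom)
  let ι : V ⟶ U := Over.homMk W.ι rfl
  have hVaff : IsAffine V.left := hW
  have hιet : RepWith @Etale ((yon S).map ι) :=
    (repWith_yon_map_iff _ _).2 (by change Etale W.ι; infer_instance)
  have hb : RepWith @Etale ((yon S).map ι ≫ a) :=
    (RepWith (S := S) @Etale).comp_mem _ _ hιet ha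
  have hfin := hx V _ hVaff hb
  let u₀ : ↥V.left := ⟨u, huW⟩
  let u₀' : ↥V.left := ⟨u', hu'W⟩
  have h1 : Points.ofPt ((yon S).map ι ≫ a) u₀ = x := by
    rw [ofPt_yon_map_comp]; exact hu
  have h2 : Points.ofPt ((yon S).map ι ≫ a) u₀' = x := by
    rw [ofPt_yon_map_comp]; exact hu'
  have h3 : u₀' ⤳ u₀ := Topology.IsInducing.subtypeVal.specializes_iff.1 hs
  have := eq_of_specializes_of_finite_fibre _ hb x hfin h1 h2 h3
  exact congrArg Subtype.val this

end Groth.Agent.H53
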