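import Groth.Agent.H53.NoethSpec
import Groth.Agent.H53.LocConst
import Groth.Agent.H53.ElemNbhd
import Groth.Agent.H53.ZarGlueAff
import Groth.Agent.Lib.Helper51.EpiDescentPullback
import Groth.Agent.Lib.Helper54.ReducedFactor
import Groth.Agent.Lib.Helper54.Reduced

set_option autoImplicit false
set_option backward.isDefEq.respectTransparency false
universe u
open CategoryTheory CategoryTheory.Limits AlgebraicGeometry Opposite Topology
open AlgSp

namespace Groth.Agent.H53.ResidualFactor

open Groth.Agent.H53.ZarGlue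

variable {S : Scheme.{u}}

/-- A field point lying in the image of a monomorphism of algebraic spaces factors through it. -/
theorem exists_factor_fieldPt {X Z : Sp S} (hX : IsAlgSpace X) (hZ : IsAlgSpace Z) (i : Z ⟶ X)
    [Mono i] (q : FieldPt X) (hq : Points.mk q ∈ Set.range (Points.map i)) :
    ∃ g : (yon S).obj q.pt ⟶ Z, g ≫ i = q.toHom := by
  obtain ⟨z, hz⟩ := hq
  have sq := IsPullback.of_hasPullback q.toHom i
  have hP : IsAlgSpace (pullback q.toHom i) :=
    Groth.Agent.H52.isAlgSpace_of_isPullback sq (IsAlgSpace.yon_obj _) hX hZ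
  obtain ⟨t, -, -⟩ := Groth.Agent.H52.exists_point_of_isPullback sq
    (Points.ofScheme q.pt (IsLocalRing.closedPoint q.K)) z (by
      rw [Groth.Agent.H53.FibrePts.points_map_toHom_eq, hz])
  have hm1 : Mono (pullback.fst q.toHom i) := inferInstance
  have hi1 : IsIso (pullback.fst q.toHom i) :=
    Groth.Agent.Lib.Helper54.isIso_of_mono_to_field_of_isAlgSpace hP t _
  exact ⟨inv (pullback.fst q.toHom i) ≫ pullback.snd q.toHom i, by
    rw [Category.assoc, ← pullback.condition, IsIso.inv_hom_id_assoc]⟩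

/-- A morphism from a representable sheaf which Zariski locally factors through a monomorphism
factors through it. -/
theorem exists_factor_of_zariski_local {A G : Sp S} (m : A ⟶ G) [Mono m] {T : Over S}
    (ψ : (yon S).obj T ⟶ G)
    (h : ∀ t : ↥T.left, ∃ (N : T.left.Opens) (l : (yon S).obj (ov T N) ⟶ A), t ∈ N ∧
      l ≫ m = (yon S).map (ovι T N) ≫ ψ) : ∃ g : (yon S).obj T ⟶ A, g ≫ m = ψ := by
  choose N l hN hl using h
  have hmono : Mono (pullback.fst ψ m) := inferInstance
  have hepi : Epi (pullback.fst ψ m) := by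
    apply Groth.Agent.Lib.Helper51.epi_of_forall_local_lift
    intro T' z
    obtain ⟨σ, rfl⟩ := (yon S).map_surjective z
    let Sv : Sieve T' :=
      { arrows := fun Y f => ∃ c : (yon S).obj Y ⟶ pullback ψ m,
          c ≫ pullback.fst ψ m = (yon S).map f ≫ (yon S).map σ
        downward_closed := by
          rintro Y Y' f ⟨c, hc⟩ g
          exact ⟨(yon S).map g ≫ c, by rw [Category.assoc, hc, Functor.map_comp, Category.assoc]⟩ }
    refine ⟨Sv, ?_, fun Y f hf => hf⟩
    let 𝒰 : T'.left.OpenCover := {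
      I₀ := ↥T'.left
      X := fun t' => (σ.left ⁻¹ᵁ N (σ.left t'))
      f := fun t' => (σ.left ⁻¹ᵁ N (σ.left t')).ι
      mem₀ := by
        rw [Scheme.presieve₀_mem_precoverage_iff]
        refine ⟨fun x ↦ ⟨x, by simpa using hN (σ.left x)⟩, inferInstance⟩ }
    refine mem_J_of_openCover 𝒰 Sv fun t' => ?_
    change Sv.arrows (ovι T' (σ.left ⁻¹ᵁ N (σ.left t')))
    refine ⟨pullback.lift ((yon S).map (ovRestrict σ (N (σ.left t')) ≫ ovι T _))
      ((yon S).map (ovRestrict σ (N (σ.left t'))) ≫ l _) ?_, ?_⟩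
    · rw [Category.assoc, hl, Functor.map_comp, Category.assoc]
    · rw [pullback.lift_fst, ← Functor.map_comp, ovRestrict_ovι]
  have hiso : IsIso (pullback.fst ψ m) := Groth.Agent.Lib.Helper51.isIso_of_mono_of_epi_sp _
  exact ⟨inv (pullback.fst ψ m) ≫ pullback.snd ψ m, by
    rw [Category.assoc, ← pullback.condition, IsIso.inv_hom_id_assoc]⟩


/-- A reduced space mapping to a single point `x` of a locally Noetherian algebraic space factors
through every monomorphism of algebraic spaces whose image contains `x`. -/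
theorem exists_factor_of_reduced_of_locNoeth {X Y Z : Sp S} (hX : IsAlgSpace X) (hZ : IsAlgSpace Z)
    (f : Y ⟶ X) (x : Points X) (hf : ∀ y : Points Y, Points.map f y = x)
    (hY : EtaleLocally (fun U => IsReduced U) Y) (hXN : IsLocNoethSp X) (i : Z ⟶ X) [Mono i]
    (hi : x ∈ Set.range (Points.map i)) : ∃ g : Y ⟶ Z, g ≫ i = f := by
  obtain ⟨V, b, hbe, hbs, hVred⟩ := hY
  have hVred' : IsReduced V.left := hVred
  have hbepi : Epi b := Groth.Agent.H52.epi_of_repWith_etale_surjective b hbe hbs
  suffices ∃ g' : (yon S).obj V ⟶ Z, g' ≫ i = b ≫ f by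
    obtain ⟨g', hg'⟩ := this
    exact Groth.Agent.Lib.Helper54.exists_factor_mono_of_epi i f b g' hg'
  obtain ⟨U, a, hae, has, hUN⟩ := hXN
  have hUN' : IsLocallyNoetherian U.left := hUN
  have sq := hae.rep.isPullback' (b ≫ f)
  have hdet : Etale (hae.rep.snd (b ≫ f)).left := hae.property_snd (b ≫ f)
  have hdsurj : Surjective (hae.rep.snd (b ≫ f)).left := has.property_snd (b ≫ f)
  generalize hae.rep.fst' (b ≫ f) = c at sq
  generalize hae.rep.snd (b ≫ f) = d at sq hdet hdsurj
  generalize hae.rep.pullback (b ≫ f) = V' at c d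
  have hV'red : IsReduced V'.left := Groth.Agent.Lib.Helper54.isReduced_of_etale_scheme d.left
  have hdepi : Epi ((yon S).map d) := Groth.Agent.H52.epi_yon_map_of_fppf d
  suffices ∃ g'' : (yon S).obj V' ⟶ Z, g'' ≫ i = (yon S).map c ≫ a by
    obtain ⟨g'', hg''⟩ := this
    exact Groth.Agent.Lib.Helper54.exists_factor_mono_of_epi i (b ≫ f) ((yon S).map d) g''
      (hg''.trans sq.w)
  have hEpt : ∀ w : ↥V'.left, Points.ofPt a (c.left w) = x := by
    intro w
    rw [← Groth.Agent.H53.FibrePts.ofPt_yon_map_comp, sq.w,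
      Groth.Agent.H53.FibrePts.ofPt_yon_map_comp, ← Points.map_ofPt]
    exact hf _
  have hE : ∀ v w : ↥V'.left, c.left w ⤳ c.left v → c.left w = c.left v := fun v w hs =>
    Groth.Agent.H53.NoethSpec.eq_of_specializes_of_isLocallyNoetherian a hae hs
      ((hEpt w).trans (hEpt v).symm)
  apply exists_factor_of_zariski_local i
  intro v'
  obtain ⟨N, hvN, hNconst⟩ := Groth.Agent.H53.LocConst.exists_open_nbhd_const c.left hE v'
  have hNred : IsReduced (ov V' N).left := by
    change IsReduced (N : Scheme)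
    infer_instance
  obtain ⟨r, hr⟩ := Groth.Agent.H53.ElemNbhd.exists_factor_resι (ovι V' N ≫ c) (c.left v')
    (fun t => by
      rw [Over.comp_left, Scheme.Hom.comp_apply]
      exact hNconst _ (by
        have : (ovι V' N).left t = N.ι t := rfl
        rw [this]
        exact t.2))
  obtain ⟨g, hg⟩ := exists_factor_fieldPt hX hZ i (FieldPt.ofPt a (c.left v')) (by
    have : Points.mk (FieldPt.ofPt a (c.left v')) = x := hEpt v'
    rw [this]; exact hi)
  refine ⟨N, (yon S).map r ≫ g, hvN, ?_⟩
  rw [Category.assoc, hg, Groth.Agent.H53.ElemNbhd.toHom_ofPt', ← Category.assoc,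
    ← Functor.map_comp, hr, Functor.map_comp, Category.assoc]

end Groth.Agent.H53.ResidualFactor
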