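import Groth.Agent.H53.EffDescMain
import Groth.Agent.H53.ResidualFactor
import Groth.Agent.H72.NormalBir3
import Groth.Agent.Lib.Helper54.Transfer
import Groth.Agent.Lib.Helper54.Reduced

set_option autoImplicit false
set_option backward.isDefEq.respectTransparency false
universe u
open CategoryTheory CategoryTheory.Limits AlgebraicGeometry Opposite Topology TopologicalSpace
open AlgSp

namespace Groth.Agent.H53.ResidualClosed

variable {S : Scheme.{u}}

/-- The points of a chart lying over the image of a morphism are the image of the base change. -/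
theorem range_eq_preimage_range {X Z : Sp S} (i : Z ⟶ X) {U W : Over S} (a : (yon S).obj U ⟶ X)
    (fstZ : (yon S).obj W ⟶ Z) (d : W ⟶ U) (sq : IsPullback fstZ ((yon S).map d) i a) :
    Set.range d.left = Points.ofPt a ⁻¹' Set.range (Points.map i) := by
  ext u
  simp only [Set.mem_range, Set.mem_preimage]
  constructor
  · rintro ⟨w, rfl⟩
    refine ⟨Points.ofPt fstZ w, ?_⟩
    rw [Points.map_ofPt, sq.w, Groth.Agent.H53.FibrePts.ofPt_yon_map_comp]
  · rintro ⟨z, hz⟩
    obtain ⟨q, hq1, hq2⟩ := Groth.Agent.H52.exists_point_of_isPullback sq z (Points.ofScheme U u)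
      (by rw [hz, ← Points.ofPt_eq_map_ofScheme])
    obtain ⟨w, rfl⟩ := Groth.Agent.Lib.Helper54.exists_ofScheme_eq W q
    refine ⟨w, ?_⟩
    apply (Points.schemeEquiv U).injective
    exact (Groth.Agent.H52.points_map_ofScheme d w).symm.trans hq2

/-- The image of a closed immersion into an algebraic space is closed. -/
theorem isClosed_range_of_repWith_isClosedImmersion {X Z : Sp S} (hX : IsAlgSpace X) (i : Z ⟶ X)
    (h : RepWith @IsClosedImmersion i) : IsClosed (Set.range (Points.map i)) := by
  obtain ⟨U₀, a, hae, has⟩ := hX.atlas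
  have hquot := Groth.Agent.H53.isQuotientMap_ofPt_of_etale_surjective a hae has
  rw [← hquot.isClosed_preimage]
  have sq0 := h.rep.isPullback a
  rw [← range_eq_preimage_range i a _ _ sq0]
  have : IsClosedImmersion (h.rep.snd a).left := h.property_snd a
  exact (h.rep.snd a).left.isClosedEmbedding.isClosed_range

/-- A space admitting a flat surjective morphism from the spectrum of a field is reduced. -/
theorem etaleLocally_isReduced_of_flat_fieldPt {Z : Sp S} (hZ : IsAlgSpace Z) {k : Type u} [Field k]
    {str : Spec (CommRingCat.of k) ⟶ S} (p : (yon S).obj (Over.mk str) ⟶ Z)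
    (hpf : LocP @Flat p) (hps : IsSurjectiveMor p) : EtaleLocally (fun U => IsReduced U) Z := by
  obtain ⟨W, b, hbe, hbs⟩ := hZ.atlas
  have hid : RepWith @Etale (𝟙 ((yon S).obj (Over.mk str))) := repWith_id _ _
  obtain ⟨E, α, π, hα, sq, hrep⟩ :=
    Groth.Agent.Lib.Helper54.exists_chart_square p (𝟙 _) hid b hbe
  have hflat : Flat π.left := Groth.Agent.Lib.Helper54.locP_of_chart_square hpf hbe sq hrep
  have hsurj : Surjective π.left :=
    ⟨Groth.Agent.Lib.Helper54.surjective_of_chart_square sq
      (fun x => ⟨x, by rw [Points.map_id]⟩) hps⟩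
  have hkred : IsReduced (Over.mk str).left := by
    change IsReduced (Spec (CommRingCat.of k))
    infer_instance
  have hEred : IsReduced E.left := Groth.Agent.Lib.Helper54.isReduced_of_etale_scheme α.left
  exact ⟨W, b, hbe, hbs, Groth.Agent.Lib.Helper54.isReduced_of_flat_of_surjective π.left⟩


/-- The residual space at a closed point of a locally Noetherian algebraic space is a closed
subspace. -/
theorem repWith_isClosedImmersion_of_isClosed {X Z : Sp S} (hX : IsAlgSpace X) (hZ : IsAlgSpace Z)
    (hXN : IsLocNoethSp X) (x : Points X) (hx : IsClosed ({x} : Set (Points X))) (i : Z ⟶ X)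
    [Mono i] (hi : Set.range (Points.map i) = {x})
    (hZred : EtaleLocally (fun U => IsReduced U) Z) : RepWith @IsClosedImmersion i := by
  obtain ⟨U, a, hae, has, hUN⟩ := id hXN
  -- the fibre with its reduced structure
  let E : Closeds ↥U.left := ⟨Points.ofPt a ⁻¹' {x}, hx.preimage (Points.continuous_ofPt a)⟩
  let ιE := (Scheme.IdealSheafData.vanishingIdeal E).subschemeι
  have hrange : Set.range ιE = (E : Set ↥U.left) := by
    rw [Scheme.IdealSheafData.range_subschemeι, Scheme.IdealSheafData.coe_support_vanishingIdeal]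
  let ER : Over S := Over.mk (ιE ≫ U.hom)
  let jE : ER ⟶ U := Over.homMk ιE rfl
  have hERred : IsReduced ER.left := by
    change IsReduced (Scheme.IdealSheafData.vanishingIdeal E).subscheme
    infer_instance
  have hjEci : IsClosedImmersion jE.left := by
    change IsClosedImmersion ιE
    infer_instance
  have hjEmono : Mono ((yon S).map jE) := by
    have : Mono jE.left := inferInstance
    have : Mono jE := Groth.Agent.H52.mono_over_of_mono_left jE
    exact Groth.Agent.H52.mono_yon_map jE
  have sqQ := IsPullback.of_hasPullback i a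
  have hpr2mono : Mono (pullback.snd i a) := inferInstance
  suffices hA : RepWith @IsClosedImmersion (pullback.snd i a) from
    Groth.Agent.H53.EffDesc.repWith_isClosedImmersion_of_etale_cover i a hae has _ _ sqQ hA
  -- (i) `h_{E_red} ⟶ Q`
  have hfE : ∀ y : Points ((yon S).obj ER), Points.map ((yon S).map jE ≫ a) y = x := by
    intro y
    obtain ⟨e, rfl⟩ := Groth.Agent.Lib.Helper54.exists_ofScheme_eq ER y
    rw [← Points.ofPt_eq_map_ofScheme, Groth.Agent.H53.FibrePts.ofPt_yon_map_comp]
    have : jE.left e ∈ (E : Set ↥U.left) := by rw [← hrange]; exact ⟨e, rfl⟩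
    exact this
  obtain ⟨γ, hγ⟩ := Groth.Agent.H53.ResidualFactor.exists_factor_of_reduced_of_locNoeth hX hZ
    ((yon S).map jE ≫ a) x hfE
    ⟨ER, 𝟙 _, repWith_id _ _, repWith_id _ _, hERred⟩ hXN i (by rw [hi]; rfl)
  -- (ii) `Q ⟶ h_{E_red}`
  obtain ⟨W₀, w, hwe, hws, hW₀red⟩ := hZred
  have hW₀red' : IsReduced W₀.left := hW₀red
  have sqW := hae.rep.isPullback' (w ≫ i)
  have hdet : Etale (hae.rep.snd (w ≫ i)).left := hae.property_snd _
  generalize hae.rep.fst' (w ≫ i) = c at sqW
  generalize hae.rep.snd (w ≫ i) = d at sqW hdet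
  generalize hae.rep.pullback (w ≫ i) = W at c d
  have hWred : IsReduced W.left := Groth.Agent.Lib.Helper54.isReduced_of_etale_scheme d.left
  have hwepi : Epi w := Groth.Agent.H52.epi_of_repWith_etale_surjective w hwe hws
  have hcomm : ((yon S).map d ≫ w) ≫ i = (yon S).map c ≫ a := by
    rw [Category.assoc]; exact sqW.w.symm
  have sqL : IsPullback (sqQ.lift ((yon S).map d ≫ w) ((yon S).map c) hcomm) ((yon S).map d)
      (pullback.fst i a) w := by
    refine IsPullback.of_right ?_ (sqQ.lift_fst _ _ _) sqQ.flip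
    rw [sqQ.lift_snd]
    exact sqW
  have hepiL : Epi (sqQ.lift ((yon S).map d ≫ w) ((yon S).map c) hcomm) :=
    Groth.Agent.H53.EffDesc.epi_fst_of_isPullback sqL
  have hcrange : Set.range c.left ⊆ (E : Set ↥U.left) := by
    rintro _ ⟨v, rfl⟩
    change Points.ofPt a (c.left v) = x
    rw [← Groth.Agent.H53.FibrePts.ofPt_yon_map_comp, sqW.w,
      Groth.Agent.H53.FibrePts.ofPt_yon_map_comp, ← Points.map_ofPt]
    have : Points.map i (Points.ofPt w (d.left v)) ∈ Set.range (Points.map i) := ⟨_, rfl⟩
    rw [hi] at this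
    exact this
  have hker : ιE.ker ≤ c.left.ker := by
    rw [Scheme.IdealSheafData.ker_subschemeι]
    exact Groth.Agent.H72.NormalBir.vanishingIdeal_le_ker c.left E hcrange
  let ℓ : W ⟶ ER := Over.homMk (IsClosedImmersion.lift ιE c.left hker) (by
    change IsClosedImmersion.lift ιE c.left hker ≫ ιE ≫ U.hom = W.hom
    rw [← Category.assoc, IsClosedImmersion.lift_fac, Over.w])
  have hℓ : ℓ ≫ jE = c := by ext1; exact IsClosedImmersion.lift_fac _ _ _
  obtain ⟨δ, hδ⟩ := Groth.Agent.Lib.Helper54.exists_factor_mono_of_epi ((yon S).map jE)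
    (pullback.snd i a) (sqQ.lift ((yon S).map d ≫ w) ((yon S).map c) hcomm) ((yon S).map ℓ) (by
      rw [← Functor.map_comp, hℓ, sqQ.lift_snd])
  -- the isomorphism
  have h1 : sqQ.lift γ ((yon S).map jE) hγ ≫ δ = 𝟙 _ := by
    rw [← cancel_mono ((yon S).map jE), Category.assoc, hδ, sqQ.lift_snd, Category.id_comp]
  have h2 : δ ≫ sqQ.lift γ ((yon S).map jE) hγ = 𝟙 _ := by
    rw [← cancel_mono (pullback.snd i a), Category.assoc, sqQ.lift_snd, hδ, Category.id_comp]
  have hiso : IsIso δ := ⟨_, h2, h1⟩
  have hfin : RepWith @IsClosedImmersion (δ ≫ (yon S).map jE) :=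
    ((RepWith (S := S) @IsClosedImmersion).cancel_left_of_respectsIso δ ((yon S).map jE)).2
      ((repWith_yon_map_iff _ _).2 hjEci)
  rwa [hδ] at hfin

end Groth.Agent.H53.ResidualClosed
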