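import Groth.Agent.H53.SoberTop
import Groth.Agent.H52.QSChart2
import Groth.Agent.H53.QCCharts
import Groth.Agent.H53.QSDecent
import Groth.Agent.H53.Decent2
import Groth.Agent.H53.ResidualClosed
import Groth.Agent.H53.UnivHomeo
import Groth.Agent.Lib.Helper51.DecentZar

set_option autoImplicit false
set_option backward.isDefEq.respectTransparency false
universe u
open CategoryTheory CategoryTheory.Limits AlgebraicGeometry Opposite Topology TopologicalSpace
open AlgSp

namespace Groth.Agent.H53.SoberSp

variable {S : Scheme.{u}}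

/-- Fibre products over `S` of affine schemes mapping into a common affine open are compact. -/
theorem compactSpace_pullback_of_factor {A B : Scheme.{u}} (f : A ⟶ S) (g : B ⟶ S) [IsAffine A]
    [IsAffine B] (S₀ : S.Opens) (hS₀ : IsAffineOpen S₀) (hf : Set.range f ⊆ (S₀ : Set ↥S))
    (hg : Set.range g ⊆ (S₀ : Set ↥S)) : CompactSpace ↥(pullback f g) := by
  have hf' : Set.range f ⊆ Set.range S₀.ι := by rwa [Scheme.Opens.range_ι]
  have hg' : Set.range g ⊆ Set.range S₀.ι := by rwa [Scheme.Opens.range_ι]
  have e1 : IsOpenImmersion.lift S₀.ι f hf' ≫ S₀.ι = f := IsOpenImmersion.lift_fac _ _ _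
  have e2 : IsOpenImmersion.lift S₀.ι g hg' ≫ S₀.ι = g := IsOpenImmersion.lift_fac _ _ _
  generalize IsOpenImmersion.lift S₀.ι f hf' = f' at e1
  generalize IsOpenImmersion.lift S₀.ι g hg' = g' at e2
  have : IsAffine (S₀ : Scheme.{u}) := hS₀
  have sq : IsPullback (pullback.fst f' g') (pullback.snd f' g') f g := by
    rw [← e1, ← e2]
    exact Groth.Agent.H52.isPullback_comp_mono S₀.ι (IsPullback.of_hasPullback f' g')
  have : IsAffine (pullback f' g') := inferInstance
  exact QuasiCompact.compactSpace_of_compactSpace sq.isoPullback.inv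

/-- Over a quasi-separated space, the fibre product of two schemes whose product over `S` is
compact is compact. -/
theorem compactSpace_of_isPullback {X : Sp S} (hX : IsQuasiSeparatedSp X) {U T P : Over S}
    (hUT : CompactSpace ↥(pullback U.hom T.hom)) (m : (yon S).obj U ⟶ X)
    (g : (yon S).obj T ⟶ X) (fst0 : P ⟶ U) (snd : P ⟶ T)
    (sq : IsPullback ((yon S).map fst0) ((yon S).map snd) m g) : CompactSpace ↥P.left := by
  have hqc : QuasiCompact (prod.lift fst0 snd).left :=
    Groth.Agent.H52.prop_prod_lift_of_repWith_diag @QuasiCompact hX m g fst0 snd sq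
  have : CompactSpace ↥(U ⨯ T).left :=
    QuasiCompact.compactSpace_of_compactSpace (Over.prodLeftIsoPullback U T).hom
  exact QuasiCompact.compactSpace_of_compactSpace (prod.lift fst0 snd).left

/-- An affine étale chart of a quasi-separated space, mapping into an affine open of the base, is
quasi-compact onto its image. -/
theorem repWith_quasiCompact_toImage_of_affine {X : Sp S} (hXalg : IsAlgSpace X)
    (hX : IsQuasiSeparatedSp X) {U : Over S} (hUU : CompactSpace ↥(pullback U.hom U.hom))
    [QuasiSeparatedSpace ↥U.left]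
    (a : (yon S).obj U ⟶ X) (hae : RepWith @Etale a) :
    RepWith @QuasiCompact (Sheaf.toImage a) := by
  refine Groth.Agent.H53.QCCharts.repWith_quasiCompact_toImage hXalg a hae (fun R s t sq => ?_)
  have : CompactSpace ↥R.left := compactSpace_of_isPullback hX hUU a a t s sq
  exact ⟨inferInstance, inferInstance⟩

/-- For a quasi-compact étale chart, saturations of compact opens are compact. -/
theorem isCompact_saturation {X : Sp S} {U : Over S} (a : (yon S).obj U ⟶ X)
    (hae : RepWith @Etale a) (haq : RepWith @QuasiCompact a) (V : Set ↥U.left) (hVo : IsOpen V)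
    (hVc : IsCompact V) : IsCompact (Points.ofPt a ⁻¹' (Points.ofPt a '' V)) := by
  let V₀ : U.left.Opens := ⟨V, hVo⟩
  have hrange : Set.range (Groth.Agent.H52.overOpenι U V₀).left = V := by
    change Set.range V₀.ι = V
    rw [Scheme.Opens.range_ι]
    rfl
  have hVcs : CompactSpace ↥(Groth.Agent.H52.overOpen U V₀).left := by
    change CompactSpace ↥V₀
    exact isCompact_iff_compactSpace.1 hVc
  have sq := hae.rep.isPullback' ((yon S).map (Groth.Agent.H52.overOpenι U V₀) ≫ a)
  generalize hae.rep.fst' ((yon S).map (Groth.Agent.H52.overOpenι U V₀) ≫ a) = c at sq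
  generalize hae.rep.snd ((yon S).map (Groth.Agent.H52.overOpenι U V₀) ≫ a) = d at sq
  generalize hae.rep.pullback ((yon S).map (Groth.Agent.H52.overOpenι U V₀) ≫ a) = P at c d
  have hd : QuasiCompact d.left := haq.property _ _ _ sq
  have hP : CompactSpace ↥P.left := QuasiCompact.compactSpace_of_compactSpace d.left
  have h1 := Groth.Agent.H53.ResidualClosed.range_eq_preimage_range
    ((yon S).map (Groth.Agent.H52.overOpenι U V₀) ≫ a) a ((yon S).map d) c sq.flip
  have h2 : Set.range (Points.map ((yon S).map (Groth.Agent.H52.overOpenι U V₀) ≫ a)) =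
      Points.ofPt a '' V := by
    rw [← hrange]
    ext x
    constructor
    · rintro ⟨y, rfl⟩
      obtain ⟨v, rfl⟩ := Groth.Agent.Lib.Helper54.exists_ofScheme_eq _ y
      refine ⟨_, ⟨v, rfl⟩, ?_⟩
      rw [← Points.ofPt_eq_map_ofScheme, Groth.Agent.H53.FibrePts.ofPt_yon_map_comp]
    · rintro ⟨_, ⟨v, rfl⟩, rfl⟩
      refine ⟨Points.ofScheme _ v, ?_⟩
      rw [← Points.ofPt_eq_map_ofScheme, Groth.Agent.H53.FibrePts.ofPt_yon_map_comp]
  rw [← h2, ← h1]
  exact isCompact_range c.left.continuous

/-- Every point of an algebraic space has an affine étale chart mapping into an affine open of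
the base. -/
theorem exists_affine_chart_over_affine {Y : Sp S} (hYalg : IsAlgSpace Y) (y : Points Y) :
    ∃ (V : Over S) (b : (yon S).obj V ⟶ Y) (v : ↥V.left), IsAffine V.left ∧ RepWith @Etale b ∧
      Points.ofPt b v = y ∧ CompactSpace ↥(pullback V.hom V.hom) := by
  obtain ⟨V, b, v, hV, hbe, hv⟩ := Groth.Agent.H53.FibrePts.exists_affine_chart hYalg y
  obtain ⟨_, ⟨S₀, hS₀, rfl⟩, hvS₀, -⟩ :=
    (S.isBasis_affineOpens).exists_subset_of_mem_open (Set.mem_univ (V.hom v)) isOpen_univ
  obtain ⟨_, ⟨V', hV', rfl⟩, hvV', hV'S₀⟩ :=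
    (V.left.isBasis_affineOpens).exists_subset_of_mem_open
      (show v ∈ ((V.hom ⁻¹ᵁ S₀ : V.left.Opens) : Set ↥V.left) from hvS₀) (V.hom ⁻¹ᵁ S₀).isOpen
  have hUaff : IsAffine (Groth.Agent.H52.overOpen V V').left := hV'
  refine ⟨Groth.Agent.H52.overOpen V V', (yon S).map (Groth.Agent.H52.overOpenι V V') ≫ b,
    ⟨v, hvV'⟩, hUaff, ?_, ?_, ?_⟩
  · exact MorphismProperty.comp_mem _ _ _ (Groth.Agent.H52.repWith_etale_overOpenι V V') hbe
  · rw [Groth.Agent.H53.FibrePts.ofPt_yon_map_comp]
    exact hv
  · have hr : Set.range (Groth.Agent.H52.overOpen V V').hom ⊆ (S₀ : Set ↥S) := by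
      rintro _ ⟨w, rfl⟩
      change (Scheme.Opens.ι V' ≫ V.hom) w ∈ (S₀ : Set ↥S)
      exact hV'S₀ w.2
    exact compactSpace_pullback_of_factor _ _ S₀ hS₀ hr hr

/-- Irreducible closed subsets of the points of a Zariski locally quasi-separated algebraic space
have generic points; the space of points is Kolmogorov. -/
theorem quasiSober_t0_of_zariski_locally_qs (X : Space S)
    (hX : ∃ (ι : Type u) (Xi : ι → Space S) (j : ∀ i, Xi i ⟶ X),
      IsZarCover (fun i => (Xi i).obj) (fun i => (j i).hom) ∧
        ∀ i, IsQuasiSeparatedSp (Xi i).obj) :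
    QuasiSober (Points X.obj) ∧ T0Space (Points X.obj) := by
  obtain ⟨ι, Xi, j, hj, hqs⟩ := hX
  refine ⟨⟨fun {T} hTi hTc => ?_⟩, ?_⟩
  · obtain ⟨x, hxT⟩ := hTi.1
    obtain ⟨i, xi, hxi⟩ := hj.2 x
    obtain ⟨U, a, u, hU, hae, hu, hUU⟩ := exists_affine_chart_over_affine (Xi i).property xi
    have haq := repWith_quasiCompact_toImage_of_affine (Xi i).property (hqs i) hUU a hae
    have hae' := Groth.Agent.H52.repWith_etale_toImage a hae
    have hej : Sheaf.toImage a ≫ Sheaf.imageι a = a := Sheaf.toImage_ι a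
    have hm : RepWith @IsOpenImmersion (Sheaf.imageι a ≫ (j i).hom) :=
      MorphismProperty.comp_mem _ _ _ (Groth.Agent.H52.repWith_isOpenImmersion_imageι a hae)
        (hj.1 i)
    have hminj : Function.Injective (Points.map (Sheaf.imageι a ≫ (j i).hom)) :=
      Groth.Agent.H53.injective_points_of_repWith _ @IsOpenImmersion
        (fun A B φ hφ => by
          have : IsOpenImmersion φ := hφ
          exact φ.isOpenEmbedding.injective) hm
    have hbe : RepWith @Etale (Sheaf.toImage a ≫ Sheaf.imageι a ≫ (j i).hom) :=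
      MorphismProperty.comp_mem _ _ _ hae'
        (Groth.Agent.H53.QCCharts.repWith_etale_of_isOpenImmersion _ hm)
    have hπ : Points.ofPt (Sheaf.toImage a ≫ Sheaf.imageι a ≫ (j i).hom) =
        Points.map (Sheaf.imageι a ≫ (j i).hom) ∘ Points.ofPt (Sheaf.toImage a) := by
      funext w
      exact (Points.map_ofPt _ _ w).symm
    refine Groth.Agent.H53.SoberTop.exists_isGenericPoint_of_isOpenMap
      (Points.ofPt (Sheaf.toImage a ≫ Sheaf.imageι a ≫ (j i).hom)) (Points.continuous_ofPt _)
      (Groth.Agent.H53.isOpenMap_ofPt_of_etale _ hbe) (fun V hVo hVc => ?_) T hTc hTi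
      ⟨x, hxT, u, ?_⟩
    · rw [hπ, Set.image_comp, Set.preimage_comp, hminj.preimage_image]
      exact isCompact_saturation _ hae' haq V hVo hVc
    · rw [← Category.assoc, hej, ← Points.map_ofPt, hu, hxi]
  · have hdec : IsDecent X.obj :=
      Groth.Agent.Lib.Helper51.isDecent_of_isZarCover X Xi j hj
        (fun i => Groth.Agent.H53.FieldQuot.isDecent_of_isQuasiSeparatedSp (Xi i).property (hqs i))
    exact Groth.Agent.H53.t0Space_points_of_isDecent X.property hdec

end Groth.Agent.H53.SoberSp
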