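import Groth.Agent.H53.ZarGlueLoc
import Groth.Agent.Lib.Helper54.Points
import Groth.Prelude.Def_AlgSpCov
import Groth.Prelude.Def_AlgSpMor5

set_option autoImplicit false
set_option backward.isDefEq.respectTransparency false
universe u
open CategoryTheory CategoryTheory.Limits AlgebraicGeometry Opposite

namespace Groth.Agent.H53.ZarGlue

open AlgSp Groth.Agent.Lib.Helper51

variable {S : Scheme.{u}}

/-- `RepWith P` can be checked over the members of a Zariski covering of the target, for `P` Zariski local at the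
target. -/
theorem repWith_of_isZarCover (P : MorphismProperty Scheme.{u}) [IsZariskiLocalAtTarget P]
    {F G : Sp S} (φ : F ⟶ G) {ι : Type u} (Gi : ι → Sp S) (j : ∀ i, Gi i ⟶ G)
    (hj : IsZarCover Gi j) (Fi : ι → Sp S) (p : ∀ i, Fi i ⟶ F) (q : ∀ i, Fi i ⟶ Gi i)
    (sq : ∀ i, IsPullback (p i) (q i) φ (j i)) (hq : ∀ i, RepWith P (q i)) : RepWith P φ := by
  refine repWith_of_localRepAt fun T g t => ?_
  obtain ⟨i, yi, hyi⟩ := hj.2 (Points.ofPt g t)
  have hji := hj.1 i
  obtain ⟨t', -, ht'⟩ := Groth.Agent.Lib.Helper54.exists_pt_of_isPullback_yon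
    (hji.rep.isPullback g) yi t hyi
  have hc : IsOpenImmersion (hji.rep.snd g).left := hji.property_snd g
  have hP : P ((hq i).rep.snd (hji.rep.fst g)).left := (hq i).property_snd _
  refine ⟨hji.rep.pullback g, hji.rep.snd g, (hq i).rep.pullback (hji.rep.fst g),
    (hq i).rep.snd (hji.rep.fst g), (hq i).rep.fst (hji.rep.fst g) ≫ p i, hc, ⟨t', ht'⟩, ?_, hP⟩
  have := ((hq i).rep.isPullback (hji.rep.fst g)).paste_horiz (sq i)
  rwa [(hji.rep.isPullback g).w] at this


theorem finLocFree_eq_inf :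
    (finLocFree.{u}) =
      (@IsFinite ⊓ (@Flat ⊓ @LocallyOfFinitePresentation) : MorphismProperty Scheme.{u}) := by
  ext X Y f
  exact Iff.rfl

instance : IsZariskiLocalAtTarget (finLocFree.{u}) := by
  rw [finLocFree_eq_inf]
  infer_instance

/-- Integrality, finiteness and finite local freeness can be checked on a Zariski covering of the target. -/
theorem integral_finite_finLocFree_of_isZarCover
    {F G : Sp S} (φ : F ⟶ G) {ι : Type u} (Gi : ι → Sp S) (j : ∀ i, Gi i ⟶ G)
    (hj : IsZarCover Gi j) (Fi : ι → Sp S) (p : ∀ i, Fi i ⟶ F) (q : ∀ i, Fi i ⟶ Gi i)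
    (sq : ∀ i, IsPullback (p i) (q i) φ (j i)) :
    ((∀ i, IsIntegralMor (q i)) → IsIntegralMor φ) ∧
    ((∀ i, IsFiniteMor (q i)) → IsFiniteMor φ) ∧
    ((∀ i, IsFinLocFreeMor (q i)) → IsFinLocFreeMor φ) := by
  refine ⟨fun h => ?_, fun h => ?_, fun h => ?_⟩
  · rw [isIntegralMor_iff_repWith]
    exact repWith_of_isZarCover _ φ Gi j hj Fi p q sq fun i => (isIntegralMor_iff_repWith _).1 (h i)
  · rw [isFiniteMor_iff_repWith]
    exact repWith_of_isZarCover _ φ Gi j hj Fi p q sq fun i => (isFiniteMor_iff_repWith _).1 (h i)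
  · exact repWith_of_isZarCover _ φ Gi j hj Fi p q sq h

end Groth.Agent.H53.ZarGlue
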