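import Groth.Agent.H53.InvImm
import Groth.Agent.H52.FibreProd
import Groth.Agent.S10539
import Groth.Agent.S10540
import Groth.Agent.S10545

set_option autoImplicit false
set_option backward.isDefEq.respectTransparency false
universe u
open CategoryTheory CategoryTheory.Limits AlgebraicGeometry Opposite Topology TopologicalSpace
open AlgSp

namespace Groth.Agent.H53.ChartDescent

variable {S : Scheme.{u}}

/-- A property which is fpqc local on the base is fppf local on the base. -/
theorem isLocalOnBase_fppf_of_fpqc {P : MorphismProperty (Sp S)}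
    (h : IsLocalOnBase (IsFpqcCover (S := S)) P) : IsLocalOnBase (IsFppfCover (S := S)) P := by
  intro ι Y Yi g hY hYi hcov X f hX Xi p q hXi sq
  have hfpqc : AlgSp.IsFpqcCover Yi g :=
    Groth.Agent.S10505.result (S := S) ⟨Y, hY⟩ (fun i => ⟨Yi i, hYi i⟩)
      (fun i => ObjectProperty.homMk (g i)) hcov
  exact h Yi g hY hYi hfpqc f hX Xi p q hXi sq

/-- A property which is fpqc local on the base descends along an étale surjective chart of the
target. -/
theorem of_chart_of_isLocalOnBase_fpqc {P : MorphismProperty (Sp S)}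
    (hP : IsLocalOnBase (IsFpqcCover (S := S)) P) {X Y : Sp S} (hX : IsAlgSpace X)
    (hY : IsAlgSpace Y) (f : X ⟶ Y) {V : Over S} (p : (yon S).obj V ⟶ Y)
    (hpe : RepWith @Etale p) (hps : RepWith @Surjective p) {W : Sp S}
    (fst : W ⟶ X) (snd : W ⟶ (yon S).obj V) (sq : IsPullback fst snd f p) (h : P snd) : P f :=
  Groth.Agent.H53.InvImm.of_chart_of_isLocalOnBase (isLocalOnBase_fppf_of_fpqc hP) hX hY f p hpe hps
    (Groth.Agent.H52.isAlgSpace_of_isPullback sq hX hY (IsAlgSpace.yon_obj V)) fst snd sq h

end Groth.Agent.H53.ChartDescent
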