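import Groth.Agent.H53.CodimQF3
import Groth.Agent.Lib.Helper54.DecentTop
import Groth.Agent.Lib.Helper54.DecentGeneric
import Groth.Agent.Lib.Helper54.DecentSchematic
import Groth.Agent.S2080

set_option autoImplicit false
set_option backward.isDefEq.respectTransparency false
universe u
open CategoryTheory CategoryTheory.Limits AlgebraicGeometry Opposite Topology
open AlgSp

namespace Groth.Agent.H53.GenFin

open Groth.Agent.H53.CodimQF Groth.Agent.Lib.Helper54 Groth.Agent.H53.ZarGlue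

variable {S : Scheme.{u}}

abbrev Dim0 : ∀ (U : Scheme.{u}), ↥U → Prop := fun U u => ringKrullDim ↥(U.presheaf.stalk u) = 0

/-- The generic point of an irreducible decent space has codimension 0. -/
theorem hasAt_dim_zero_of_isGenericPoint {X : Sp S} (hX : IsAlgSpace X) (hXd : IsDecent X)
    [IrreducibleSpace (Points X)] (x : Points X) (hx : IsGenericPoint x (Set.univ : Set (Points X))) :
    HasAt (fun U u => ringKrullDim ↥(U.presheaf.stalk u) = 0) X x := by
  rw [← isGenericPoint_component_iff_hasAt hX hXd]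
  refine ⟨Set.univ, ?_, hx⟩
  rw [irreducibleComponents_eq_singleton]
  rfl

/-- A codimension 0 point of an irreducible decent space is the generic point. -/
theorem eq_of_hasAt_dim_zero {X : Sp S} (hX : IsAlgSpace X) (hXd : IsDecent X)
    [IrreducibleSpace (Points X)] (x : Points X) (hx : IsGenericPoint x (Set.univ : Set (Points X)))
    (x' : Points X) (hx' : HasAt (fun U u => ringKrullDim ↥(U.presheaf.stalk u) = 0) X x') :
    x' = x := by
  haveI := t0Space_points_of_isDecent hX hXd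
  rw [← isGenericPoint_component_iff_hasAt hX hXd] at hx'
  obtain ⟨T, hT, hx'T⟩ := hx'
  rw [irreducibleComponents_eq_singleton] at hT
  obtain rfl : T = Set.univ := hT
  exact hx'T.eq hx

/-- A dominant map sends the generic point to the generic point. -/
theorem map_generic_eq {X Y : Sp S} (hY : IsAlgSpace Y) (hYd : IsDecent Y) (f : X ⟶ Y)
    (hd : IsDominantMor f) (x : Points X) (hx : IsGenericPoint x (Set.univ : Set (Points X)))
    (y : Points Y) (hy : IsGenericPoint y (Set.univ : Set (Points Y))) :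
    Points.map f x = y := by
  haveI := t0Space_points_of_isDecent hY hYd
  have h1 : IsGenericPoint (Points.map f x) (Set.univ : Set (Points Y)) := by
    have := hx.image (Points.continuous_map f)
    rw [Set.image_univ, hd.closure_range] at this
    exact this
  exact h1.eq hy


theorem exists_pullback_of_repWith {P : MorphismProperty Scheme.{u}} {X : Sp S} {U U' : Over S}
    (a : (yon S).obj U ⟶ X) (a' : (yon S).obj U' ⟶ X) (ha' : RepWith P a') :
    ∃ (W : Over S) (p : W ⟶ U) (p' : W ⟶ U'),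
      IsPullback ((yon S).map p) ((yon S).map p') a a' ∧ P p.left :=
  ⟨_, _, _, (ha'.rep.isPullback' a).flip, ha'.property_snd a⟩

theorem injective_ofPt_of_isOpenImmersion {X : Sp S} {U : Over S} (a : (yon S).obj U ⟶ X)
    (ha : RepWith @IsOpenImmersion a) : Function.Injective (Points.ofPt a) := by
  rw [ofPt_eq_comp]
  exact (Lib.Helper54.injective_points_of_isOpenImmersion a ha).comp
    (Points.schemeHomeo U).injective

theorem repWith_etale_of_isOpenImmersion {F G : Sp S} {f : F ⟶ G}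
    (hf : RepWith @IsOpenImmersion f) : RepWith @Etale f :=
  repWith_of_le (fun _ _ φ hφ => by have := hφ; infer_instance) hf

attribute [local instance] specializationPreorder in
theorem closure_mem_irreducibleComponents_of_dim_zero (T : Scheme.{u}) (η : T)
    (h : ringKrullDim (T.presheaf.stalk η) = 0) :
    closure ({η} : Set T) ∈ irreducibleComponents T := by
  rw [← Groth.Agent.Lib.Helper63.isMax_iff_closure_mem_irreducibleComponents]
  intro z hz
  have hz' : z ⤳ η := hz
  rw [(stalk_dim_zero_iff T η).1 h z hz']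

/-- (3) ⇒ (5). -/
theorem unique_of_finite_chart {X Y : Sp S} (hX : IsAlgSpace X) (hXd : IsDecent X)
    (hY : IsAlgSpace Y) (hYd : IsDecent Y)
    [IrreducibleSpace (Points X)] [IrreducibleSpace (Points Y)]
    (f : X ⟶ Y) (hft : LocP @LocallyOfFiniteType f)
    (x : Points X) (hx : IsGenericPoint x (Set.univ : Set (Points X)))
    (y : Points Y) (hy : IsGenericPoint y (Set.univ : Set (Points Y)))
    {U V : Over S} (a : (yon S).obj U ⟶ X) (b : (yon S).obj V ⟶ Y) (g : U ⟶ V)
    (hne : Nonempty ↥U.left) (ha : RepWith @IsOpenImmersion a) (hb : RepWith @IsOpenImmersion b)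
    (comm : a ≫ f = (yon S).map g ≫ b) (hg : IsFinite g.left) :
    ∀ x' : Points X, Points.map f x' = y → x' = x := by
  have hae : RepWith @Etale a := repWith_etale_of_isOpenImmersion ha
  have hbe : RepWith @Etale b := repWith_etale_of_isOpenImmersion hb
  have hopen : IsOpen (Set.range (Points.ofPt a)) := (isOpenMap_ofPt_of_etale a hae).isOpen_range
  obtain ⟨u, hu⟩ : x ∈ Set.range (Points.ofPt a) := by
    rw [hx.mem_open_set_iff hopen]
    obtain ⟨u₀⟩ := hne
    exact ⟨_, trivial, u₀, rfl⟩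
  have hqf : HasAtMor QF f x := by
    refine ⟨U, V, a, b, g, u, hae, hbe, comm, hu, ⊤, trivial, ?_, ?_⟩
    · infer_instance
    · infer_instance
  have hy0 := hasAt_dim_zero_of_isGenericPoint hY hYd y hy
  have key := (codim_zero_fibre hX f hft y hy0).2 (fun x'' _ h0 => by
    rw [eq_of_hasAt_dim_zero hX hXd x hx x'' h0]; exact hqf)
  intro x' hx'
  exact eq_of_hasAt_dim_zero hX hXd x hx x' (key x' hx')


theorem exists_affineOpen_mem (T : Scheme.{u}) (t : T) : ∃ V : T.Opens, IsAffineOpen V ∧ t ∈ V := by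
  obtain ⟨_, ⟨A, hA, rfl⟩, h, -⟩ :=
    T.isBasis_affineOpens.exists_subset_of_mem_open (Set.mem_univ t) isOpen_univ
  exact ⟨A, hA, h⟩

theorem mem_schematicLocus_of_isGenericPoint {X : Sp S} (hX : IsAlgSpace X) (hXd : IsDecent X)
    [IrreducibleSpace (Points X)] (x : Points X) (hx : IsGenericPoint x (Set.univ : Set (Points X))) :
    x ∈ schematicLocus X := by
  have hdense := dense_schematicLocus_of_isDecent hX hXd
  have hopen := Groth.Agent.H53.ZarGlue.isOpen_schematicLocus X
  rw [hx.mem_open_set_iff hopen]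
  obtain ⟨z, hz⟩ := hdense.nonempty
  exact ⟨z, trivial, hz⟩

/-- (5) ⇒ (3). -/
theorem exists_finite_chart_of_unique {X Y : Sp S} (hX : IsAlgSpace X) (hXd : IsDecent X)
    (hY : IsAlgSpace Y) (hYd : IsDecent Y)
    [IrreducibleSpace (Points X)] [IrreducibleSpace (Points Y)]
    (f : X ⟶ Y) (hft : LocP @LocallyOfFiniteType f) (hd : IsDominantMor f)
    (x : Points X) (hx : IsGenericPoint x (Set.univ : Set (Points X)))
    (y : Points Y) (hy : IsGenericPoint y (Set.univ : Set (Points Y)))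
    (huniq : ∀ x' : Points X, Points.map f x' = y → x' = x) :
    ∃ (U V : Over S) (a : (yon S).obj U ⟶ X) (b : (yon S).obj V ⟶ Y) (g : U ⟶ V),
      IsAffine U.left ∧ IsAffine V.left ∧ Nonempty ↥U.left ∧
        RepWith @IsOpenImmersion a ∧ RepWith @IsOpenImmersion b ∧
          a ≫ f = (yon S).map g ≫ b ∧ IsFinite g.left := by
  have hM : (RepWith (S := S) @IsOpenImmersion).IsMultiplicative := repWith_isMultiplicative _
  have hfx : Points.map f x = y := map_generic_eq hY hYd f hd x hx y hy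
  have hy0 := hasAt_dim_zero_of_isGenericPoint hY hYd y hy
  obtain ⟨TX, jX, hjX, hrX, -⟩ := exists_schematic_open hX
  obtain ⟨TY, jY, hjY, hrY, -⟩ := exists_schematic_open hY
  obtain ⟨tx, htx⟩ : x ∈ Set.range (Points.ofPt jX) :=
    hrX ▸ mem_schematicLocus_of_isGenericPoint hX hXd x hx
  obtain ⟨ty, hty⟩ : y ∈ Set.range (Points.ofPt jY) :=
    hrY ▸ mem_schematicLocus_of_isGenericPoint hY hYd y hy
  obtain ⟨V₁, hV₁, htyV₁⟩ := exists_affineOpen_mem TY.left ty
  let V₁' : Over S := Over.mk (V₁.ι ≫ TY.hom)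
  let ιV : V₁' ⟶ TY := Over.homMk V₁.ι rfl
  let b₁ : (yon S).obj V₁' ⟶ Y := (yon S).map ιV ≫ jY
  have hb₁ : RepWith @IsOpenImmersion b₁ :=
    (RepWith (S := S) @IsOpenImmersion).comp_mem _ _
      ((repWith_yon_map_iff _ _).2 (inferInstance : IsOpenImmersion V₁.ι)) hjY
  have hb₁e : RepWith @Etale b₁ := repWith_etale_of_isOpenImmersion hb₁
  let η : ↥V₁'.left := ⟨ty, htyV₁⟩
  have hb₁η : Points.ofPt b₁ η = y := by
    rw [ofPt_yon_map_comp]
    exact hty
  obtain ⟨W, p, q, sq, hp⟩ := exists_pullback_of_repWith (jX ≫ f) b₁ hb₁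
  have hpt : Points.ofPt (jX ≫ f) tx = Points.ofPt b₁ η := by
    rw [← Points.map_ofPt, htx, hfx, hb₁η]
  obtain ⟨w, hw1, hw2⟩ := exists_point_of_isPullback_yon sq tx η hpt
  obtain ⟨U₁, hU₁, hwU₁⟩ := exists_affineOpen_mem W.left w
  let U₁' : Over S := Over.mk (U₁.ι ≫ W.hom)
  let ιU : U₁' ⟶ W := Over.homMk U₁.ι rfl
  let a₁ : (yon S).obj U₁' ⟶ X := (yon S).map (ιU ≫ p) ≫ jX
  have hιp : IsOpenImmersion (ιU ≫ p).left := by
    rw [Over.comp_left]
    have : IsOpenImmersion p.left := hp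
    have : IsOpenImmersion ιU.left := (inferInstance : IsOpenImmersion U₁.ι)
    infer_instance
  have ha₁ : RepWith @IsOpenImmersion a₁ :=
    (RepWith (S := S) @IsOpenImmersion).comp_mem _ _ ((repWith_yon_map_iff _ _).2 hιp) hjX
  have ha₁e : RepWith @Etale a₁ := repWith_etale_of_isOpenImmersion ha₁
  let g₁ : U₁' ⟶ V₁' := ιU ≫ q
  have comm₁ : a₁ ≫ f = (yon S).map g₁ ≫ b₁ := by
    simp only [a₁, g₁, Functor.map_comp, Category.assoc]
    rw [sq.w]
  haveI hlft : LocallyOfFiniteType g₁.left := hft a₁ b₁ g₁ ha₁e hb₁e comm₁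
  haveI : IsAffine U₁'.left := hU₁
  haveI : IsAffine V₁'.left := hV₁
  let w₁ : ↥U₁'.left := ⟨w, hwU₁⟩
  have hw₁ : g₁.left w₁ = η := by
    change q.left (U₁.ι ⟨w, hwU₁⟩) = η
    exact hw2
  have hfibpt : ∀ w' : ↥U₁'.left, g₁.left w' = η → Points.ofPt a₁ w' = x := by
    intro w' hw'
    apply huniq
    rw [Points.map_ofPt, comm₁, ofPt_yon_map_comp, hw', hb₁η]
  have hfib : (g₁.left ⁻¹' {η}).Finite := by
    apply Set.Subsingleton.finite
    intro w' hw' w'' hw''
    exact injective_ofPt_of_isOpenImmersion a₁ ha₁ ((hfibpt w' hw').trans (hfibpt w'' hw'').symm)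
  have hη0 : ringKrullDim (V₁'.left.presheaf.stalk η) = 0 :=
    stalk_dim_zero_of_hasAt b₁ hb₁e η (by rw [hb₁η]; exact hy0)
  have hηc : closure {η} ∈ irreducibleComponents ↥V₁'.left :=
    closure_mem_irreducibleComponents_of_dim_zero _ η hη0
  obtain ⟨V, hV, hηV, hfin⟩ := (Groth.Agent.S2080.result g₁.left η hηc).1 hfib
  let U' : Over S := Over.mk ((g₁.left ⁻¹ᵁ V).ι ≫ U₁'.hom)
  let V' : Over S := Over.mk (V.ι ≫ V₁'.hom)
  let ιU' : U' ⟶ U₁' := Over.homMk (g₁.left ⁻¹ᵁ V).ι rfl
  let ιV' : V' ⟶ V₁' := Over.homMk V.ι rfl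
  let g : U' ⟶ V' := Over.homMk (g₁.left ∣_ V) (by
    change (g₁.left ∣_ V) ≫ V.ι ≫ V₁'.hom = (g₁.left ⁻¹ᵁ V).ι ≫ U₁'.hom
    rw [← Category.assoc, morphismRestrict_ι, Category.assoc, Over.w g₁])
  have hgc : ιU' ≫ g₁ = g ≫ ιV' := by
    ext1
    change (g₁.left ⁻¹ᵁ V).ι ≫ g₁.left = (g₁.left ∣_ V) ≫ V.ι
    rw [morphismRestrict_ι]
  haveI : IsAffine V'.left := hV
  haveI : IsFinite g.left := hfin
  refine ⟨U', V', (yon S).map ιU' ≫ a₁, (yon S).map ιV' ≫ b₁, g, ?_, hV, ?_, ?_, ?_, ?_, hfin⟩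
  · exact isAffine_of_isAffineHom g.left
  · exact ⟨⟨w₁, by change g₁.left w₁ ∈ V; rw [hw₁]; exact hηV⟩⟩
  · exact (RepWith (S := S) @IsOpenImmersion).comp_mem _ _
      ((repWith_yon_map_iff _ _).2 (inferInstance : IsOpenImmersion (g₁.left ⁻¹ᵁ V).ι)) ha₁
  · exact (RepWith (S := S) @IsOpenImmersion).comp_mem _ _
      ((repWith_yon_map_iff _ _).2 (inferInstance : IsOpenImmersion V.ι)) hb₁
  · rw [Category.assoc, comm₁, ← Category.assoc, ← Functor.map_comp, hgc, Functor.map_comp,
      Category.assoc]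

end Groth.Agent.H53.GenFin
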