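import Groth.Prelude.Def_AlgSpSub
import Groth.Agent.H53.ResidualClosed
import Groth.Agent.Lib.Helper51.SpPullbackPts
import Groth.Agent.Lib.Helper51.OpenImmDescent

set_option autoImplicit false
set_option backward.isDefEq.respectTransparency false
universe u
open CategoryTheory CategoryTheory.Limits AlgebraicGeometry Opposite Topology TopologicalSpace
open AlgSp

namespace Groth.Agent.H53.RedInduced

variable {S : Scheme.{u}}

/-- The reduced induced closed subspace structure on a closed subset of the points of an
algebraic space. -/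
theorem exists_isRedInduced {X : Sp S} (hX : IsAlgSpace X) (T : Set (Points X))
    (hT : IsClosed T) :
    ∃ (Z : Sp S) (i : Z ⟶ X), IsAlgSpace Z ∧ Mono i ∧ IsRedInduced T i := by
  obtain ⟨U, a, hae, has⟩ := hX.atlas
  let E : Closeds ↥U.left := ⟨Points.ofPt a ⁻¹' T, hT.preimage (Points.continuous_ofPt a)⟩
  let ιE := (Scheme.IdealSheafData.vanishingIdeal E).subschemeι
  have hrange : Set.range ιE = (E : Set ↥U.left) := by
    rw [Scheme.IdealSheafData.range_subschemeι, Scheme.IdealSheafData.coe_support_vanishingIdeal]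
  let ER : Over S := Over.mk (ιE ≫ U.hom)
  let jE : ER ⟶ U := Over.homMk ιE rfl
  have hERred : IsReduced ER.left := by
    change IsReduced (Scheme.IdealSheafData.vanishingIdeal E).subscheme
    infer_instance
  have hjEci : IsClosedImmersion jE.left := by
    change IsClosedImmersion ιE
    infer_instance
  have hjEmono : Mono ((yon S).map jE) := by
    have : Mono jE.left := inferInstance
    have : Mono jE := Groth.Agent.H52.mono_over_of_mono_left jE
    exact Groth.Agent.H52.mono_yon_map jE
  -- the étale pullback of the reduced chart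
  have sqP := hae.rep.isPullback' ((yon S).map jE ≫ a)
  have hdet : Etale (hae.rep.snd ((yon S).map jE ≫ a)).left := hae.property_snd _
  generalize hae.rep.fst' ((yon S).map jE ≫ a) = c at sqP
  generalize hae.rep.snd ((yon S).map jE ≫ a) = d at sqP hdet
  generalize hae.rep.pullback ((yon S).map jE ≫ a) = P at c d
  have hPred : IsReduced P.left := Groth.Agent.Lib.Helper54.isReduced_of_etale_scheme d.left
  have hcE : Set.range c.left ⊆ (E : Set ↥U.left) := by
    rintro _ ⟨p, rfl⟩
    change Points.ofPt a (c.left p) ∈ T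
    rw [← Groth.Agent.H53.FibrePts.ofPt_yon_map_comp, sqP.w, ← Category.assoc,
      ← Functor.map_comp, Groth.Agent.H53.FibrePts.ofPt_yon_map_comp]
    have : (d ≫ jE).left p ∈ (E : Set ↥U.left) := by rw [← hrange]; exact ⟨d.left p, rfl⟩
    exact this
  have hle : ιE.ker ≤ c.left.ker := by
    rw [Scheme.IdealSheafData.ker_subschemeι]
    exact Groth.Agent.H72.NormalBir.vanishingIdeal_le_ker c.left E hcE
  have hq₀ : IsClosedImmersion.lift ιE c.left hle ≫ ιE = c.left := IsClosedImmersion.lift_fac _ _ _
  generalize IsClosedImmersion.lift ιE c.left hle = q₀ at hq₀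
  let q : P ⟶ ER := Over.homMk q₀ (by
    change q₀ ≫ ιE ≫ U.hom = P.hom
    rw [← Category.assoc, hq₀]
    exact Over.w c)
  have hq : q ≫ jE = c := by
    ext
    exact hq₀
  -- the image
  have hπι : Sheaf.toImage ((yon S).map jE ≫ a) ≫ Sheaf.imageι ((yon S).map jE ≫ a) =
      (yon S).map jE ≫ a := Sheaf.toImage_ι _
  have hmono : Mono (Sheaf.imageι ((yon S).map jE ≫ a)) := inferInstance
  have hepi : Epi (Sheaf.toImage ((yon S).map jE ≫ a)) := inferInstance
  generalize Sheaf.toImage ((yon S).map jE ≫ a) = e at hπι hepi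
  generalize Sheaf.imageι ((yon S).map jE ≫ a) = i at hπι hmono
  generalize Sheaf.image ((yon S).map jE ≫ a) = Z at e i
  have sq : IsPullback e ((yon S).map jE) i a := by
    refine Groth.Agent.Lib.Helper51.isPullback_of_forall_yon _ _ _ _ hπι (fun V z v hzv => ?_)
    have hfac : ∃ w : (yon S).obj V ⟶ (yon S).obj ER, w ≫ (yon S).map jE = v := by
      apply Groth.Agent.Lib.Helper51.exists_factor_of_factorSieve_mem
      obtain ⟨Sv, hSv, hlift⟩ := Groth.Agent.Lib.Helper51.exists_cover_lift_of_epi e z
      refine (J S).superset_covering ?_ hSv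
      intro Y f hf
      obtain ⟨w₁, hw₁⟩ := hlift f hf
      have hcomm : ((yon S).map f ≫ v) ≫ a = w₁ ≫ (yon S).map jE ≫ a := by
        rw [Category.assoc, ← hzv, ← Category.assoc, ← hw₁, Category.assoc, hπι]
      refine ⟨sqP.lift ((yon S).map f ≫ v) w₁ hcomm ≫ (yon S).map q, ?_⟩
      rw [Category.assoc, ← Functor.map_comp, hq, sqP.lift_fst]
    obtain ⟨w, hw⟩ := hfac
    refine ⟨w, ⟨?_, hw⟩, fun w' hw' => ?_⟩
    · rw [← cancel_mono i, Category.assoc, hπι, ← Category.assoc, hw, hzv]
    · rw [← cancel_mono ((yon S).map jE), hw'.2, hw]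
  have hci : RepWith @IsClosedImmersion i :=
    Groth.Agent.H53.EffDesc.repWith_isClosedImmersion_of_etale_cover i a hae has _ _ sq
      (by rw [repWith_yon_map_iff]; exact hjEci)
  have hee : RepWith @Etale e := MorphismProperty.of_isPullback sq.flip hae
  have hes : RepWith @Surjective e := MorphismProperty.of_isPullback sq.flip has
  have hZ : IsAlgSpace Z :=
    ⟨Groth.Agent.H52.representable_diag_of_mono i hX.diag, ER, e, hee, hes⟩
  refine ⟨Z, i, hZ, hmono, hci, ?_, ER, e, hee, hes, hERred⟩
  have hsurj : Function.Surjective (Points.ofPt a) :=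
    (Groth.Agent.H53.isQuotientMap_ofPt_of_etale_surjective a hae has).surjective
  apply hsurj.preimage_injective
  rw [← Groth.Agent.H53.ResidualClosed.range_eq_preimage_range i a e jE sq]
  exact hrange

end Groth.Agent.H53.RedInduced
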