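import Groth.Prelude.Def_AlgSpDec
import Groth.Agent.H53.RedInduced
import Groth.Agent.H53.Immersion
import Groth.Agent.H53.Proper
import Groth.Agent.Lib.Helper54.Points

set_option autoImplicit false
set_option backward.isDefEq.respectTransparency false
universe u
open CategoryTheory CategoryTheory.Limits AlgebraicGeometry Opposite Topology TopologicalSpace
open AlgSp

namespace Groth.Agent.H53.IntegralSub

variable {S : Scheme.{u}}

/-- An irreducible closed subset of the points of a decent algebraic space is the space of points of
an integral closed subspace. -/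
theorem exists_integral_closed_subspace {X : Sp S} (hX : IsAlgSpace X) (hXd : IsDecent X)
    (T : Set (Points X)) (hT : IsClosed T) (hTi : IsIrreducible T) :
    ∃ (Z : Sp S) (i : Z ⟶ X), IsAlgSpace Z ∧ RepWith @IsClosedImmersion i ∧ IsIntegralSp Z ∧
      Set.range (Points.map i) = T := by
  obtain ⟨Z, i, hZ, hmono, hci, hr, hred⟩ :=
    Groth.Agent.H53.RedInduced.exists_isRedInduced hX T hT
  have himm : RepWith @IsImmersion i :=
    Groth.Agent.H53.repWith_of_le (fun A B φ hφ => by
      have : IsClosedImmersion φ := hφ
      infer_instance) hci
  have hemb := (Groth.Agent.H53.isEmbedding_points_of_repWith_isImmersion hX i himm).1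
  refine ⟨Z, i, hZ, hci, ⟨hred, ?_, ?_⟩, hr⟩
  · exact Groth.Agent.Lib.Helper54.isDecent_of_representable i hci.rep hXd
  · let e := hemb.toHomeomorph
    have : IrreducibleSpace (Set.range (Points.map i)) := Subtype.irreducibleSpace (hr ▸ hTi)
    exact (Homeomorph.irreducibleSpace_iff e).mpr inferInstance

end Groth.Agent.H53.IntegralSub
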