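import Groth.Agent.H53.SchImageRed

set_option autoImplicit false
set_option backward.isDefEq.respectTransparency false
universe u
open CategoryTheory CategoryTheory.Limits AlgebraicGeometry Opposite Topology TopologicalSpace
open AlgSp

namespace Groth.Agent.H53.ClosedDescend

variable {S : Scheme.{u}}

/-- A closed subscheme of an étale atlas which is saturated for the étale equivalence relation
descends to a closed subspace. -/
theorem exists_closed_subspace_of_saturated {Y : Sp S} (hY : IsAlgSpace Y) {U ZO : Over S}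
    (a : (yon S).obj U ⟶ Y) (hae : RepWith @Etale a) (has : RepWith @Surjective a)
    (jZ : ZO ⟶ U) [IsClosedImmersion jZ.left]
    (hsat : ∀ (T : Over S) (v : (yon S).obj T ⟶ (yon S).obj U)
      (w₁ : (yon S).obj T ⟶ (yon S).obj ZO), v ≫ a = w₁ ≫ (yon S).map jZ ≫ a →
      ∃ w : (yon S).obj T ⟶ (yon S).obj ZO, w ≫ (yon S).map jZ = v) :
    ∃ (Z : Sp S) (i : Z ⟶ Y) (e : (yon S).obj ZO ⟶ Z), IsAlgSpace Z ∧ Mono i ∧
      RepWith @IsClosedImmersion i ∧ IsPullback e ((yon S).map jZ) i a ∧ RepWith @Etale e ∧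
      RepWith @Surjective e := by
  have hjZmono : Mono ((yon S).map jZ) := by
    have : Mono jZ.left := inferInstance
    have : Mono jZ := Groth.Agent.H52.mono_over_of_mono_left jZ
    exact Groth.Agent.H52.mono_yon_map jZ
  have hπι : Sheaf.toImage ((yon S).map jZ ≫ a) ≫ Sheaf.imageι ((yon S).map jZ ≫ a) =
      (yon S).map jZ ≫ a := Sheaf.toImage_ι _
  have hmono : Mono (Sheaf.imageι ((yon S).map jZ ≫ a)) := inferInstance
  have hepi : Epi (Sheaf.toImage ((yon S).map jZ ≫ a)) := inferInstance
  generalize Sheaf.toImage ((yon S).map jZ ≫ a) = e at hπι hepi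
  generalize Sheaf.imageι ((yon S).map jZ ≫ a) = i at hπι hmono
  generalize Sheaf.image ((yon S).map jZ ≫ a) = Z at e i
  have sq : IsPullback e ((yon S).map jZ) i a := by
    refine Groth.Agent.Lib.Helper51.isPullback_of_forall_yon _ _ _ _ hπι (fun V z v hzv => ?_)
    have hfac : ∃ w : (yon S).obj V ⟶ (yon S).obj ZO, w ≫ (yon S).map jZ = v := by
      apply Groth.Agent.Lib.Helper51.exists_factor_of_factorSieve_mem
      obtain ⟨Sv, hSv, hlift⟩ := Groth.Agent.Lib.Helper51.exists_cover_lift_of_epi e z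
      refine (J S).superset_covering ?_ hSv
      intro T f hf
      obtain ⟨w₁, hw₁⟩ := hlift f hf
      have hcomm : ((yon S).map f ≫ v) ≫ a = w₁ ≫ (yon S).map jZ ≫ a := by
        rw [Category.assoc, ← hzv, ← Category.assoc, ← hw₁, Category.assoc, hπι]
      exact hsat T _ w₁ hcomm
    obtain ⟨w, hw⟩ := hfac
    refine ⟨w, ⟨?_, hw⟩, fun w' hw' => ?_⟩
    · rw [← cancel_mono i, Category.assoc, hπι, ← Category.assoc, hw, hzv]
    · rw [← cancel_mono ((yon S).map jZ), hw'.2, hw]
  have hci : RepWith @IsClosedImmersion i :=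
    Groth.Agent.H53.EffDesc.repWith_isClosedImmersion_of_etale_cover i a hae has _ _ sq
      (by rw [repWith_yon_map_iff]; infer_instance)
  have hee : RepWith @Etale e := MorphismProperty.of_isPullback sq.flip hae
  have hes : RepWith @Surjective e := MorphismProperty.of_isPullback sq.flip has
  have hZ : IsAlgSpace Z :=
    ⟨Groth.Agent.H52.representable_diag_of_mono i hY.diag, ZO, e, hee, hes⟩
  exact ⟨Z, i, e, hZ, hmono, hci, sq, hee, hes⟩

end Groth.Agent.H53.ClosedDescend
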