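import Groth.Agent.H53.LocalCharts
import Groth.Agent.Lib.Helper54.FpqcDescent
import Groth.Agent.Lib.Helper1.AffineAndDescent

set_option autoImplicit false
set_option backward.isDefEq.respectTransparency false
universe u
open CategoryTheory CategoryTheory.Limits AlgebraicGeometry Opposite Topology
open AlgSp

namespace Groth.Agent.H53.FibrePts

variable {S : Scheme.{u}}

/-- A quasi-compact monomorphism from the spectrum of a field representing a closed point is a
closed immersion. -/
theorem repWith_isClosedImmersion_of_isClosed {X : Sp S} (hXalg : IsAlgSpace X) (p : FieldPt X)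
    (hm : Mono p.toHom) (hq : RepWith @QuasiCompact p.toHom)
    (hcl : IsClosed ({Points.mk p} : Set (Points X))) : RepWith @IsClosedImmersion p.toHom := by
  haveI := Groth.Agent.Lib.Helper1.descendsAlong_isClosedImmersion_fpqc.{u}
  have H := (finite_fibres_iff_exists_mono_qc hXalg (Points.mk p)).2 ⟨p, rfl, hm, hq⟩
  have hrep : Representable p.toHom := hXalg.representable_from_yon p.toHom
  refine Groth.Agent.Lib.Helper54.repWith_of_fpqc_local @IsClosedImmersion p.toHom hrep ?_
  intro A hA y
  obtain ⟨m, W, c, U, φ, g, h1, h2, h3, h4, h5, h6⟩ := exists_local_charts hXalg hA y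
  refine ⟨m, W, c, h1, fun j => ?_, h3, fun j => ?_⟩
  · have := h2 j; infer_instance
  have sq1 : IsPullback ((yon S).map (hrep.fst' (φ j))) ((yon S).map (hrep.snd (φ j))) p.toHom (φ j) :=
    hrep.isPullback' (φ j)
  have sqR : IsPullback ((yon S).map ((h5 j).rep.fst' (φ j))) ((yon S).map ((h5 j).rep.snd (φ j)))
      (φ j) (φ j) := (h5 j).rep.isPullback' (φ j)
  have hfin := (H (U j) (φ j) (h4 j) (h5 j) _ _ _ sqR).1
  have hci : IsClosedImmersion (hrep.snd (φ j)).left :=
    isClosedImmersion_of_finite_fibre p (φ j) (h5 j) _ _ sq1 _ _ sqR hfin hcl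
  have hci' : RepWith @IsClosedImmersion ((yon S).map (hrep.snd (φ j))) :=
    (repWith_yon_map_iff _ _).2 hci
  refine ⟨pullback ((yon S).map (hrep.snd (φ j))) ((yon S).map (g j)),
    pullback.fst _ _ ≫ (yon S).map (hrep.fst' (φ j)), pullback.snd _ _, ?_, ?_⟩
  · rw [h6 j]; exact (IsPullback.of_hasPullback _ _).paste_horiz sq1
  · exact MorphismProperty.of_isPullback (IsPullback.of_hasPullback _ _) hci'

/-- S10359. -/
theorem exists_closedImmersion_of_isClosed {X : Sp S} (hXalg : IsAlgSpace X) (hX : IsDecent X)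
    (x : Points X) (hx : IsClosed ({x} : Set (Points X))) :
    ∃ p : FieldPt X, Points.mk p = x ∧ RepWith @IsClosedImmersion p.toHom := by
  obtain ⟨p, rfl, hm, hq⟩ := hX x
  exact ⟨p, rfl, repWith_isClosedImmersion_of_isClosed hXalg p hm hq hx⟩

end Groth.Agent.H53.FibrePts
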