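import Groth.Agent.H53.ClosedPt
import Groth.Agent.H53.SpTop
import Groth.Agent.H53.MonoDisc

set_option autoImplicit false
set_option backward.isDefEq.respectTransparency false
universe u
open CategoryTheory CategoryTheory.Limits AlgebraicGeometry Opposite Topology
open AlgSp

namespace Groth.Agent.H53.FibrePts

/-- A field valued point of a scheme `U` over `S`, lying over a closed point `s` of `S` with
residue field extension integral over `κ(s)`, hits a closed point of `U`. -/
theorem isClosed_singleton_of_integral {U S : Scheme.{u}} (f : U ⟶ S) {K : Type u} [Field K]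
    (g : Spec (CommRingCat.of K) ⟶ U) (s : ↥S) (hs : IsClosed ({s} : Set ↥S))
    (ψ : S.residueField s ⟶ CommRingCat.of K) (hψ : ψ.hom.IsIntegral)
    (hg : g ≫ f = Spec.map ψ ≫ S.fromSpecResidueField s) :
    IsClosed ({g (IsLocalRing.closedPoint K)} : Set ↥U) := by
  set u := g (IsLocalRing.closedPoint K) with hu
  have h1 : IsIntegralHom (Spec.map ψ) := IsIntegralHom.SpecMap_iff.2 hψ
  have h2 : IsClosedImmersion (S.fromSpecResidueField s) :=
    isClosed_singleton_iff_isClosedImmersion.1 hs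
  have h3 : IsIntegralHom (g ≫ f) := by rw [hg]; infer_instance
  have hrange : Set.range g = {u} := by
    ext z
    constructor
    · rintro ⟨w, rfl⟩
      have : w = IsLocalRing.closedPoint K := Subsingleton.elim (α := PrimeSpectrum K) _ _
      rw [this]; rfl
    · rintro rfl
      exact ⟨_, rfl⟩
  refine isClosed_of_closure_subset (fun u' hu' => ?_)
  have hsp : u ⤳ u' := specializes_iff_mem_closure.2 hu'
  obtain ⟨_, ⟨W0, hW, rfl⟩, hu'W, -⟩ :=
    (U.isBasis_affineOpens).exists_subset_of_mem_open (Set.mem_univ u') isOpen_univ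
  let W : U.Opens := W0
  have huW : u ∈ W := hsp.mem_open W.isOpen hu'W
  have hWaff : IsAffine (W : Scheme.{u}) := hW
  have hrW : Set.range g ⊆ Set.range W.ι := by
    rw [hrange, Scheme.Opens.range_ι]
    exact Set.singleton_subset_iff.2 huW
  let gW : Spec (CommRingCat.of K) ⟶ (W : Scheme.{u}) := IsOpenImmersion.lift W.ι g hrW
  have hgW : gW ≫ W.ι = g := IsOpenImmersion.lift_fac _ _ _
  have hsep : IsSeparated (W.ι ≫ f) := by
    have h1 : (W : Scheme.{u}).IsSeparated := inferInstance
    have h2 : IsSeparated ((W.ι ≫ f) ≫ terminal.from S) := by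
      rw [show (W.ι ≫ f) ≫ terminal.from S = terminal.from (W : Scheme.{u}) from
        terminal.hom_ext _ _]
      exact h1.1
    exact IsSeparated.of_comp (W.ι ≫ f) (terminal.from S)
  have huc : UniversallyClosed (gW ≫ W.ι ≫ f) := by
    rw [← Category.assoc, hgW]; infer_instance
  have hgWuc : UniversallyClosed gW := UniversallyClosed.of_comp_of_isSeparated gW (W.ι ≫ f)
  have hcl : IsClosed (Set.range gW) := gW.isClosedMap.isClosed_range
  have hgWpt : ∀ w, W.ι (gW w) = u := by
    intro w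
    rw [← Scheme.Hom.comp_apply, hgW]
    have : w = IsLocalRing.closedPoint K := Subsingleton.elim (α := PrimeSpectrum K) _ _
    rw [this]
  have hrangeW : Set.range gW = {(⟨u, huW⟩ : ↥W)} := by
    ext z
    constructor
    · rintro ⟨w, rfl⟩
      exact Subtype.ext (hgWpt w)
    · rintro rfl
      exact ⟨IsLocalRing.closedPoint K, Subtype.ext (hgWpt _)⟩
  rw [hrangeW] at hcl
  have hspW : (⟨u, huW⟩ : ↥W) ⤳ (⟨u', hu'W⟩ : ↥W) :=
    Topology.IsInducing.subtypeVal.specializes_iff.1 hsp
  have : (⟨u', hu'W⟩ : ↥W) ∈ ({(⟨u, huW⟩ : ↥W)} : Set ↥W) := by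
    have := hspW.mem_closed hcl (Set.mem_singleton _)
    exact this
  exact congrArg Subtype.val (Set.mem_singleton_iff.1 this)

end Groth.Agent.H53.FibrePts

namespace Groth.Agent.H53.FibrePts

variable {S : Scheme.{u}}

/-- Points of an étale chart over the image of `Spec k ⟶ X`, where `Spec k` lies over a closed point
`s` of `S` with `k` integral over `κ(s)`, are closed. -/
theorem isClosed_singleton_chart_of_integral {X : Sp S} (s : ↥S) (hs : IsClosed ({s} : Set ↥S))
    (k : Type u) [Field k] (φ : S.residueField s ⟶ CommRingCat.of k) (hφ : φ.hom.IsIntegral)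
    (p : (yon S).obj (Over.mk (Spec.map φ ≫ S.fromSpecResidueField s)) ⟶ X)
    (t : ↥(Spec (CommRingCat.of k))) {U0 : Over S} (a : (yon S).obj U0 ⟶ X)
    (hae : RepWith @Etale a) (u : ↥U0.left) (hu : Points.ofPt a u = Points.ofPt p t) :
    IsClosed ({u} : Set ↥U0.left) := by
  let pk : Over S := Over.mk (Spec.map φ ≫ S.fromSpecResidueField s)
  let T : Over S := hae.rep.pullback p
  let f1 : T ⟶ U0 := hae.rep.fst' p
  let f2 : T ⟶ pk := hae.rep.snd p
  have sq : IsPullback ((yon S).map f1) ((yon S).map f2) a p := hae.rep.isPullback' p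
  have hf2 : Etale f2.left := hae.property_snd p
  have hpt : Points.map a (Points.ofScheme U0 u) = Points.ofPt p t := by
    rw [← Points.ofPt_eq_map_ofScheme]; exact hu
  obtain ⟨τ, hτ1, hτ2⟩ := Groth.Agent.Lib.Helper54.exists_pt_of_isPullback_yon sq _ t hpt
  have hτu : f1.left τ = u := by
    rw [ofPt_yon_map] at hτ1
    have := congrArg (Points.toScheme U0) hτ1
    rwa [Points.toScheme_ofScheme, Points.toScheme_ofScheme] at this
  obtain ⟨hdisc, hred⟩ :=
    Groth.Agent.H53.FieldQuot.discrete_reduced_of_etale_over_field (k := k) f2.left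
  let L := T.left.residueField τ
  let gτ : Spec (CommRingCat.of L) ⟶ T.left := T.left.fromSpecResidueField τ
  have hoi : IsOpenImmersion gτ :=
    Groth.Agent.H53.MonoDisc.isOpenImmersion_of_mono_of_discrete_reduced gτ
  have het : Etale (gτ ≫ f2.left) := inferInstance
  have hfin : IsFinite (gτ ≫ f2.left) :=
    Groth.Agent.H53.FieldQuot.isFinite_of_etale_of_compact (k := k) (gτ ≫ f2.left)
  obtain ⟨θ, hθ⟩ : ∃ θ : CommRingCat.of k ⟶ CommRingCat.of L, Spec.map θ = gτ ≫ f2.left :=
    ⟨Spec.preimage (gτ ≫ f2.left), Spec.map_preimage _⟩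
  have hθf : θ.hom.Finite := by
    rw [← hθ] at hfin
    exact (IsFinite.SpecMap_iff θ).1 hfin
  have hψ : (φ ≫ θ).hom.IsIntegral := by
    rw [CommRingCat.hom_comp]
    exact RingHom.IsIntegral.trans _ _ hφ hθf.to_isIntegral
  have hg : (gτ ≫ f1.left) ≫ U0.hom = Spec.map (φ ≫ θ) ≫ S.fromSpecResidueField s := by
    rw [Category.assoc, Over.w f1, ← Over.w f2, ← Category.assoc, ← hθ, Spec.map_comp,
      Category.assoc]
    rfl
  have := isClosed_singleton_of_integral U0.hom (gτ ≫ f1.left) s hs (φ ≫ θ) hψ hg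
  have hpt2 : (gτ ≫ f1.left) (IsLocalRing.closedPoint L) = u := by
    rw [Scheme.Hom.comp_apply]
    have : gτ (IsLocalRing.closedPoint L) = τ := Scheme.fromSpecResidueField_apply _ _
    rw [this, hτu]
  rwa [hpt2] at this

/-- S10357. -/
theorem isClosed_singleton_of_integral_point {X : Sp S} (hXalg : IsAlgSpace X) (hX : IsDecent X)
    (s : ↥S) (hs : IsClosed ({s} : Set ↥S))
    (k : Type u) [Field k] (φ : S.residueField s ⟶ CommRingCat.of k) (hφ : φ.hom.IsIntegral)
    (p : (yon S).obj (Over.mk (Spec.map φ ≫ S.fromSpecResidueField s)) ⟶ X)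
    (t : ↥(Spec (CommRingCat.of k))) :
    IsClosed ({Points.ofPt p t} : Set (Points X)) := by
  set x := Points.ofPt p t with hx
  obtain ⟨U0, a, hae, has⟩ := hXalg.atlas
  have hquot := Groth.Agent.H53.isQuotientMap_ofPt_of_etale_surjective a hae has
  rw [← hquot.isClosed_preimage]
  have hcov : TopologicalSpace.IsOpenCover (fun i : U0.left.affineOpens => (i : U0.left.Opens)) :=
    AlgebraicGeometry.iSup_affineOpens_eq_top U0.left
  rw [hcov.isClosed_iff_coe_preimage]
  intro W
  -- the fibre inside the affine open `W` is finite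
  obtain ⟨q, hq1, hq2, hq3⟩ := hX x
  have H := (finite_fibres_iff_exists_mono_qc hXalg x).2 ⟨q, hq1, hq2, hq3⟩
  let WW : Over S := Groth.Agent.H52.overOpen U0 W.1
  let ιW : WW ⟶ U0 := Groth.Agent.H52.overOpenι U0 W.1
  let ψ : (yon S).obj WW ⟶ X := (yon S).map ιW ≫ a
  have hψ : RepWith @Etale ψ :=
    MorphismProperty.comp_mem _ _ _ (Groth.Agent.H52.repWith_etale_overOpenι U0 W.1) hae
  have hWaff : IsAffine WW.left := W.2
  have sqR : IsPullback ((yon S).map (hψ.rep.fst' ψ)) ((yon S).map (hψ.rep.snd ψ)) ψ ψ :=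
    hψ.rep.isPullback' ψ
  have hfin := (H WW ψ hWaff hψ _ _ _ sqR).1
  have heq : ((↑) ⁻¹' (Points.ofPt a ⁻¹' {x}) : Set ↥(W : U0.left.Opens)) = Points.ofPt ψ ⁻¹' {x} := by
    ext w
    simp only [Set.mem_preimage, Set.mem_singleton_iff]
    rw [ofPt_yon_map_comp]
    rfl
  rw [heq]
  have hcl : ∀ w ∈ Points.ofPt ψ ⁻¹' {x}, IsClosed ({w} : Set ↥WW.left) := by
    intro w hw
    exact isClosed_singleton_chart_of_integral s hs k φ hφ p t ψ hψ w hw
  have : Points.ofPt ψ ⁻¹' {x} = ⋃ w ∈ Points.ofPt ψ ⁻¹' {x}, {w} := by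
    ext w; simp
  rw [this]
  exact hfin.isClosed_biUnion hcl

end Groth.Agent.H53.FibrePts
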