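import Groth.Agent.H53.OpenSub
import Groth.Agent.H52.Epi
import Groth.Prelude.Def_AlgSpSub
import Mathlib.AlgebraicGeometry.Morphisms.ClosedImmersion

/-!
# Closed subspaces: factorisation criterion for reduced sources (helper53)
-/

set_option autoImplicit false
universe u
open CategoryTheory CategoryTheory.Limits AlgebraicGeometry Opposite Topology

namespace Groth.Agent.H53
open AlgSp

variable {S : Scheme.{u}}

/-- A morphism from a reduced sheaf factors through a closed subspace iff it does so on points. -/
theorem exists_factor_closed_of_range_subset {X Z Y : Sp S} (i : Z ⟶ X)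
    (hi : RepWith @IsClosedImmersion i) (hY : IsReducedSp Y) (f : Y ⟶ X)
    (h : Set.range (Points.map f) ⊆ Set.range (Points.map i)) : ∃ g : Y ⟶ Z, g ≫ i = f := by
  have sq := IsPullback.of_hasPullback f i
  have h1 : RepWith @IsClosedImmersion (pullback.fst f i) :=
    MorphismProperty.of_isPullback sq.flip hi
  have hsurj : Function.Surjective (Points.map (pullback.fst f i)) := by
    intro y
    obtain ⟨x', hx'⟩ := h ⟨y, rfl⟩
    obtain ⟨p, hp, -⟩ := H52.exists_point_of_isPullback sq y x' hx'.symm
    exact ⟨p, hp⟩
  have h2 : RepWith @Surjective (pullback.fst f i) :=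
    H52.repWith_surjective_of_surjective_points _ h1.rep hsurj
  have hmono : Mono (pullback.fst f i) := H52.mono_of_repWith _ @IsClosedImmersion
    (fun _ _ g hg => by have := hg; infer_instance) h1
  obtain ⟨V, v, hve, hvs, hV⟩ := hY
  have hepi_v : Epi v := H52.epi_of_repWith_etale_surjective v hve hvs
  have hr := h1.rep
  have sqV := hr.isPullback v
  have c1 : IsClosedImmersion (hr.snd v).left := h1.property_snd v
  have c2 : Surjective (hr.snd v).left := h2.property _ _ _ sqV
  have : IsReduced V.left := hV
  have c3 : IsIso (hr.snd v).left := isIso_of_isClosedImmersion_of_surjective _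
  have c4 : IsIso (hr.snd v) := by
    have : IsIso ((Over.forget S).map (hr.snd v)) := c3
    exact isIso_of_reflects_iso _ (Over.forget S)
  have hfac : ((yon S).map (inv (hr.snd v)) ≫ hr.fst v) ≫ pullback.fst f i = v := by
    rw [Category.assoc, sqV.w, ← Category.assoc, ← Functor.map_comp, IsIso.inv_hom_id,
      CategoryTheory.Functor.map_id, Category.id_comp]
  have hepi : Epi (pullback.fst f i) := by
    have : Epi (((yon S).map (inv (hr.snd v)) ≫ hr.fst v) ≫ pullback.fst f i) := by
      rw [hfac]; exact hepi_v
    exact epi_of_epi ((yon S).map (inv (hr.snd v)) ≫ hr.fst v) _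
  have hiso : IsIso (pullback.fst f i) := isIso_of_mono_of_epi _
  refine ⟨inv (pullback.fst f i) ≫ pullback.snd f i, ?_⟩
  rw [Category.assoc, ← pullback.condition, IsIso.inv_hom_id_assoc]

end Groth.Agent.H53
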