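import Groth.Agent.Lib.Helper54.Transfer
import Groth.Agent.H53.SpBasic
import Groth.Agent.H53.SourceLocal
import Mathlib.AlgebraicGeometry.Morphisms.QuasiFinite
import Mathlib.AlgebraicGeometry.Morphisms.UniversallyOpen
import Mathlib.RingTheory.KrullDimension.Zero

/-!
# Points of codimension zero (helper53)
-/

set_option autoImplicit false
universe u
open CategoryTheory CategoryTheory.Limits AlgebraicGeometry Opposite Topology

namespace Groth.Agent.H53

theorem stalk_dim_zero_iff (X : Scheme.{u}) (x : X) :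
    ringKrullDim (X.presheaf.stalk x) = 0 ↔ ∀ y : X, y ⤳ x → y = x := by
  rw [← ringKrullDimZero_iff_ringKrullDim_eq_zero, Ring.krullDimLE_zero_iff]
  constructor
  · intro h y hy
    obtain ⟨p, rfl⟩ : y ∈ Set.range (X.fromSpecStalk x) := by
      rw [Scheme.range_fromSpecStalk]; exact hy
    have hp : p.asIdeal.IsMaximal := h _ p.isPrime
    have : p = IsLocalRing.closedPoint _ := PrimeSpectrum.ext (IsLocalRing.eq_maximalIdeal hp)
    rw [this, Scheme.fromSpecStalk_closedPoint]
  · intro h I hI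
    have h1 : X.fromSpecStalk x (⟨I, hI⟩ : PrimeSpectrum _) ⤳ x := by
      have : X.fromSpecStalk x (⟨I, hI⟩ : PrimeSpectrum _) ∈ Set.range (X.fromSpecStalk x) :=
        ⟨_, rfl⟩
      rwa [Scheme.range_fromSpecStalk] at this
    have h2 := h _ h1
    have h3 : X.fromSpecStalk x (⟨I, hI⟩ : PrimeSpectrum _) =
        X.fromSpecStalk x (IsLocalRing.closedPoint _) := by
      rw [h2, Scheme.fromSpecStalk_closedPoint]
    have h4 := (X.fromSpecStalk x).isEmbedding.injective h3
    have h5 : I = IsLocalRing.maximalIdeal _ := congrArg PrimeSpectrum.asIdeal h4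
    rw [h5]
    infer_instance

theorem stalk_dim_zero_of_locallyQuasiFinite {X Y : Scheme.{u}} (g : X ⟶ Y) [LocallyQuasiFinite g]
    (x : X) (h : ringKrullDim (Y.presheaf.stalk (g x)) = 0) :
    ringKrullDim (X.presheaf.stalk x) = 0 := by
  rw [stalk_dim_zero_iff] at h ⊢
  intro y hy
  have h1 : g y = g x := h _ (hy.map g.continuous)
  have hd := g.isDiscrete_preimage_singleton (g x)
  have : DiscreteTopology ↥(g ⁻¹' {g x}) := hd.to_subtype
  have hs : (⟨y, h1⟩ : ↥(g ⁻¹' {g x})) ⤳ ⟨x, rfl⟩ :=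
    Topology.IsInducing.subtypeVal.specializes_iff.1 hy
  exact congrArg Subtype.val (specializes_iff_eq.1 hs)

theorem stalk_dim_zero_of_flat {X Y : Scheme.{u}} (g : X ⟶ Y) [Flat g]
    (x : X) (h : ringKrullDim (X.presheaf.stalk x) = 0) :
    ringKrullDim (Y.presheaf.stalk (g x)) = 0 := by
  rw [stalk_dim_zero_iff] at h ⊢
  intro y hy
  obtain ⟨x', hx', rfl⟩ := Flat.generalizingMap g hy
  rw [h x' hx']

open AlgSp

variable {S : Scheme.{u}}

/-- A flat morphism maps points of codimension 0 to points of codimension 0. -/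
theorem hasAt_dim_zero_map_of_flat {X Y : Sp S} (hY : IsAlgSpace Y) (f : X ⟶ Y)
    (hf : LocP @Flat f) (x : Points X)
    (hx : HasAt (fun U u => ringKrullDim ↥(U.presheaf.stalk u) = 0) X x) :
    HasAt (fun U u => ringKrullDim ↥(U.presheaf.stalk u) = 0) Y (Points.map f x) := by
  obtain ⟨U, a, u, hae, hau, hdim⟩ := hx
  obtain ⟨V, b, hbe, hbs⟩ := hY.atlas
  obtain ⟨U₁, a₁, k, ha₁, sq, hrep⟩ := Lib.Helper54.exists_chart_square f a hae b hbe
  have hs : Surjective a₁.left := Lib.Helper54.surjective_left_of_chart_square hbs sq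
  obtain ⟨u₁, hu₁⟩ := hs.surj u
  have hk : Flat k.left := Lib.Helper54.locP_of_chart_square hf hbe sq hrep
  have : Etale a₁.left := ha₁
  have hlqf : LocallyQuasiFinite a₁.left := locallyQuasiFinite_of_etale a₁.left
  have h1 : ringKrullDim ↥(U₁.left.presheaf.stalk u₁) = 0 :=
    stalk_dim_zero_of_locallyQuasiFinite a₁.left u₁ (by rw [hu₁]; exact hdim)
  have h2 : ringKrullDim ↥(V.left.presheaf.stalk (k.left u₁)) = 0 :=
    stalk_dim_zero_of_flat k.left u₁ h1
  refine ⟨V, b, k.left u₁, hbe, ?_, h2⟩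
  have e1 : Points.ofPt b (k.left u₁) = Points.ofPt ((yon S).map k ≫ b) u₁ :=
    (ofPt_yon_map_comp k b u₁).symm
  have e2 : Points.ofPt (((yon S).map a₁ ≫ a) ≫ f) u₁ = Points.map f (Points.ofPt a (a₁.left u₁)) := by
    rw [← Points.map_ofPt]
    congr 1
    exact ofPt_yon_map_comp a₁ a u₁
  rw [e1, ← sq.w, ← Category.assoc, e2, hu₁, hau]

end Groth.Agent.H53
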