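import Groth.Agent.H53.Codim
import Groth.Agent.H52.Points

set_option autoImplicit false
open CategoryTheory CategoryTheory.Limits AlgebraicGeometry
universe u
namespace Groth.Agent.H53
theorem exists_generalization_dim_zero (U : Scheme.{u}) (u₀ : U) :
    ∃ y : U, y ⤳ u₀ ∧ ringKrullDim (U.presheaf.stalk y) = 0 := by
  obtain ⟨p, hp, -⟩ := Ideal.exists_minimalPrimes_le
    (bot_le : (⊥ : Ideal (U.presheaf.stalk u₀)) ≤ IsLocalRing.maximalIdeal _)
  have hpp : p.IsPrime := hp.1.1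
  have hy : U.fromSpecStalk u₀ (⟨p, hpp⟩ : PrimeSpectrum _) ⤳ u₀ := by
    have : U.fromSpecStalk u₀ (⟨p, hpp⟩ : PrimeSpectrum _) ∈ Set.range (U.fromSpecStalk u₀) :=
      ⟨_, rfl⟩
    rwa [Scheme.range_fromSpecStalk] at this
  refine ⟨_, hy, ?_⟩
  rw [stalk_dim_zero_iff]
  intro z hz
  obtain ⟨q, rfl⟩ : z ∈ Set.range (U.fromSpecStalk u₀) := by
    rw [Scheme.range_fromSpecStalk]; exact hz.trans hy
  have hq : q ⤳ (⟨p, hpp⟩ : PrimeSpectrum _) :=
    (U.fromSpecStalk u₀).isEmbedding.toIsInducing.specializes_iff.1 hz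
  have hq' : PrimeSpectrum.asIdeal q ≤ p :=
    (PrimeSpectrum.asIdeal_le_asIdeal (R := U.presheaf.stalk u₀) q ⟨p, hpp⟩).2
      ((PrimeSpectrum.le_iff_specializes (R := U.presheaf.stalk u₀) q ⟨p, hpp⟩).2 hq)
  have hle : p ≤ PrimeSpectrum.asIdeal q := hp.2 ⟨PrimeSpectrum.isPrime q, bot_le⟩ hq'
  have : q = (⟨p, hpp⟩ : PrimeSpectrum (U.presheaf.stalk u₀)) :=
    PrimeSpectrum.ext (le_antisymm hq' hle)
  exact congrArg (U.fromSpecStalk u₀) this


open AlgSp

variable {S : Scheme.{u}}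

/-- The points of codimension 0 of an algebraic space are dense. -/
theorem dense_codimZero {X : Sp S} (hX : IsAlgSpace X) :
    Dense {x : Points X | HasAt (fun U u => ringKrullDim ↥(U.presheaf.stalk u) = 0) X x} := by
  obtain ⟨U, a, hae, has⟩ := hX.atlas
  rw [dense_iff_inter_open]
  rintro W hW ⟨x, hx⟩
  obtain ⟨ξ, hξ⟩ := H52.surjective_points_of_repWith_surjective a has x
  obtain ⟨u₀, rfl⟩ := (Points.schemeEquiv U).surjective ξ
  have hu₀ : Points.ofPt a u₀ = x := by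
    rw [Points.ofPt_eq_map_ofScheme]
    exact hξ
  obtain ⟨y, hy, hdim⟩ := exists_generalization_dim_zero U.left u₀
  have hopen : IsOpen (Points.ofPt a ⁻¹' W) := hW.preimage (Points.continuous_ofPt a)
  have hyW : y ∈ Points.ofPt a ⁻¹' W := hy.mem_open hopen (by
    change Points.ofPt a u₀ ∈ W
    rw [hu₀]
    exact hx)
  exact ⟨Points.ofPt a y, hyW, U, a, y, hae, rfl, hdim⟩

end Groth.Agent.H53
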