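import Groth.Agent.H53.DimIneq2
import Groth.Agent.H53.CodimQF3

set_option autoImplicit false
set_option backward.isDefEq.respectTransparency false
universe u
open CategoryTheory CategoryTheory.Limits AlgebraicGeometry Opposite Topology

namespace Groth.Agent.H53.CodimQF

/-- If no two distinct points of the fibre over `v` specialize to one another, `h` is quasi-finite at
all points of that fibre. -/
theorem quasiFiniteAt_of_fibre_no_specialization {U V : Scheme.{u}} (h : U ⟶ V)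
    [LocallyOfFiniteType h] (v : V)
    (hfib : ∀ u' u'' : U, h u' = v → h u'' = v → u' ⤳ u'' → u' = u'') (u : U)
    (hu : h u = v) : h.QuasiFiniteAt u := by
  subst hu
  rw [Scheme.Hom.quasiFiniteAt_iff_isOpen_singleton_asFiber]
  have hmem : ∀ z : h.fiber (h u), h (h.fiberι (h u) z) = h u := by
    intro z
    have := (h.fiberHomeo (h u) z).2
    simpa [Scheme.Hom.fiberHomeo_apply] using this
  have hspec : ∀ y z : h.fiber (h u), y ⤳ z → y = z := by
    intro y z hyz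
    have h1 : h.fiberι (h u) y ⤳ h.fiberι (h u) z := hyz.map (h.fiberι (h u)).continuous
    exact (h.fiberι (h u)).isEmbedding.injective (hfib _ _ (hmem y) (hmem z) h1)
  have : IsLocallyNoetherian (h.fiber (h u)) := by
    unfold Scheme.Hom.fiber
    infer_instance
  have : DiscreteTopology ↥(h.fiber (h u)) := discreteTopology_of_forall_specializes_eq _ hspec
  exact isOpen_discrete _

/-- A point at which `h` is quasi-finite has no proper specialization in its fibre. -/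
theorem eq_of_specializes_of_quasiFiniteAt {U V : Scheme.{u}} (h : U ⟶ V)
    [LocallyOfFiniteType h] {u' u : U} (hq : h.QuasiFiniteAt u') (hs : u' ⤳ u)
    (hfib : h u = h u') : u = u' := by
  have hcl := hq.isClopen_singleton_asFiber.1
  have hu_fib : u ∈ Set.range (h.fiberι (h u')) := by
    rw [Scheme.Hom.range_fiberι]
    simp only [Set.mem_preimage, Set.mem_singleton_iff]
    exact hfib
  obtain ⟨z, hz⟩ := hu_fib
  have hzs : h.asFiber u' ⤳ z := by
    apply (h.fiberι (h u')).isEmbedding.toIsInducing.specializes_iff.1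
    rw [Scheme.Hom.fiberι_asFiber, hz]
    exact hs
  have hzeq : z = h.asFiber u' := hzs.mem_closed hcl rfl
  rw [← hz, hzeq, Scheme.Hom.fiberι_asFiber]

theorem primeIdealOf_le_of_specializes {X : Scheme.{u}} {W : X.Opens} (hW : IsAffineOpen W)
    {x y : X} (hx : x ∈ W) (hy : y ∈ W) (hs : x ⤳ y) :
    (hW.primeIdealOf ⟨x, hx⟩).asIdeal ≤ (hW.primeIdealOf ⟨y, hy⟩).asIdeal := by
  have h1 : (⟨x, hx⟩ : W) ⤳ ⟨y, hy⟩ := Topology.IsInducing.subtypeVal.specializes_iff.1 hs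
  have h2 := h1.map (hW.isoSpec.hom.continuous)
  exact (PrimeSpectrum.le_iff_specializes _ _).2 h2

theorem eq_of_primeIdealOf_asIdeal_eq {X : Scheme.{u}} {W : X.Opens} (hW : IsAffineOpen W)
    {x y : X} (hx : x ∈ W) (hy : y ∈ W)
    (he : (hW.primeIdealOf ⟨x, hx⟩).asIdeal = (hW.primeIdealOf ⟨y, hy⟩).asIdeal) : x = y := by
  have h1 : hW.primeIdealOf ⟨x, hx⟩ = hW.primeIdealOf ⟨y, hy⟩ := PrimeSpectrum.ext he
  have h2 := congrArg hW.fromSpec h1
  rwa [hW.fromSpec_primeIdealOf, hW.fromSpec_primeIdealOf] at h2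

/-- Scheme level: quasi-finiteness over a point of codimension at most one. -/
theorem quasiFiniteAt_of_codim_le_one {U V : Scheme.{u}} (h : U ⟶ V) [LocallyOfFiniteType h]
    [IsLocallyNoetherian V] (v : V) (hv : ringKrullDim (V.presheaf.stalk v) ≤ 1)
    (H : ∀ u₀ : U, ringKrullDim (U.presheaf.stalk u₀) = 0 → h u₀ ⤳ v → h.QuasiFiniteAt u₀)
    (u : U) (hu : h u = v) : h.QuasiFiniteAt u := by
  apply quasiFiniteAt_of_fibre_no_specialization h v _ u hu
  intro u' u'' hu' hu'' hs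
  obtain ⟨u₀, hu₀, hdim₀⟩ := exists_generalization_dim_zero U u'
  have hq₀ : h.QuasiFiniteAt u₀ := H u₀ hdim₀ (by rw [← hu']; exact hu₀.map h.continuous)
  obtain ⟨V₀, hV₀, hvV₀, -⟩ := exists_isAffineOpen_mem_and_subset (X := V) (x := h u'')
    (U := ⊤) trivial
  obtain ⟨U₀, hU₀, huU₀, hle⟩ := exists_isAffineOpen_mem_and_subset (X := U) (x := u'')
    (U := h ⁻¹ᵁ V₀) hvV₀
  have hu'U₀ : u' ∈ U₀ := hs.mem_open U₀.2 huU₀
  have hu₀U₀ : u₀ ∈ U₀ := hu₀.mem_open U₀.2 hu'U₀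
  have hft : (h.appLE V₀ U₀ hle).hom.FiniteType := h.finiteType_appLE hV₀ hU₀ hle
  algebraize [(h.appLE V₀ U₀ hle).hom]
  haveI : IsNoetherianRing Γ(V, V₀) := IsLocallyNoetherian.component_noetherian ⟨V₀, hV₀⟩
  have hle₀ := primeIdealOf_le_of_specializes hU₀ hu₀U₀ hu'U₀ hu₀
  have hle₁ := primeIdealOf_le_of_specializes hU₀ hu'U₀ huU₀ hs
  haveI : Algebra.QuasiFiniteAt Γ(V, V₀) (hU₀.primeIdealOf ⟨u₀, hu₀U₀⟩).asIdeal :=
    hq₀.quasiFiniteAt hU₀ hV₀ hle hu₀U₀
  have hunder : (hU₀.primeIdealOf ⟨u'', huU₀⟩).asIdeal.under Γ(V, V₀) =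
      (hV₀.primeIdealOf ⟨h u'', hle huU₀⟩).asIdeal :=
    congrArg PrimeSpectrum.asIdeal (IsAffineOpen.comap_primeIdealOf_appLE V₀ hV₀ U₀ hU₀ hle huU₀)
  have hht : ((hU₀.primeIdealOf ⟨u'', huU₀⟩).asIdeal.under Γ(V, V₀)).height ≤ 1 := by
    rw [hunder]
    let _ := V.presheaf.algebra_section_stalk ⟨h u'', hle huU₀⟩
    have := hV₀.isLocalization_stalk ⟨h u'', hle huU₀⟩
    have e := IsLocalization.AtPrime.ringKrullDim_eq_height
      (hV₀.primeIdealOf ⟨h u'', hle huU₀⟩).asIdeal (V.presheaf.stalk (h u''))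
    have hv' : ringKrullDim (V.presheaf.stalk (h u'')) ≤ 1 := by rw [hu'']; exact hv
    rw [e] at hv'
    exact_mod_cast hv'
  rcases DimIneq.eq_or_eq_of_le_of_le_of_quasiFiniteAt (A := Γ(V, V₀)) _ _ _ hle₀ hle₁ hht with
    he | he
  · have e1 : u' = u₀ := eq_of_primeIdealOf_asIdeal_eq hU₀ hu'U₀ hu₀U₀ he
    subst e1
    exact (eq_of_specializes_of_quasiFiniteAt h hq₀ hs (by rw [hu'', hu'])).symm
  · exact eq_of_primeIdealOf_asIdeal_eq hU₀ hu'U₀ huU₀ he

end Groth.Agent.H53.CodimQF
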