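import Groth.Agent.H53.NoSpec
import Groth.Agent.Lib.Helper54.Noetherian
import Mathlib.RingTheory.Ideal.KrullsHeightTheorem
import Mathlib.AlgebraicGeometry.Noetherian

/-!
# No specializations in fibres of etale charts: the locally Noetherian case (helper53)
-/

set_option autoImplicit false
universe u
open CategoryTheory CategoryTheory.Limits AlgebraicGeometry Opposite Topology

namespace Groth.Agent.H53
open AlgSp

variable {S : Scheme.{u}}

/-- Strict generalization is a well-founded relation on the prime spectrum of a Noetherian ring. -/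
theorem wellFounded_strict_generalization_primeSpectrum (A : Type u) [CommRing A]
    [IsNoetherianRing A] :
    WellFounded (fun p q : PrimeSpectrum A => p ⤳ q ∧ p ≠ q) := by
  refine Subrelation.wf (r := InvImage (· < ·) (fun p : PrimeSpectrum A => p.asIdeal.height)) ?_
    (InvImage.wf _ wellFounded_lt)
  rintro p q ⟨hpq, hne⟩
  have hle : p ≤ q := (PrimeSpectrum.le_iff_specializes p q).2 hpq
  have hlt : p.asIdeal < q.asIdeal := lt_of_le_of_ne hle (fun h => hne (PrimeSpectrum.ext h))
  exact Ideal.height_strict_mono_of_isPrime hlt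

/-- Strict generalization is a well-founded relation on a Noetherian affine scheme. -/
theorem wellFounded_strict_generalization_of_isAffine (V : Scheme.{u}) [IsAffine V]
    [IsNoetherianRing Γ(V, ⊤)] : WellFounded (fun p q : ↥V => p ⤳ q ∧ p ≠ q) := by
  let e : ↥V ≃ₜ PrimeSpectrum Γ(V, ⊤) := Scheme.homeoOfIso V.isoSpec
  refine Subrelation.wf (r := InvImage (fun p q : PrimeSpectrum Γ(V, ⊤) => p ⤳ q ∧ p ≠ q) e) ?_
    (InvImage.wf _ (wellFounded_strict_generalization_primeSpectrum _))
  rintro p q ⟨hpq, hne⟩
  exact ⟨hpq.map e.continuous, fun h => hne (e.injective h)⟩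

/-- No nontrivial specializations in the fibres of an etale chart from a Noetherian affine
scheme. -/
theorem eq_of_specializes_of_noetherian_affine {F : Sp S} {V : Over S} [IsAffine V.left]
    [IsNoetherianRing Γ(V.left, ⊤)] (a : (yon S).obj V ⟶ F) (ha : RepWith @Etale a) :
    ∀ y z : ↥V.left, y ⤳ z → Points.ofPt a y = Points.ofPt a z → y = z := by
  intro y
  induction y using (wellFounded_strict_generalization_of_isAffine V.left).induction with
  | _ y ih =>
    intro z hyz he
    by_contra hne
    obtain ⟨y'', h1, h2, h3⟩ := exists_strict_generalization_in_fibre a ha hyz hne he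
    exact h2 (ih y'' ⟨h1, h2⟩ y h1 h3)

end Groth.Agent.H53

namespace Groth.Agent.H53
open AlgSp

variable {S : Scheme.{u}}

/-- A scheme with a representable etale map to a locally Noetherian sheaf is locally Noetherian. -/
theorem isLocallyNoetherian_of_etale_chart {F : Sp S} (hF : IsLocNoethSp F) {U : Over S}
    (a : (yon S).obj U ⟶ F) (ha : RepWith @Etale a) : IsLocallyNoetherian U.left := by
  obtain ⟨W, p, hpe, hps, hW⟩ := hF
  have hr := hpe.rep
  have sq := hr.isPullback a
  obtain ⟨f₁, hf₁⟩ := (yon S).map_surjective (hr.fst a)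
  rw [← hf₁] at sq
  have h1 : Etale (hr.snd a).left := hpe.property a _ _ sq
  have h2 : Surjective (hr.snd a).left := hps.property a _ _ sq
  have h3 : Etale f₁.left := ha.property p _ _ sq.flip
  have : IsLocallyNoetherian W.left := hW
  have hT : IsLocallyNoetherian (hr.pullback a).left :=
    LocallyOfFiniteType.isLocallyNoetherian f₁.left
  exact Lib.Helper54.isLocallyNoetherian_of_fppf (hr.snd a).left

/-- No nontrivial specializations in the fibres of etale charts of a locally Noetherian space. -/
theorem eq_of_specializes_of_isLocNoethSp {F : Sp S} (hF : IsLocNoethSp F) {U : Over S}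
    (a : (yon S).obj U ⟶ F) (ha : RepWith @Etale a) (u u' : ↥U.left)
    (he : Points.ofPt a u = Points.ofPt a u') (hs : u' ⤳ u) : u = u' := by
  have hU : IsLocallyNoetherian U.left := isLocallyNoetherian_of_etale_chart hF a ha
  obtain ⟨W, hW, huW⟩ : ∃ W : U.left.Opens, IsAffineOpen W ∧ u ∈ W := by
    obtain ⟨_, ⟨W, hW, rfl⟩, huW, -⟩ :=
      (U.left.isBasis_affineOpens).exists_subset_of_mem_open (Set.mem_univ u) isOpen_univ
    exact ⟨W, hW, huW⟩
  have hu'W : u' ∈ W := hs.mem_open W.2 huW
  let V : Over S := Over.mk (W.ι ≫ U.hom)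
  let ι : V ⟶ U := Over.homMk W.ι rfl
  have hVaff : IsAffine V.left := hW
  have hVn : IsLocallyNoetherian V.left := isLocallyNoetherian_of_isOpenImmersion W.ι
  have hΓ : IsNoetherianRing Γ(V.left, ⊤) :=
    IsLocallyNoetherian.component_noetherian ⟨⊤, isAffineOpen_top V.left⟩
  have hιet : RepWith @Etale ((yon S).map ι) :=
    (repWith_yon_map_iff _ _).2 (by change Etale W.ι; infer_instance)
  have hb : RepWith @Etale ((yon S).map ι ≫ a) :=
    (RepWith (S := S) @Etale).comp_mem _ _ hιet ha
  let u₀ : ↥V.left := ⟨u, huW⟩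
  let u₀' : ↥V.left := ⟨u', hu'W⟩
  have h3 : u₀' ⤳ u₀ := Topology.IsInducing.subtypeVal.specializes_iff.1 hs
  have h4 : Points.ofPt ((yon S).map ι ≫ a) u₀' = Points.ofPt ((yon S).map ι ≫ a) u₀ := by
    rw [ofPt_yon_map_comp, ofPt_yon_map_comp]
    exact he.symm
  have := eq_of_specializes_of_noetherian_affine _ hb u₀' u₀ h3 h4
  exact (congrArg Subtype.val this).symm

end Groth.Agent.H53
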