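import Groth.Agent.H53.CodimOneQF
import Groth.Agent.H53.NoSpecNoeth

set_option autoImplicit false
set_option backward.isDefEq.respectTransparency false
universe u
open CategoryTheory CategoryTheory.Limits AlgebraicGeometry Opposite Topology TopologicalSpace
open AlgSp

namespace Groth.Agent.H53.CodimQF

variable {S : Scheme.{u}}

/-- Quasi-finiteness at all points over a point of codimension at most one, from quasi-finiteness at
the codimension zero points whose image specializes to it. -/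
theorem hasAtMor_qf_of_codim_le_one {X Y : Sp S} (hX : IsAlgSpace X) (f : X ⟶ Y)
    (hf : LocP @LocallyOfFiniteType f) (hY : IsLocNoethSp Y) (y : Points Y)
    (hy : HasAt (fun U u => ringKrullDim ↥(U.presheaf.stalk u) ≤ 1) Y y)
    (H : ∀ x : Points X, HasAt (fun U u => ringKrullDim ↥(U.presheaf.stalk u) = 0) X x →
      Points.map f x ⤳ y → HasAtMor QF f x)
    (x : Points X) (hx : Points.map f x = y) : HasAtMor QF f x := by
  obtain ⟨V, b, v, hbe, rfl, hdim⟩ := hy
  obtain ⟨U, a, h, u, hae, comm, rfl, hu, hlft⟩ := exists_chart_through hX f hf b hbe v x hx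
  haveI : IsLocallyNoetherian V.left := isLocallyNoetherian_of_etale_chart hY b hbe
  have hq : h.left.QuasiFiniteAt u := by
    apply quasiFiniteAt_of_codim_le_one h.left v hdim _ u hu
    intro u₀ hdim₀ hs
    apply quasiFiniteAt_of_hasAtMor f hf a b h hae hbe comm u₀
    apply H _ ⟨U, a, u₀, hae, rfl, hdim₀⟩
    rw [Points.map_ofPt, comm, ofPt_yon_map_comp]
    exact hs.map (Points.continuous_ofPt b)
  exact ⟨U, V, a, b, h, u, hae, hbe, comm, rfl, (qf_iff_quasiFiniteAt h.left u).2 hq⟩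

/-- In a Noetherian quasi-sober space a point without proper generalizations has an open
neighbourhood contained in its closure. -/
theorem exists_isOpen_subset_closure_of_noGen {α : Type*} [TopologicalSpace α] [NoetherianSpace α]
    [QuasiSober α] (u : α) (hu : ∀ y : α, y ⤳ u → y = u) :
    ∃ o : Set α, IsOpen o ∧ u ∈ o ∧ ∀ z ∈ o, u ⤳ z := by
  have hirr : IsIrreducible (closure ({u} : Set α)) := isIrreducible_singleton.closure
  have hZ : closure ({u} : Set α) ∈ irreducibleComponents α := by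
    refine ⟨hirr, fun s hs hle => ?_⟩
    obtain ⟨η, hη⟩ := QuasiSober.sober hs.closure isClosed_closure
    have h1 : u ∈ closure ({η} : Set α) := by
      rw [hη.def]
      exact subset_closure (hle (subset_closure rfl))
    have h2 : η = u := hu η (specializes_iff_mem_closure.2 h1)
    rw [← h2, hη.def]
    exact subset_closure
  obtain ⟨o, ho, ⟨z₀, hz₀⟩, hoZ⟩ :=
    NoetherianSpace.exists_isOpen_nonempty_subset_irreducibleComponent _ hZ
  have hs : ∀ z ∈ o, u ⤳ z := fun z hz => specializes_iff_mem_closure.2 (hoZ hz)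
  exact ⟨o, ho, (hs z₀ hz₀).mem_open ho hz₀, hs⟩

/-- Scheme version. -/
theorem exists_opens_subset_closure_of_dim_zero {U : Scheme.{u}} [IsLocallyNoetherian U] (u : U)
    (hu : ringKrullDim (U.presheaf.stalk u) = 0) :
    ∃ N : U.Opens, u ∈ N ∧ ∀ z ∈ N, u ⤳ z := by
  obtain ⟨W, hW, huW, -⟩ := exists_isAffineOpen_mem_and_subset (X := U) (x := u) (U := ⊤) trivial
  haveI : IsNoetherianRing Γ(U, W) := IsLocallyNoetherian.component_noetherian ⟨W, hW⟩
  haveI : NoetherianSpace ↥W := noetherianSpace_of_isAffineOpen W hW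
  haveI : QuasiSober ↥W := W.isOpenEmbedding'.quasiSober
  have hgen : ∀ y : W, y ⤳ (⟨u, huW⟩ : W) → y = ⟨u, huW⟩ := by
    intro y hy
    apply Subtype.ext
    exact (stalk_dim_zero_iff U u).1 hu y.1 (hy.map continuous_subtype_val)
  obtain ⟨o, ho, huo, hs⟩ := exists_isOpen_subset_closure_of_noGen (⟨u, huW⟩ : W) hgen
  refine ⟨⟨Subtype.val '' o, W.2.isOpenMap_subtype_val o ho⟩, ⟨⟨u, huW⟩, huo, rfl⟩, ?_⟩
  rintro _ ⟨z, hz, rfl⟩
  exact (hs z hz).map continuous_subtype_val

/-- If the points where `f` is quasi-finite are dense, `f` is quasi-finite at all codimension zero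
points. -/
theorem hasAtMor_qf_of_dense {X Y : Sp S} (hY' : IsAlgSpace Y) (f : X ⟶ Y)
    (hf : LocP @LocallyOfFiniteType f) (hY : IsLocNoethSp Y)
    (hD : Dense {x : Points X | HasAtMor QF f x}) (x : Points X)
    (hx0 : HasAt (fun U u => ringKrullDim ↥(U.presheaf.stalk u) = 0) X x) : HasAtMor QF f x := by
  obtain ⟨U, a, u, hae, rfl, hdim⟩ := hx0
  obtain ⟨V, b, hbe, hbs⟩ := hY'.atlas
  obtain ⟨U₁, a₁, k, ha₁, sq, hrep⟩ := Lib.Helper54.exists_chart_square f a hae b hbe
  haveI hsurj : Surjective a₁.left := hbs.property (a ≫ f) _ _ sq.flip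
  obtain ⟨u₁, hu₁⟩ := a₁.left.surjective u
  have comm : ((yon S).map a₁ ≫ a) ≫ f = (yon S).map k ≫ b := by
    rw [Category.assoc]; exact sq.w
  haveI hlft : LocallyOfFiniteType k.left := hf _ b k hrep hbe comm
  haveI : IsLocallyNoetherian V.left := isLocallyNoetherian_of_etale_chart hY b hbe
  haveI : IsLocallyNoetherian U₁.left := LocallyOfFiniteType.isLocallyNoetherian k.left
  haveI : LocallyQuasiFinite a₁.left := locallyQuasiFinite_of_etale a₁.left
  have hdim₁ : ringKrullDim (U₁.left.presheaf.stalk u₁) = 0 :=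
    stalk_dim_zero_of_locallyQuasiFinite a₁.left u₁ (by rw [hu₁]; exact hdim)
  obtain ⟨N, hu₁N, hN⟩ := exists_opens_subset_closure_of_dim_zero u₁ hdim₁
  have hopen : IsOpen (Points.ofPt ((yon S).map a₁ ≫ a) '' (N : Set U₁.left)) :=
    isOpenMap_ofPt_of_etale _ hrep _ N.2
  obtain ⟨_, ⟨z, hzN, rfl⟩, hzD⟩ := hD.inter_open_nonempty _ hopen ⟨_, u₁, hu₁N, rfl⟩
  have hqz : k.left.QuasiFiniteAt z :=
    quasiFiniteAt_of_hasAtMor f hf _ b k hrep hbe comm z hzD
  have hq : k.left.QuasiFiniteAt u₁ := by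
    have h1 : z ∈ k.left.quasiFiniteLocus := hqz
    exact (hN z hzN).mem_open k.left.quasiFiniteLocus.2 h1
  refine ⟨U₁, V, _, b, k, u₁, hrep, hbe, comm, ?_, (qf_iff_quasiFiniteAt k.left u₁).2 hq⟩
  rw [ofPt_yon_map_comp, hu₁]

end Groth.Agent.H53.CodimQF
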