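import Groth.Agent.H53.ResAlg
import Groth.Agent.H53.CodimOneQF2
import Mathlib.AlgebraicGeometry.Morphisms.FormallyUnramified
import Groth.Prelude.Def_Dual3

set_option autoImplicit false
set_option backward.isDefEq.respectTransparency false
universe u
open CategoryTheory CategoryTheory.Limits AlgebraicGeometry Opposite Topology TopologicalSpace
open AlgSp

namespace Groth.Agent.H53.CodimQF

/-- The residue field extension of `h` at `u` is integral (algebraic). -/
def IA {U V : Scheme.{u}} (h : U ⟶ V) (u : U) : Prop := (h.residueFieldMap u).hom.IsIntegral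

theorem IA_congr {U V : Scheme.{u}} {h h' : U ⟶ V} (e : h = h') (u : U) (H : IA h u) :
    IA h' u := by subst e; exact H

theorem IA_of_etale {U V : Scheme.{u}} (e : U ⟶ V) [Etale e] (w : U) : IA e w := by
  letI := (e.residueFieldMap w).hom.toAlgebra
  have h1 : Algebra.IsSeparable (V.residueField (e w)) (U.residueField w) := inferInstance
  exact Algebra.IsSeparable.isIntegral (V.residueField (e w))

theorem residueFieldMap_comp_hom {X Y Z : Scheme.{u}} (f : X ⟶ Y) (g : Y ⟶ Z) (x : X) :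
    ((f ≫ g).residueFieldMap x).hom =
      (f.residueFieldMap x).hom.comp (g.residueFieldMap (f x)).hom := by
  rw [Scheme.residueFieldMap_comp]
  rfl

theorem IA_comp {X Y Z : Scheme.{u}} (f : X ⟶ Y) (g : Y ⟶ Z) (x : X) (hf : IA f x)
    (hg : IA g (f x)) : IA (f ≫ g) x := by
  unfold IA
  rw [residueFieldMap_comp_hom]
  exact RingHom.IsIntegral.trans _ _ hg hf

theorem IA_of_comp_right {X Y Z : Scheme.{u}} (f : X ⟶ Y) (g : Y ⟶ Z) (x : X)
    (hfg : IA (f ≫ g) x) : IA f x := by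
  unfold IA at hfg ⊢
  rw [residueFieldMap_comp_hom] at hfg
  exact RingHom.IsIntegral.tower_top _ _ hfg

theorem IA_of_comp_left {X Y Z : Scheme.{u}} (f : X ⟶ Y) (g : Y ⟶ Z) (x : X)
    (hfg : IA (f ≫ g) x) : IA g (f x) := by
  unfold IA at hfg ⊢
  rw [residueFieldMap_comp_hom] at hfg
  exact RingHom.IsIntegral.tower_bot _ _ (RingHom.injective _) hfg

theorem IA_of_resTrdeg {U V : Scheme.{u}} (h : U ⟶ V) (u : U) (H : Dual3.resTrdeg h u = 0) :
    IA h u := by
  unfold Dual3.resTrdeg at H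
  letI := (h.residueFieldMap u).hom.toAlgebra
  have h1 : Algebra.IsAlgebraic (V.residueField (h u)) (U.residueField u) :=
    trdeg_eq_zero_iff.1 H
  have h2 : Algebra.IsIntegral (V.residueField (h u)) (U.residueField u) :=
    Algebra.IsAlgebraic.isIntegral
  exact h2.isIntegral

theorem isAlgebraic_of_IA {U V : Scheme.{u}} (h : U ⟶ V) (u : U) (H : IA h u) :
    letI := (h.residueFieldMap u).hom.toAlgebra
    Algebra.IsAlgebraic (V.residueField (h u)) (U.residueField u) := by
  letI := (h.residueFieldMap u).hom.toAlgebra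
  have h2 : Algebra.IsIntegral (V.residueField (h u)) (U.residueField u) := ⟨H⟩
  exact Algebra.IsIntegral.isAlgebraic

variable {S : Scheme.{u}}

/-- Algebraicity of the residue field extension does not depend on the chart diagram. -/
theorem IA_of_hasAtMor {X Y : Sp S} (f : X ⟶ Y)
    {U V : Over S} (a : (yon S).obj U ⟶ X) (b : (yon S).obj V ⟶ Y) (h : U ⟶ V)
    (ha : RepWith @Etale a) (hb : RepWith @Etale b) (comm : a ≫ f = (yon S).map h ≫ b)
    (u : ↥U.left)
    (hx : HasAtMor (fun _ _ h u => Dual3.resTrdeg h u = 0) f (Points.ofPt a u)) :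
    IA h.left u := by
  obtain ⟨U₂, V₂, a₂, b₂, h₂, u₂, ha₂, hb₂, comm₂, hpt, hQ⟩ := hx
  have hq₂ : IA h₂.left u₂ := IA_of_resTrdeg _ _ hQ
  obtain ⟨U₃, p₁, p₂, sqU, hp₁⟩ := exists_pullback_charts a a₂ ha₂
  have hp₂ : Etale p₂.left := ha.property a₂ _ _ sqU
  obtain ⟨V₃, q₁, q₂, sqV, hq₁⟩ := exists_pullback_charts b b₂ hb₂
  have hq₂' : Etale q₂.left := hb.property b₂ _ _ sqV
  have hcompat : (yon S).map (p₁ ≫ h) ≫ b = (yon S).map (p₂ ≫ h₂) ≫ b₂ := by
    rw [Functor.map_comp, Functor.map_comp, Category.assoc, Category.assoc, ← comm, ← comm₂,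
      ← Category.assoc, ← Category.assoc, sqU.w]
  obtain ⟨h₃, hh₃⟩ := (yon S).map_surjective (sqV.lift _ _ hcompat)
  have e1 : h₃ ≫ q₁ = p₁ ≫ h := by
    apply (yon S).map_injective
    rw [Functor.map_comp, hh₃, sqV.lift_fst]
  have e2 : h₃ ≫ q₂ = p₂ ≫ h₂ := by
    apply (yon S).map_injective
    rw [Functor.map_comp, hh₃, sqV.lift_snd]
  obtain ⟨u₃, hu1, hu2⟩ := exists_point_of_isPullback_yon sqU u u₂ hpt.symm
  have e1' : h₃.left ≫ q₁.left = p₁.left ≫ h.left := by
    rw [← Over.comp_left, ← Over.comp_left, e1]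
  have e2' : h₃.left ≫ q₂.left = p₂.left ≫ h₂.left := by
    rw [← Over.comp_left, ← Over.comp_left, e2]
  subst hu1 hu2
  -- transfer
  have s1 : IA (p₂.left ≫ h₂.left) u₃ := IA_comp _ _ _ (IA_of_etale _ _) hq₂
  have s2 : IA (h₃.left ≫ q₂.left) u₃ := IA_congr e2'.symm _ s1
  have s3 : IA h₃.left u₃ := IA_of_comp_right _ _ _ s2
  have s4 : IA (h₃.left ≫ q₁.left) u₃ := IA_comp _ _ _ s3 (IA_of_etale _ _)
  have s5 : IA (p₁.left ≫ h.left) u₃ := IA_congr e1' _ s4
  exact IA_of_comp_left _ _ _ s5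

/-- The transcendence degree version. -/
theorem hasAtMor_qf_of_codim_le_one_of_trdeg {X Y : Sp S} (hX : IsAlgSpace X) (f : X ⟶ Y)
    (hf : LocP @LocallyOfFiniteType f) (hY : IsLocNoethSp Y) (y : Points Y)
    (hy : HasAt (fun U u => ringKrullDim ↥(U.presheaf.stalk u) ≤ 1) Y y)
    (H : ∀ x : Points X, HasAt (fun U u => ringKrullDim ↥(U.presheaf.stalk u) = 0) X x →
      Points.map f x ⤳ y → HasAtMor (fun _ _ h u => Dual3.resTrdeg h u = 0) f x)
    (x : Points X) (hx : Points.map f x = y) : HasAtMor QF f x := by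
  obtain ⟨V, b, v, hbe, rfl, hdim⟩ := hy
  obtain ⟨U, a, h, u, hae, comm, rfl, hu, hlft⟩ := exists_chart_through hX f hf b hbe v x hx
  haveI : IsLocallyNoetherian V.left := isLocallyNoetherian_of_etale_chart hY b hbe
  have hq : h.left.QuasiFiniteAt u := by
    apply quasiFiniteAt_of_codim_le_one_of_isAlgebraic h.left v hdim _ u hu
    intro u₀ hdim₀ hs
    apply isAlgebraic_of_IA
    apply IA_of_hasAtMor f a b h hae hbe comm u₀
    apply H _ ⟨U, a, u₀, hae, rfl, hdim₀⟩
    rw [Points.map_ofPt, comm, ofPt_yon_map_comp]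
    exact hs.map (Points.continuous_ofPt b)
  exact ⟨U, V, a, b, h, u, hae, hbe, comm, rfl, (qf_iff_quasiFiniteAt h.left u).2 hq⟩

end Groth.Agent.H53.CodimQF
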