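import Groth.Agent.H53.Codim
import Mathlib.AlgebraicGeometry.ZariskisMainTheorem
import Mathlib.AlgebraicGeometry.Artinian

set_option autoImplicit false
set_option backward.isDefEq.respectTransparency false
universe u
open CategoryTheory CategoryTheory.Limits AlgebraicGeometry Opposite Topology

namespace Groth.Agent.H53.CodimQF

/-- If `h` is locally quasi-finite on an open neighbourhood of `u` and the local ring at `h u` has
dimension zero, then so has the local ring at `u`. -/
theorem stalk_dim_zero_of_quasiFinite_nbhd {U V : Scheme.{u}} (h : U ⟶ V) (u : U) (W : U.Opens)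
    (hu : u ∈ W) (hW : LocallyQuasiFinite (W.ι ≫ h))
    (hv : ringKrullDim (V.presheaf.stalk (h u)) = 0) :
    ringKrullDim (U.presheaf.stalk u) = 0 := by
  rw [stalk_dim_zero_iff]
  intro y hy
  have hyW : y ∈ W := hy.mem_open W.2 hu
  have h1 : ringKrullDim ((W : Scheme.{u}).presheaf.stalk ⟨u, hu⟩) = 0 :=
    stalk_dim_zero_of_locallyQuasiFinite (W.ι ≫ h) ⟨u, hu⟩ (by
      have : (W.ι ≫ h) ⟨u, hu⟩ = h u := by simp
      rw [this]; exact hv)
  rw [stalk_dim_zero_iff] at h1
  have h2 : (⟨y, hyW⟩ : W) ⤳ ⟨u, hu⟩ :=
    Topology.IsInducing.subtypeVal.specializes_iff.1 hy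
  exact congrArg Subtype.val (h1 _ h2)

/-- A locally Noetherian scheme without nontrivial specializations is discrete. -/
theorem discreteTopology_of_forall_specializes_eq (F : Scheme.{u}) [IsLocallyNoetherian F]
    (hF : ∀ y z : F, y ⤳ z → y = z) : DiscreteTopology F := by
  have : IsLocallyArtinian F := by
    apply IsLocallyArtinian.of_topologicalKrullDim_le_zero
    rw [topologicalKrullDim, Order.krullDim_nonpos_iff_forall_isMin]
    intro T T' hT'
    obtain ⟨η, hη⟩ := QuasiSober.sober T.isIrreducible' T.isClosed'
    obtain ⟨η', hη'⟩ := QuasiSober.sober T'.isIrreducible' T'.isClosed'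
    have h1 : η ⤳ η' := by
      rw [specializes_iff_mem_closure, hη.def]
      exact hT' hη'.mem
    have h2 : η = η' := hF _ _ h1
    intro z hz
    have : T.carrier = T'.carrier := by rw [← hη.def, ← hη'.def, h2]
    change z ∈ T'.carrier
    rw [← this]
    exact hz
  infer_instance

/-- If all points of the fibre of `h` over `v` have zero-dimensional local rings (in the source), then
`h` is quasi-finite at all these points. -/
theorem quasiFiniteAt_of_fibre_dim_zero {U V : Scheme.{u}} (h : U ⟶ V) [LocallyOfFiniteType h]
    (v : V) (hfib : ∀ u' : U, h u' = v → ringKrullDim (U.presheaf.stalk u') = 0) (u : U)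
    (hu : h u = v) : h.QuasiFiniteAt u := by
  subst hu
  rw [Scheme.Hom.quasiFiniteAt_iff_isOpen_singleton_asFiber]
  have hspec : ∀ y z : h.fiber (h u), y ⤳ z → y = z := by
    intro y z hyz
    have h1 : h.fiberι (h u) y ⤳ h.fiberι (h u) z := hyz.map (h.fiberι (h u)).continuous
    have hz : h (h.fiberι (h u) z) = h u := by
      have := (h.fiberHomeo (h u) z).2
      simpa [Scheme.Hom.fiberHomeo_apply] using this
    have h2 := (stalk_dim_zero_iff U _).1 (hfib _ hz) _ h1
    exact (h.fiberι (h u)).isEmbedding.injective h2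
  have : IsLocallyNoetherian (h.fiber (h u)) := by
    unfold Scheme.Hom.fiber
    infer_instance
  have : DiscreteTopology ↥(h.fiber (h u)) := discreteTopology_of_forall_specializes_eq _ hspec
  exact isOpen_discrete _

end Groth.Agent.H53.CodimQF
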