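import Groth.Agent.H53.CodimQF
import Groth.Agent.H53.Codim2
import Groth.Agent.H52.Points

set_option autoImplicit false
set_option backward.isDefEq.respectTransparency false
universe u
open CategoryTheory CategoryTheory.Limits AlgebraicGeometry Opposite Topology
open AlgSp

namespace Groth.Agent.H53.CodimQF

variable {S : Scheme.{u}}

/-! ### Scheme level: quasi-finiteness at a point and étale maps on the source -/

/-- "Quasi-finite on an open neighbourhood". -/
abbrev QF : ∀ (U V : Scheme.{u}), (U ⟶ V) → ↥U → Prop :=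
  fun U _ h u => ∃ W : U.Opens, u ∈ W ∧ LocallyQuasiFinite (W.ι ≫ h) ∧ LocallyOfFiniteType (W.ι ≫ h)

theorem qf_iff_quasiFiniteAt {U V : Scheme.{u}} (h : U ⟶ V) [LocallyOfFiniteType h] (u : U) :
    QF U V h u ↔ h.QuasiFiniteAt u := by
  constructor
  · rintro ⟨W, hu, hW, -⟩
    have h1 : (W.ι ≫ h).QuasiFiniteAt ⟨u, hu⟩ := Scheme.Hom.quasiFiniteAt _ _
    rw [Scheme.Hom.quasiFiniteAt_comp_iff_of_isOpenImmersion] at h1
    exact h1
  · intro hu
    exact ⟨h.quasiFiniteLocus, hu, inferInstance, inferInstance⟩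

theorem quasiFiniteAt_iff_isOpen_singleton {U V : Scheme.{u}} (h : U ⟶ V) [LocallyOfFiniteType h]
    (u : U) : h.QuasiFiniteAt u ↔ IsOpen ({⟨u, rfl⟩} : Set (h ⁻¹' {h u})) := by
  rw [Scheme.Hom.quasiFiniteAt_iff_isOpen_singleton_asFiber, ← (h.fiberHomeo (h u)).isOpen_image]
  simp only [Set.image_singleton, Scheme.Hom.asFiber, Homeomorph.apply_symm_apply]

/-- Quasi-finiteness at a point is insensitive to étale maps on the source. -/
theorem quasiFiniteAt_comp_etale_iff {U₃ U V : Scheme.{u}} (e : U₃ ⟶ U) (h : U ⟶ V) [Etale e]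
    [LocallyOfFiniteType h] (w : U₃) : (e ≫ h).QuasiFiniteAt w ↔ h.QuasiFiniteAt (e w) := by
  have hlqf : LocallyQuasiFinite e := locallyQuasiFinite_of_etale e
  constructor
  · intro hw
    rw [quasiFiniteAt_iff_isOpen_singleton] at hw ⊢
    obtain ⟨O, hO, hOeq⟩ := isOpen_induced_iff.1 hw
    have heO : IsOpen (e '' O) := e.isOpenMap _ hO
    refine isOpen_induced_iff.2 ⟨e '' O, heO, ?_⟩
    ext ⟨z, hz⟩
    simp only [Set.mem_preimage, Set.mem_image, Set.mem_singleton_iff, Subtype.mk.injEq]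
    constructor
    · rintro ⟨z', hz'O, rfl⟩
      have hz'f : z' ∈ (e ≫ h) ⁻¹' {(e ≫ h) w} := by
        simp only [Set.mem_preimage, Set.mem_singleton_iff, Scheme.Hom.comp_apply]
        exact hz
      have : (⟨z', hz'f⟩ : (e ≫ h) ⁻¹' {(e ≫ h) w}) ∈ Subtype.val ⁻¹' O := hz'O
      rw [hOeq] at this
      have h2 : z' = w := congrArg Subtype.val this
      rw [h2]
    · intro hzw
      have hwf : w ∈ (e ≫ h) ⁻¹' {(e ≫ h) w} := rfl
      have : (⟨w, hwf⟩ : (e ≫ h) ⁻¹' {(e ≫ h) w}) ∈ Subtype.val ⁻¹' O := by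
        rw [hOeq]; rfl
      exact ⟨w, this, hzw.symm⟩
  · intro hw
    have h1 : e.QuasiFiniteAt w := Scheme.Hom.quasiFiniteAt e w
    change ((e ≫ h).stalkMap w).hom.QuasiFinite
    rw [Scheme.Hom.stalkMap_comp]
    exact RingHom.QuasiFinite.comp h1 hw

/-! ### Points of fibre products of charts -/

theorem exists_point_of_isPullback_yon {F : Sp S} {U U' W : Over S} {a : (yon S).obj U ⟶ F}
    {a' : (yon S).obj U' ⟶ F} {p : W ⟶ U} {p' : W ⟶ U'}
    (sq : IsPullback ((yon S).map p) ((yon S).map p') a a') (u : ↥U.left) (u' : ↥U'.left)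
    (h : Points.ofPt a u = Points.ofPt a' u') : ∃ w : ↥W.left, p.left w = u ∧ p'.left w = u' := by
  obtain ⟨z, hz1, hz2⟩ := H52.exists_point_of_isPullback sq (Points.ofScheme U u)
    (Points.ofScheme U' u')
    (by rw [← Points.ofPt_eq_map_ofScheme, ← Points.ofPt_eq_map_ofScheme, h])
  obtain ⟨w, rfl⟩ := (Points.schemeEquiv _).surjective z
  refine ⟨w, ?_, ?_⟩
  · apply (Points.schemeEquiv U).injective
    exact (H52.points_map_ofScheme _ w).symm.trans hz1
  · apply (Points.schemeEquiv U').injective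
    exact (H52.points_map_ofScheme _ w).symm.trans hz2

theorem exists_pullback_charts {X : Sp S} {U U' : Over S} (a : (yon S).obj U ⟶ X)
    (a' : (yon S).obj U' ⟶ X) (ha' : RepWith @Etale a') :
    ∃ (W : Over S) (p : W ⟶ U) (p' : W ⟶ U'),
      IsPullback ((yon S).map p) ((yon S).map p') a a' ∧ Etale p.left :=
  ⟨_, _, _, (ha'.rep.isPullback' a).flip, ha'.property_snd a⟩

/-- Independence of the chart for codimension 0. -/
theorem stalk_dim_zero_of_hasAt {X : Sp S} {U : Over S} (a : (yon S).obj U ⟶ X)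
    (ha : RepWith @Etale a) (u : ↥U.left)
    (hx : HasAt (fun U u => ringKrullDim ↥(U.presheaf.stalk u) = 0) X (Points.ofPt a u)) :
    ringKrullDim ↥(U.left.presheaf.stalk u) = 0 := by
  obtain ⟨U', a', u', ha'e, hau', hdim⟩ := hx
  obtain ⟨W, p, p', sq, hp⟩ := exists_pullback_charts a a' ha'e
  have hp' : Etale p'.left := ha.property a' _ _ sq
  obtain ⟨w, hw1, hw2⟩ := exists_point_of_isPullback_yon sq u u' hau'.symm
  have hlqf : LocallyQuasiFinite p'.left := locallyQuasiFinite_of_etale p'.left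
  have h1 : ringKrullDim ↥(W.left.presheaf.stalk w) = 0 :=
    stalk_dim_zero_of_locallyQuasiFinite p'.left w (by rw [hw2]; exact hdim)
  have h2 := stalk_dim_zero_of_flat p.left w h1
  rwa [hw1] at h2

end Groth.Agent.H53.CodimQF
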