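import Groth.Agent.H53.LinTopAdic
import Groth.Agent.H53.Approx

set_option autoImplicit false
universe u v w

namespace Groth.Agent.H53

open Topology Filter

section PiNonarch

variable {ι : Type u} {G : ι → Type v} [∀ i, AddGroup (G i)] [∀ i, TopologicalSpace (G i)]
  [∀ i, NonarchimedeanAddGroup (G i)]

instance pi_nonarchimedeanAddGroup : NonarchimedeanAddGroup (∀ i, G i) where
  is_nonarchimedean := by
    intro U hU
    rw [nhds_pi, Filter.mem_pi] at hU
    obtain ⟨I, hI, t, ht, htU⟩ := hU
    have h1 : ∀ i, ∃ V : OpenAddSubgroup (G i), (V : Set (G i)) ⊆ t i := fun i =>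
      NonarchimedeanAddGroup.is_nonarchimedean (t i) (ht i)
    choose V hV using h1
    refine ⟨⟨AddSubgroup.pi I (fun i => (V i : AddSubgroup (G i))), ?_⟩, ?_⟩
    · show IsOpen (I.pi fun i => ((V i : AddSubgroup (G i)) : Set (G i)))
      exact isOpen_set_pi hI (fun i _ => (V i).isOpen)
    · refine subset_trans ?_ htU
      intro x hx i hi
      exact hV i (hx i hi)

end PiNonarch

section Decomp
variable {A : Type u} [CommRing A]

theorem exists_sum_of_mem_mul_span (K : Ideal A) {s : ℕ} (g : Fin s → A) (z : A)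
    (hz : z ∈ K * Ideal.span (Set.range g)) :
    ∃ c : Fin s → A, (∀ j, c j ∈ K) ∧ z = ∑ j, c j * g j := by
  have hz' : z ∈ K • Submodule.span A (Set.range g) := hz
  obtain ⟨a, ha, rfl⟩ := (Submodule.mem_ideal_smul_span_iff_exists_sum K g z).mp hz'
  refine ⟨fun j => a j, ha, ?_⟩
  rw [Finsupp.sum_fintype]
  · simp [smul_eq_mul]
  · intro i; simp

end Decomp

section Key
variable {A : Type u} [CommRing A] [UniformSpace A] [IsUniformAddGroup A] [IsTopologicalRing A]
  [IsLinearTopology A A] [T2Space A] [CompleteSpace A]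

/-- Key lemma: in a complete Hausdorff linearly topologized ring, if `I` is finitely generated and
the closures of the powers of `I` are open and form a fundamental system of neighbourhoods of `0`,
then the powers of `I` are closed. -/
theorem closure_pow_le_of_fg (I : Ideal A) (hfg : I.FG) (h : IsWPWitness I) (n : ℕ) :
    (I ^ n).closure ≤ I ^ n := by
  obtain ⟨hopen, hbasis⟩ := h
  have : NonarchimedeanRing A := nonarchimedeanRing_of_isLinearTopology
  obtain ⟨s, g, hg⟩ := Submodule.fg_iff_exists_fin_generating_family.mp (hfg.pow (n := n))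
  have hg' : Ideal.span (Set.range g) = I ^ n := hg
  -- the map `c ↦ ∑ c j * g j`
  let f : (Fin s → A) →+ A :=
    ∑ j, (AddMonoidHom.mulRight (g j)).comp (Pi.evalAddMonoidHom (fun _ => A) j)
  have hf_apply : ∀ c : Fin s → A, f c = ∑ j, c j * g j := by
    intro c
    simp [f]
  have hf : Continuous f := by
    have : (f : (Fin s → A) → A) = fun c => ∑ j, c j * g j := funext hf_apply
    rw [this]
    exact continuous_finsetSum _ (fun j _ => (continuous_apply j).mul continuous_const)
  let Mk : ℕ → AddSubgroup (Fin s → A) := fun k =>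
    AddSubgroup.pi Set.univ (fun _ => (I ^ k).toAddSubgroup)
  let Nk : ℕ → AddSubgroup A := fun k => (I ^ (n + k)).closure.toAddSubgroup
  have hMk_mem : ∀ k (c : Fin s → A), c ∈ Mk k ↔ ∀ j, c j ∈ I ^ k := by
    intro k c
    simp [Mk, AddSubgroup.mem_pi]
  have hMk : Antitone Mk := by
    intro k k' hkk' c hc
    rw [hMk_mem] at hc ⊢
    exact fun j => Ideal.pow_le_pow_right hkk' (hc j)
  have hM : ∀ U ∈ 𝓝 (0 : Fin s → A), ∃ k, (Mk k : Set (Fin s → A)) ⊆ U := by
    intro U hU
    rw [nhds_pi, Filter.mem_pi] at hU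
    obtain ⟨J, -, t, ht, htU⟩ := hU
    have h1 : (⋂ j, t j) ∈ 𝓝 (0 : A) := by
      rw [Filter.iInter_mem]
      exact ht
    obtain ⟨k, hk⟩ := hbasis _ h1
    refine ⟨k, subset_trans ?_ htU⟩
    intro c hc j _
    have hc' := (hMk_mem k c).mp hc j
    exact Set.mem_iInter.mp (hk (subset_closure hc')) j
  have hN : ∀ U ∈ 𝓝 (0 : A), ∃ k, ∀ i, k ≤ i → (Nk i : Set A) ⊆ U := by
    intro U hU
    obtain ⟨k, hk⟩ := hbasis U hU
    refine ⟨k, fun i hi => subset_trans ?_ hk⟩
    exact closure_mono (Ideal.pow_le_pow_right (le_trans hi (Nat.le_add_left i n)))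
  have happrox : ∀ k, ∀ y ∈ Nk k, ∃ m ∈ Mk k, y - f m ∈ Nk (k + 1) := by
    intro k y hy
    have hy' : y ∈ closure ((I ^ (n + k) : Ideal A) : Set A) := hy
    have hV : (fun z => y - z) ⁻¹' (closure ((I ^ (n + (k + 1)) : Ideal A) : Set A)) ∈ 𝓝 y := by
      have hc : Continuous (fun z : A => y - z) := continuous_const.sub continuous_id
      apply hc.continuousAt
      simp only [sub_self]
      exact (hopen _).mem_nhds (subset_closure (Ideal.zero_mem _))
    obtain ⟨z, hz1, hz2⟩ := mem_closure_iff_nhds.mp hy' _ hV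
    have hz3 : z ∈ I ^ k * Ideal.span (Set.range g) := by
      rw [hg', ← pow_add, add_comm]
      exact hz2
    obtain ⟨c, hc, hzc⟩ := exists_sum_of_mem_mul_span (I ^ k) g z hz3
    refine ⟨c, (hMk_mem k c).mpr hc, ?_⟩
    rw [hf_apply, ← hzc]
    exact hz1
  intro y hy
  obtain ⟨m, -, hm⟩ := exists_preimage_of_approx f hf Mk Nk hMk hM hN happrox 0 y
    (by simpa [Nk] using hy)
  rw [← hm, hf_apply, ← hg']
  exact Submodule.sum_mem _ (fun j _ => Ideal.mul_mem_left _ _ (Ideal.subset_span (Set.mem_range_self j)))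

theorem isAdic_of_fg_of_isWPWitness (I : Ideal A) (hfg : I.FG) (h : IsWPWitness I) : IsAdic I := by
  rw [isAdic_iff]
  have heq : ∀ n, (I ^ n).closure = I ^ n := fun n =>
    le_antisymm (closure_pow_le_of_fg I hfg h n) (ideal_le_closure _)
  refine ⟨fun n => ?_, fun U hU => ?_⟩
  · have := h.1 n
    rwa [← Ideal.coe_closure, heq n] at this
  · obtain ⟨n, hn⟩ := h.2 U hU
    exact ⟨n, subset_trans subset_closure hn⟩

end Key

end Groth.Agent.H53
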