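import Groth.Agent.H53.ComplQuot
import Groth.Agent.H53.LinTopKey
import Mathlib.Topology.Algebra.UniformMulAction
import Mathlib.RingTheory.Finiteness.Ideal

set_option autoImplicit false
set_option linter.unusedSectionVars false
universe u v w

namespace Groth.Agent.H53

open Topology Filter UniformSpace

section Decomp
variable {R : Type u} [CommRing R] {M : Type v} [AddCommGroup M] [Module R M]

/-- elements of `span (range g) • P` are of the form `∑ g j • c j` with `c j ∈ P` -/
theorem exists_sum_smul_of_mem_span_smul {s : ℕ} (g : Fin s → R) (P : Submodule R M) (z : M)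
    (hz : z ∈ Ideal.span (Set.range g) • P) :
    ∃ c : Fin s → M, (∀ j, c j ∈ P) ∧ z = ∑ j, g j • c j := by
  refine Submodule.smul_induction_on hz ?_ ?_
  · intro r hr p hp
    obtain ⟨a, rfl⟩ := (Submodule.mem_span_range_iff_exists_fun (R := R)).mp hr
    refine ⟨fun j => a j • p, fun j => P.smul_mem _ hp, ?_⟩
    rw [Finset.sum_smul]
    refine Finset.sum_congr rfl (fun j _ => ?_)
    rw [smul_eq_mul, mul_smul, smul_comm]
  · rintro x y ⟨c, hc, rfl⟩ ⟨d, hd, rfl⟩
    refine ⟨fun j => c j + d j, fun j => P.add_mem (hc j) (hd j), ?_⟩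
    rw [← Finset.sum_add_distrib]
    exact Finset.sum_congr rfl (fun j _ => (smul_add _ _ _).symm)

end Decomp

section CloMod
variable {R : Type u} [CommRing R]
  {M : Type v} [AddCommGroup M] [Module R M] [UniformSpace M] [IsUniformAddGroup M]
  [UniformContinuousConstSMul R M]

/-- closure in the completion of the image of a submodule, as a submodule -/
noncomputable def cloSubmodule (P : Submodule R M) : Submodule R (Completion M) where
  __ := cloSub P.toAddSubgroup
  smul_mem' := by
    intro r x hx
    have hx' : x ∈ closure ((fun m : M => (m : Completion M)) '' (P : Set M)) := hx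
    show r • x ∈ closure ((fun m : M => (m : Completion M)) '' (P : Set M))
    refine map_mem_closure (continuous_const_smul r) hx' ?_
    rintro _ ⟨p, hp, rfl⟩
    exact ⟨r • p, P.smul_mem r hp, Completion.coe_smul r p⟩

theorem cloSubmodule_toAddSubgroup (P : Submodule R M) :
    (cloSubmodule P).toAddSubgroup = cloSub P.toAddSubgroup := rfl

theorem coe_cloSubmodule (P : Submodule R M) :
    (cloSubmodule P : Set (Completion M)) = (cloSub P.toAddSubgroup : Set (Completion M)) := rfl

theorem mem_cloSubmodule_iff (P : Submodule R M) (x : Completion M) :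
    x ∈ cloSubmodule P ↔ x ∈ cloSub P.toAddSubgroup := Iff.rfl

theorem cloSubmodule_mono {P P' : Submodule R M} (h : P ≤ P') : cloSubmodule P ≤ cloSubmodule P' :=
  fun _ hx => cloSub_mono (show P.toAddSubgroup ≤ P'.toAddSubgroup from h) hx

theorem smul_cloSubmodule_le (J : Ideal R) (P : Submodule R M) :
    J • cloSubmodule P ≤ cloSubmodule (J • P) := by
  rw [Submodule.smul_le]
  intro r hr x hx
  have hx' : x ∈ closure ((fun m : M => (m : Completion M)) '' (P : Set M)) := hx
  show r • x ∈ closure ((fun m : M => (m : Completion M)) '' ((J • P : Submodule R M) : Set M))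
  refine map_mem_closure (continuous_const_smul r) hx' ?_
  rintro _ ⟨p, hp, rfl⟩
  exact ⟨r • p, Submodule.smul_mem_smul hr hp, Completion.coe_smul r p⟩

end CloMod

section Main
variable {R : Type u} [CommRing R] (I : Ideal R)
  {M : Type v} [AddCommGroup M] [Module R M] [UniformSpace M] [IsUniformAddGroup M]
  [UniformContinuousConstSMul R M]
  (M' : Submodule R M)

/-- the hypothesis: `M'` is an open submodule whose topology is `I`-adic -/
def IsAdicOpenSub : Prop :=
  (∀ n : ℕ, IsOpen ((I ^ n • M' : Submodule R M) : Set M)) ∧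
    ∀ U ∈ 𝓝 (0 : M), ∃ n : ℕ, ((I ^ n • M' : Submodule R M) : Set M) ⊆ U

variable {I M'}

theorem IsAdicOpenSub.nonarchimedean (h : IsAdicOpenSub I M') : NonarchimedeanAddGroup M where
  is_nonarchimedean := by
    intro U hU
    obtain ⟨n, hn⟩ := h.2 U hU
    exact ⟨⟨(I ^ n • M').toAddSubgroup, h.1 n⟩, hn⟩

theorem IsAdicOpenSub.exists_cloSubmodule_subset (h : IsAdicOpenSub I M')
    (W : Set (Completion M)) (hW : W ∈ 𝓝 (0 : Completion M)) :
    ∃ n : ℕ, (cloSubmodule (I ^ n • M') : Set (Completion M)) ⊆ W := by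
  have := h.nonarchimedean
  obtain ⟨U, hU, hUW⟩ := exists_cloSub_subset W hW
  obtain ⟨n, hn⟩ := h.2 U (hU.mem_nhds U.zero_mem)
  refine ⟨n, subset_trans ?_ hUW⟩
  exact cloSub_mono (show (I ^ n • M').toAddSubgroup ≤ U from hn)

theorem IsAdicOpenSub.isOpen_cloSubmodule (h : IsAdicOpenSub I M') (n : ℕ) :
    IsOpen (cloSubmodule (I ^ n • M') : Set (Completion M)) :=
  isOpen_cloSub _ (h.1 n)

/-- Key: `cloSubmodule (I^n • M') ≤ I^n • cloSubmodule M'` for finitely generated `I`. -/
theorem IsAdicOpenSub.cloSubmodule_smul_le (h : IsAdicOpenSub I M') (hI : I.FG) (n : ℕ) :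
    cloSubmodule (I ^ n • M') ≤ I ^ n • cloSubmodule M' := by
  have hna := h.nonarchimedean
  obtain ⟨s, g, hg⟩ := Submodule.fg_iff_exists_fin_generating_family.mp (hI.pow (n := n))
  have hg' : Ideal.span (Set.range g) = I ^ n := hg
  -- the map `c ↦ ∑ g j • c j`
  let f : (Fin s → Completion M) →+ Completion M :=
    ∑ j, (DistribSMul.toAddMonoidHom (Completion M) (g j)).comp
      (Pi.evalAddMonoidHom (fun _ => Completion M) j)
  have hf_apply : ∀ c : Fin s → Completion M, f c = ∑ j, g j • c j := by
    intro c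
    simp [f]
  have hf : Continuous f := by
    have : (f : (Fin s → Completion M) → Completion M) = fun c => ∑ j, g j • c j := funext hf_apply
    rw [this]
    exact continuous_finsetSum _ (fun j _ => (continuous_apply j).const_smul (g j))
  let Mk : ℕ → AddSubgroup (Fin s → Completion M) := fun k =>
    AddSubgroup.pi Set.univ (fun _ => (cloSubmodule (I ^ k • M')).toAddSubgroup)
  let Nk : ℕ → AddSubgroup (Completion M) := fun k =>
    (cloSubmodule (I ^ (n + k) • M')).toAddSubgroup
  have hMk_mem : ∀ k (c : Fin s → Completion M), c ∈ Mk k ↔ ∀ j, c j ∈ cloSubmodule (I ^ k • M') := by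
    intro k c
    simp [Mk, AddSubgroup.mem_pi]
  have hmono : ∀ a b : ℕ, a ≤ b → I ^ b • M' ≤ I ^ a • M' := fun a b hab =>
    Submodule.smul_mono_left (Ideal.pow_le_pow_right hab)
  have hMk : Antitone Mk := by
    intro k k' hkk' c hc
    rw [hMk_mem] at hc ⊢
    exact fun j => cloSubmodule_mono (hmono _ _ hkk') (hc j)
  have hM : ∀ U ∈ 𝓝 (0 : Fin s → Completion M), ∃ k, (Mk k : Set (Fin s → Completion M)) ⊆ U := by
    intro U hU
    rw [nhds_pi, Filter.mem_pi] at hU
    obtain ⟨J, -, t, ht, htU⟩ := hU
    have h1 : (⋂ j, t j) ∈ 𝓝 (0 : Completion M) := by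
      rw [Filter.iInter_mem]
      exact ht
    obtain ⟨k, hk⟩ := h.exists_cloSubmodule_subset _ h1
    refine ⟨k, subset_trans ?_ htU⟩
    intro c hc j _
    have hc' := (hMk_mem k c).mp hc j
    exact Set.mem_iInter.mp (hk hc') j
  have hN : ∀ U ∈ 𝓝 (0 : Completion M), ∃ k, ∀ i, k ≤ i → (Nk i : Set (Completion M)) ⊆ U := by
    intro U hU
    obtain ⟨k, hk⟩ := h.exists_cloSubmodule_subset U hU
    refine ⟨k, fun i hi => subset_trans ?_ hk⟩
    exact cloSubmodule_mono (hmono _ _ (le_trans hi (Nat.le_add_left i n)))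
  have happrox : ∀ k, ∀ y ∈ Nk k, ∃ m ∈ Mk k, y - f m ∈ Nk (k + 1) := by
    intro k y hy
    have hy' : y ∈ closure ((fun m : M => (m : Completion M)) ''
        ((I ^ (n + k) • M' : Submodule R M) : Set M)) := hy
    have hV : (fun z => y - z) ⁻¹' (cloSubmodule (I ^ (n + (k + 1)) • M') : Set (Completion M))
        ∈ 𝓝 y := by
      have hc : Continuous (fun z : Completion M => y - z) := continuous_const.sub continuous_id
      apply hc.continuousAt
      simp only [sub_self]
      exact (h.isOpen_cloSubmodule _).mem_nhds (Submodule.zero_mem _)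
    obtain ⟨_, hz1, ⟨z, hz2, rfl⟩⟩ := mem_closure_iff_nhds.mp hy' _ hV
    have hz3 : z ∈ Ideal.span (Set.range g) • (I ^ k • M') := by
      rw [hg', ← Submodule.mul_smul, ← pow_add]
      exact hz2
    obtain ⟨c, hc, hzc⟩ := exists_sum_smul_of_mem_span_smul g (I ^ k • M') z hz3
    refine ⟨fun j => (c j : Completion M), (hMk_mem k _).mpr
      (fun j => coe_mem_cloSub (U := (I ^ k • M').toAddSubgroup) (hc j)), ?_⟩
    have h5 : f (fun j => (c j : Completion M)) = (z : Completion M) := by
      rw [hf_apply, hzc]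
      have : ((∑ j, g j • c j : M) : Completion M) = ∑ j, ((g j • c j : M) : Completion M) :=
        map_sum (Completion.toCompl : M →+ Completion M) _ _
      rw [this]
      exact Finset.sum_congr rfl (fun j _ => (Completion.coe_smul (g j) (c j)).symm)
    rw [h5]
    exact hz1
  intro y hy
  obtain ⟨m, hm, hmy⟩ := exists_preimage_of_approx f hf Mk Nk hMk hM hN happrox 0 y
    (by simpa [Nk] using hy)
  have hclosed : IsClosed (Mk 0 : Set (Fin s → Completion M)) := by
    have : (Mk 0 : Set (Fin s → Completion M)) =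
        Set.pi Set.univ (fun _ => (cloSubmodule (I ^ 0 • M') : Set (Completion M))) := by
      ext c
      simp [Mk, AddSubgroup.mem_pi]
    rw [this]
    exact isClosed_set_pi (fun _ _ => isClosed_cloSub _)
  rw [hclosed.closure_eq] at hm
  have hm' := (hMk_mem 0 m).mp hm
  rw [← hmy, hf_apply, ← hg']
  refine Submodule.sum_mem _ (fun j _ => ?_)
  refine Submodule.smul_mem_smul (Ideal.subset_span (Set.mem_range_self j)) ?_
  have := hm' j
  rwa [pow_zero, Ideal.one_eq_top, Submodule.top_smul] at this

theorem IsAdicOpenSub.smul_cloSubmodule_eq (h : IsAdicOpenSub I M') (hI : I.FG) (n : ℕ) :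
    I ^ n • cloSubmodule M' = cloSubmodule (I ^ n • M') :=
  le_antisymm (smul_cloSubmodule_le _ _) (h.cloSubmodule_smul_le hI n)

end Main

end Groth.Agent.H53
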