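import Groth.Agent.H53.Approx
import Mathlib.Topology.Algebra.Nonarchimedean.Completion
import Mathlib.Topology.Algebra.GroupCompletion

set_option autoImplicit false
set_option linter.unusedSectionVars false
universe u v w

namespace Groth.Agent.H53

open Topology Filter UniformSpace

section Clo
variable {G : Type u} [AddCommGroup G] [UniformSpace G] [IsUniformAddGroup G]

/-- closure in the completion of the image of a subgroup -/
noncomputable def cloSub (U : AddSubgroup G) : AddSubgroup (Completion G) :=
  (U.map (Completion.toCompl : G →+ Completion G)).topologicalClosure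

theorem coe_cloSub (U : AddSubgroup G) :
    (cloSub U : Set (Completion G)) = closure ((fun g : G => (g : Completion G)) '' (U : Set G)) :=
  rfl

theorem coe_mem_cloSub {U : AddSubgroup G} {g : G} (hg : g ∈ U) :
    (g : Completion G) ∈ cloSub U :=
  subset_closure ⟨g, hg, rfl⟩

theorem cloSub_mono {U V : AddSubgroup G} (h : U ≤ V) : cloSub U ≤ cloSub V :=
  fun _ hx => closure_mono (Set.image_mono h) hx

theorem cloSub_mem_nhds (U : AddSubgroup G) (hU : IsOpen (U : Set G)) :
    (cloSub U : Set (Completion G)) ∈ 𝓝 (0 : Completion G) := by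
  have := Completion.isDenseInducing_coe.closure_image_mem_nhds (hU.mem_nhds U.zero_mem)
  rwa [Completion.coe_zero] at this

theorem isOpen_cloSub (U : AddSubgroup G) (hU : IsOpen (U : Set G)) :
    IsOpen (cloSub U : Set (Completion G)) :=
  (cloSub U).isOpen_of_mem_nhds (cloSub_mem_nhds U hU)

theorem isClosed_cloSub (U : AddSubgroup G) : IsClosed (cloSub U : Set (Completion G)) :=
  isClosed_closure

theorem coe_mem_cloSub_iff {U : AddSubgroup G} (hU : IsOpen (U : Set G)) {g : G} :
    (g : Completion G) ∈ cloSub U ↔ g ∈ U := by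
  constructor
  · intro h
    have h1 : g ∈ closure (U : Set G) := by
      rw [Completion.isDenseInducing_coe.isInducing.closure_eq_preimage_closure_image]
      exact h
    rwa [(U.isClosed_of_isOpen hU).closure_eq] at h1
  · exact coe_mem_cloSub

theorem exists_cloSub_subset [NonarchimedeanAddGroup G] (W : Set (Completion G))
    (hW : W ∈ 𝓝 (0 : Completion G)) :
    ∃ U : AddSubgroup G, IsOpen (U : Set G) ∧ (cloSub U : Set (Completion G)) ⊆ W := by
  obtain ⟨C, ⟨hC, hCc⟩, hCW⟩ := (closed_nhds_basis (0 : Completion G)).mem_iff.mp hW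
  have h1 : (fun g : G => (g : Completion G)) ⁻¹' C ∈ 𝓝 (0 : G) := by
    apply (Completion.continuous_coe G).continuousAt
    rwa [Completion.coe_zero]
  obtain ⟨V, hV⟩ := NonarchimedeanAddGroup.is_nonarchimedean _ h1
  refine ⟨V, V.isOpen, subset_trans ?_ hCW⟩
  apply closure_minimal _ hCc
  rintro _ ⟨g, hg, rfl⟩
  exact hV hg

end Clo

section Quot
variable {G : Type u} [AddCommGroup G] [UniformSpace G] [IsUniformAddGroup G]
  [NonarchimedeanAddGroup G]
variable {Q : Type v} [AddCommGroup Q] [UniformSpace Q] [IsUniformAddGroup Q]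
variable (π : G →+ Q) (hc : Continuous π) (ho : IsOpenMap π) (hs : Function.Surjective π)

include ho in
theorem isOpen_map_subgroup (U : AddSubgroup G) (hU : IsOpen (U : Set G)) :
    IsOpen ((U.map π : AddSubgroup Q) : Set Q) := by
  rw [AddSubgroup.coe_map]
  exact ho _ hU

include hc ho in
theorem nonarchimedean_of_open_surjective : NonarchimedeanAddGroup Q where
  is_nonarchimedean := by
    intro W hW
    have h1 : π ⁻¹' W ∈ 𝓝 (0 : G) := by
      apply hc.continuousAt
      rwa [map_zero]
    obtain ⟨V, hV⟩ := NonarchimedeanAddGroup.is_nonarchimedean _ h1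
    refine ⟨⟨(V : AddSubgroup G).map π, isOpen_map_subgroup π ho _ V.isOpen⟩, ?_⟩
    rintro _ ⟨g, hg, rfl⟩
    exact hV hg

theorem completion_map_cloSub_le (U : AddSubgroup G) :
    (cloSub U).map (AddMonoidHom.completion π hc) ≤ cloSub (U.map π) := by
  rintro _ ⟨x, hx, rfl⟩
  refine map_mem_closure (AddMonoidHom.continuous_completion π hc) hx ?_
  rintro _ ⟨g, hg, rfl⟩
  have h1 : AddMonoidHom.completion π hc (g : Completion G) = ((π g : Q) : Completion Q) :=
    AddMonoidHom.completion_coe π hc g
  show AddMonoidHom.completion π hc (g : Completion G) ∈ _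
  rw [h1]
  exact ⟨π g, ⟨g, hg, rfl⟩, rfl⟩

include ho in
/-- The kernel of the completed map is the closure of the image of the kernel. -/
theorem ker_completion_eq :
    ((AddMonoidHom.completion π hc).ker : Set (Completion G)) =
      closure ((fun g : G => (g : Completion G)) '' (π.ker : Set G)) := by
  apply Set.Subset.antisymm
  · intro x hx
    have hx0 : AddMonoidHom.completion π hc x = 0 := hx
    rw [mem_closure_iff_nhds]
    intro t ht
    -- `t ⊇ x + cloSub U`
    have h0 : (fun y => x + y) ⁻¹' t ∈ 𝓝 (0 : Completion G) := by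
      have hcont : Continuous (fun y : Completion G => x + y) := continuous_const.add continuous_id
      apply hcont.continuousAt
      simpa using ht
    obtain ⟨U, hU, hUt⟩ := exists_cloSub_subset _ h0
    -- approximate `x` by `g : G` modulo `cloSub U`
    have h1 : (fun y => x - y) ⁻¹' (cloSub U : Set (Completion G)) ∈ 𝓝 x := by
      have hcont : Continuous (fun y : Completion G => x - y) := continuous_const.sub continuous_id
      apply hcont.continuousAt
      simp only [sub_self]
      exact cloSub_mem_nhds U hU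
    obtain ⟨_, hg1, ⟨g, rfl⟩⟩ := mem_closure_iff_nhds.mp (Completion.denseRange_coe x) _ h1
    have hg1' : x - (g : Completion G) ∈ cloSub U := hg1
    -- then `π g ∈ π U`
    have h2 : ((π g : Q) : Completion Q) ∈ cloSub (U.map π) := by
      have h3 : AddMonoidHom.completion π hc ((g : Completion G) - x) ∈ cloSub (U.map π) := by
        apply completion_map_cloSub_le π hc U
        refine ⟨(g : Completion G) - x, ?_, rfl⟩
        have := (cloSub U).neg_mem hg1'
        rwa [neg_sub] at this
      rw [map_sub, hx0, sub_zero, AddMonoidHom.completion_coe] at h3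
      exact h3
    rw [coe_mem_cloSub_iff (isOpen_map_subgroup π ho U hU)] at h2
    obtain ⟨u, hu, hug⟩ := h2
    -- `n = g - u ∈ ker π`
    refine ⟨((g - u : G) : Completion G), ?_, ⟨g - u, ?_, rfl⟩⟩
    · have hz : ((g - u : G) : Completion G) - x ∈ cloSub U := by
        have h4 : ((g - u : G) : Completion G) - x =
            -(x - (g : Completion G)) - (u : Completion G) := by
          rw [Completion.coe_sub]; abel
        rw [h4]
        exact (cloSub U).sub_mem ((cloSub U).neg_mem hg1') (coe_mem_cloSub hu)
      have h5 := hUt hz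
      simp only [Set.mem_preimage, add_sub_cancel] at h5
      exact h5
    · show π (g - u) = 0
      rw [map_sub, hug, sub_self]
  · apply closure_minimal
    · rintro _ ⟨g, hg, rfl⟩
      show AddMonoidHom.completion π hc (g : Completion G) = 0
      rw [AddMonoidHom.completion_coe]
      have : π g = 0 := hg
      rw [this, Completion.coe_zero]
    · exact isClosed_singleton.preimage (AddMonoidHom.continuous_completion π hc)

end Quot

end Groth.Agent.H53

namespace Groth.Agent.H53

open Topology Filter UniformSpace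

section QuotCountable
variable {G : Type u} [AddCommGroup G] [UniformSpace G] [IsUniformAddGroup G]
  [NonarchimedeanAddGroup G]
variable {Q : Type v} [AddCommGroup Q] [UniformSpace Q] [IsUniformAddGroup Q]
variable (π : G →+ Q) (hc : Continuous π) (ho : IsOpenMap π) (hs : Function.Surjective π)

include ho hs in
/-- With a countable basis at zero, the completed map sends `cloSub U` onto `cloSub (π U)`. -/
theorem exists_preimage_completion_of_mem_cloSub (hG : (𝓝 (0 : G)).IsCountablyGenerated)
    (U : AddSubgroup G) (hU : IsOpen (U : Set G)) (y : Completion Q)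
    (hy : y ∈ cloSub (U.map π)) :
    ∃ m ∈ cloSub U, AddMonoidHom.completion π hc m = y := by
  have hQna : NonarchimedeanAddGroup Q := nonarchimedean_of_open_surjective π hc ho
  obtain ⟨x, hx⟩ := (𝓝 (0 : G)).exists_antitone_basis
  have hx' : ∀ n, ∃ V : OpenAddSubgroup G, (V : Set G) ⊆ x n := fun n =>
    NonarchimedeanAddGroup.is_nonarchimedean _ (hx.mem n)
  choose V hVx using hx'
  let Uk : ℕ → AddSubgroup G := fun k =>
    Nat.rec (motive := fun _ => AddSubgroup G) U (fun n J => J ⊓ (V n : AddSubgroup G)) k
  have Uk_zero : Uk 0 = U := rfl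
  have Uk_succ : ∀ n, Uk (n + 1) = Uk n ⊓ (V n : AddSubgroup G) := fun n => rfl
  have hUk_anti : Antitone Uk :=
    antitone_nat_of_succ_le (fun n => by rw [Uk_succ]; exact inf_le_left)
  have hUk_open : ∀ n, IsOpen (Uk n : Set G) := by
    intro n
    induction n with
    | zero => exact hU
    | succ n ih => rw [Uk_succ]; exact ih.inter (V n).isOpen
  have hUk_x : ∀ n, (Uk (n + 1) : Set G) ⊆ x n := fun n a ha => hVx n (by
    rw [Uk_succ] at ha; exact ha.2)
  let Mk : ℕ → AddSubgroup (Completion G) := fun k => cloSub (Uk k)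
  let Nk : ℕ → AddSubgroup (Completion Q) := fun k => cloSub ((Uk k).map π)
  have hMk : Antitone Mk := fun k k' h => cloSub_mono (hUk_anti h)
  have hM : ∀ W ∈ 𝓝 (0 : Completion G), ∃ k, (Mk k : Set (Completion G)) ⊆ W := by
    intro W hW
    obtain ⟨U', hU', hU'W⟩ := exists_cloSub_subset W hW
    obtain ⟨n, -, hn⟩ := hx.1.mem_iff.mp (hU'.mem_nhds U'.zero_mem)
    refine ⟨n + 1, subset_trans ?_ hU'W⟩
    exact cloSub_mono (fun a ha => hn (hUk_x n ha))
  have hN : ∀ W ∈ 𝓝 (0 : Completion Q), ∃ k, ∀ i, k ≤ i → (Nk i : Set (Completion Q)) ⊆ W := by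
    intro W hW
    obtain ⟨U'', hU'', hU''W⟩ := exists_cloSub_subset W hW
    have h1 : π ⁻¹' (U'' : Set Q) ∈ 𝓝 (0 : G) := by
      apply hc.continuousAt
      rw [map_zero]
      exact hU''.mem_nhds U''.zero_mem
    obtain ⟨n, -, hn⟩ := hx.1.mem_iff.mp h1
    refine ⟨n + 1, fun i hi => subset_trans ?_ hU''W⟩
    apply cloSub_mono
    rintro _ ⟨a, ha, rfl⟩
    exact hn (hUk_x n (hUk_anti hi ha))
  have happrox : ∀ k, ∀ y ∈ Nk k, ∃ m ∈ Mk k, y - AddMonoidHom.completion π hc m ∈ Nk (k + 1) := by
    intro k y hy
    have hopen : IsOpen (Nk (k + 1) : Set (Completion Q)) :=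
      isOpen_cloSub _ (isOpen_map_subgroup π ho _ (hUk_open (k + 1)))
    have hV : (fun z => y - z) ⁻¹' (Nk (k + 1) : Set (Completion Q)) ∈ 𝓝 y := by
      have hcont : Continuous (fun z : Completion Q => y - z) := continuous_const.sub continuous_id
      apply hcont.continuousAt
      simp only [sub_self]
      exact hopen.mem_nhds (Nk (k + 1)).zero_mem
    have hy' : y ∈ closure ((fun q : Q => (q : Completion Q)) '' (((Uk k).map π : AddSubgroup Q) : Set Q)) :=
      hy
    obtain ⟨_, hz1, ⟨_, ⟨u, hu, rfl⟩, rfl⟩⟩ := mem_closure_iff_nhds.mp hy' _ hV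
    refine ⟨(u : Completion G), coe_mem_cloSub hu, ?_⟩
    rw [AddMonoidHom.completion_coe]
    exact hz1
  obtain ⟨m, hm, hmy⟩ := exists_preimage_of_approx (AddMonoidHom.completion π hc)
    (AddMonoidHom.continuous_completion π hc) Mk Nk hMk hM hN happrox 0 y hy
  refine ⟨m, ?_, hmy⟩
  have h1 : closure (Mk 0 : Set (Completion G)) = (cloSub U : Set (Completion G)) :=
    (isClosed_cloSub U).closure_eq
  rw [h1] at hm
  exact hm

include ho hs in
theorem surjective_completion (hG : (𝓝 (0 : G)).IsCountablyGenerated) :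
    Function.Surjective (AddMonoidHom.completion π hc) := by
  intro y
  have hy : y ∈ cloSub ((⊤ : AddSubgroup G).map π) := by
    have h1 : (⊤ : AddSubgroup G).map π = ⊤ := by
      rw [← AddMonoidHom.range_eq_map]
      exact AddMonoidHom.range_eq_top.mpr hs
    rw [h1]
    have h2 : (cloSub (⊤ : AddSubgroup Q) : Set (Completion Q)) = Set.univ := by
      rw [coe_cloSub, AddSubgroup.coe_top, Set.image_univ]
      exact Completion.denseRange_coe.closure_eq
    show y ∈ (cloSub (⊤ : AddSubgroup Q) : Set (Completion Q))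
    rw [h2]
    trivial
  obtain ⟨m, -, hm⟩ := exists_preimage_completion_of_mem_cloSub π hc ho hs hG ⊤ isOpen_univ y hy
  exact ⟨m, hm⟩

include ho hs in
theorem isOpenMap_completion (hG : (𝓝 (0 : G)).IsCountablyGenerated) :
    IsOpenMap (AddMonoidHom.completion π hc) := by
  rw [IsTopologicalAddGroup.isOpenMap_iff_nhds_zero]
  intro s hs'
  rw [Filter.mem_map] at hs'
  obtain ⟨U, hU, hUs⟩ := exists_cloSub_subset _ hs'
  refine Filter.mem_of_superset
    (cloSub_mem_nhds (U.map π) (isOpen_map_subgroup π ho U hU)) ?_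
  intro y hy
  obtain ⟨m, hm, rfl⟩ := exists_preimage_completion_of_mem_cloSub π hc ho hs hG U hU y hy
  exact hUs hm

end QuotCountable

end Groth.Agent.H53
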