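import Groth.Agent.H53.ComplQuot
import Mathlib.Topology.Algebra.LinearTopology

set_option autoImplicit false
set_option linter.unusedSectionVars false
universe u v w

namespace Groth.Agent.H53

open Topology Filter UniformSpace

theorem nonarchimedeanAddGroup_of_isLinearTopology (R : Type u) [Ring R] {M : Type v}
    [AddCommGroup M] [Module R M] [TopologicalSpace M]
    [IsTopologicalAddGroup M] [IsLinearTopology R M] : NonarchimedeanAddGroup M where
  is_nonarchimedean := by
    intro U hU
    obtain ⟨P, hP, hPU⟩ := (IsLinearTopology.hasBasis_open_submodule R (M := M)).mem_iff.mp hU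
    exact ⟨⟨P.toAddSubgroup, hP⟩, hPU⟩

end Groth.Agent.H53
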