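import Mathlib.Topology.Spectral.ConstructibleTopology
import Mathlib.Topology.Constructible
import Mathlib.Topology.Spectral.Hom

set_option autoImplicit false
open Set Topology

namespace Groth.Agent.H53.ConsTop

variable {A B : Type*} [TopologicalSpace A] [TopologicalSpace B]

/-- Constructible subsets of a quasi-compact quasi-separated space are clopen for the
constructible topology. -/
theorem isClopen_of_isConstructible [CompactSpace A] [QuasiSeparatedSpace A] {T : Set A}
    (hT : IsConstructible T) :
    IsClopen (WithTopology.ofTopology ⁻¹' T : Set (WithConstructibleTopology A)) := by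
  induction hT using IsConstructible.empty_union_induction with
  | open_retrocompact U hUo hUc =>
    have hc : IsCompact U := hUc.isCompact
    constructor
    · rw [← isOpen_compl_iff, WithConstructibleTopology.isOpen_iff]
      exact IsCompact.isOpen_constructibleTopology_of_isClosed (s := Uᶜ) (by rwa [compl_compl])
        hUo.isClosed_compl
    · rw [WithConstructibleTopology.isOpen_iff]
      exact hc.isOpen_constructibleTopology_of_isOpen hUo
  | union s hs t ht hs' ht' => exact hs'.union ht'
  | compl s hs hs' => exact hs'.compl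

/-- Finite intersection property for constructible subsets of a spectral space. -/
theorem nonempty_iInter_of_isConstructible [CompactSpace A] [QuasiSober A] [PrespectralSpace A]
    [QuasiSeparatedSpace A] {ι : Type*} (C : ι → Set A) (hC : ∀ i, IsConstructible (C i))
    (hfin : ∀ s : Finset ι, (⋂ i ∈ s, C i).Nonempty) : (⋂ i, C i).Nonempty := by
  have key := (isCompact_univ (X := WithConstructibleTopology A)).inter_iInter_nonempty
    (fun i => (WithTopology.ofTopology ⁻¹' C i : Set (WithConstructibleTopology A)))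
    (fun i => (isClopen_of_isConstructible (hC i)).1) (fun s => by
      obtain ⟨a, ha⟩ := hfin s
      refine ⟨WithTopology.toTopology _ a, mem_univ _, ?_⟩
      simp only [mem_iInter] at ha ⊢
      exact ha)
  obtain ⟨x, -, hx⟩ := key
  refine ⟨WithTopology.ofTopology x, ?_⟩
  simp only [mem_iInter] at hx ⊢
  exact hx

/-- A subset of a spectral space whose preimage under a surjective spectral map from a spectral
space is constructible is constructible. -/
theorem isConstructible_of_preimage [CompactSpace A] [QuasiSober A] [PrespectralSpace A]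
    [QuasiSeparatedSpace A] [T0Space B] [PrespectralSpace B] [QuasiSeparatedSpace B]
    (f : A → B) (hf : IsSpectralMap f) (hs : Function.Surjective f) {E : Set B}
    (hE : IsConstructible (f ⁻¹' E)) : IsConstructible E := by
  have hBc : CompactSpace B := hs.compactSpace hf.continuous
  have hpre : ∀ C : Set B, IsConstructible C → IsConstructible (f ⁻¹' C) := fun C hC =>
    hC.preimage hf.continuous (fun s hso hsr =>
      (hf.isCompact_preimage_of_isOpen hso hsr.isCompact).isRetrocompact
        (hso.preimage hf.continuous))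
  -- separation of points by constructible sets
  have hsep : ∀ b b' : B, b' ≠ b → ∃ C : Set B, IsConstructible C ∧ b ∈ C ∧ b' ∉ C := by
    intro b b' hne
    obtain ⟨O, hO, hx⟩ := exists_isOpen_xor_mem hne
    rcases hx with ⟨h1, h2⟩ | ⟨h1, h2⟩
    · obtain ⟨K, ⟨hKo, hKc⟩, hbK, hKO⟩ :=
        PrespectralSpace.isTopologicalBasis.exists_subset_of_mem_open h1 hO
      exact ⟨Kᶜ, (hKc.isConstructible hKo).compl, fun h => h2 (hKO h), fun h => h hbK⟩
    · obtain ⟨K, ⟨hKo, hKc⟩, hbK, hKO⟩ :=
        PrespectralSpace.isTopologicalBasis.exists_subset_of_mem_open h1 hO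
      exact ⟨K, hKc.isConstructible hKo, hbK, fun h => h2 (hKO h)⟩
  -- Claim 1
  have claim1 : ∀ b ∈ E, ∃ C : Set B, IsConstructible C ∧ b ∈ C ∧ C ⊆ E := by
    intro b hb
    by_contra hcon
    push Not at hcon
    let ι := {C : Set B // IsConstructible C ∧ b ∈ C}
    have hne : (⋂ i : ι, f ⁻¹' i.1 ∩ (f ⁻¹' E)ᶜ).Nonempty := by
      refine nonempty_iInter_of_isConstructible _ (fun i => (hpre _ i.2.1).inter hE.compl) ?_
      intro s
      have hC₀ : IsConstructible (⋂ i ∈ s, (i : ι).1) :=
        IsConstructible.biInter s.finite_toSet (fun i _ => i.2.1)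
      have hb₀ : b ∈ ⋂ i ∈ s, (i : ι).1 := by
        simp only [mem_iInter]
        exact fun i _ => i.2.2
      obtain ⟨b₀, hb₀C, hb₀E⟩ := not_subset.1 (hcon _ hC₀ hb₀)
      obtain ⟨a₀, rfl⟩ := hs b₀
      refine ⟨a₀, ?_⟩
      simp only [mem_iInter] at hb₀C ⊢
      exact fun i hi => ⟨hb₀C i hi, hb₀E⟩
    obtain ⟨a, ha⟩ := hne
    simp only [mem_iInter] at ha
    have hfa : f a = b := by
      by_contra hne'
      obtain ⟨C, hC, hbC, hfaC⟩ := hsep b (f a) hne'
      exact hfaC (ha ⟨C, hC, hbC⟩).1
    exact (ha ⟨univ, IsConstructible.univ, mem_univ _⟩).2 (by rw [mem_preimage, hfa]; exact hb)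
  choose! C hCc hbC hCE using claim1
  -- Claim 2
  have claim2 : ∃ s : Finset E, (⋂ b ∈ s, f ⁻¹' E ∩ (f ⁻¹' C (b : E).1)ᶜ) = ∅ ∨ E = ∅ := by
    by_cases hEe : E = ∅
    · exact ⟨∅, Or.inr hEe⟩
    by_contra hcon
    push Not at hcon
    have hne : (⋂ b : E, f ⁻¹' E ∩ (f ⁻¹' C b.1)ᶜ).Nonempty := by
      refine nonempty_iInter_of_isConstructible _
        (fun b => hE.inter (hpre _ (hCc b.1 b.2)).compl) ?_
      intro s
      exact (hcon s).1
    obtain ⟨a, ha⟩ := hne
    simp only [mem_iInter] at ha
    obtain ⟨b₁, hb₁⟩ := nonempty_iff_ne_empty.2 hEe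
    have hfaE : f a ∈ E := (ha ⟨b₁, hb₁⟩).1
    exact (ha ⟨f a, hfaE⟩).2 (hbC _ hfaE)
  obtain ⟨s, hs' | hs'⟩ := claim2
  · have hEq : E = ⋃ b ∈ s, C (b : E).1 := by
      apply subset_antisymm
      · intro e he
        obtain ⟨a, rfl⟩ := hs e
        by_contra hcon
        have : a ∈ ⋂ b ∈ s, f ⁻¹' E ∩ (f ⁻¹' C (b : E).1)ᶜ := by
          simp only [mem_iInter]
          intro b hb
          refine ⟨he, fun h => hcon ?_⟩
          simp only [mem_iUnion]
          exact ⟨b, hb, h⟩
        rw [hs'] at this
        exact this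
      · simp only [iUnion_subset_iff]
        exact fun b _ => hCE b.1 b.2
    rw [hEq]
    exact IsConstructible.biUnion s.finite_toSet (fun b _ => hCc b.1 b.2)
  · rw [hs']; exact IsConstructible.empty

end Groth.Agent.H53.ConsTop
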