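import Groth.Agent.H53.ValuativeUC
import Groth.Agent.H53.LocPCalc
import Mathlib.AlgebraicGeometry.Morphisms.Flat

/-!
# Lifting valuation rings along flat morphisms of algebraic spaces (helper53)
-/

set_option autoImplicit false
universe u
open CategoryTheory CategoryTheory.Limits AlgebraicGeometry Opposite IsLocalRing

namespace Groth.Agent.H53
open AlgSp

variable {S : Scheme.{u}}

theorem exists_valuationRing_lift_of_flat {X Y : Sp S} (hX : IsAlgSpace X) (hY : IsAlgSpace Y)
    (f : X ⟶ Y) (hf : LocP @Flat f) (A : Type u) [CommRing A] [IsDomain A] [ValuationRing A]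
    (str : Spec (CommRingCat.of A) ⟶ S) (b : (yon S).obj (Over.mk str) ⟶ Y)
    (hb : Points.ofPt b (closedPoint A) ∈ Set.range (Points.map f)) :
    ∃ (A' : Type u) (_ : CommRing A') (_ : IsDomain A') (_ : ValuationRing A') (φ : A →+* A'),
      Function.Injective φ ∧ IsLocalHom φ ∧
      ∃ l : (yon S).obj (Over.mk (Spec.map (CommRingCat.ofHom φ) ≫ str)) ⟶ X,
        l ≫ f = (yon S).map (Over.homMk (Spec.map (CommRingCat.ofHom φ)) rfl :
          Over.mk (Spec.map (CommRingCat.ofHom φ) ≫ str) ⟶ Over.mk str) ≫ b := by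
  obtain ⟨x₀, hx₀⟩ := hb
  have hB : IsAlgSpace ((yon S).obj (Over.mk str)) := IsAlgSpace.yon_obj _
  let P := pullback f b
  let fst : P ⟶ X := pullback.fst f b
  let snd : P ⟶ (yon S).obj (Over.mk str) := pullback.snd f b
  have pb : IsPullback fst snd f b := IsPullback.of_hasPullback _ _
  have hP : IsAlgSpace P := H52.isAlgSpace_of_isPullback pb hX hY hB
  have hsnd : LocP @Flat snd := locP_snd_of_yon locPCalc_flat hX hY hf b pb
  obtain ⟨x', -, hx'⟩ := H52.exists_point_of_isPullback pb x₀
    (Points.ofScheme (Over.mk str) (closedPoint A)) (by rw [hx₀, Points.ofPt_eq_map_ofScheme])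
  obtain ⟨U, a, ha1, ha2⟩ := hP.atlas
  obtain ⟨u', hu'⟩ := surjective_ofPt_of_surjective a ha2 x'
  obtain ⟨g, hg⟩ := (yon S).map_surjective (a ≫ snd)
  have hflat : Flat g.left :=
    hsnd a (𝟙 _) g ha1 (repWith_id @Etale _) (by rw [Category.comp_id, hg])
  let γ₀ : U.left ⟶ Spec (CommRingCat.of A) := g.left
  have hgu' : γ₀ u' = closedPoint A := by
    apply (Points.schemeEquiv (Over.mk str)).injective
    change Points.ofScheme (Over.mk str) _ = Points.ofScheme (Over.mk str) _
    rw [← hx', ← hu']
    have h0 := ofPt_yon_map_comp g (𝟙 _) u'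
    rw [Category.comp_id] at h0
    rw [Points.map_ofPt, ← hg]
    exact h0.symm
  -- the generic point lifts to a generalization of `u'`
  let η : PrimeSpectrum A := ⊥
  have hηs : η ⤳ γ₀ u' := by
    rw [hgu']
    exact (PrimeSpectrum.le_iff_specializes η (closedPoint A)).1 bot_le
  obtain ⟨u, huu', hu⟩ := Flat.generalizingMap γ₀ hηs
  let μ : Spec (CommRingCat.of (U.left.residueField u)) ⟶ U.left := U.left.fromSpecResidueField u
  have hμ : μ (closedPoint (U.left.residueField u)) = u := Scheme.fromSpecResidueField_apply _ _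
  obtain ⟨A', β, φ, h1, h2, h3, hloc⟩ := exists_valuationSubring_dominating γ₀ huu' hgu' μ hμ
  refine ⟨A', inferInstance, inferInstance, inferInstance, φ, ?_, hloc, ?_⟩
  · -- injectivity: the composite `A → A' → κ(u)` has kernel the generic point
    have hcomp : Spec.map (CommRingCat.ofHom ((algebraMap A' (U.left.residueField u)).comp φ)) = μ ≫ γ₀ := by
      have l1 : CommRingCat.ofHom ((algebraMap A' (U.left.residueField u)).comp φ) =
          CommRingCat.ofHom φ ≫ CommRingCat.ofHom (algebraMap A' (U.left.residueField u)) := rfl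
      rw [l1, Spec.map_comp, h3, ← Category.assoc, h1]
    have hpt : (Spec.map (CommRingCat.ofHom ((algebraMap A' (U.left.residueField u)).comp φ)))
        (closedPoint (U.left.residueField u)) = η := by
      rw [hcomp, Scheme.Hom.comp_apply, hμ]
      exact hu
    have hker : RingHom.ker ((algebraMap A' (U.left.residueField u)).comp φ) = ⊥ := by
      have h4 := congrArg PrimeSpectrum.asIdeal hpt
      change Ideal.comap _ (maximalIdeal (U.left.residueField u)) = ⊥ at h4
      rw [← h4, IsLocalRing.maximalIdeal_eq_bot]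
      rfl
    have hinj : Function.Injective ((algebraMap A' (U.left.residueField u)).comp φ) :=
      (RingHom.injective_iff_ker_eq_bot _).2 hker
    have hinj' : Function.Injective (⇑(algebraMap A' (U.left.residueField u)) ∘ ⇑φ) := hinj
    exact Function.Injective.of_comp hinj'
  · have hβstr : β ≫ U.hom = Spec.map (CommRingCat.ofHom φ) ≫ str := by
      rw [h3, Category.assoc]
      congr 1
      exact (Over.w g).symm
    let βO : Over.mk (Spec.map (CommRingCat.ofHom φ) ≫ str) ⟶ U := Over.homMk β hβstr
    have hβg : βO ≫ g = (Over.homMk (Spec.map (CommRingCat.ofHom φ)) rfl :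
        Over.mk (Spec.map (CommRingCat.ofHom φ) ≫ str) ⟶ Over.mk str) :=
      Over.OverMorphism.ext h3.symm
    refine ⟨(yon S).map βO ≫ a ≫ fst, ?_⟩
    rw [Category.assoc, Category.assoc, pb.w, ← Category.assoc a, ← hg, ← Category.assoc,
      ← Functor.map_comp, hβg]

end Groth.Agent.H53
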