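import Groth.Agent.H53.ValuativeClosed
import Mathlib.AlgebraicGeometry.Morphisms.QuasiCompact
import Mathlib.AlgebraicGeometry.Cover.Open

/-!
# Quasi-compact morphisms satisfying the existence part of the valuative criterion are universally closed, II (helper53)
-/

set_option autoImplicit false
universe u
open CategoryTheory CategoryTheory.Limits AlgebraicGeometry Opposite IsLocalRing

namespace Groth.Agent.H53
open AlgSp

variable {S : Scheme.{u}}

/-- Closedness of the inverse image, in an affine scheme, of the image of a closed set. -/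
theorem isClosed_preimage_image_of_affine {X Y : Sp S} (f : X ⟶ Y)
    (hq : IsQuasiCompactMor f) (he : ExistVC f) (T : Set (Points X)) (hT : IsClosed T)
    {R₀ : CommRingCat.{u}} (str : Spec R₀ ⟶ S) (q : (yon S).obj (Over.mk str) ⟶ Y) :
    IsClosed ((Points.ofPt q) ⁻¹' (Points.map f '' T)) := by
  have hst := stableUnderSpecialization_preimage_image f he T hT q
  have hVqc : IsQuasiCompactSp ((yon S).obj (Over.mk str)) :=
    haveI : CompactSpace ↥(Over.mk str).left := inferInstanceAs (CompactSpace ↥(Spec R₀))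
    H52.isQuasiCompactSp_yon (Over.mk str)
  have hP : IsQuasiCompactSp (pullback f q) :=
    hq (IsAlgSpace.yon_obj _) hVqc q (pullback.fst f q) (pullback.snd f q) (IsPullback.of_hasPullback f q)
  obtain ⟨U, a, ha1, ha2, hU⟩ := hP
  obtain ⟨g, hg⟩ := (yon S).map_surjective (a ≫ pullback.snd f q)
  obtain ⟨R, ρ, hρ⟩ := compactSpace_iff_exists.1 hU
  let gl : U.left ⟶ Spec R₀ := g.left
  let h : Spec R ⟶ Spec R₀ := ρ ≫ gl
  let φ := Spec.preimage h
  have hφ : Spec.map φ = h := Spec.map_preimage h
  let T_R : Set ↥(Spec R) := ρ ⁻¹' ((Points.ofPt (a ≫ pullback.fst f q)) ⁻¹' T)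
  have hT_R : IsClosed T_R := (hT.preimage (Points.continuous_ofPt _)).preimage ρ.continuous
  have hofS : ∀ u : ↥U.left, Points.ofScheme (Over.mk str) (gl u) =
      Points.map (pullback.snd f q) (Points.map a (Points.ofScheme U u)) := by
    intro u
    have h0 := ofPt_yon_map_comp g (𝟙 _) u
    rw [Category.comp_id] at h0
    rw [← Points.map_comp, ← Points.ofPt_eq_map_ofScheme, ← hg]
    exact h0.symm
  have hset : (Points.ofPt q) ⁻¹' (Points.map f '' T) = h '' T_R := by
    ext y'
    constructor
    · rintro ⟨x, hxT, hx⟩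
      obtain ⟨w, hw1, hw2⟩ := H52.exists_point_of_isPullback (IsPullback.of_hasPullback f q) x
        (Points.ofScheme (Over.mk str) y') (by rw [hx, Points.ofPt_eq_map_ofScheme])
      obtain ⟨u', hu'⟩ := H52.surjective_points_of_repWith_surjective a ha2 w
      obtain ⟨u, rfl⟩ := (Points.schemeEquiv U).surjective u'
      obtain ⟨y, rfl⟩ := hρ u
      refine ⟨y, ?_, ?_⟩
      · change Points.ofPt (a ≫ pullback.fst f q) (ρ y) ∈ T
        rw [Points.ofPt_eq_map_ofScheme, Points.map_comp]
        change Points.map _ (Points.map a (Points.schemeEquiv U (ρ y))) ∈ T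
        rw [hu', hw1]
        exact hxT
      · apply (Points.schemeEquiv (Over.mk str)).injective
        change Points.ofScheme (Over.mk str) (gl (ρ y)) = Points.ofScheme (Over.mk str) y'
        rw [hofS, ← hw2, ← hu']
        rfl
    · rintro ⟨y, hy, rfl⟩
      refine ⟨Points.ofPt (a ≫ pullback.fst f q) (ρ y), hy, ?_⟩
      rw [Points.map_ofPt, Category.assoc, pullback.condition, ← Category.assoc, ← hg,
        ofPt_yon_map_comp]
      rfl
  rw [hset] at hst ⊢
  have hfun : ∀ y : ↥(Spec R), h y = PrimeSpectrum.comap φ.hom y := fun y => by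
    rw [← hφ]
    rfl
  have himg : h '' T_R = PrimeSpectrum.comap φ.hom '' T_R := Set.image_congr fun y _ => hfun y
  rw [himg] at hst ⊢
  exact PrimeSpectrum.isClosed_image_of_stableUnderSpecialization φ.hom T_R hT_R hst

/-- A quasi-compact morphism satisfying the existence part of the valuative criterion is closed. -/
theorem isClosedMor_of_existVC {X Y : Sp S} (hY : IsAlgSpace Y) (f : X ⟶ Y)
    (hq : IsQuasiCompactMor f) (he : ExistVC f) : IsClosedMor f := by
  intro T hT
  obtain ⟨V, q, hq1, hq2⟩ := hY.atlas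
  rw [← (isQuotientMap_ofPt_of_etale_surjective q hq1 hq2).isClosed_preimage]
  rw [← isOpen_compl_iff, isOpen_iff_forall_mem_open]
  intro v hv
  let 𝒰 := V.left.affineOpenCover
  obtain ⟨y, hy⟩ := 𝒰.covers v
  let i := 𝒰.idx v
  let jO : Over.mk (𝒰.f i ≫ V.hom) ⟶ V := Over.homMk (𝒰.f i) rfl
  have hcl := isClosed_preimage_image_of_affine f hq he T hT (𝒰.f i ≫ V.hom) ((yon S).map jO ≫ q)
  have hpre : (Points.ofPt ((yon S).map jO ≫ q)) ⁻¹' (Points.map f '' T) =
      (𝒰.f i) ⁻¹' ((Points.ofPt q) ⁻¹' (Points.map f '' T)) := by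
    ext z
    change Points.ofPt ((yon S).map jO ≫ q) z ∈ Points.map f '' T ↔
      Points.ofPt q (𝒰.f i z) ∈ Points.map f '' T
    rw [ofPt_yon_map_comp]
    rfl
  have hopen : IsOpenImmersion (𝒰.f i) := 𝒰.map_prop i
  refine ⟨𝒰.f i '' ((𝒰.f i) ⁻¹' ((Points.ofPt q) ⁻¹' (Points.map f '' T)))ᶜ, ?_, ?_, ?_⟩
  · rintro _ ⟨z, hz, rfl⟩
    exact hz
  · apply (𝒰.f i).isOpenEmbedding.isOpenMap
    rw [← hpre]
    exact hcl.isOpen_compl
  · exact ⟨y, fun hy' => hv (by rw [← hy]; exact hy'), hy⟩

/-- A quasi-compact morphism of algebraic spaces satisfying the existence part of the valuative criterion is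
universally closed. -/
theorem isUnivClosedMor_of_existVC {X Y : Sp S} (f : X ⟶ Y)
    (hq : IsQuasiCompactMor f) (he : ExistVC f) : IsUnivClosedMor f := by
  intro Z Z' hZ g fst snd sq
  exact isClosedMor_of_existVC hZ snd (H52.isQuasiCompactMor_of_isPullback sq hq)
    (existVC_of_isPullback sq he)

end Groth.Agent.H53
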