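import Groth.Agent.H53.ValuativeFinSep

/-!
# The existence part of the valuative criterion for representable morphisms (helper53)
-/

set_option autoImplicit false
set_option backward.isDefEq.respectTransparency false
universe u
open CategoryTheory CategoryTheory.Limits AlgebraicGeometry Opposite IsLocalRing

namespace Groth.Agent.H53
open AlgSp

variable {S : Scheme.{u}}

/-- A local subring-like extension `A → A''` of a valuation ring inside its fraction field is bijective. -/
theorem bijective_of_isLocalHom_of_valuationRing {A K : Type u} [CommRing A] [IsDomain A]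
    [ValuationRing A] [Field K] [Algebra A K] [IsFractionRing A K] (A'' : ValuationSubring K)
    (φ : A →+* A'') (hφ : IsLocalHom φ) (hc : (algebraMap A'' K).comp φ = algebraMap A K) :
    Function.Bijective φ := by
  have hc' : ∀ a : A, ((φ a : A'') : K) = algebraMap A K a := fun a => congrArg (fun k => k a) hc
  refine ⟨fun a b hab => IsFractionRing.injective A K (by rw [← hc', ← hc', hab]), fun x => ?_⟩
  rcases ValuationRing.isInteger_or_isInteger A (x : K) with ⟨a, ha⟩ | ⟨a, ha⟩
  · exact ⟨a, Subtype.ext ((hc' a).trans ha)⟩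
  · by_cases hx : (x : K) = 0
    · exact ⟨0, by rw [map_zero]; exact Subtype.ext hx.symm⟩
    · -- `φ a = x⁻¹` is a unit of `A''`, hence `a` is a unit of `A`
      have h1 : ((φ a : A'') : K) * (x : K) = 1 := by
        rw [hc', ha, inv_mul_cancel₀ hx]
      have hu : IsUnit (φ a) := IsUnit.of_mul_eq_one x (Subtype.ext h1)
      have hau : IsUnit a := hφ.map_nonunit a hu
      obtain ⟨b, hb⟩ := hau.exists_right_inv
      refine ⟨b, Subtype.ext ?_⟩
      have h2 : algebraMap A K a * algebraMap A K b = 1 := by rw [← map_mul, hb, map_one]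
      rw [hc']
      have h3 : algebraMap A K a ≠ 0 := left_ne_zero_of_mul_eq_one h2
      rw [ha] at h2 h3
      field_simp at h2
      exact h2

/-- The strict existence part implies the existence part with extensions. -/
theorem existVC_of_existVCStrict {X Y : Sp S} (f : X ⟶ Y) (h : ExistVCStrict f) : ExistVC f := by
  intro sq
  obtain ⟨l, hl1, hl2⟩ := h sq
  let e : sq.DomExt :=
    { A' := sq.A, K' := sq.K, φ := RingHom.id _, ψ := RingHom.id _, comm := rfl,
      isLocalHom := ⟨fun _ h => h⟩ }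
  let φO : e.ptA' ⟶ sq.ptA := Over.homMk (Spec.map (CommRingCat.ofHom e.φ)) rfl
  let jO' : e.ptK' ⟶ e.ptA' := Over.homMk (Spec.map (CommRingCat.ofHom (algebraMap e.A' e.K'))) rfl
  let ψO' : e.ptK' ⟶ sq.ptK := Over.homMk (Spec.map (CommRingCat.ofHom e.ψ)) (by
          change Spec.map _ ≫ Spec.map _ ≫ _ = Spec.map _ ≫ Spec.map _ ≫ _
          rw [← Spec.map_comp_assoc, ← Spec.map_comp_assoc, ← CommRingCat.ofHom_comp,
            ← CommRingCat.ofHom_comp, e.comm])
  have hjφ : jO' ≫ φO = ψO' ≫ sq.j := by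
    apply Over.OverMorphism.ext
    change Spec.map _ ≫ Spec.map _ = Spec.map _ ≫ Spec.map _
    rw [← Spec.map_comp, ← Spec.map_comp, ← CommRingCat.ofHom_comp, ← CommRingCat.ofHom_comp, e.comm]
  refine ⟨e, (yon S).map φO ≫ l, ?_, ?_⟩
  · change (yon S).map jO' ≫ (yon S).map φO ≫ l = (yon S).map ψO' ≫ sq.top
    rw [← Category.assoc, ← Functor.map_comp, hjφ, Functor.map_comp, Category.assoc, hl1]
  · rw [Category.assoc, hl2]

/-- For a representable morphism the existence part of the valuative criterion needs no extensions. -/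
theorem existVCStrict_of_existVC_of_representable {X Y : Sp S} (f : X ⟶ Y) (hf : Representable f)
    (hE : ExistVC f) : ExistVCStrict f := by
  intro sq
  obtain ⟨e₀, l₀, hl₀1, hl₀2⟩ := hE sq
  have pb := hf.isPullback sq.bot
  let φO : e₀.ptA' ⟶ sq.ptA := Over.homMk (Spec.map (CommRingCat.ofHom e₀.φ)) rfl
  let jO' : e₀.ptK' ⟶ e₀.ptA' := Over.homMk (Spec.map (CommRingCat.ofHom (algebraMap e₀.A' e₀.K'))) rfl
  let ψO' : e₀.ptK' ⟶ sq.ptK := Over.homMk (Spec.map (CommRingCat.ofHom e₀.ψ)) (by
          change Spec.map _ ≫ Spec.map _ ≫ _ = Spec.map _ ≫ Spec.map _ ≫ _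
          rw [← Spec.map_comp_assoc, ← Spec.map_comp_assoc, ← CommRingCat.ofHom_comp,
            ← CommRingCat.ofHom_comp, e₀.comm])
  have hl₀1' : (yon S).map jO' ≫ l₀ = (yon S).map ψO' ≫ sq.top := hl₀1
  have hjφ : jO' ≫ φO = ψO' ≫ sq.j := by
    apply Over.OverMorphism.ext
    change Spec.map _ ≫ Spec.map _ = Spec.map _ ≫ Spec.map _
    rw [← Spec.map_comp, ← Spec.map_comp, ← CommRingCat.ofHom_comp, ← CommRingCat.ofHom_comp, e₀.comm]
  obtain ⟨t, ht⟩ := (yon S).map_surjective (pb.lift sq.top ((yon S).map sq.j) sq.comm)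
  have ht1 : (yon S).map t ≫ hf.fst sq.bot = sq.top := by rw [ht, pb.lift_fst]
  have ht2 : t ≫ hf.snd sq.bot = sq.j := by
    apply (yon S).map_injective
    rw [Functor.map_comp, ht, pb.lift_snd]
  obtain ⟨t', ht'⟩ := (yon S).map_surjective (pb.lift l₀ ((yon S).map φO) hl₀2)
  have ht'1 : (yon S).map t' ≫ hf.fst sq.bot = l₀ := by rw [ht', pb.lift_fst]
  have ht'2 : t' ≫ hf.snd sq.bot = φO := by
    apply (yon S).map_injective
    rw [Functor.map_comp, ht', pb.lift_snd]
  have htt' : jO' ≫ t' = ψO' ≫ t := by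
    apply (yon S).map_injective
    apply pb.hom_ext
    · rw [Functor.map_comp, Functor.map_comp, Category.assoc, Category.assoc, ht'1, ht1, hl₀1']
    · rw [← Functor.map_comp, ← Functor.map_comp, Category.assoc, Category.assoc, ht'2, ht2, hjφ]
  let P : Over S := hf.pullback sq.bot
  let γ₀ : P.left ⟶ Spec (CommRingCat.of sq.A) := (hf.snd sq.bot).left
  let μ : Spec (CommRingCat.of sq.K) ⟶ P.left := t.left
  let x : ↥P.left := μ (closedPoint sq.K)
  let x' : ↥P.left := t'.left (closedPoint e₀.A')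
  let η' : PrimeSpectrum e₀.A' := ⊥
  have hη' : Spec.map (CommRingCat.ofHom (algebraMap e₀.A' e₀.K')) (closedPoint e₀.K') = η' := by
    change PrimeSpectrum.comap (algebraMap e₀.A' e₀.K') (closedPoint e₀.K') = ⊥
    apply PrimeSpectrum.ext
    change Ideal.comap (algebraMap e₀.A' e₀.K') (maximalIdeal e₀.K') = ⊥
    rw [IsLocalRing.maximalIdeal_eq_bot, ← RingHom.ker_eq_comap_bot]
    exact (RingHom.injective_iff_ker_eq_bot _).1 (IsFractionRing.injective e₀.A' e₀.K')
  have hx : t'.left η' = x := by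
    rw [← hη']
    change (jO' ≫ t').left (closedPoint e₀.K') = x
    rw [htt']
    change t.left (ψO'.left (closedPoint e₀.K')) = t.left (closedPoint sq.K)
    congr 1
    exact @Subsingleton.elim _ (inferInstanceAs (Subsingleton (PrimeSpectrum sq.K))) _ _
  have hxx' : x ⤳ x' := by
    rw [← hx]
    exact ((PrimeSpectrum.le_iff_specializes η' (closedPoint e₀.A')).1 bot_le).map t'.left.continuous
  have hγx' : γ₀ x' = closedPoint sq.A := by
    change (t' ≫ hf.snd sq.bot).left (closedPoint e₀.A') = _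
    rw [ht'2]
    have := e₀.isLocalHom
    exact IsLocalRing.comap_closedPoint e₀.φ
  obtain ⟨A'', β, φ, h1, h2, h3, hloc⟩ := exists_valuationSubring_dominating γ₀ hxx' hγx' μ rfl
  have hμγ : μ ≫ γ₀ = Spec.map (CommRingCat.ofHom (algebraMap sq.A sq.K)) :=
    congrArg (fun k => k.left) ht2
  have hcomm : (algebraMap A'' sq.K).comp φ = algebraMap sq.A sq.K := by
    have e1 : Spec.map (CommRingCat.ofHom ((algebraMap A'' sq.K).comp φ)) =
        Spec.map (CommRingCat.ofHom (algebraMap sq.A sq.K)) := by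
      have l1 : CommRingCat.ofHom ((algebraMap A'' sq.K).comp φ) =
          CommRingCat.ofHom φ ≫ CommRingCat.ofHom (algebraMap A'' sq.K) := rfl
      rw [l1, Spec.map_comp, h3, ← Category.assoc, h1, hμγ]
    exact congrArg CommRingCat.Hom.hom (Spec.map_injective e1)
  have hbij := bijective_of_isLocalHom_of_valuationRing A'' φ hloc hcomm
  let e₂ : sq.A ≃+* A'' := RingEquiv.ofBijective φ hbij
  let σ : Spec (CommRingCat.of sq.A) ⟶ P.left := Spec.map (CommRingCat.ofHom (e₂.symm : A'' →+* sq.A)) ≫ β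
  have hσγ : σ ≫ γ₀ = 𝟙 _ := by
    change (Spec.map _ ≫ β) ≫ γ₀ = 𝟙 _
    rw [Category.assoc, ← h3, ← Spec.map_comp, ← Spec.map_id]
    congr 1
    ext a
    exact e₂.symm_apply_apply a
  have hjσ : Spec.map (CommRingCat.ofHom (algebraMap sq.A sq.K)) ≫ σ = μ := by
    change Spec.map _ ≫ Spec.map _ ≫ β = μ
    rw [← Category.assoc, ← Spec.map_comp, ← h1]
    congr 2
    ext a
    change algebraMap sq.A sq.K (e₂.symm a) = algebraMap A'' sq.K a
    rw [← hcomm]
    change algebraMap A'' sq.K (e₂ (e₂.symm a)) = _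
    rw [e₂.apply_symm_apply]
  have hσstr : σ ≫ P.hom = sq.str := by
    rw [← Over.w (hf.snd sq.bot), ← Category.assoc]
    change (σ ≫ γ₀) ≫ sq.str = sq.str
    rw [hσγ, Category.id_comp]
  let σO : sq.ptA ⟶ P := Over.homMk σ hσstr
  have hσ1 : σO ≫ hf.snd sq.bot = 𝟙 _ := Over.OverMorphism.ext hσγ
  have hσ2 : sq.j ≫ σO = t := Over.OverMorphism.ext hjσ
  refine ⟨(yon S).map σO ≫ hf.fst sq.bot, ?_, ?_⟩
  · rw [← Category.assoc, ← Functor.map_comp, hσ2, ht1]
  · rw [Category.assoc, pb.w, ← Category.assoc, ← Functor.map_comp, hσ1, CategoryTheory.Functor.map_id, Category.id_comp]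

end Groth.Agent.H53
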