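import Groth.Agent.H53.Valuative
import Groth.Agent.H52.DiagSp2
import Mathlib.AlgebraicGeometry.ValuativeCriterion
import Mathlib.AlgebraicGeometry.Morphisms.Proper
import Mathlib.AlgebraicGeometry.Morphisms.QuasiFinite
import Mathlib.AlgebraicGeometry.ZariskisMainTheorem

/-!
# The valuative criterion for separatedness of algebraic spaces (helper53)
-/

set_option autoImplicit false
universe u
open CategoryTheory CategoryTheory.Limits AlgebraicGeometry Opposite

namespace Groth.Agent.H53
open AlgSp

variable {S : Scheme.{u}}

/-- The strict existence part of the valuative criterion is stable under base change. -/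
theorem existVCStrict_of_isPullback {F G F' G' : Sp S} {f : F ⟶ G} {g : G' ⟶ G} {fst : F' ⟶ F}
    {f' : F' ⟶ G'} (pb : IsPullback fst f' f g) (hf : ExistVCStrict f) : ExistVCStrict f' := by
  intro sq'
  obtain ⟨l, hl1, hl2⟩ := hf (pushValSq sq' fst g pb.w)
  refine ⟨pb.lift l sq'.bot hl2, ?_, pb.lift_snd _ _ _⟩
  apply pb.hom_ext
  · rw [Category.assoc, pb.lift_fst]
    exact hl1
  · rw [Category.assoc, pb.lift_snd, sq'.comm]

/-- The uniqueness part of the valuative criterion for `f` gives the strict existence part for the
diagonal of `f`. -/
theorem existVCStrict_diagonal_of_uniqVC {F G : Sp S} (f : F ⟶ G) (hf : UniqVC f) :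
    ExistVCStrict (pullback.diagonal f) := by
  intro sq
  have hcomm := sq.comm
  have h1 : (yon S).map sq.j ≫ sq.bot ≫ pullback.fst f f = sq.top := by
    rw [← Category.assoc, ← hcomm, Category.assoc, pullback.diagonal_fst, Category.comp_id]
  have h2 : (yon S).map sq.j ≫ sq.bot ≫ pullback.snd f f = sq.top := by
    rw [← Category.assoc, ← hcomm, Category.assoc, pullback.diagonal_snd, Category.comp_id]
  let sqf : ValSq f :=
    { A := sq.A, K := sq.K, str := sq.str, top := sq.top, bot := sq.bot ≫ pullback.fst f f ≫ f
      comm := by
        rw [← h1, Category.assoc, Category.assoc] }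
  have heq : sq.bot ≫ pullback.fst f f = sq.bot ≫ pullback.snd f f :=
    hf sqf _ _ h1 (Category.assoc _ _ _) h2 (by
      rw [Category.assoc, ← pullback.condition])
  refine ⟨sq.bot ≫ pullback.fst f f, h1, ?_⟩
  apply pullback.hom_ext
  · rw [Category.assoc, pullback.diagonal_fst, Category.comp_id]
  · rw [Category.assoc, pullback.diagonal_snd, Category.comp_id, heq]

/-- For a morphism of schemes over `S`, the strict existence part of the valuative criterion for
`h_g` gives Mathlib's existence part for `g`. -/
theorem existence_of_existVCStrict_yon_map {W T : Over S} (g : W ⟶ T)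
    (hg : ExistVCStrict ((yon S).map g)) : ValuativeCriterion.Existence g.left := by
  intro V
  have hw : V.i₁ ≫ W.hom = Spec.map (CommRingCat.ofHom (algebraMap V.R V.K)) ≫ V.i₂ ≫ T.hom := by
    rw [← Over.w g, ← Category.assoc, V.commSq.w, Category.assoc]
  let sq : ValSq ((yon S).map g) :=
    { A := V.R, K := V.K, str := V.i₂ ≫ T.hom
      top := (yon S).map (Over.homMk V.i₁ hw)
      bot := (yon S).map (Over.homMk V.i₂ rfl)
      comm := by
        rw [← Functor.map_comp, ← Functor.map_comp]
        refine congrArg (yon S).map (Over.OverMorphism.ext ?_)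
        exact V.commSq.w }
  obtain ⟨l, hl1, hl2⟩ := hg sq
  obtain ⟨l₀, rfl⟩ := (yon S).map_surjective l
  have e1 : sq.j ≫ l₀ = Over.homMk V.i₁ hw := by
    apply (yon S).map_injective
    rw [Functor.map_comp]
    exact hl1
  have e2 : l₀ ≫ g = Over.homMk V.i₂ rfl := by
    apply (yon S).map_injective
    rw [Functor.map_comp]
    exact hl2
  refine ⟨⟨⟨l₀.left, ?_, ?_⟩⟩⟩
  · exact congrArg (fun m => m.left) e1
  · exact congrArg (fun m => m.left) e2

/-- A quasi-compact monomorphism locally of finite type satisfying the existence part of the
valuative criterion is a closed immersion. -/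
theorem isClosedImmersion_of_existence_of_mono {A B : Scheme.{u}} (g : A ⟶ B) [Mono g]
    [QuasiCompact g] [LocallyOfFiniteType g] (hg : ValuativeCriterion.Existence g) :
    IsClosedImmersion g := by
  have : UniversallyClosed g := UniversallyClosed.of_valuativeCriterion g hg
  have : IsProper g := {}
  have : LocallyQuasiFinite g := inferInstance
  have : IsFinite g := IsFinite.of_isProper_of_locallyQuasiFinite g
  exact (IsClosedImmersion.iff_isFinite_and_mono g).2 ⟨inferInstance, inferInstance⟩

/-- A quasi-separated morphism out of an algebraic space satisfying the uniqueness part of the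
valuative criterion is separated. -/
theorem isSeparatedMor_of_uniqVC {X Y : Sp S} (hX : IsAlgSpace X) (f : X ⟶ Y)
    (hqs : IsQuasiSeparatedMor f) (hu : UniqVC f) : IsSeparatedMor f := by
  obtain ⟨hrep, hlft, hmono, -, -⟩ := H52.diagonal_properties hX f
  have hex := existVCStrict_diagonal_of_uniqVC f hu
  refine ⟨hrep, fun T W d fst snd sq => ?_⟩
  have h1 : Mono snd.left := hmono.property d fst snd sq
  have h2 : LocallyOfFiniteType snd.left := hlft.property d fst snd sq
  have h3 : QuasiCompact snd.left := hqs.property d fst snd sq
  have h4 : ValuativeCriterion.Existence snd.left :=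
    existence_of_existVCStrict_yon_map snd (existVCStrict_of_isPullback sq hex)
  exact isClosedImmersion_of_existence_of_mono snd.left h4

end Groth.Agent.H53
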