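import Groth.Agent.H53.FieldQuotQC
import Groth.Agent.S10386

set_option autoImplicit false
set_option backward.isDefEq.respectTransparency false
universe u
open CategoryTheory CategoryTheory.Limits AlgebraicGeometry Opposite
open AlgSp

namespace Groth.Agent.H53.DecentMorLocal

variable {S : Scheme.{u}}

/-- Key step: if the base change of `f` to an étale cover `V ⟶ Y` is a decent morphism, then the
base change of `f` to any affine scheme over `Y` is a decent space. -/
theorem isDecent_of_etale_cover {X Y : Sp S} (hX : IsAlgSpace X) (hY : IsAlgSpace Y) (f : X ⟶ Y)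
    {V : Over S} (p : (yon S).obj V ⟶ Y) (hp : RepWith @Etale p) (hps : RepWith @Surjective p)
    (X' : Sp S) (fst : X' ⟶ X) (snd : X' ⟶ (yon S).obj V) (hsq : IsPullback fst snd f p)
    (h : IsDecentMor snd)
    (Z : Over S) (g : (yon S).obj Z ⟶ Y) (P : Sp S) (pfst : P ⟶ X) (psnd : P ⟶ (yon S).obj Z)
    (hZ : IsAffine Z.left) (sq : IsPullback pfst psnd f g) : IsDecent P := by
  have hPalg : IsAlgSpace P :=
    Groth.Agent.H52.isAlgSpace_of_isPullback sq hX hY (IsAlgSpace.yon_obj _)
  intro x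
  let Z' : Over S := hp.rep.pullback g
  let a : Z' ⟶ V := hp.rep.fst' g
  let b : Z' ⟶ Z := hp.rep.snd g
  have sqZ : IsPullback ((yon S).map a) ((yon S).map b) p g := hp.rep.isPullback' g
  have hbs : Surjective b.left := hps.property_snd g
  obtain ⟨z, hz⟩ := Groth.Agent.Lib.Helper54.exists_ofScheme_eq Z (Points.map psnd x)
  obtain ⟨z', hz'⟩ := hbs.surj z
  obtain ⟨_, ⟨W0, hW, rfl⟩, hzW, -⟩ :=
    (Z'.left.isBasis_affineOpens).exists_subset_of_mem_open (Set.mem_univ z') isOpen_univ
  let W : Z'.left.Opens := W0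
  have hWaff : IsAffine (W : Scheme.{u}) := hW
  let ZW : Over S := Over.mk (W.ι ≫ Z'.hom)
  let ι : ZW ⟶ Z' := Over.homMk W.ι rfl
  have sq1 : IsPullback (pullback.fst psnd ((yon S).map (ι ≫ b)))
      (pullback.snd psnd ((yon S).map (ι ≫ b))) psnd ((yon S).map (ι ≫ b)) :=
    IsPullback.of_hasPullback _ _
  set PW := pullback psnd ((yon S).map (ι ≫ b)) with hPW
  set fst1 : PW ⟶ P := pullback.fst psnd ((yon S).map (ι ≫ b)) with hfst1
  set snd1 : PW ⟶ (yon S).obj ZW := pullback.snd psnd ((yon S).map (ι ≫ b)) with hsnd1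
  have hw : (yon S).map (ι ≫ b) ≫ g = (yon S).map (ι ≫ a) ≫ p := by
    rw [Functor.map_comp, Functor.map_comp, Category.assoc, Category.assoc, sqZ.w]
  have big : IsPullback (fst1 ≫ pfst) snd1 f ((yon S).map (ι ≫ a) ≫ p) := by
    rw [← hw]; exact sq1.paste_horiz sq
  let l : PW ⟶ X' := hsq.lift (fst1 ≫ pfst) (snd1 ≫ (yon S).map (ι ≫ a)) (by
    rw [Category.assoc]; exact big.w)
  have hl1 : l ≫ fst = fst1 ≫ pfst := hsq.lift_fst _ _ _
  have hl2 : l ≫ snd = snd1 ≫ (yon S).map (ι ≫ a) := hsq.lift_snd _ _ _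
  have sq2 : IsPullback l snd1 snd ((yon S).map (ι ≫ a)) := by
    refine IsPullback.of_right ?_ hl2 hsq
    rw [hl1]; exact big
  have hdW : IsDecent PW := h _ _ _ sq2
  -- the point of `PW` over `x` and `z'`
  have hpt : Points.map psnd x = Points.map ((yon S).map (ι ≫ b)) (Points.ofScheme ZW ⟨z', hzW⟩) := by
    rw [Groth.Agent.H52.points_map_ofScheme, ← hz]
    congr 1
    exact hz'.symm
  obtain ⟨x', hx'1, -⟩ := Groth.Agent.H52.exists_point_of_isPullback sq1 x _ hpt
  obtain ⟨p', hp'x, -, hp'q⟩ := hdW x'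
  -- `fst1` is quasi-compact
  have hqb : RepWith @QuasiCompact ((yon S).map (ι ≫ b)) := by
    rw [repWith_yon_map_iff]
    change QuasiCompact (W.ι ≫ b.left)
    have : IsAffine (Z.left) := hZ
    have : IsAffine (ZW.left) := hWaff
    have : IsAffineHom ((ι ≫ b).left) := inferInstance
    exact inferInstanceAs (QuasiCompact (ι ≫ b).left)
  have hqf : RepWith @QuasiCompact fst1 :=
    MorphismProperty.of_isPullback sq1.flip hqb
  have hq : RepWith @QuasiCompact (p'.map fst1).toHom := by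
    rw [FieldPt.toHom_map]
    exact MorphismProperty.comp_mem _ _ _ hp'q hqf
  obtain ⟨r, hr1, hr2, hr3⟩ := Groth.Agent.H53.FieldQuot.exists_mono_qc_of_qc hPalg (p'.map fst1) hq
  refine ⟨r, ?_, hr2, hr3⟩
  rw [hr1, ← Points.map_mk, hp'x, hx'1]

/-- Being a decent morphism is étale local on the target. -/
theorem isDecentMor_of_etale_cover {X Y : Space S} (f : X ⟶ Y)
    {V : Over S} (p : (yon S).obj V ⟶ Y.obj) (hp : RepWith @Etale p) (hps : RepWith @Surjective p)
    (X' : Sp S) (fst : X' ⟶ X.obj) (snd : X' ⟶ (yon S).obj V) (hsq : IsPullback fst snd f.hom p)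
    (h : IsDecentMor snd) : IsDecentMor f.hom :=
  Groth.Agent.S10386.result f (fun Z g P pfst psnd hZ sq =>
    isDecent_of_etale_cover X.property Y.property f.hom p hp hps X' fst snd hsq h Z g P pfst psnd hZ sq)

end Groth.Agent.H53.DecentMorLocal
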