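import Mathlib.RingTheory.Flat.Basic
import Mathlib.RingTheory.Ideal.Quotient.Operations
import Mathlib.RingTheory.TensorProduct.Basic
import Mathlib.RingTheory.Ideal.Maps

set_option autoImplicit false
universe u
open TensorProduct

namespace Groth.Agent.H53.DescIdeal

/-- Flat descent for ideals: if `A'` is flat over `A` and `I'` is an ideal of `A'` whose two
extensions to `A' ⊗[A] A'` satisfy `1 ⊗ I' ⊆ (I' ⊗ 1)`, then `I'` is the extension of its
contraction to `A`. -/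
theorem map_comap_eq_of_descent {A A' : Type u} [CommRing A] [CommRing A'] [Algebra A A']
    [Module.Flat A A'] (I' : Ideal A')
    (H : ∀ x ∈ I', (Algebra.TensorProduct.includeRight (R := A) (A := A') (B := A') x) ∈
      Ideal.map (Algebra.TensorProduct.includeLeft : A' →ₐ[A] A' ⊗[A] A') I') :
    Ideal.map (algebraMap A A') (Ideal.comap (algebraMap A A') I') = I' := by
  refine le_antisymm Ideal.map_comap_le fun x hx => ?_
  set I : Ideal A := Ideal.comap (algebraMap A A') I' with hI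
  -- the injective map `A/I → A'/I'`
  let ψ : (A ⧸ I) →ₐ[A] (A' ⧸ I') := Ideal.quotientMapₐ I' (Algebra.ofId A A') (le_refl _)
  have hψ : Function.Injective ψ := by
    have := Ideal.quotientMap_injective (I := I') (f := algebraMap A A')
    exact this
  have hinj : Function.Injective (ψ.toLinearMap.rTensor A') :=
    Module.Flat.rTensor_preserves_injective_linearMap ψ.toLinearMap hψ
  -- the algebra map `A' ⊗ A' → (A'/I') ⊗ A'`
  let Φ : A' ⊗[A] A' →ₐ[A] (A' ⧸ I') ⊗[A] A' :=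
    Algebra.TensorProduct.map (Ideal.Quotient.mkₐ A I') (AlgHom.id A A')
  have hker : Ideal.map (Algebra.TensorProduct.includeLeft : A' →ₐ[A] A' ⊗[A] A') I' ≤
      RingHom.ker Φ.toRingHom := by
    rw [Ideal.map_le_iff_le_comap]
    intro y hy
    change Φ (y ⊗ₜ 1) = 0
    simp only [Φ, Algebra.TensorProduct.map_tmul, Ideal.Quotient.mkₐ_eq_mk, AlgHom.coe_id, id_eq]
    rw [Ideal.Quotient.eq_zero_iff_mem.2 hy, zero_tmul]
  have h1 : Φ (1 ⊗ₜ x) = 0 := hker (H x hx)
  have h2 : ψ.toLinearMap.rTensor A' ((1 : A ⧸ I) ⊗ₜ x) = 0 := by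
    rw [LinearMap.rTensor_tmul]
    simp only [AlgHom.toLinearMap_apply, map_one]
    simpa [Φ] using h1
  have h3 : ((1 : A ⧸ I) ⊗ₜ[A] x) = 0 := hinj (by rw [h2, map_zero])
  -- the map `(A/I) ⊗ A' → A' / I A'`
  let J : Ideal A' := Ideal.map (algebraMap A A') I
  let f₁ : (A ⧸ I) →ₐ[A] (A' ⧸ J) := Ideal.quotientMapₐ J (Algebra.ofId A A') Ideal.le_comap_map
  let f₂ : A' →ₐ[A] (A' ⧸ J) := Ideal.Quotient.mkₐ A J
  let Ψ : (A ⧸ I) ⊗[A] A' →ₐ[A] (A' ⧸ J) :=
    Algebra.TensorProduct.lift f₁ f₂ (fun _ _ => Commute.all _ _)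
  have h4 : Ψ ((1 : A ⧸ I) ⊗ₜ[A] x) = Ideal.Quotient.mk J x := by
    simp [Ψ, f₁, f₂]
  rw [h3, map_zero] at h4
  exact Ideal.Quotient.eq_zero_iff_mem.1 h4.symm

end Groth.Agent.H53.DescIdeal
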