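import Mathlib.RingTheory.KrullDimension.Polynomial
import Mathlib.RingTheory.KrullDimension.Field
import Mathlib.RingTheory.Ideal.KrullsHeightTheorem
import Mathlib.RingTheory.Polynomial.Quotient
import Mathlib.RingTheory.Algebraic.Integral
import Mathlib.RingTheory.FiniteType
import Mathlib.RingTheory.Adjoin.FG
import Mathlib.RingTheory.Localization.Algebra

set_option autoImplicit false
set_option backward.isDefEq.respectTransparency false

namespace Groth.Agent.H53.DimIneq

open Polynomial Ideal

/-- Chains of primes pull back along surjections, with a shift `c` given by a uniform lower bound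
on the heights of the pulled back primes. -/
theorem add_le_height_comap {R E : Type*} [CommRing R] [CommRing E] (ψ : R →+* E)
    (hψ : Function.Surjective ψ) (c : ℕ)
    (hc : ∀ q : Ideal E, q.IsPrime → (c : ℕ∞) ≤ (q.comap ψ).height) :
    ∀ (n : ℕ) (q : Ideal E) [q.IsPrime], (n : ℕ∞) ≤ q.height →
      ((n + c : ℕ) : ℕ∞) ≤ (q.comap ψ).height := by
  intro n
  induction n with
  | zero => intro q _ _; simpa using hc q inferInstance
  | succ n ih =>
    intro q _ hq
    have h1 : ¬ q.height ≤ n := by
      intro h
      have := hq.trans h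
      norm_cast at this
      omega
    rw [Ideal.height_le_iff] at h1
    push Not at h1
    obtain ⟨q', hq'p, hq'lt, hq'h⟩ := h1
    have h2 := ih q' hq'h
    have hlt : q'.comap ψ < q.comap ψ :=
      lt_of_le_of_ne (Ideal.comap_mono hq'lt.le)
        (fun e => hq'lt.ne (Ideal.comap_injective_of_surjective ψ hψ e))
    have h3 := Ideal.height_add_one_le_of_lt_of_isPrime hlt
    calc ((n + 1 + c : ℕ) : ℕ∞) = ((n + c : ℕ) : ℕ∞) + 1 := by push_cast; ring
      _ ≤ (q'.comap ψ).height + 1 := by gcongr
      _ ≤ _ := h3

theorem height_le_height_comap_of_surjective {R E : Type*} [CommRing R] [CommRing E] (ψ : R →+* E)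
    (hψ : Function.Surjective ψ) (q : Ideal E) [q.IsPrime] : q.height ≤ (q.comap ψ).height := by
  rw [← ENat.forall_natCast_le_iff_le]
  intro n hn
  simpa using add_le_height_comap ψ hψ 0 (fun _ _ => by simp) n q hn

/-- In a polynomial ring over a domain, primes lying over `0` have height at most one. -/
theorem height_le_one_of_comap_C_eq_bot {D : Type*} [CommRing D] [IsDomain D] (Q : Ideal D[X])
    [Q.IsPrime] (hQ : Q.comap (C : D →+* D[X]) = ⊥) : Q.height ≤ 1 := by
  let K := FractionRing D
  let _ := Polynomial.algebra (R := D) (A := K)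
  have : IsLocalization ((nonZeroDivisors D).map (C : D →+* D[X])) K[X] :=
    Polynomial.isLocalization (nonZeroDivisors D) K
  have hdisj : Disjoint (((nonZeroDivisors D).map (C : D →+* D[X]) : Submonoid D[X]) : Set D[X])
      (Q : Set D[X]) := by
    rw [Set.disjoint_left]
    rintro _ ⟨a, ha, rfl⟩ haQ
    have : a ∈ Q.comap (C : D →+* D[X]) := haQ
    rw [hQ, Ideal.mem_bot] at this
    exact nonZeroDivisors.ne_zero ha this
  have h1 := IsLocalization.height_map_of_disjoint (S := K[X])
    ((nonZeroDivisors D).map (C : D →+* D[X])) Q hdisj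
  rw [← h1]
  have hprime : (Q.map (algebraMap D[X] K[X])).IsPrime :=
    IsLocalization.isPrime_of_isPrime_disjoint _ _ _ inferInstance hdisj
  have h2 := Ideal.height_le_ringKrullDim_of_ne_top hprime.ne_top
  rw [Polynomial.ringKrullDim_of_isNoetherianRing, ringKrullDim_eq_zero_of_field] at h2
  have h3 : ((Q.map (algebraMap D[X] K[X])).height : WithBot ℕ∞) ≤ ((1 : ℕ∞) : WithBot ℕ∞) := by
    simpa using h2
  exact_mod_cast h3

/-- Primes of `A[X]` over `p` have height at most `ht p + 1`. -/
theorem height_le_height_add_one {A : Type*} [CommRing A] [IsNoetherianRing A] (p : Ideal A)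
    [p.IsPrime] (P : Ideal A[X]) [P.IsPrime] (hP : P.comap (C : A →+* A[X]) = p) :
    P.height ≤ p.height + 1 := by
  haveI : P.LiesOver p := ⟨hP.symm⟩
  refine (Ideal.height_le_height_add_of_liesOver p P).trans ?_
  gcongr
  set J := P.map (Ideal.Quotient.mk (p.map (algebraMap A A[X]))) with hJ
  have hle : p.map (algebraMap A A[X]) ≤ P := by
    rw [Ideal.map_le_iff_le_comap, ← hP]; rfl
  haveI hJp : J.IsPrime := by
    apply Ideal.map_isPrime_of_surjective Ideal.Quotient.mk_surjective
    rw [Ideal.mk_ker]; exact hle
  let e := Ideal.polynomialQuotientEquivQuotientPolynomial p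
  have h1 : (J.comap (e : (A ⧸ p)[X] →+* _)).height = J.height := RingEquiv.height_comap e J
  rw [← h1]
  apply height_le_one_of_comap_C_eq_bot
  rw [eq_bot_iff]
  intro a ha
  obtain ⟨a₀, rfl⟩ := Ideal.Quotient.mk_surjective a
  rw [Ideal.mem_bot, Ideal.Quotient.eq_zero_iff_mem, ← hP]
  have h2 : e (C (Ideal.Quotient.mk p a₀)) ∈ J := ha
  have h3 : e (C (Ideal.Quotient.mk p a₀)) = Ideal.Quotient.mk _ (C a₀) := by
    rw [← Polynomial.map_C (Ideal.Quotient.mk p)]
    exact Ideal.polynomialQuotientEquivQuotientPolynomial_map_mk p (C a₀)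
  rw [h3] at h2
  have h2' : Ideal.Quotient.mk (p.map (algebraMap A A[X])) (C a₀) ∈
      P.map (Ideal.Quotient.mk (p.map (algebraMap A A[X]))) := h2
  rw [Ideal.mem_quotient_iff_mem hle] at h2'
  exact h2'

/-- One generator: `ht q ≤ ht (q ∩ A)` for `B = A[x]` with `x` algebraic, `A ⊆ B` domains. -/
theorem height_le_height_under_of_aeval_surjective {A B : Type*} [CommRing A] [IsDomain A]
    [IsNoetherianRing A] [CommRing B] [IsDomain B] [Algebra A B]
    (x : B) (hx : IsAlgebraic A x)
    (hsurj : Function.Surjective (aeval x : A[X] →ₐ[A] B)) (q : Ideal B) [q.IsPrime] :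
    q.height ≤ (q.under A).height := by
  set φ : A[X] →+* B := (aeval x : A[X] →ₐ[A] B).toRingHom with hφ
  have hφs : Function.Surjective φ := hsurj
  have hker : RingHom.ker φ ≠ ⊥ := by
    obtain ⟨f, hf0, hf⟩ := hx
    intro h
    have : f ∈ RingHom.ker φ := hf
    rw [h, Ideal.mem_bot] at this
    exact hf0 this
  have hcomp : ∀ a : A, φ (C a) = algebraMap A B a := fun a => by simp [hφ]
  have hc : ∀ q' : Ideal B, q'.IsPrime → ((1 : ℕ) : ℕ∞) ≤ (q'.comap φ).height := by
    intro q' _
    rw [Nat.cast_one, Order.one_le_iff_ne_zero, Ne, Ideal.height_eq_zero_iff_eq_bot]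
    intro h
    apply hker
    rw [eq_bot_iff, ← h]
    intro f hf
    rw [Ideal.mem_comap, (RingHom.mem_ker).1 hf]
    exact zero_mem _
  have hP : (q.comap φ).comap (C : A →+* A[X]) = q.under A := by
    ext a
    simp only [Ideal.mem_comap, Ideal.under_def, hcomp]
  have h1 := height_le_height_add_one (q.under A) (q.comap φ) hP
  rw [← ENat.forall_natCast_le_iff_le]
  intro n hn
  have h2 := add_le_height_comap φ hφs 1 hc n q hn
  have h3 := h2.trans h1
  have h4 : ((n : ℕ∞) + 1) ≤ (q.under A).height + 1 := by exact_mod_cast h3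
  exact (ENat.add_le_add_iff_right (by simp)).1 h4

/-- Generator induction. -/
theorem height_le_height_under_adjoin {A B : Type*} [CommRing A] [IsDomain A]
    [IsNoetherianRing A] [CommRing B] [IsDomain B] [Algebra A B]
    (hinj : Function.Injective (algebraMap A B))
    [Algebra.IsAlgebraic A B] (s : Finset B) :
    ∀ (q : Ideal (Algebra.adjoin A (s : Set B))) [q.IsPrime], q.height ≤ (q.under A).height := by
  classical
  induction s using Finset.induction_on with
  | empty =>
    intro q _
    apply height_le_height_comap_of_surjective (algebraMap A (Algebra.adjoin A ((∅ : Finset B) : Set B)))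
    rintro ⟨y, hy⟩
    have hy' : y ∈ (⊥ : Subalgebra A B) := by
      simpa using hy
    obtain ⟨a, rfl⟩ := Algebra.mem_bot.1 hy'
    exact ⟨a, rfl⟩
  | insert x s hxs ih =>
    have hle : Algebra.adjoin A (s : Set B) ≤ Algebra.adjoin A ((insert x s : Finset B) : Set B) :=
      Algebra.adjoin_mono (by simp)
    have hxmem : x ∈ Algebra.adjoin A ((insert x s : Finset B) : Set B) :=
      Algebra.subset_adjoin (by simp)
    have hmin : ∀ R' : Subalgebra A B, ((insert x s : Finset B) : Set B) ⊆ R' →
        Algebra.adjoin A ((insert x s : Finset B) : Set B) ≤ R' := fun R' h => Algebra.adjoin_le h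
    generalize Algebra.adjoin A ((insert x s : Finset B) : Set B) = C₁ at hle hxmem hmin ⊢
    have hFG : (Algebra.adjoin A (s : Set B)).FG := Subalgebra.fg_adjoin_finset s
    have hsub : (s : Set B) ⊆ Algebra.adjoin A (s : Set B) := Algebra.subset_adjoin
    generalize Algebra.adjoin A (s : Set B) = C₀ at hle ih hFG hsub ⊢
    intro q _
    let j : C₀ →ₐ[A] C₁ := Subalgebra.inclusion hle
    letI : Algebra C₀ C₁ := j.toRingHom.toAlgebra
    haveI : IsScalarTower A C₀ C₁ := IsScalarTower.of_algebraMap_eq (fun a => (j.commutes a).symm)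
    haveI : Algebra.FiniteType A C₀ := (Subalgebra.fg_iff_finiteType C₀).1 hFG
    haveI : IsNoetherianRing C₀ := Algebra.FiniteType.isNoetherianRing A C₀
    let x' : C₁ := ⟨x, hxmem⟩
    have hinj₀ : Function.Injective (algebraMap A C₀) := by
      intro a b hab
      apply hinj
      exact congrArg Subtype.val hab
    have hx' : IsAlgebraic C₀ x' := by
      have h1 : IsAlgebraic A x := Algebra.IsAlgebraic.isAlgebraic x
      have h2 : IsAlgebraic A x' := by
        rw [← isAlgebraic_algebraMap_iff (A := B) (Subtype.val_injective)]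
        exact h1
      exact h2.extendScalars hinj₀
    have hsurj : Function.Surjective (aeval x' : C₀[X] →ₐ[C₀] C₁) := by
      -- the image in `B` of the range is a subalgebra containing the generators
      let R' : Subalgebra A B := ((aeval x' : C₀[X] →ₐ[C₀] C₁).restrictScalars A).range.map C₁.val
      have hgen : ((insert x s : Finset B) : Set B) ⊆ R' := by
        intro z hz
        simp only [Finset.coe_insert, Set.mem_insert_iff, Finset.mem_coe] at hz
        rcases hz with rfl | hz
        · exact ⟨x', ⟨X, aeval_X x'⟩, rfl⟩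
        · have hzC : z ∈ C₀ := hsub hz
          refine ⟨⟨z, hle hzC⟩, ⟨C ⟨z, hzC⟩, ?_⟩, rfl⟩
          exact aeval_C x' _
      have hle' : C₁ ≤ R' := hmin R' hgen
      rintro ⟨y, hy⟩
      obtain ⟨y', ⟨f, hf⟩, hy'⟩ := hle' hy
      refine ⟨f, ?_⟩
      apply Subtype.ext
      have : (aeval x' f : C₁) = y' := hf
      rw [this]
      exact hy'
    have h1 := height_le_height_under_of_aeval_surjective x' hx' hsurj q
    have h2 := ih (q.under C₀)
    rw [Ideal.under_under] at h2
    exact h1.trans h2

/-- The dimension inequality (without the residue field term) for finitely generated algebraic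
extensions of domains with Noetherian base. -/
theorem height_le_height_under {A B : Type*} [CommRing A] [IsDomain A]
    [IsNoetherianRing A] [CommRing B] [IsDomain B] [Algebra A B]
    (hinj : Function.Injective (algebraMap A B))
    [Algebra.IsAlgebraic A B] [Algebra.FiniteType A B] (q : Ideal B) [q.IsPrime] :
    q.height ≤ (q.under A).height := by
  obtain ⟨s, hs⟩ := (Algebra.FiniteType.out : (⊤ : Subalgebra A B).FG)
  have key := height_le_height_under_adjoin hinj s
  generalize Algebra.adjoin A (s : Set B) = C₀ at hs key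
  have hsurj : Function.Surjective (C₀.val : C₀ →+* B) := by
    intro b
    exact ⟨⟨b, by rw [hs]; exact Algebra.mem_top⟩, rfl⟩
  have h1 := height_le_height_comap_of_surjective (C₀.val : C₀ →+* B) hsurj q
  have h2 := key (q.comap (C₀.val : C₀ →+* B))
  have h3 : (q.comap (C₀.val : C₀ →+* B)).under A = q.under A := by
    ext a
    rfl
  rw [h3] at h2
  exact h1.trans h2

end Groth.Agent.H53.DimIneq
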