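import Groth.Agent.H53.DimIneq
import Mathlib.RingTheory.QuasiFinite.Basic
import Mathlib.RingTheory.LocalRing.ResidueField.Instances

set_option autoImplicit false
set_option backward.isDefEq.respectTransparency false

namespace Groth.Agent.H53.DimIneq

open Polynomial Ideal

/-- Quasi-finiteness at a prime gives algebraicity of the quotient domains. -/
theorem isAlgebraic_quotient_of_quasiFiniteAt {A B : Type*} [CommRing A] [CommRing B] [Algebra A B]
    (q : Ideal B) [q.IsPrime] [Algebra.QuasiFiniteAt A q] (p : Ideal A) [p.IsPrime]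
    [q.LiesOver p] : Algebra.IsAlgebraic (A ⧸ p) (B ⧸ q) := by
  let _ := Localization.AtPrime.algebraOfLiesOver p q
  have hfin : Module.Finite p.ResidueField q.ResidueField := inferInstance
  have halg : Algebra.IsAlgebraic p.ResidueField q.ResidueField := Algebra.IsAlgebraic.of_finite _ _
  let _ := ((algebraMap (B ⧸ q) q.ResidueField).comp (algebraMap (A ⧸ p) (B ⧸ q))).toAlgebra
  have : IsScalarTower (A ⧸ p) (B ⧸ q) q.ResidueField := .of_algebraMap_eq' rfl
  have : IsScalarTower (A ⧸ p) p.ResidueField q.ResidueField := by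
    refine .of_algebraMap_eq fun x ↦ ?_
    obtain ⟨x, rfl⟩ := Ideal.Quotient.mk_surjective x
    simp [RingHom.algebraMap_toAlgebra, ← IsScalarTower.algebraMap_apply]
  have : Algebra.IsAlgebraic (A ⧸ p) q.ResidueField := .trans _ p.ResidueField _
  constructor
  intro b
  rw [← isAlgebraic_algebraMap_iff (A := q.ResidueField)
    (Ideal.injective_algebraMap_quotient_residueField q)]
  exact Algebra.IsAlgebraic.isAlgebraic _

/-- If `A → B` is of finite type with `A` Noetherian, quasi-finite at `q₀ ≤ q`, then the height of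
`q / q₀` is at most the height of `q ∩ A`. -/
theorem height_map_quotient_le_of_quasiFiniteAt {A B : Type*} [CommRing A] [IsNoetherianRing A]
    [CommRing B] [Algebra A B] [Algebra.FiniteType A B] (q₀ q : Ideal B) [q₀.IsPrime] [q.IsPrime]
    (hle : q₀ ≤ q) [Algebra.QuasiFiniteAt A q₀] :
    (q.map (Ideal.Quotient.mk q₀)).height ≤ (q.under A).height := by
  set p₀ := q₀.under A with hp₀
  haveI : (q.map (Ideal.Quotient.mk q₀)).IsPrime := by
    apply Ideal.map_isPrime_of_surjective Ideal.Quotient.mk_surjective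
    rw [Ideal.mk_ker]; exact hle
  haveI : Algebra.IsAlgebraic (A ⧸ p₀) (B ⧸ q₀) := isAlgebraic_quotient_of_quasiFiniteAt q₀ p₀
  haveI : Algebra.FiniteType A (B ⧸ q₀) :=
    Algebra.FiniteType.of_surjective (Ideal.Quotient.mkₐ A q₀) Ideal.Quotient.mk_surjective
  haveI : Algebra.FiniteType (A ⧸ p₀) (B ⧸ q₀) :=
    Algebra.FiniteType.of_restrictScalars_finiteType A (A ⧸ p₀) (B ⧸ q₀)
  have hinj : Function.Injective (algebraMap (A ⧸ p₀) (B ⧸ q₀)) :=
    FaithfulSMul.algebraMap_injective _ _
  have h1 := height_le_height_under hinj (q.map (Ideal.Quotient.mk q₀))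
  refine h1.trans ?_
  have h2 := height_le_height_comap_of_surjective (Ideal.Quotient.mk p₀)
    Ideal.Quotient.mk_surjective ((q.map (Ideal.Quotient.mk q₀)).under (A ⧸ p₀))
  refine h2.trans (le_of_eq ?_)
  congr 1
  ext a
  simp only [Ideal.mem_comap, Ideal.under_def, Ideal.Quotient.algebraMap_mk_of_liesOver]
  rw [Ideal.mem_quotient_iff_mem hle]

/-- The key consequence used for codimension one points. -/
theorem eq_or_eq_of_le_of_le_of_quasiFiniteAt {A B : Type*} [CommRing A] [IsNoetherianRing A]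
    [CommRing B] [Algebra A B] [Algebra.FiniteType A B] (q₀ q' q : Ideal B) [q₀.IsPrime]
    [q'.IsPrime] [q.IsPrime] (h₀ : q₀ ≤ q') (h₁ : q' ≤ q) [Algebra.QuasiFiniteAt A q₀]
    (hht : (q.under A).height ≤ 1) : q' = q₀ ∨ q' = q := by
  by_contra hne
  push Not at hne
  obtain ⟨hne₀, hne₁⟩ := hne
  have hle : q₀ ≤ q := h₀.trans h₁
  haveI : (q.map (Ideal.Quotient.mk q₀)).IsPrime := by
    apply Ideal.map_isPrime_of_surjective Ideal.Quotient.mk_surjective
    rw [Ideal.mk_ker]; exact hle
  haveI : (q'.map (Ideal.Quotient.mk q₀)).IsPrime := by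
    apply Ideal.map_isPrime_of_surjective Ideal.Quotient.mk_surjective
    rw [Ideal.mk_ker]; exact h₀
  have hcm : ∀ I : Ideal B, q₀ ≤ I → (I.map (Ideal.Quotient.mk q₀)).comap (Ideal.Quotient.mk q₀) = I := by
    intro I hI
    rw [Ideal.comap_map_of_surjective _ Ideal.Quotient.mk_surjective, ← RingHom.ker_eq_comap_bot,
      Ideal.mk_ker, sup_eq_left.2 hI]
  have hlt : q'.map (Ideal.Quotient.mk q₀) < q.map (Ideal.Quotient.mk q₀) := by
    refine lt_of_le_of_ne (Ideal.map_mono h₁) (fun e => hne₁ ?_)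
    rw [← hcm q' h₀, e, hcm q hle]
  have h2 := Ideal.height_add_one_le_of_lt_of_isPrime hlt
  have h3 := (height_map_quotient_le_of_quasiFiniteAt (A := A) q₀ q hle).trans hht
  have h4 : (q'.map (Ideal.Quotient.mk q₀)).height = 0 := by
    have h5 := h2.trans h3
    have h6 : (q'.map (Ideal.Quotient.mk q₀)).height + 1 ≤ 0 + 1 := by simpa using h5
    have := (ENat.add_le_add_iff_right (by simp)).1 h6
    exact le_antisymm this bot_le
  rw [Ideal.height_eq_zero_iff_eq_bot, Ideal.map_eq_bot_iff_le_ker, Ideal.mk_ker] at h4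
  exact hne₀ (le_antisymm h4 h₀)

end Groth.Agent.H53.DimIneq
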