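import Groth.Agent.H53.DimIneq2

set_option autoImplicit false
set_option backward.isDefEq.respectTransparency false

namespace Groth.Agent.H53.DimIneq

open Polynomial Ideal

/-- Algebraicity of residue fields gives algebraicity of the quotient domains. -/
theorem isAlgebraic_quotient_of_residueField {A B : Type*} [CommRing A] [CommRing B] [Algebra A B]
    (q : Ideal B) [q.IsPrime] (p : Ideal A) [p.IsPrime] [q.LiesOver p]
    [Algebra (Localization.AtPrime p) (Localization.AtPrime q)]
    [Localization.AtPrime.IsLiesOverAlgebra p q]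
    [halg : Algebra.IsAlgebraic p.ResidueField q.ResidueField] :
    Algebra.IsAlgebraic (A ⧸ p) (B ⧸ q) := by
  let _ := ((algebraMap (B ⧸ q) q.ResidueField).comp (algebraMap (A ⧸ p) (B ⧸ q))).toAlgebra
  have : IsScalarTower (A ⧸ p) (B ⧸ q) q.ResidueField := .of_algebraMap_eq' rfl
  have : IsScalarTower (A ⧸ p) p.ResidueField q.ResidueField := by
    refine .of_algebraMap_eq fun x ↦ ?_
    obtain ⟨x, rfl⟩ := Ideal.Quotient.mk_surjective x
    simp [RingHom.algebraMap_toAlgebra, ← IsScalarTower.algebraMap_apply]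
  have : Algebra.IsAlgebraic (A ⧸ p) q.ResidueField := .trans _ p.ResidueField _
  constructor
  intro b
  rw [← isAlgebraic_algebraMap_iff (A := q.ResidueField)
    (Ideal.injective_algebraMap_quotient_residueField q)]
  exact Algebra.IsAlgebraic.isAlgebraic _

/-- The dimension inequality for a finite type algebra over a Noetherian ring, relative to a prime
`q₀` over `p₀` with algebraic residue field extension. -/
theorem height_map_quotient_le_of_isAlgebraic {A B : Type*} [CommRing A] [IsNoetherianRing A]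
    [CommRing B] [Algebra A B] [Algebra.FiniteType A B] (p₀ : Ideal A) [p₀.IsPrime]
    (q₀ q : Ideal B) [q₀.IsPrime] [q.IsPrime] [q₀.LiesOver p₀]
    (hle : q₀ ≤ q) [Algebra.IsAlgebraic (A ⧸ p₀) (B ⧸ q₀)] :
    (q.map (Ideal.Quotient.mk q₀)).height ≤
      ((q.under A).map (Ideal.Quotient.mk p₀)).height := by
  haveI : (q.map (Ideal.Quotient.mk q₀)).IsPrime := by
    apply Ideal.map_isPrime_of_surjective Ideal.Quotient.mk_surjective
    rw [Ideal.mk_ker]; exact hle
  haveI : Algebra.FiniteType A (B ⧸ q₀) :=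
    Algebra.FiniteType.of_surjective (Ideal.Quotient.mkₐ A q₀) Ideal.Quotient.mk_surjective
  haveI : Algebra.FiniteType (A ⧸ p₀) (B ⧸ q₀) :=
    Algebra.FiniteType.of_restrictScalars_finiteType A (A ⧸ p₀) (B ⧸ q₀)
  have hinj : Function.Injective (algebraMap (A ⧸ p₀) (B ⧸ q₀)) :=
    FaithfulSMul.algebraMap_injective _ _
  have h1 := height_le_height_under hinj (q.map (Ideal.Quotient.mk q₀))
  refine h1.trans (le_of_eq ?_)
  congr 1
  have hp₀ : p₀ ≤ q.under A := by
    rw [q₀.over_def p₀]
    exact Ideal.comap_mono hle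
  ext x
  obtain ⟨a, rfl⟩ := Ideal.Quotient.mk_surjective x
  rw [Ideal.mem_quotient_iff_mem hp₀]
  simp only [Ideal.mem_comap, Ideal.under_def, Ideal.Quotient.algebraMap_mk_of_liesOver]
  rw [Ideal.mem_quotient_iff_mem hle]

/-- Key consequence: no proper specializations `q' < q` inside the fibre over a prime of height
at most one, below which there is a prime `q₀` with algebraic residue field extension. -/
theorem eq_of_le_of_le_of_isAlgebraic {A B : Type*} [CommRing A] [IsNoetherianRing A]
    [CommRing B] [Algebra A B] [Algebra.FiniteType A B] (p₀ : Ideal A) [p₀.IsPrime]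
    (q₀ q' q : Ideal B) [q₀.IsPrime] [q'.IsPrime] [q.IsPrime] [q₀.LiesOver p₀]
    [Algebra.IsAlgebraic (A ⧸ p₀) (B ⧸ q₀)] (h₀ : q₀ ≤ q') (h₁ : q' ≤ q)
    (hu : q'.under A = q.under A) (hht : (q.under A).height ≤ 1) : q' = q := by
  have hle : q₀ ≤ q := h₀.trans h₁
  haveI : (q.map (Ideal.Quotient.mk q₀)).IsPrime := by
    apply Ideal.map_isPrime_of_surjective Ideal.Quotient.mk_surjective
    rw [Ideal.mk_ker]; exact hle
  haveI : (q'.map (Ideal.Quotient.mk q₀)).IsPrime := by
    apply Ideal.map_isPrime_of_surjective Ideal.Quotient.mk_surjective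
    rw [Ideal.mk_ker]; exact h₀
  have hp₀ : p₀ ≤ q.under A := by
    rw [q₀.over_def p₀]
    exact Ideal.comap_mono hle
  haveI : ((q.under A).map (Ideal.Quotient.mk p₀)).IsPrime := by
    apply Ideal.map_isPrime_of_surjective Ideal.Quotient.mk_surjective
    rw [Ideal.mk_ker]; exact hp₀
  have hcm : ∀ I : Ideal B, q₀ ≤ I →
      (I.map (Ideal.Quotient.mk q₀)).comap (Ideal.Quotient.mk q₀) = I := by
    intro I hI
    rw [Ideal.comap_map_of_surjective _ Ideal.Quotient.mk_surjective, ← RingHom.ker_eq_comap_bot,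
      Ideal.mk_ker, sup_eq_left.2 hI]
  have hcm' : ((q.under A).map (Ideal.Quotient.mk p₀)).comap (Ideal.Quotient.mk p₀) = q.under A := by
    rw [Ideal.comap_map_of_surjective _ Ideal.Quotient.mk_surjective, ← RingHom.ker_eq_comap_bot,
      Ideal.mk_ker, sup_eq_left.2 hp₀]
  have hP : ((q.under A).map (Ideal.Quotient.mk p₀)).height ≤ 1 := by
    refine le_trans ?_ hht
    have := height_le_height_comap_of_surjective (Ideal.Quotient.mk p₀)
      Ideal.Quotient.mk_surjective ((q.under A).map (Ideal.Quotient.mk p₀))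
    rwa [hcm'] at this
  have hQ := height_map_quotient_le_of_isAlgebraic p₀ q₀ q hle
  have hQ' := height_map_quotient_le_of_isAlgebraic p₀ q₀ q' h₀
  rw [hu] at hQ'
  by_cases hbot : (q.under A).map (Ideal.Quotient.mk p₀) = ⊥
  · -- then `q = q₀`
    rw [hbot, Ideal.height_bot] at hQ
    have h4 : (q.map (Ideal.Quotient.mk q₀)).height = 0 := le_antisymm hQ bot_le
    rw [Ideal.height_eq_zero_iff_eq_bot, Ideal.map_eq_bot_iff_le_ker, Ideal.mk_ker] at h4
    exact le_antisymm h₁ (h4.trans h₀)
  · by_contra hne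
    have hlt : q'.map (Ideal.Quotient.mk q₀) < q.map (Ideal.Quotient.mk q₀) := by
      refine lt_of_le_of_ne (Ideal.map_mono h₁) (fun e => hne ?_)
      rw [← hcm q' h₀, e, hcm q hle]
    have h2 := Ideal.height_add_one_le_of_lt_of_isPrime hlt
    have h4 : (q'.map (Ideal.Quotient.mk q₀)).height = 0 := by
      have h5 := h2.trans (hQ.trans hP)
      have h6 : (q'.map (Ideal.Quotient.mk q₀)).height + 1 ≤ 0 + 1 := by simpa using h5
      have := (ENat.add_le_add_iff_right (by simp)).1 h6
      exact le_antisymm this bot_le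
    rw [Ideal.height_eq_zero_iff_eq_bot, Ideal.map_eq_bot_iff_le_ker, Ideal.mk_ker] at h4
    -- so `q' = q₀`, hence `q.under A = p₀`
    have e1 : q' = q₀ := le_antisymm h4 h₀
    apply hbot
    rw [← hu, e1, ← q₀.over_def p₀, Ideal.map_quotient_self]

end Groth.Agent.H53.DimIneq
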