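import Groth.Agent.S10534
import Groth.Agent.S10505
import Groth.Agent.Lib.Helper54.FpqcCover
import Groth.Agent.Lib.Helper54.LocPCalc
import Groth.Agent.Lib.Helper54.SourceLocal2
import Groth.Agent.H53.ResidualClosed
import Groth.Agent.H52.FibreProd

set_option autoImplicit false
set_option backward.isDefEq.respectTransparency false
universe u
open CategoryTheory CategoryTheory.Limits AlgebraicGeometry Opposite Topology TopologicalSpace
open AlgSp

namespace Groth.Agent.H53.DistSq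

variable {S : Scheme.{u}}

/-- A morphism representable by preimmersions which is closed on points is a closed immersion. -/
theorem repWith_isClosedImmersion_of_isPreimmersion {F G : Sp S} (c : F ⟶ G)
    (h : RepWith @IsPreimmersion c) (hcl : IsClosedMor c) : RepWith @IsClosedImmersion c := by
  refine ⟨h.rep, fun a b g fst snd sq => ?_⟩
  have h1 : IsPreimmersion snd.left := h.property g fst snd sq
  change IsClosedImmersion snd.left
  apply IsClosedImmersion.of_isPreimmersion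
  rw [Groth.Agent.H53.ResidualClosed.range_eq_preimage_range c g fst snd sq]
  exact (IsClosedMap.isClosed_range hcl).preimage (Points.continuous_ofPt g)

/-- The product family of an fpqc covering family refines maps to the self fibre product. -/
theorem fpqcRefines_prod {X Y : Sp S} (g : X ⟶ Y) {ι : Type u} (A : ι → Sp S) (a : ∀ i, A i ⟶ X)
    (hcov : ∀ (Z : Over S), IsAffine Z.left → ∀ t : (yon S).obj Z ⟶ X,
      Groth.Agent.Lib.Helper54.FpqcRefines a Z t)
    (Z : Over S) (hZ : IsAffine Z.left) (t : (yon S).obj Z ⟶ pullback g g) :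
    Groth.Agent.Lib.Helper54.FpqcRefines (Y := fun ik : ι × ι => pullback (a ik.1 ≫ g) (a ik.2 ≫ g))
      (fun ik => pullback.map (a ik.1 ≫ g) (a ik.2 ≫ g) g g (a ik.1) (a ik.2) (𝟙 Y)
        (Category.comp_id _) (Category.comp_id _)) Z t := by
  obtain ⟨m, W, c, haff, hflat, hsurj, hlift⟩ := hcov Z hZ (t ≫ pullback.fst g g)
  refine Groth.Agent.Lib.Helper54.fpqcRefines_trans _ Z t W c hflat hsurj (fun j => ?_)
  obtain ⟨i, l, hl⟩ := hlift j
  obtain ⟨m', W', c', haff', hflat', hsurj', hlift'⟩ :=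
    hcov (W j) (haff j) ((yon S).map (c j) ≫ t ≫ pullback.snd g g)
  refine ⟨m', W', c', haff', hflat', hsurj', fun j' => ?_⟩
  obtain ⟨k, l', hl'⟩ := hlift' j'
  refine ⟨(i, k), pullback.lift ((yon S).map (c' j') ≫ l) l' ?_, ?_⟩
  · rw [Category.assoc, ← Category.assoc l, hl, ← Category.assoc l', hl']
    simp only [Category.assoc]
    rw [pullback.condition]
  · apply pullback.hom_ext
    · simp only [Category.assoc, pullback.lift_fst, pullback.lift_fst_assoc]
      rw [hl]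
    · simp only [Category.assoc, pullback.lift_snd, pullback.lift_snd_assoc]
      rw [hl']
      
/-- The product of two flat maps over a base is flat (on charts). -/
theorem locP_flat_pullback_map {X Y A₁ A₂ : Sp S} (hX : IsAlgSpace X) (hY : IsAlgSpace Y)
    (hA₁ : IsAlgSpace A₁) (hA₂ : IsAlgSpace A₂) (g : X ⟶ Y) (a₁ : A₁ ⟶ X) (a₂ : A₂ ⟶ X)
    (h₁ : LocP @Flat a₁) (h₂ : LocP @Flat a₂) :
    LocP @Flat (pullback.map (a₁ ≫ g) (a₂ ≫ g) g g a₁ a₂ (𝟙 Y)
        (Category.comp_id _) (Category.comp_id _)) := by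
  have hfl := Groth.Agent.Lib.Helper54.etLocal_flat.{u}
  -- first factor
  let G₁ : pullback (a₁ ≫ g) (a₂ ≫ g) ⟶ pullback g (a₂ ≫ g) :=
    pullback.map (a₁ ≫ g) (a₂ ≫ g) g (a₂ ≫ g) a₁ (𝟙 _) (𝟙 Y) (Category.comp_id _) (by simp)
  let G₂ : pullback g (a₂ ≫ g) ⟶ pullback g g :=
    pullback.map g (a₂ ≫ g) g g (𝟙 _) a₂ (𝟙 Y) (by simp) (Category.comp_id _)
  have hG : pullback.map (a₁ ≫ g) (a₂ ≫ g) g g a₁ a₂ (𝟙 Y)
        (Category.comp_id _) (Category.comp_id _) = G₁ ≫ G₂ := by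
    apply pullback.hom_ext <;> simp [G₁, G₂]
  have hM : IsAlgSpace (pullback g (a₂ ≫ g)) :=
    Groth.Agent.H52.isAlgSpace_of_isPullback (IsPullback.of_hasPullback g (a₂ ≫ g)) hX hY hA₂
  have hW : IsAlgSpace (pullback g g) :=
    Groth.Agent.H52.isAlgSpace_of_isPullback (IsPullback.of_hasPullback g g) hX hY hX
  have sq₁ : IsPullback (pullback.fst (a₁ ≫ g) (a₂ ≫ g)) G₁ a₁ (pullback.fst g (a₂ ≫ g)) := by
    refine IsPullback.of_bot ?_ (by simp [G₁]) (IsPullback.of_hasPullback g (a₂ ≫ g))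
    have : G₁ ≫ pullback.snd g (a₂ ≫ g) = pullback.snd (a₁ ≫ g) (a₂ ≫ g) := by simp [G₁]
    rw [this]
    exact IsPullback.of_hasPullback (a₁ ≫ g) (a₂ ≫ g)
  have sq₂ : IsPullback (pullback.snd g (a₂ ≫ g)) G₂ a₂ (pullback.snd g g) := by
    refine IsPullback.of_bot ?_ (by simp [G₂]) (IsPullback.of_hasPullback g g).flip
    have : G₂ ≫ pullback.fst g g = pullback.fst g (a₂ ≫ g) := by simp [G₂]
    rw [this]
    exact (IsPullback.of_hasPullback g (a₂ ≫ g)).flip
  have hG₁ : LocP @Flat G₁ :=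
    Groth.Agent.Lib.Helper54.locP_of_isPullback_of_isAlgSpace hfl hA₁ hX sq₁ h₁
  have hG₂ : LocP @Flat G₂ :=
    Groth.Agent.Lib.Helper54.locP_of_isPullback_of_isAlgSpace hfl hA₂ hX sq₂ h₂
  rw [hG]
  obtain ⟨V, q, hqe, hqs⟩ := hM.atlas
  exact Groth.Agent.Lib.Helper54.locP_comp hfl G₁ G₂ q hqe hqs hG₁ hG₂


/-- Separatedness can be checked on the pairwise fibre products of an fpqc covering of the source. -/
theorem isSeparatedMor_of_fpqc_cover {X Y : Sp S} (hX : IsAlgSpace X) (hY : IsAlgSpace Y) (g : X ⟶ Y)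
    {ι : Type u} (A : ι → Sp S) (a : ∀ i, A i ⟶ X) (hA : ∀ i, IsAlgSpace (A i))
    (hcov : IsFpqcCover A a)
    (h : ∀ i k, RepWith @IsClosedImmersion
      (pullback.map (a i) (a k) (a i ≫ g) (a k ≫ g) (𝟙 _) (𝟙 _) g (Category.id_comp _).symm
        (Category.id_comp _).symm)) :
    IsSeparatedMor g := by
  have hW : IsAlgSpace (pullback g g) :=
    Groth.Agent.H52.isAlgSpace_of_isPullback (IsPullback.of_hasPullback g g) hX hY hX
  have hcovW : IsFpqcCover (fun ik : ι × ι => pullback (a ik.1 ≫ g) (a ik.2 ≫ g))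
      (fun ik => pullback.map (a ik.1 ≫ g) (a ik.2 ≫ g) g g (a ik.1) (a ik.2) (𝟙 Y)
        (Category.comp_id _) (Category.comp_id _)) :=
    ⟨fun ik => locP_flat_pullback_map hX hY (hA _) (hA _) g _ _ (hcov.1 _) (hcov.1 _),
      fun Z hZ t => fpqcRefines_prod g A a hcov.2 Z hZ t⟩
  exact ((Groth.Agent.S10534.result S _ _ hW
    (fun ik => Groth.Agent.H52.isAlgSpace_of_isPullback (IsPullback.of_hasPullback _ _) (hA _) hY (hA _))
    hcovW (pullback.diagonal g) hX (fun ik : ι × ι => pullback (a ik.1) (a ik.2))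
    (fun ik => pullback.map (a ik.1) (a ik.2) (a ik.1 ≫ g) (a ik.2 ≫ g) (𝟙 _) (𝟙 _) g
      (Category.id_comp _).symm (Category.id_comp _).symm)
    (fun ik => pullback.fst _ _ ≫ a ik.1)
    (fun ik => Groth.Agent.H52.isAlgSpace_of_isPullback (IsPullback.of_hasPullback _ _) (hA _) hX (hA _))
    (fun ik => pullback_map_diagonal_isPullback (a ik.1) (a ik.2) g)).2 (fun ik => h ik.1 ik.2))

/-- Transport of the closed immersion condition from arbitrary fibre products to the chosen ones. -/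
theorem repWith_map_of_iso {X Y A₁ A₂ P P' : Sp S} (g : X ⟶ Y) (a₁ : A₁ ⟶ X) (a₂ : A₂ ⟶ X)
    {p : P ⟶ A₁} {q : P ⟶ A₂} (hP : IsPullback p q a₁ a₂)
    {p' : P' ⟶ A₁} {q' : P' ⟶ A₂} (hP' : IsPullback p' q' (a₁ ≫ g) (a₂ ≫ g))
    (c : P ⟶ P') (hc₁ : c ≫ p' = p) (hc₂ : c ≫ q' = q) (hc : RepWith @IsClosedImmersion c) :
    RepWith @IsClosedImmersion
      (pullback.map a₁ a₂ (a₁ ≫ g) (a₂ ≫ g) (𝟙 _) (𝟙 _) g (Category.id_comp _).symm
        (Category.id_comp _).symm) := by
  have key : pullback.map a₁ a₂ (a₁ ≫ g) (a₂ ≫ g) (𝟙 _) (𝟙 _) g (Category.id_comp _).symm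
        (Category.id_comp _).symm = hP.isoPullback.inv ≫ c ≫ hP'.isoPullback.hom := by
    rw [Iso.eq_inv_comp]
    apply pullback.hom_ext
    · simp [hc₁]
    · simp [hc₂]
  rw [key]
  exact (MorphismProperty.cancel_left_of_respectsIso _ _ _).2
    ((MorphismProperty.cancel_right_of_respectsIso _ _ _).2 hc)

end Groth.Agent.H53.DistSq
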