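import Groth.Agent.H53.LocPrinc
import Groth.Prelude.Def_BlowUp2
import Groth.Prelude.Def_CInt

set_option autoImplicit false
set_option backward.isDefEq.respectTransparency false
universe u
open CategoryTheory CategoryTheory.Limits AlgebraicGeometry Opposite Topology TopologicalSpace

namespace Groth.Agent.H53.LocPrinc

/-- An effective Cartier ideal is locally principal. -/
theorem isLocPrincipal_of_isEffCartierIdeal {V : Scheme.{u}} (I : V.IdealSheafData)
    (hI : BlowUp.IsEffCartierIdeal I) : Curv2.IsLocPrincipal I := by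
  intro x _
  obtain ⟨U, hxU, s, -, hs⟩ := hI x
  exact ⟨U, hxU, s, hs⟩

/-- The complement of an effective Cartier divisor is schematically dense. -/
theorem isSchematicallyDense_compl_support {X : Scheme.{u}} (I : X.IdealSheafData)
    (hI : BlowUp.IsEffCartierIdeal I) (W : X.Opens)
    (hW : (W : Set X) = (I.support : Set X)ᶜ) : CInt.IsSchematicallyDense W := by
  intro V
  rw [injective_iff_map_eq_zero]
  intro a ha
  refine TopCat.Presheaf.section_ext X.sheaf V a 0 (fun x hx => ?_)
  rw [map_zero]
  obtain ⟨U, hxU, s, hsnz, hs⟩ := hI x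
  obtain ⟨r, hrV, hxr⟩ := U.2.exists_basicOpen_le ⟨x, hx⟩ hxU
  have hA : IsAffineOpen (X.basicOpen r) := U.2.basicOpen r
  have hAU : X.basicOpen r ≤ U.1 := X.basicOpen_le r
  set a' := X.presheaf.map (homOfLE hrV).op a with ha'
  set s' := X.presheaf.map (homOfLE hAU).op s with hs'
  have hbo : X.basicOpen s' = X.basicOpen r ⊓ X.basicOpen s := Scheme.basicOpen_res _ _ _
  have hsW : X.basicOpen s ≤ W := by
    rw [← compl_support_inf_eq_basicOpen I U s hs W hW]
    exact inf_le_left
  have hle : X.basicOpen s' ≤ V ⊓ W := by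
    rw [hbo]
    exact le_inf (inf_le_left.trans hrV) (inf_le_right.trans hsW)
  have hres : X.presheaf.map (homOfLE (X.basicOpen_le s')).op a' = 0 := by
    have h1 : X.presheaf.map (homOfLE (X.basicOpen_le s')).op a' =
        X.presheaf.map (homOfLE hle).op
          (X.presheaf.map (homOfLE (inf_le_left : V ⊓ W ≤ V)).op a) := by
      rw [ha', ← CommRingCat.comp_apply, ← CommRingCat.comp_apply, ← Functor.map_comp,
        ← Functor.map_comp]
      rfl
    rw [h1, ha, map_zero]
  obtain ⟨n, hn⟩ := exists_pow_mul_eq_zero_of_res_basicOpen_eq_zero_of_isAffineOpen X hA a' s' hres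
  have hs'nz : s' ∈ nonZeroDivisors Γ(X, X.basicOpen r) := by
    have := U.2.isLocalization_basicOpen r
    exact IsLocalization.map_nonZeroDivisors_le (Submonoid.powers r) Γ(X, X.basicOpen r)
      (Submonoid.mem_map_of_mem _ hsnz)
  have ha0 : a' = 0 := (mul_left_mem_nonZeroDivisors_eq_zero_iff (pow_mem hs'nz n)).mp hn
  have hga : X.presheaf.germ (X.basicOpen r) x hxr a' = X.presheaf.germ V x hx a :=
    TopCat.Presheaf.germ_res_apply X.presheaf (homOfLE hrV) x hxr a
  change X.presheaf.germ V x hx a = 0
  rw [← hga, ha0, map_zero]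

end Groth.Agent.H53.LocPrinc
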