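import Groth.Agent.H53.LocPrinc2
import Groth.Agent.H53.EffCartDense
import Groth.Prelude.Def_AlgSpSub

set_option autoImplicit false
set_option backward.isDefEq.respectTransparency false
universe u
open CategoryTheory CategoryTheory.Limits AlgebraicGeometry Opposite Topology TopologicalSpace
open AlgSp

namespace Groth.Agent.H53.LocPrinc

variable {S : Scheme.{u}}

/-- An effective Cartier divisor is a locally principal closed subspace. -/
theorem isLocPrincipalSub_of_isEffCartierSub {X D : Sp S} (i : D ⟶ X) (hD : IsEffCartierSub i) :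
    IsLocPrincipalSub i := by
  obtain ⟨hi, V, φ, I, fst, hφe, hφs, sq, hI⟩ := hD
  exact ⟨hi, V, φ, I, fst, hφe, hφs, sq, isLocPrincipal_of_isEffCartierIdeal I hI⟩

/-- A pullback square for an open immersion of sheaves along a chart can be rewritten with any open subscheme of the
chart with the same range. -/
theorem exists_isPullback_opens {X U : Sp S} (j : U ⟶ X) (hj : RepWith @IsOpenImmersion j)
    {V : Over S} (φ : (yon S).obj V ⟶ X) (W : V.left.Opens)
    (hW : Set.range (hj.rep.snd φ).left = (W : Set V.left)) :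
    ∃ fst : (yon S).obj (Over.mk (W.ι ≫ V.hom)) ⟶ U,
      IsPullback fst ((yon S).map (Over.homMk W.ι rfl : Over.mk (W.ι ≫ V.hom) ⟶ V)) j φ := by
  have sqj := hj.rep.isPullback φ
  have ho : IsOpenImmersion (hj.rep.snd φ).left := hj.property_snd φ
  let e0 : W.toScheme ≅ (hj.rep.pullback φ).left :=
    IsOpenImmersion.isoOfRangeEq W.ι (hj.rep.snd φ).left (by rw [Scheme.Opens.range_ι]; exact hW.symm)
  have he0 : e0.hom ≫ (hj.rep.snd φ).left = W.ι := IsOpenImmersion.isoOfRangeEq_hom_fac _ _ _
  let e : Over.mk (W.ι ≫ V.hom) ≅ hj.rep.pullback φ := Over.isoMk e0 (by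
    change e0.hom ≫ (hj.rep.pullback φ).hom = W.ι ≫ V.hom
    rw [← Over.w (hj.rep.snd φ), ← Category.assoc, he0])
  have he : e.hom ≫ hj.rep.snd φ = (Over.homMk W.ι rfl : Over.mk (W.ι ≫ V.hom) ⟶ V) := by
    apply Over.OverMorphism.ext
    exact he0
  refine ⟨(yon S).map e.hom ≫ hj.rep.fst φ, ?_⟩
  refine IsPullback.of_iso sqj ((yon S).mapIso e).symm (Iso.refl _) (Iso.refl _) (Iso.refl _) ?_ ?_
    (by simp) (by simp)
  · simp only [Iso.refl_hom, Category.comp_id, Iso.symm_hom, Functor.mapIso_inv]
    rw [← Category.assoc, ← Functor.map_comp, Iso.inv_hom_id, (yon S).map_id, Category.id_comp]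
  · simp only [Iso.refl_hom, Category.comp_id, Iso.symm_hom, Functor.mapIso_inv]
    rw [← he, Functor.map_comp, ← Category.assoc, ← Functor.map_comp, Iso.inv_hom_id, (yon S).map_id,
      Category.id_comp]

/-- The complement of an effective Cartier divisor is scheme theoretically dense. -/
theorem isSchDense_compl {X D U : Sp S} (i : D ⟶ X) (hD : IsEffCartierSub i) (j : U ⟶ X)
    (hj : RepWith @IsOpenImmersion j)
    (hUr : Set.range (Points.map j) = (Set.range (Points.map i))ᶜ) : IsSchDense j := by
  obtain ⟨hi, V, φ, I, fst, hφe, hφs, sq, hI⟩ := hD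
  let W : V.left.Opens := ⟨(I.support : Set V.left)ᶜ, I.support.isClosed.isOpen_compl⟩
  have hrange := range_snd_eq_compl_support i j hj hUr φ I fst sq
  obtain ⟨fstW, sqW⟩ := exists_isPullback_opens j hj φ W hrange
  exact ⟨hj, V, φ, W, fstW, hφe, hφs, sqW, isSchematicallyDense_compl_support I hI W rfl⟩

end Groth.Agent.H53.LocPrinc
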