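import Groth.Agent.H53.EffCart2
import Groth.Agent.H8.EffCartier
import Groth.Agent.Lib.Helper54.UnivBddCompSp
import Groth.Agent.Lib.Helper54.Transfer

set_option autoImplicit false
set_option backward.isDefEq.respectTransparency false
universe u
open CategoryTheory CategoryTheory.Limits AlgebraicGeometry Opposite Topology TopologicalSpace
open AlgSp

namespace Groth.Agent.H53.LocPrinc

variable {S : Scheme.{u}}

/-- The closed subscheme of an ideal sheaf on a scheme over `S`, as a scheme over `S`. -/
noncomputable abbrev subOver (V : Over S) (I : V.left.IdealSheafData) : Over S := Over.mk (I.subschemeι ≫ V.hom)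

/-- The inclusion of the closed subscheme of an ideal sheaf on a scheme over `S`. -/
noncomputable abbrev subOverι (V : Over S) (I : V.left.IdealSheafData) : subOver V I ⟶ V :=
  Over.homMk I.subschemeι rfl

/-- The closed subscheme of the pullback ideal sheaf is the pullback, as representable sheaves. -/
theorem exists_isPullback_comap {V U : Over S} (h : U ⟶ V) (I : V.left.IdealSheafData) :
    ∃ k : subOver U (I.comap h.left) ⟶ subOver V I,
      IsPullback ((yon S).map k) ((yon S).map (subOverι U (I.comap h.left)))
        ((yon S).map (subOverι V I)) ((yon S).map h) := by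
  let k0 : (I.comap h.left).subscheme ⟶ I.subscheme := (I.comapIso h.left).hom ≫ pullback.snd _ _
  have hk0 : k0 ≫ I.subschemeι = (I.comap h.left).subschemeι ≫ h.left := by
    simp only [k0, Category.assoc, ← pullback.condition]
    rw [← Category.assoc, Scheme.IdealSheafData.comapIso_hom_fst]
  let k : subOver U (I.comap h.left) ⟶ subOver V I := Over.homMk k0 (by
    change k0 ≫ I.subschemeι ≫ V.hom = (I.comap h.left).subschemeι ≫ U.hom
    rw [← Category.assoc, hk0, Category.assoc, Over.w h])
  have hw : k ≫ subOverι V I = subOverι U (I.comap h.left) ≫ h := by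
    apply Over.OverMorphism.ext
    exact hk0
  refine ⟨k, Groth.Agent.Lib.Helper54.isPullback_yon_of_isPullback_left hw ?_⟩
  change IsPullback k0 (I.comap h.left).subschemeι I.subschemeι h.left
  exact (IsPullback.of_iso_pullback ⟨hk0.symm⟩ (I.comapIso h.left) (by simp) (by simp [k0])).flip

/-- Transport of the chart square of a closed subspace along a morphism of charts. -/
theorem exists_isPullback_comap_chart {Y D : Sp S} (i : D ⟶ Y) {V U : Over S}
    (φ : (yon S).obj V ⟶ Y) (I : V.left.IdealSheafData) (fstD : (yon S).obj (subOver V I) ⟶ D)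
    (sq : IsPullback fstD ((yon S).map (subOverι V I)) i φ) (h : U ⟶ V) :
    ∃ fst' : (yon S).obj (subOver U (I.comap h.left)) ⟶ D,
      IsPullback fst' ((yon S).map (subOverι U (I.comap h.left))) i ((yon S).map h ≫ φ) := by
  obtain ⟨k, hk⟩ := exists_isPullback_comap h I
  exact ⟨(yon S).map k ≫ fstD, hk.paste_horiz sq⟩

/-- The inverse image of an effective Cartier divisor under a flat morphism is an effective Cartier
divisor. -/
theorem isEffCartierSub_pullback_of_flat {X Y D P : Sp S} (hX : IsAlgSpace X) (f : X ⟶ Y)
    (hf : LocP @Flat f) (i : D ⟶ Y) (hD : IsEffCartierSub i) (fst : P ⟶ D) (snd : P ⟶ X)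
    (hP : IsPullback fst snd i f) : IsEffCartierSub snd := by
  obtain ⟨hi, V, φ, I, fstD, hφe, hφs, sq, hI⟩ := hD
  obtain ⟨U₀, p, hpe, hps⟩ := hX.atlas
  obtain ⟨U₁, a, h, ha, sqc, hrep⟩ := Groth.Agent.Lib.Helper54.exists_chart_square f p hpe φ hφe
  have hsurj := Groth.Agent.Lib.Helper54.repWith_surjective_of_chart_square hps hφs sqc
  have hflat : Flat h.left := Groth.Agent.Lib.Helper54.locP_of_chart_square hf hφe sqc hrep
  obtain ⟨fst', sq'⟩ := exists_isPullback_comap_chart i φ I fstD sq h
  have hcomm : ((yon S).map a ≫ p) ≫ f = (yon S).map h ≫ φ := by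
    rw [Category.assoc]; exact sqc.w
  refine ⟨MorphismProperty.of_isPullback hP hi, U₁, (yon S).map a ≫ p, I.comap h.left,
    hP.lift fst' ((yon S).map (subOverι U₁ (I.comap h.left)) ≫ (yon S).map a ≫ p)
      (by rw [sq'.w, Category.assoc, hcomm]), hrep, hsurj, ?_,
    Groth.Agent.H8.EffCartier.isEffCartierIdeal_comap_of_flat h.left I hI⟩
  refine IsPullback.of_right ?_ (hP.lift_snd _ _ _) hP
  rw [hP.lift_fst, hcomm]
  exact sq'

end Groth.Agent.H53.LocPrinc
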