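import Groth.Agent.H53.EffCart3
import Groth.Agent.H8.RelCartier4
import Groth.Agent.H52.FibreProd

set_option autoImplicit false
set_option backward.isDefEq.respectTransparency false
universe u
open CategoryTheory CategoryTheory.Limits AlgebraicGeometry Opposite Topology TopologicalSpace
open AlgSp

namespace Groth.Agent.H53.LocPrinc

variable {S : Scheme.{u}}

/-- Base change of a relative effective Cartier divisor. -/
theorem isEffCartierSub_baseChange {X Y D Y' X' D' : Sp S} (hY : IsAlgSpace Y) (hY' : IsAlgSpace Y')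
    (f : X ⟶ Y) (i : D ⟶ X)
    (hD : IsEffCartierSub i) (hflat : LocP @Flat (i ≫ f))
    (g : Y' ⟶ Y) (g' : X' ⟶ X) (f' : X' ⟶ Y') (hX' : IsPullback g' f' f g)
    (k : D' ⟶ D) (i' : D' ⟶ X') (hD' : IsPullback k i' i g') : IsEffCartierSub i' := by
  obtain ⟨hi, V, φ, I, fstD, hφe, hφs, sq, hI⟩ := hD
  obtain ⟨W, q, hqe, hqs⟩ := hY.atlas
  obtain ⟨V₁, a₁, f₁, ha₁, sq1, hrep1⟩ := Groth.Agent.Lib.Helper54.exists_chart_square f φ hφe q hqe
  have hsurj1 := Groth.Agent.Lib.Helper54.repWith_surjective_of_chart_square hφs hqs sq1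
  have hw1 : ((yon S).map a₁ ≫ φ) ≫ f = (yon S).map f₁ ≫ q := by
    rw [Category.assoc]; exact sq1.w
  -- the divisor on `V₁`
  have : Flat a₁.left := by
    have : Etale a₁.left := ha₁
    infer_instance
  have hI₁ : BlowUp.IsEffCartierIdeal (I.comap a₁.left) :=
    Groth.Agent.H8.EffCartier.isEffCartierIdeal_comap_of_flat a₁.left I hI
  obtain ⟨fst₁, sqD₁⟩ := exists_isPullback_comap_chart i φ I fstD sq a₁
  have hfst₁e : RepWith @Etale fst₁ := MorphismProperty.of_isPullback sqD₁.flip hrep1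
  have hflat₁ : Flat ((I.comap a₁.left).subschemeι ≫ f₁.left) := by
    refine hflat fst₁ q (subOverι V₁ (I.comap a₁.left) ≫ f₁) hfst₁e hqe ?_
    rw [← Category.assoc, sqD₁.w, Category.assoc, hw1, Functor.map_comp, Category.assoc]
  -- the base change of `Y'` to the chart `W`
  have hYW : IsAlgSpace (pullback q g) :=
    Groth.Agent.H52.isAlgSpace_of_isPullback (IsPullback.of_hasPullback q g)
      (IsAlgSpace.yon_obj W) hY hY'
  obtain ⟨W₁, α, hαe, hαs⟩ := hYW.atlas
  obtain ⟨w, hw⟩ := (yon S).map_surjective (α ≫ pullback.fst q g)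
  -- the base change of `X'` to the chart `V₁`
  have hβc : (pullback.fst ((yon S).map a₁ ≫ φ) g' ≫ (yon S).map f₁) ≫ q =
      (pullback.snd ((yon S).map a₁ ≫ φ) g' ≫ f') ≫ g := by
    rw [Category.assoc, ← hw1, ← Category.assoc, pullback.condition, Category.assoc, hX'.w,
      Category.assoc]
  let β : pullback ((yon S).map a₁ ≫ φ) g' ⟶ pullback q g :=
    pullback.lift (pullback.fst ((yon S).map a₁ ≫ φ) g' ≫ (yon S).map f₁)
      (pullback.snd ((yon S).map a₁ ≫ φ) g' ≫ f') hβc
  have sq2 : IsPullback (pullback.fst ((yon S).map a₁ ≫ φ) g') β ((yon S).map f₁)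
      (pullback.fst q g) := by
    refine IsPullback.of_bot ?_ (by simp [β]) (IsPullback.of_hasPullback q g)
    have h1 : β ≫ pullback.snd q g = pullback.snd ((yon S).map a₁ ≫ φ) g' ≫ f' := by simp [β]
    rw [h1, ← hw1]
    exact (IsPullback.of_hasPullback ((yon S).map a₁ ≫ φ) g').paste_vert hX'
  -- the scheme chart
  let T : Over S := Over.mk (pullback.fst f₁.left w.left ≫ V₁.hom)
  let pr₁ : T ⟶ V₁ := Over.homMk (pullback.fst f₁.left w.left) rfl
  let pr₂ : T ⟶ W₁ := Over.homMk (pullback.snd f₁.left w.left) (by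
    change pullback.snd f₁.left w.left ≫ W₁.hom = pullback.fst f₁.left w.left ≫ V₁.hom
    rw [← Over.w w, ← Category.assoc, ← pullback.condition, Category.assoc, Over.w f₁])
  have hpr : pr₁ ≫ f₁ = pr₂ ≫ w := by
    apply Over.OverMorphism.ext
    exact pullback.condition
  have sqT : IsPullback ((yon S).map pr₁) ((yon S).map pr₂) ((yon S).map f₁) ((yon S).map w) :=
    Groth.Agent.Lib.Helper54.isPullback_yon_of_isPullback_left hpr
      (IsPullback.of_hasPullback f₁.left w.left)
  have hγc : (yon S).map pr₁ ≫ (yon S).map f₁ = ((yon S).map pr₂ ≫ α) ≫ pullback.fst q g := by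
    rw [Category.assoc, ← hw, sqT.w]
  let γ : (yon S).obj T ⟶ pullback ((yon S).map a₁ ≫ φ) g' :=
    sq2.lift ((yon S).map pr₁) ((yon S).map pr₂ ≫ α) hγc
  have hγ1 : γ ≫ pullback.fst ((yon S).map a₁ ≫ φ) g' = (yon S).map pr₁ := sq2.lift_fst _ _ _
  have hγ2 : γ ≫ β = (yon S).map pr₂ ≫ α := sq2.lift_snd _ _ _
  have sq3 : IsPullback γ ((yon S).map pr₂) β α := by
    refine IsPullback.of_right ?_ hγ2 sq2
    rw [hγ1, ← hw]
    exact sqT
  -- the chart of `X'`
  have hmulE : (RepWith (S := S) @Etale).IsMultiplicative := repWith_isMultiplicative _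
  have hmulS : (RepWith (S := S) @Surjective).IsMultiplicative := repWith_isMultiplicative _
  have hψe : RepWith @Etale (γ ≫ pullback.snd ((yon S).map a₁ ≫ φ) g') :=
    (RepWith (S := S) @Etale).comp_mem _ _ (MorphismProperty.of_isPullback sq3.flip hαe)
      (MorphismProperty.of_isPullback (IsPullback.of_hasPullback ((yon S).map a₁ ≫ φ) g') hrep1)
  have hψs : RepWith @Surjective (γ ≫ pullback.snd ((yon S).map a₁ ≫ φ) g') :=
    (RepWith (S := S) @Surjective).comp_mem _ _ (MorphismProperty.of_isPullback sq3.flip hαs)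
      (MorphismProperty.of_isPullback (IsPullback.of_hasPullback ((yon S).map a₁ ≫ φ) g') hsurj1)
  have hψ : (γ ≫ pullback.snd ((yon S).map a₁ ≫ φ) g') ≫ g' = (yon S).map (pr₁ ≫ a₁) ≫ φ := by
    rw [Category.assoc, ← pullback.condition, ← Category.assoc, hγ1, Functor.map_comp,
      Category.assoc]
  obtain ⟨fstT, sqDT⟩ := exists_isPullback_comap_chart i φ I fstD sq (pr₁ ≫ a₁)
  have hIT : BlowUp.IsEffCartierIdeal (I.comap (pr₁ ≫ a₁).left) := by
    have h1 : (pr₁ ≫ a₁).left = pullback.fst f₁.left w.left ≫ a₁.left := rfl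
    rw [h1, Scheme.IdealSheafData.comap_comp]
    exact Groth.Agent.H8.RelCartier.isEffCartierIdeal_comap_pullback_fst f₁.left
      (I.comap a₁.left) hI₁ w.left
  refine ⟨MorphismProperty.of_isPullback hD' hi, T, γ ≫ pullback.snd ((yon S).map a₁ ≫ φ) g',
    I.comap (pr₁ ≫ a₁).left,
    hD'.lift fstT ((yon S).map (subOverι T (I.comap (pr₁ ≫ a₁).left)) ≫
      γ ≫ pullback.snd ((yon S).map a₁ ≫ φ) g') (by rw [sqDT.w, Category.assoc, hψ]),
    hψe, hψs, ?_, hIT⟩
  refine IsPullback.of_right ?_ (hD'.lift_snd _ _ _) hD'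
  rw [hD'.lift_fst, hψ]
  exact sqDT

end Groth.Agent.H53.LocPrinc
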