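import Groth.Agent.H53.EffCart3
import Groth.Agent.H8.DimCartier2
import Groth.Agent.H52.DimLocal2
import Groth.Agent.H53.FibrePts

set_option autoImplicit false
set_option backward.isDefEq.respectTransparency false
universe u
open CategoryTheory CategoryTheory.Limits AlgebraicGeometry Opposite Topology TopologicalSpace
open AlgSp

namespace Groth.Agent.H53.LocPrinc

variable {S : Scheme.{u}}

/-- The local dimension drops on an effective Cartier divisor. -/
theorem hasAt_localDim_lt {X D : Sp S} (hX : IsAlgSpace X) (i : D ⟶ X)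
    (hD : IsEffCartierSub i) (x : Points D) (d : WithBot ℕ∞)
    (hd : HasAt (fun U u => FlatMor.localDim ↥U u = d) X (Points.map i x)) (hfin : d ≠ ⊤) :
    HasAt (fun V v => FlatMor.localDim ↥V v < d) D x := by
  obtain ⟨hi, V, φ, I, fstD, hφe, hφs, sq, hI⟩ := hD
  have hfe : RepWith @Etale fstD := MorphismProperty.of_isPullback sq.flip hφe
  have hfs : RepWith @Surjective fstD := MorphismProperty.of_isPullback sq.flip hφs
  obtain ⟨q, rfl⟩ := Groth.Agent.H52.surjective_points_of_repWith_surjective fstD hfs x
  obtain ⟨z, rfl⟩ := (Points.schemeEquiv (subOver V I)).surjective q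
  have hz : Points.ofPt φ (I.subschemeι z) = Points.map i (Points.ofPt fstD z) := by
    rw [Points.map_ofPt, sq.w]
    exact (Groth.Agent.H53.FibrePts.ofPt_yon_map_comp (subOverι V I) φ z).symm
  have hQ : ∀ ⦃W U : Scheme.{u}⦄ (g : W ⟶ U) [Etale g] (w : W),
      FlatMor.localDim ↥W w = d ↔ FlatMor.localDim ↥U (g w) = d := by
    intro W U g _ w
    rw [Groth.Agent.H52.localDim_eq_of_etale g w]
  have hze : Points.map fstD ((Points.schemeEquiv (subOver V I)) z) = Points.ofPt fstD z :=
    (Points.ofPt_eq_map_ofScheme fstD z).symm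
  rw [hze] at hd ⊢
  have hdV : FlatMor.localDim ↥V.left (I.subschemeι z) = d :=
    (Groth.Agent.H52.hasAt_iff_forall_chart hQ hX _).1 hd V φ (I.subschemeι z) hφe hz
  refine ⟨subOver V I, fstD, z, hfe, rfl, ?_⟩
  have := Groth.Agent.H8.DimCartier.localDim_lt_of_isEffCartierIdeal V.left I hI z
    (by rw [hdV]; exact hfin)
  rw [hdV] at this
  exact this

end Groth.Agent.H53.LocPrinc
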