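import Groth.Agent.H53.QcIdeal3
import Groth.Agent.H53.EffCart3
import Groth.Agent.H8.EffCartier2

set_option autoImplicit false
set_option backward.isDefEq.respectTransparency false
universe u
open CategoryTheory CategoryTheory.Limits AlgebraicGeometry Opposite Topology TopologicalSpace
open AlgSp

namespace Groth.Agent.H53.QcIdeal

open Groth.Agent.H53.LocPrinc Groth.Agent.H53.QcImage

variable {S : Scheme.{u}} {X D₁ D₂ D : Sp S}

/-- The sum of two effective Cartier divisors is an effective Cartier divisor. -/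
theorem isEffCartierSub_of_mul (i₁ : D₁ ⟶ X) (i₂ : D₂ ⟶ X) (i : D ⟶ X) (I₁ I₂ : IdealEt X)
    (h₁ : IsCutOutBy I₁ i₁) (h₂ : IsCutOutBy I₂ i₂) (hD : IsCutOutBy (I₁ * I₂) i)
    (e₁ : IsEffCartierSub i₁) (e₂ : IsEffCartierSub i₂) : IsEffCartierSub i := by
  obtain ⟨hi₁, V₁, φ₁, 𝓘₁, fst₁, hφ₁e, hφ₁s, sq₁, h𝓘₁⟩ := e₁
  obtain ⟨hi₂, V₂, φ₂, 𝓘₂, fst₂, hφ₂e, hφ₂s, sq₂, h𝓘₂⟩ := e₂
  have hi := hD.choose
  obtain ⟨W, a, h, ha, sqc, hrep⟩ :=
    Groth.Agent.Lib.Helper54.exists_chart_square (𝟙 X) φ₁ hφ₁e φ₂ hφ₂e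
  rw [Category.comp_id] at sqc
  have hsurj : RepWith @Surjective ((yon S).map a ≫ φ₁) := by
    have : (RepWith (S := S) @Surjective).IsMultiplicative := repWith_isMultiplicative _
    refine (RepWith @Surjective).comp_mem _ _ ?_ hφ₁s
    exact MorphismProperty.of_isPullback sqc.flip hφ₂s
  have hhe : Etale h.left := hφ₁e.property _ _ _ sqc
  have hw : (yon S).map a ≫ φ₁ = (yon S).map h ≫ φ₂ := sqc.w
  obtain ⟨f₁, s₁⟩ := exists_isPullback_comap_chart i₁ φ₁ 𝓘₁ fst₁ sq₁ a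
  obtain ⟨f₂, s₂⟩ := exists_isPullback_comap_chart i₂ φ₂ 𝓘₂ fst₂ sq₂ h
  rw [← hw] at s₂
  generalize (yon S).map a ≫ φ₁ = ψ at hrep hsurj s₁ s₂
  have sq := hi.rep.isPullback ψ
  have hc : IsClosedImmersion (hi.rep.snd ψ).left := hi.property_snd ψ
  have hc₁ : IsClosedImmersion (subOverι W (𝓘₁.comap a.left)).left := by
    change IsClosedImmersion (𝓘₁.comap a.left).subschemeι
    infer_instance
  have hc₂ : IsClosedImmersion (subOverι W (𝓘₂.comap h.left)).left := by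
    change IsClosedImmersion (𝓘₂.comap h.left).subschemeι
    infer_instance
  have hker := ker_eq_mul_of_isCutOutBy I₁ I₂ h₁ h₂ hD ψ hrep _ _ (hi.rep.snd ψ) f₁ s₁ f₂ s₂ _ sq
  have hk₁ : (subOverι W (𝓘₁.comap a.left)).left.ker = 𝓘₁.comap a.left :=
    Scheme.IdealSheafData.ker_subschemeι _
  have hk₂ : (subOverι W (𝓘₂.comap h.left)).left.ker = 𝓘₂.comap h.left :=
    Scheme.IdealSheafData.ker_subschemeι _
  rw [hk₁, hk₂] at hker
  obtain ⟨fst, hfst⟩ := exists_isPullback_subOver_of_ker_eq ψ (hi.rep.snd ψ) _ sq _ hker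
  refine ⟨hi, W, ψ, 𝓘₁.comap a.left * 𝓘₂.comap h.left, fst, hrep, hsurj, hfst, ?_⟩
  have : Flat a.left := inferInstance
  have : Flat h.left := inferInstance
  exact Groth.Agent.H8.EffCartier.isEffCartierIdeal_mul _ _
    (Groth.Agent.H8.EffCartier.isEffCartierIdeal_comap_of_flat a.left 𝓘₁ h𝓘₁)
    (Groth.Agent.H8.EffCartier.isEffCartierIdeal_comap_of_flat h.left 𝓘₂ h𝓘₂)

/-- If the closed subspace cut out by a product is an effective Cartier divisor, so are the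
closed subspaces cut out by the factors. -/
theorem isEffCartierSub_of_isEffCartierSub_mul (i₁ : D₁ ⟶ X) (i₂ : D₂ ⟶ X) (i : D ⟶ X)
    (I₁ I₂ : IdealEt X)
    (h₁ : IsCutOutBy I₁ i₁) (h₂ : IsCutOutBy I₂ i₂) (hD : IsCutOutBy (I₁ * I₂) i)
    (e : IsEffCartierSub i) : IsEffCartierSub i₁ ∧ IsEffCartierSub i₂ := by
  obtain ⟨hi, V, φ, 𝓓, fst, hφe, hφs, sq, h𝓓⟩ := e
  have hi₁ := h₁.choose
  have hi₂ := h₂.choose
  have sq₁ := hi₁.rep.isPullback φ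
  have sq₂ := hi₂.rep.isPullback φ
  have hc₁ : IsClosedImmersion (hi₁.rep.snd φ).left := hi₁.property_snd φ
  have hc₂ : IsClosedImmersion (hi₂.rep.snd φ).left := hi₂.property_snd φ
  have hc : IsClosedImmersion (subOverι V 𝓓).left := by
    change IsClosedImmersion 𝓓.subschemeι
    infer_instance
  have hker := ker_eq_mul_of_isCutOutBy I₁ I₂ h₁ h₂ hD φ hφe (hi₁.rep.snd φ) (hi₂.rep.snd φ)
    (subOverι V 𝓓) _ sq₁ _ sq₂ fst sq
  have hk : (subOverι V 𝓓).left.ker = 𝓓 := Scheme.IdealSheafData.ker_subschemeι _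
  rw [hk] at hker
  rw [hker] at h𝓓
  obtain ⟨g₁, g₂⟩ := Groth.Agent.H8.EffCartier.isEffCartierIdeal_of_mul _ _ h𝓓
  obtain ⟨fst₁, hfst₁⟩ := exists_isPullback_subOver_of_ker_eq φ (hi₁.rep.snd φ) _ sq₁ _ rfl
  obtain ⟨fst₂, hfst₂⟩ := exists_isPullback_subOver_of_ker_eq φ (hi₂.rep.snd φ) _ sq₂ _ rfl
  exact ⟨⟨hi₁, V, φ, _, fst₁, hφe, hφs, hfst₁, g₁⟩, ⟨hi₂, V, φ, _, fst₂, hφe, hφs, hfst₂, g₂⟩⟩

end Groth.Agent.H53.QcIdeal
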