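import Groth.Agent.H53.EffCartDesc
import Groth.Agent.H53.QcIdeal4
import Groth.Agent.H53.FibrePts
import Groth.Agent.Lib.Helper54.Points

set_option autoImplicit false
set_option backward.isDefEq.respectTransparency false
universe u
open CategoryTheory CategoryTheory.Limits AlgebraicGeometry Opposite Topology TopologicalSpace
open AlgSp

namespace Groth.Agent.H53.EffCartDesc

open Groth.Agent.H53.LocPrinc Groth.Agent.H53.QcIdeal Groth.Agent.H8.EffCartier

variable {S : Scheme.{u}} {X D : Sp S}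

/-- Two chart squares over the same chart have closed subschemes with the same kernel. -/
theorem ker_eq_of_isPullback_same_chart (i : D ⟶ X) {W C₁ C₂ : Over S} (ψ : (yon S).obj W ⟶ X)
    (c₁ : C₁ ⟶ W) (c₂ : C₂ ⟶ W) (f₁ : (yon S).obj C₁ ⟶ D) (f₂ : (yon S).obj C₂ ⟶ D)
    (sq₁ : IsPullback f₁ ((yon S).map c₁) i ψ) (sq₂ : IsPullback f₂ ((yon S).map c₂) i ψ) :
    c₁.left.ker = c₂.left.ker := by
  let e' := sq₁.isoIsPullback _ _ sq₂
  let e := (yon S).preimageIso e'
  have he : e.hom ≫ c₂ = c₁ := by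
    apply (yon S).map_injective
    rw [Functor.map_comp, Functor.preimageIso_hom, Functor.map_preimage]
    exact IsPullback.isoIsPullback_hom_snd _ _ _ _
  have hel : e.hom.left ≫ c₂.left = c₁.left := congrArg (fun k => k.left) he
  have : IsIso e.hom.left := (Over.forget S).map_isIso e.hom
  rw [← hel, Scheme.Hom.ker_comp_of_isIso]

/-- The pointwise effective Cartier condition. -/
def EffAt {V : Scheme.{u}} (𝓘 : V.IdealSheafData) (v : V) : Prop :=
  ∃ A : V.affineOpens, v ∈ A.1 ∧ ∃ f : Γ(V, A.1), f ∈ nonZeroDivisors Γ(V, A.1) ∧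
    𝓘.ideal A = Ideal.span {f}

/-- Transfer of the pointwise effective Cartier condition between two étale charts of the same
closed subspace at points over the same point of the space. -/
theorem effAt_of_chart (i : D ⟶ X) {V U : Over S}
    (ψ : (yon S).obj V ⟶ X) (hψ : RepWith @Etale ψ) (𝓘 : V.left.IdealSheafData)
    (fstV : (yon S).obj (subOver V 𝓘) ⟶ D)
    (sqV : IsPullback fstV ((yon S).map (subOverι V 𝓘)) i ψ)
    (φ : (yon S).obj U ⟶ X) (hφ : RepWith @Etale φ) (I : U.left.IdealSheafData)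
    (fstU : (yon S).obj (subOver U I) ⟶ D)
    (sqU : IsPullback fstU ((yon S).map (subOverι U I)) i φ)
    (v : V.left) (u : U.left) (huv : Points.ofPt ψ v = Points.ofPt φ u)
    (hv : EffAt 𝓘 v) : EffAt I u := by
  obtain ⟨W, a, h, ha, sqc, hrep⟩ :=
    Groth.Agent.Lib.Helper54.exists_chart_square (𝟙 X) ψ hψ φ hφ
  rw [Category.comp_id] at sqc
  have hhe : Etale h.left := hψ.property _ _ _ sqc
  have hw : (yon S).map a ≫ ψ = (yon S).map h ≫ φ := sqc.w
  obtain ⟨w, hw1, hw2⟩ := Groth.Agent.Lib.Helper54.exists_pt_of_isPullback_yon sqc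
    (Points.ofScheme V v) u (by rw [← Points.ofPt_eq_map_ofScheme]; exact huv)
  have hav : a.left w = v := by
    rw [Groth.Agent.H53.FibrePts.ofPt_yon_map] at hw1
    have := congrArg (Points.toScheme V) hw1
    rwa [Points.toScheme_ofScheme, Points.toScheme_ofScheme] at this
  obtain ⟨f₁, s₁⟩ := exists_isPullback_comap_chart i ψ 𝓘 fstV sqV a
  obtain ⟨f₂, s₂⟩ := exists_isPullback_comap_chart i φ I fstU sqU h
  rw [← hw] at s₂
  have hker := ker_eq_of_isPullback_same_chart i _ _ _ f₁ f₂ s₁ s₂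
  have hk₁ : (subOverι W (𝓘.comap a.left)).left.ker = 𝓘.comap a.left :=
    Scheme.IdealSheafData.ker_subschemeι _
  have hk₂ : (subOverι W (I.comap h.left)).left.ker = I.comap h.left :=
    Scheme.IdealSheafData.ker_subschemeι _
  rw [hk₁, hk₂] at hker
  obtain ⟨A, hvA, f, hf, hA⟩ := hv
  obtain ⟨_, ⟨B, hB, rfl⟩, hwB, hBA⟩ :=
    (W.left.isBasis_affineOpens).exists_subset_of_mem_open
      (show w ∈ ((a.left ⁻¹ᵁ A.1 : W.left.Opens) : Set W.left) from by
        change a.left w ∈ A.1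
        rw [hav]
        exact hvA) (a.left ⁻¹ᵁ A.1).isOpen
  have : Flat a.left := inferInstance
  obtain ⟨h1, h2⟩ := comap_generator_of_flat a.left 𝓘 A f hf hA ⟨B, hB⟩ hBA
  rw [hker] at h2
  have := exists_generator_of_comap_etale h.left I w ⟨⟨B, hB⟩, hwB, _, h1, h2⟩
  rw [hw2] at this
  exact this

/-- Away from the support an ideal sheaf is locally the unit ideal. -/
theorem effAt_of_notMem_support {V : Scheme.{u}} (𝓘 : V.IdealSheafData) (x : V)
    (hx : x ∉ 𝓘.support) : EffAt 𝓘 x := by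
  obtain ⟨_, ⟨A₀, hA₀, rfl⟩, hxA, -⟩ :=
    (V.isBasis_affineOpens).exists_subset_of_mem_open (Set.mem_univ x) isOpen_univ
  let A : V.affineOpens := ⟨A₀, hA₀⟩
  have hxA' : x ∈ A.1 := hxA
  rw [Scheme.IdealSheafData.mem_support_iff_of_mem (U := A) hxA', Scheme.mem_zeroLocus_iff] at hx
  push Not at hx
  obtain ⟨t, ht, hxt⟩ := hx
  let A' : V.affineOpens := V.affineBasicOpen t
  have hle : A'.1 ≤ A.1 := V.basicOpen_le t
  let ρ := (V.presheaf.map (homOfLE hle).op).hom
  have hI : 𝓘.ideal A' = (𝓘.ideal A).map ρ := (𝓘.map_ideal' (homOfLE hle).op).symm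
  have hu : IsUnit (ρ t) := V.toRingedSpace.isUnit_res_basicOpen t
  have htop : 𝓘.ideal A' = ⊤ := by
    rw [hI]
    exact Ideal.eq_top_of_isUnit_mem _ (Ideal.mem_map_of_mem ρ ht) hu
  exact ⟨A', hxt, 1, one_mem _, by rw [htop, Ideal.span_singleton_one]⟩

/-- An effective Cartier divisor in the one-chart sense is effective Cartier on every chart. -/
theorem isEffCartierSub_iff_all_charts (hX : IsAlgSpace X) (i : D ⟶ X)
    (hi : RepWith @IsClosedImmersion i) :
    IsEffCartierSub i ↔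
      ∀ (U : Over S) (φ : (yon S).obj U ⟶ X), RepWith @Etale φ →
        ∀ (I : U.left.IdealSheafData) (fst : (yon S).obj (subOver U I) ⟶ D),
          IsPullback fst ((yon S).map (subOverι U I)) i φ → BlowUp.IsEffCartierIdeal I := by
  constructor
  · rintro ⟨-, V, ψ, 𝓘, fstV, hψe, hψs, sqV, h𝓘⟩ U φ hφ I fst sq u
    obtain ⟨p, hp⟩ := Groth.Agent.H52.surjective_points_of_repWith_surjective ψ hψs
      (Points.ofPt φ u)
    obtain ⟨v, rfl⟩ := Groth.Agent.Lib.Helper54.exists_ofScheme_eq V p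
    rw [← Points.ofPt_eq_map_ofScheme] at hp
    exact effAt_of_chart i ψ hψe 𝓘 fstV sqV φ hφ I fst sq v u hp (h𝓘 v)
  · intro h
    obtain ⟨U₀, a₀, hae, has⟩ := hX.atlas
    have sq := hi.rep.isPullback a₀
    have hc : IsClosedImmersion (hi.rep.snd a₀).left := hi.property_snd a₀
    obtain ⟨fst, hfst⟩ := exists_isPullback_subOver_of_ker_eq a₀ (hi.rep.snd a₀) _ sq _ rfl
    exact ⟨hi, U₀, a₀, _, fst, hae, has, hfst, h U₀ a₀ hae _ fst hfst⟩

open Groth.Agent.H52 in
/-- An effective Cartier divisor in the one-chart sense is cut out by one nonzerodivisor on an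
affine étale neighbourhood of each of its points, and conversely. -/
theorem isEffCartierSub_iff_pointwise (hX : IsAlgSpace X) (i : D ⟶ X)
    (hi : RepWith @IsClosedImmersion i) :
    IsEffCartierSub i ↔
      ∀ x : Points D,
        ∃ (U : Over S) (_ : IsAffine U.left) (a : (yon S).obj U ⟶ X) (u : ↥U.left)
          (f : Γ(U.left, ⊤)) (I : U.left.IdealSheafData)
          (fst : (yon S).obj (subOver U I) ⟶ D),
          RepWith @Etale a ∧ Points.ofPt a u = Points.map i x ∧
            f ∈ nonZeroDivisors Γ(U.left, ⊤) ∧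
            I.ideal ⟨⊤, isAffineOpen_top U.left⟩ = Ideal.span {f} ∧
            IsPullback fst ((yon S).map (subOverι U I)) i a := by
  constructor
  · rintro ⟨-, V, ψ, 𝓘, fstV, hψe, hψs, sqV, h𝓘⟩ x
    obtain ⟨p, hp⟩ := surjective_points_of_repWith_surjective ψ hψs (Points.map i x)
    obtain ⟨v, rfl⟩ := Groth.Agent.Lib.Helper54.exists_ofScheme_eq V p
    rw [← Points.ofPt_eq_map_ofScheme] at hp
    obtain ⟨A, hvA, f, hf, hA⟩ := h𝓘 v
    have hAaff : IsAffine (overOpen V A.1).left := A.2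
    obtain ⟨fst', sq'⟩ := exists_isPullback_comap_chart i ψ 𝓘 fstV sqV (overOpenι V A.1)
    refine ⟨overOpen V A.1, hAaff, (yon S).map (overOpenι V A.1) ≫ ψ, ⟨v, hvA⟩,
      A.1.topIso.inv.hom f, 𝓘.comap A.1.ι, fst', repWith_etale_overOpenι_comp ψ hψe A.1, ?_, ?_,
      ?_, sq'⟩
    · rw [Groth.Agent.H53.FibrePts.ofPt_yon_map_comp]
      exact hp
    · rw [mem_nonZeroDivisors_iff_right]
      intro z hz
      have h1 := congrArg A.1.topIso.hom.hom hz
      rw [map_mul, map_zero] at h1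
      have h2 : A.1.topIso.hom.hom (A.1.topIso.inv.hom f) = f := by
        change (A.1.topIso.inv ≫ A.1.topIso.hom).hom f = f
        rw [Iso.inv_hom_id]
        rfl
      rw [h2] at h1
      have h3 := mem_nonZeroDivisors_iff_right.mp hf _ h1
      have h4 := congrArg A.1.topIso.inv.hom h3
      rw [map_zero] at h4
      rw [← h4]
      change z = (A.1.topIso.hom ≫ A.1.topIso.inv).hom z
      rw [Iso.hom_inv_id]
      rfl
    · have := Groth.Agent.Lib.Helper18.ideal_comap_ι_top 𝓘 A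
      rw [hA, Ideal.map_span, Set.image_singleton] at this
      exact this
  · intro h
    obtain ⟨U₀, a₀, hae, has⟩ := hX.atlas
    have sq := hi.rep.isPullback a₀
    have hc : IsClosedImmersion (hi.rep.snd a₀).left := hi.property_snd a₀
    obtain ⟨fst, hfst⟩ := exists_isPullback_subOver_of_ker_eq a₀ (hi.rep.snd a₀) _ sq _ rfl
    refine ⟨hi, U₀, a₀, _, fst, hae, has, hfst, ?_⟩
    intro u₀
    by_cases hu₀ : u₀ ∈ (hi.rep.snd a₀).left.ker.support
    · have hu₀' : u₀ ∈ ((hi.rep.snd a₀).left.ker.support : Set U₀.left) := hu₀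
      rw [Scheme.Hom.support_ker,
        (hi.rep.snd a₀).left.isClosedEmbedding.isClosed_range.closure_eq] at hu₀'
      obtain ⟨d, rfl⟩ := hu₀'
      obtain ⟨U, hU, a, u, f, I, fstU, hae', hau, hf, hI, sqU⟩ := h (Points.ofPt (hi.rep.fst a₀) d)
      have hpt : Points.ofPt a u = Points.ofPt a₀ ((hi.rep.snd a₀).left d) := by
        rw [hau, Points.map_ofPt, sq.w, Groth.Agent.H53.FibrePts.ofPt_yon_map_comp]
      exact effAt_of_chart i a hae' I fstU sqU a₀ hae _ fst hfst u _ hpt
        ⟨⟨⊤, isAffineOpen_top U.left⟩, trivial, f, hf, hI⟩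
    · exact effAt_of_notMem_support _ u₀ hu₀

end Groth.Agent.H53.EffCartDesc
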