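import Groth.Agent.H53.QcIdeal2

set_option autoImplicit false
set_option backward.isDefEq.respectTransparency false
universe u
open CategoryTheory CategoryTheory.Limits AlgebraicGeometry Opposite Topology TopologicalSpace
open AlgSp

namespace Groth.Agent.H53.QcIdeal

open Groth.Agent.H53.LocPrinc Groth.Agent.H53.QcImage

variable {S : Scheme.{u}} {D Y : Sp S} {i : D ⟶ Y}

/-- The value of the kernel family on a chart computed from any pullback. -/
theorem idealOfRep_ideal_of_isPullback (hi : Representable i) (E : EtOver Y)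
    (hE : IsAffine E.obj.left.left)
    {P : Over S} (fstP : (yon S).obj P ⟶ D) (q : P ⟶ E.obj.left)
    (sq : IsPullback fstP ((yon S).map q) i E.obj.hom) :
    (idealOfRep hi).ideal E hE = q.left.ker.ideal ⟨⊤, isAffineOpen_top _⟩ := by
  rw [idealOfRep_ideal]
  let e' := (EtOver.isPullback_bcObj hi E).isoIsPullback _ _ sq
  let e := (yon S).preimageIso e'
  have he : e.hom ≫ q = EtOver.bcπ hi E := by
    apply (yon S).map_injective
    rw [Functor.map_comp, Functor.preimageIso_hom, Functor.map_preimage]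
    exact IsPullback.isoIsPullback_hom_snd _ _ _ _
  have hel : e.hom.left ≫ q.left = (EtOver.bcπ hi E).left := congrArg (fun k => k.left) he
  have : IsIso e.hom.left := (Over.forget S).map_isIso e.hom
  rw [← hel, Scheme.Hom.ker_comp_of_isIso]

/-- The value of the kernel family of `i` on an étale chart mapping to an atlas, in terms of the
closed subscheme of the atlas. -/
theorem idealOfRep_ideal_of_chart (hi : Representable i) {V C A' : Over S}
    (φ : (yon S).obj V ⟶ Y) (c : C ⟶ V) [IsClosedImmersion c.left]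
    (fstC : (yon S).obj C ⟶ D) (sq : IsPullback fstC ((yon S).map c) i φ)
    (h : A' ⟶ V) (hE : RepWith @Etale ((yon S).map h ≫ φ)) (hA : IsAffine A'.left) :
    (idealOfRep hi).ideal (EtOver.mk ((yon S).map h ≫ φ) hE) hA =
      (c.left.ker.comap h.left).ideal ⟨⊤, isAffineOpen_top _⟩ := by
  let P : Over S := Over.mk (pullback.fst h.left c.left ≫ A'.hom)
  let q : P ⟶ A' := Over.homMk (pullback.fst h.left c.left) rfl
  let p : P ⟶ C := Over.homMk (pullback.snd h.left c.left) (by
    change pullback.snd h.left c.left ≫ C.hom = pullback.fst h.left c.left ≫ A'.hom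
    rw [← Over.w c, ← Over.w h, ← Category.assoc, ← Category.assoc, pullback.condition])
  have e : p ≫ c = q ≫ h := by
    ext
    exact pullback.condition.symm
  have sq1 : IsPullback ((yon S).map p) ((yon S).map q) ((yon S).map c) ((yon S).map h) :=
    Groth.Agent.Lib.Helper54.isPullback_yon_of_isPullback_left e
      (IsPullback.of_hasPullback h.left c.left).flip
  have sq2 := sq1.paste_horiz sq
  rw [idealOfRep_ideal_of_isPullback hi (EtOver.mk ((yon S).map h ≫ φ) hE) hA
    ((yon S).map p ≫ fstC) q sq2]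
  change (pullback.fst h.left c.left).ker.ideal _ = _
  rw [Scheme.IdealSheafData.ker_fst_of_isClosedImmersion]

/-- Variant of `idealOfRep_ideal_of_chart` for an arbitrary object of the small étale site
mapping to the chart. -/
theorem idealOfRep_ideal_of_chart' (hi : Representable i) {V C : Over S}
    (φ : (yon S).obj V ⟶ Y) (c : C ⟶ V) [IsClosedImmersion c.left]
    (fstC : (yon S).obj C ⟶ D) (sq : IsPullback fstC ((yon S).map c) i φ)
    (E : EtOver Y) (hE : IsAffine E.obj.left.left) (h : E.obj.left ⟶ V)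
    (hh : (yon S).map h ≫ φ = E.obj.hom) :
    (idealOfRep hi).ideal E hE = (c.left.ker.comap h.left).ideal ⟨⊤, isAffineOpen_top _⟩ := by
  let P : Over S := Over.mk (pullback.fst h.left c.left ≫ E.obj.left.hom)
  let q : P ⟶ E.obj.left := Over.homMk (pullback.fst h.left c.left) rfl
  let p : P ⟶ C := Over.homMk (pullback.snd h.left c.left) (by
    change pullback.snd h.left c.left ≫ C.hom = pullback.fst h.left c.left ≫ E.obj.left.hom
    rw [← Over.w c, ← Over.w h, ← Category.assoc, ← Category.assoc, pullback.condition])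
  have e : p ≫ c = q ≫ h := by
    ext
    exact pullback.condition.symm
  have sq1 : IsPullback ((yon S).map p) ((yon S).map q) ((yon S).map c) ((yon S).map h) :=
    Groth.Agent.Lib.Helper54.isPullback_yon_of_isPullback_left e
      (IsPullback.of_hasPullback h.left c.left).flip
  have sq2 := sq1.paste_horiz sq
  rw [hh] at sq2
  rw [idealOfRep_ideal_of_isPullback hi E hE ((yon S).map p ≫ fstC) q sq2]
  change (pullback.fst h.left c.left).ker.ideal _ = _
  rw [Scheme.IdealSheafData.ker_fst_of_isClosedImmersion]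

open Groth.Agent.H52 in
/-- The value of the kernel family on an affine open of a chart. -/
theorem idealOfRep_ideal_overOpen (hi : Representable i) {V C : Over S}
    (φ : (yon S).obj V ⟶ Y) (c : C ⟶ V) [IsClosedImmersion c.left]
    (fstC : (yon S).obj C ⟶ D) (sq : IsPullback fstC ((yon S).map c) i φ)
    (A : V.left.affineOpens) (hE : RepWith @Etale ((yon S).map (overOpenι V A.1) ≫ φ))
    (hA : IsAffine (EtOver.mk ((yon S).map (overOpenι V A.1) ≫ φ) hE).obj.left.left) :
    (idealOfRep hi).ideal (EtOver.mk ((yon S).map (overOpenι V A.1) ≫ φ) hE) hA =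
      (c.left.ker.ideal A).map A.1.topIso.inv.hom := by
  rw [idealOfRep_ideal_of_chart' hi φ c fstC sq _ hA (overOpenι V A.1) rfl]
  exact Groth.Agent.Lib.Helper18.ideal_comap_ι_top c.left.ker A

open Groth.Agent.H52 in
/-- The restriction of an étale chart to an open is an étale chart. -/
theorem repWith_etale_overOpenι_comp {V : Over S} (φ : (yon S).obj V ⟶ Y) (hφ : RepWith @Etale φ)
    (A : V.left.Opens) : RepWith @Etale ((yon S).map (overOpenι V A) ≫ φ) := by
  have : (RepWith (S := S) @Etale).IsMultiplicative := repWith_isMultiplicative _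
  exact (RepWith @Etale).comp_mem _ _ (repWith_etale_overOpenι V A) hφ

/-- Injectivity of extension of ideals along a ring isomorphism. -/
theorem ideal_eq_of_map_iso_eq {R R' : CommRingCat.{u}} (e : R ≅ R') (K L : Ideal R)
    (h : K.map e.hom.hom = L.map e.hom.hom) : K = L := by
  have h2 := congrArg (Ideal.map e.inv.hom) h
  rw [Ideal.map_map, Ideal.map_map] at h2
  have : e.inv.hom.comp e.hom.hom = RingHom.id _ := by
    rw [← CommRingCat.hom_comp, e.hom_inv_id]
    rfl
  rwa [this, Ideal.map_id, Ideal.map_id] at h2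

open Groth.Agent.H52 in
/-- On a chart, the closed subscheme of the subspace cut out by a product is cut out by the
product of the ideal sheaves. -/
theorem ker_eq_mul_of_isCutOutBy {D₁ D₂ : Sp S} {i₁ : D₁ ⟶ Y} {i₂ : D₂ ⟶ Y}
    (I₁ I₂ : IdealEt Y) (h₁ : IsCutOutBy I₁ i₁) (h₂ : IsCutOutBy I₂ i₂)
    (hD : IsCutOutBy (I₁ * I₂) i) {V C₁ C₂ C : Over S} (φ : (yon S).obj V ⟶ Y)
    (hφ : RepWith @Etale φ)
    (c₁ : C₁ ⟶ V) (c₂ : C₂ ⟶ V) (c : C ⟶ V) [IsClosedImmersion c₁.left]
    [IsClosedImmersion c₂.left] [IsClosedImmersion c.left]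
    (f₁ : (yon S).obj C₁ ⟶ D₁) (sq₁ : IsPullback f₁ ((yon S).map c₁) i₁ φ)
    (f₂ : (yon S).obj C₂ ⟶ D₂) (sq₂ : IsPullback f₂ ((yon S).map c₂) i₂ φ)
    (f : (yon S).obj C ⟶ D) (sq : IsPullback f ((yon S).map c) i φ) :
    c.left.ker = c₁.left.ker * c₂.left.ker := by
  obtain ⟨hi₁, rfl⟩ := h₁
  obtain ⟨hi₂, rfl⟩ := h₂
  obtain ⟨hi, hI⟩ := hD
  apply Scheme.IdealSheafData.ext
  funext A
  have hE := repWith_etale_overOpenι_comp φ hφ A.1
  have hA : IsAffine (EtOver.mk ((yon S).map (overOpenι V A.1) ≫ φ) hE).obj.left.left := A.2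
  have e := idealOfRep_ideal_overOpen hi.1 φ c f sq A hE hA
  have e₁ := idealOfRep_ideal_overOpen hi₁.1 φ c₁ f₁ sq₁ A hE hA
  have e₂ := idealOfRep_ideal_overOpen hi₂.1 φ c₂ f₂ sq₂ A hE hA
  rw [hI, IdealEt.mul_ideal, e₁, e₂, ← Ideal.map_mul] at e
  rw [Scheme.IdealSheafData.ideal_mul, Pi.mul_apply]
  exact (ideal_eq_of_map_iso_eq A.1.topIso.symm _ _ e).symm

/-- A chart square with a closed immersion can be replaced by the chart square with the closed
subscheme of its kernel. -/
theorem exists_isPullback_subOver_of_ker_eq {V C : Over S} (φ : (yon S).obj V ⟶ Y) (c : C ⟶ V)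
    [IsClosedImmersion c.left] (fstC : (yon S).obj C ⟶ D)
    (sq : IsPullback fstC ((yon S).map c) i φ) (J : V.left.IdealSheafData)
    (hJ : c.left.ker = J) :
    ∃ fst : (yon S).obj (subOver V J) ⟶ D, IsPullback fst ((yon S).map (subOverι V J)) i φ := by
  subst hJ
  have hfac : c.left.toImage ≫ c.left.ker.subschemeι = c.left := Scheme.Hom.toImage_imageι _
  let e₀ : C ⟶ subOver V c.left.ker := Over.homMk c.left.toImage (by
    change c.left.toImage ≫ c.left.ker.subschemeι ≫ V.hom = C.hom
    rw [← Category.assoc, hfac, Over.w])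
  have he₀ : e₀ ≫ subOverι V c.left.ker = c := by
    ext
    exact hfac
  have : IsIso e₀ := by
    have : IsIso ((Over.forget S).map e₀) := by
      change IsIso c.left.toImage
      infer_instance
    exact isIso_of_reflects_iso e₀ (Over.forget S)
  refine ⟨inv ((yon S).map e₀) ≫ fstC, ?_⟩
  refine IsPullback.of_iso sq (asIso ((yon S).map e₀)) (Iso.refl _) (Iso.refl _) (Iso.refl _)
    ?_ ?_ ?_ ?_
  · simp
  · simp only [asIso_hom, Iso.refl_hom, Category.comp_id]
    rw [← Functor.map_comp, he₀]
  · simp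
  · simp

end Groth.Agent.H53.QcIdeal
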