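import Groth.Agent.H53.QcIdeal6
import Groth.Agent.H53.QcIdeal3
import Mathlib.AlgebraicGeometry.Morphisms.UniversallyOpen
import Groth.Agent.H8.EffCartier2
import Mathlib.AlgebraicGeometry.Morphisms.Etale

set_option autoImplicit false
set_option backward.isDefEq.respectTransparency false
universe u
open CategoryTheory CategoryTheory.Limits AlgebraicGeometry Opposite Topology TopologicalSpace

namespace Groth.Agent.H53.EffCartDesc

open Groth.Agent.H53.QcIdeal Groth.Agent.H8.EffCartier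

/-- If the extension of an ideal is principal generated by a nonzerodivisor, then some element of
the ideal maps to a multiple of the generator by an element outside a given proper ideal. -/
lemma exists_preimage_generator {A B : Type*} [CommRing A] [CommRing B] (φ : A →+* B)
    (I : Ideal A) (g : B) (hg : g ∈ nonZeroDivisors B) (hI : I.map φ = Ideal.span {g})
    (q : Ideal B) (hq : q ≠ ⊤) : ∃ f ∈ I, ∃ c, c ∉ q ∧ φ f = c * g := by
  by_contra h
  push Not at h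
  have hle : I.map φ ≤ q * Ideal.span {g} := by
    rw [Ideal.map_le_iff_le_comap]
    intro x hx
    rw [Ideal.mem_comap]
    have hxg : φ x ∈ Ideal.span {g} := hI ▸ Ideal.mem_map_of_mem φ hx
    obtain ⟨a, ha⟩ := Ideal.mem_span_singleton'.mp hxg
    have haq : a ∈ q := by
      by_contra haq
      exact h x hx a haq ha.symm
    rw [← ha]
    exact Ideal.mul_mem_mul haq (Ideal.mem_span_singleton_self g)
  have hgm : g ∈ q * Ideal.span {g} := hle (hI ▸ Ideal.mem_span_singleton_self g)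
  obtain ⟨z, hz, hzg⟩ := Ideal.mem_mul_span_singleton.mp hgm
  have : (z - 1) * g = 0 := by rw [sub_mul, hzg, one_mul, sub_self]
  have hz1 : z = 1 := sub_eq_zero.mp ((mem_nonZeroDivisors_iff_right.mp hg) _ this)
  apply hq
  rw [Ideal.eq_top_iff_one, ← hz1]
  exact hz

variable {W U : Scheme.{u}}

/-- Shrinking: if the pullback ideal sheaf has a nonzerodivisor generator near `w`, then there are
affine opens `B ∋ w`, `A ∋ h w` with `B ≤ h⁻¹ A` and `f ∈ 𝓘(A)` whose pullback generates on `B`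
and is a nonzerodivisor there. -/
theorem exists_generator_from_below (h : W ⟶ U) [Flat h] (𝓘 : U.IdealSheafData) (w : W)
    (hw : ∃ B : W.affineOpens, w ∈ B.1 ∧ ∃ g : Γ(W, B.1), g ∈ nonZeroDivisors Γ(W, B.1) ∧
      (𝓘.comap h).ideal B = Ideal.span {g}) :
    ∃ (A : U.affineOpens) (B : W.affineOpens) (e : B.1 ≤ h ⁻¹ᵁ A.1) (f : Γ(U, A.1)),
      w ∈ B.1 ∧ f ∈ 𝓘.ideal A ∧ (h.appLE A.1 B.1 e).hom f ∈ nonZeroDivisors Γ(W, B.1) ∧
        (𝓘.comap h).ideal B = Ideal.span {(h.appLE A.1 B.1 e).hom f} := by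
  obtain ⟨B, hwB, g, hg, hB⟩ := hw
  obtain ⟨_, ⟨A₀, hA₀, rfl⟩, hxA₀, -⟩ :=
    (U.isBasis_affineOpens).exists_subset_of_mem_open (Set.mem_univ (h w)) isOpen_univ
  obtain ⟨_, ⟨B₁, hB₁, rfl⟩, hwB₁, hB₁le⟩ :=
    (W.isBasis_affineOpens).exists_subset_of_mem_open
      (show w ∈ ((B.1 ⊓ h ⁻¹ᵁ A₀ : W.Opens) : Set W) from ⟨hwB, hxA₀⟩) (B.1 ⊓ h ⁻¹ᵁ A₀).isOpen
  have hB₁B : B₁ ≤ B.1 := fun x hx => (hB₁le hx).1
  have e₁ : B₁ ≤ h ⁻¹ᵁ A₀ := fun x hx => (hB₁le hx).2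
  obtain ⟨hg₁, hgen₁⟩ := restrict_generator (𝓘.comap h) B g hg hB ⟨B₁, hB₁⟩ hB₁B
  set g₁ := (W.presheaf.map (homOfLE hB₁B).op).hom g with hg₁def
  have hmap := Groth.Agent.Lib.Helper18.ideal_comap_of_le h 𝓘 ⟨B₁, hB₁⟩ ⟨A₀, hA₀⟩ e₁
  have hI : (𝓘.ideal ⟨A₀, hA₀⟩).map (h.appLE A₀ B₁ e₁).hom = Ideal.span {g₁} := by
    rw [← hmap, hgen₁]
  set p := hB₁.primeIdealOf ⟨w, hwB₁⟩ with hp
  obtain ⟨f₀, hf₀, c, hcq, hfc⟩ := exists_preimage_generator (h.appLE A₀ B₁ e₁).hom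
    (𝓘.ideal ⟨A₀, hA₀⟩) g₁ hg₁ hI p.asIdeal p.2.ne_top
  have hwc : w ∈ W.basicOpen c :=
    (mem_basicOpen_iff_notMem_primeIdealOf ⟨B₁, hB₁⟩ w hwB₁ c).mpr hcq
  let B₂ : W.affineOpens := W.affineBasicOpen (U := ⟨B₁, hB₁⟩) c
  have hB₂B₁ : B₂.1 ≤ B₁ := W.basicOpen_le c
  let ρ := (W.presheaf.map (homOfLE hB₂B₁).op).hom
  obtain ⟨hρg, hρ⟩ := restrict_generator (𝓘.comap h) ⟨B₁, hB₁⟩ g₁ hg₁ hgen₁ B₂ hB₂B₁
  have hu : IsUnit (ρ c) := W.toRingedSpace.isUnit_res_basicOpen c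
  have e₂ : B₂.1 ≤ h ⁻¹ᵁ A₀ := hB₂B₁.trans e₁
  have hcomp : (h.appLE A₀ B₂.1 e₂).hom f₀ = ρ c * ρ g₁ := by
    have := Scheme.Hom.appLE_map h e₁ (homOfLE hB₂B₁).op
    have h2 := congrArg (fun k => k.hom f₀) this
    simp only [CommRingCat.hom_comp, RingHom.comp_apply] at h2
    rw [← map_mul, ← hfc]
    exact h2.symm
  refine ⟨⟨A₀, hA₀⟩, B₂, e₂, f₀, hwc, hf₀, ?_, ?_⟩
  · rw [hcomp]
    exact mul_mem hu.mem_nonZeroDivisors hρg
  · rw [hρ, hcomp, Ideal.span_singleton_mul_left_unit hu]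

/-- Étale descent of effective Cartier ideal sheaves at a point. -/
theorem exists_generator_of_comap_etale (h : W ⟶ U) [Etale h] (𝓘 : U.IdealSheafData) (w : W)
    (hw : ∃ B : W.affineOpens, w ∈ B.1 ∧ ∃ g : Γ(W, B.1), g ∈ nonZeroDivisors Γ(W, B.1) ∧
      (𝓘.comap h).ideal B = Ideal.span {g}) :
    ∃ A : U.affineOpens, h w ∈ A.1 ∧ ∃ f : Γ(U, A.1), f ∈ nonZeroDivisors Γ(U, A.1) ∧
      𝓘.ideal A = Ideal.span {f} := by
  obtain ⟨A₀, B₂, e₂, f₀, hwB₂, hf₀, hnzd, hgen⟩ := exists_generator_from_below h 𝓘 w hw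
  have hopen : IsOpen (h '' (B₂.1 : Set W)) := h.isOpenMap _ B₂.1.isOpen
  let O : U.Opens := ⟨h '' (B₂.1 : Set W), hopen⟩
  have hxO : h w ∈ O := ⟨w, hwB₂, rfl⟩
  obtain ⟨s, hsO, hxs⟩ := A₀.2.exists_basicOpen_le (V := O) ⟨h w, hxO⟩ (e₂ hwB₂)
  let A' : U.affineOpens := U.affineBasicOpen (U := A₀) s
  have hA'A₀ : A'.1 ≤ A₀.1 := U.basicOpen_le s
  set f' := (U.presheaf.map (homOfLE hA'A₀).op).hom f₀ with hf'
  -- the flat cover of `A'`
  have hE : IsAffine (A'.1 : Scheme.{u}) := A'.2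
  let σ := {B' : W.affineOpens // B'.1 ≤ B₂.1 ⊓ h ⁻¹ᵁ A'.1}
  have ey : ∀ y : σ, y.1.1 ≤ h ⁻¹ᵁ A'.1 := fun y => le_trans y.2 inf_le_right
  have ey₂ : ∀ y : σ, y.1.1 ≤ B₂.1 := fun y => le_trans y.2 inf_le_left
  have hBaff : ∀ y : σ, IsAffine ((fun y : σ => (y.1.1 : Scheme.{u})) y) := fun y => y.1.2
  have hget : ∀ y : σ, Etale (h.resLE A'.1 y.1.1 (ey y)) := fun y => by
    delta Scheme.Hom.resLE; infer_instance
  have hgflat : ∀ y : σ, Flat ((fun y : σ => h.resLE A'.1 y.1.1 (ey y)) y) := fun y =>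
    inferInstance
  have hgopen : ∀ y : σ, IsOpen (Set.range (h.resLE A'.1 y.1.1 (ey y))) := fun y =>
    (h.resLE A'.1 y.1.1 (ey y)).isOpenMap.isOpen_range
  have hgsurj : ∀ x : (A'.1 : Scheme.{u}), ∃ y : σ, x ∈ Set.range (h.resLE A'.1 y.1.1 (ey y)) := by
    intro x
    obtain ⟨b, hbB₂, hbx⟩ := hsO x.2
    have hbA' : b ∈ h ⁻¹ᵁ A'.1 := by
      change h b ∈ A'.1
      rw [hbx]
      exact x.2
    obtain ⟨_, ⟨B', hB', rfl⟩, hbB', hB'le⟩ :=
      (W.isBasis_affineOpens).exists_subset_of_mem_open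
        (show b ∈ ((B₂.1 ⊓ h ⁻¹ᵁ A'.1 : W.Opens) : Set W) from ⟨hbB₂, hbA'⟩)
        (B₂.1 ⊓ h ⁻¹ᵁ A'.1).isOpen
    refine ⟨⟨⟨B', hB'⟩, hB'le⟩, ⟨b, hbB'⟩, ?_⟩
    apply Subtype.ext
    rw [Scheme.Hom.coe_resLE_apply]
    exact hbx
  -- the key compatibility of sections
  have hkey : ∀ (y : σ) (a : Γ(U, A'.1)),
      (h.resLE A'.1 y.1.1 (ey y)).appTop.hom (A'.1.topIso.inv.hom a) =
        y.1.1.topIso.inv.hom ((h.appLE A'.1 y.1.1 (ey y)).hom a) := by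
    intro y a
    have := Scheme.Hom.resLE_app_top h (ey y)
    have h2 := congrArg (fun k => k.hom (A'.1.topIso.inv.hom a)) this
    simp only [CommRingCat.hom_comp, RingHom.comp_apply] at h2
    refine Eq.trans h2 ?_
    congr 2
    change (A'.1.topIso.inv ≫ A'.1.topIso.hom).hom a = a
    rw [Iso.inv_hom_id]
    rfl
  have hfy : ∀ y : σ, (h.appLE A'.1 y.1.1 (ey y)).hom f' =
      (W.presheaf.map (homOfLE (ey₂ y)).op).hom ((h.appLE A₀.1 B₂.1 e₂).hom f₀) := by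
    intro y
    have h1 := Scheme.Hom.map_appLE h (ey y) (homOfLE hA'A₀).op
    have h2 := Scheme.Hom.appLE_map h e₂ (homOfLE (ey₂ y)).op
    have h1' := congrArg (fun k => k.hom f₀) h1
    have h2' := congrArg (fun k => k.hom f₀) h2
    simp only [CommRingCat.hom_comp, RingHom.comp_apply] at h1' h2'
    rw [hf', h1', h2']
  have hrg := fun y : σ => restrict_generator (𝓘.comap h) B₂ _ hnzd hgen y.1 (ey₂ y)
  have hcomapy : ∀ y : σ, (𝓘.comap A'.1.ι).comap (h.resLE A'.1 y.1.1 (ey y)) =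
      (𝓘.comap h).comap y.1.1.ι := by
    intro y
    rw [← Scheme.IdealSheafData.comap_comp, ← Scheme.IdealSheafData.comap_comp,
      Scheme.Hom.resLE_comp_ι]
  refine ⟨A', hxs, f', ?_, ?_⟩
  · -- nonzerodivisor
    rw [mem_nonZeroDivisors_iff_right]
    intro a ha
    have hK : Ideal.span {A'.1.topIso.inv.hom a} = (⊥ : Ideal Γ((A'.1 : Scheme.{u}), ⊤)) := by
      refine ideal_eq_of_flat_cover (fun y : σ => (y.1.1 : Scheme.{u}))
        (fun y => h.resLE A'.1 y.1.1 (ey y)) hgopen hgsurj _ _ (fun y => ?_)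
      rw [Ideal.map_bot, Ideal.map_span, Set.image_singleton, hkey]
      have h0 : (h.appLE A'.1 y.1.1 (ey y)).hom a = 0 := by
        apply (mem_nonZeroDivisors_iff_right.mp (hrg y).1)
        rw [← hfy, ← map_mul, ha, map_zero]
      rw [h0, map_zero]
      exact Ideal.span_singleton_eq_bot.2 rfl
    have h0 : A'.1.topIso.inv.hom a = 0 := Ideal.span_singleton_eq_bot.1 hK
    have h1 := congrArg A'.1.topIso.hom.hom h0
    rw [map_zero] at h1
    rw [← h1]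
    change a = (A'.1.topIso.inv ≫ A'.1.topIso.hom).hom a
    rw [Iso.inv_hom_id]
    rfl
  · -- generation
    have hK : (𝓘.comap A'.1.ι).ideal ⟨⊤, isAffineOpen_top _⟩ =
        Ideal.span {A'.1.topIso.inv.hom f'} := by
      refine ideal_eq_of_flat_cover (fun y : σ => (y.1.1 : Scheme.{u}))
        (fun y => h.resLE A'.1 y.1.1 (ey y)) hgopen hgsurj _ _ (fun y => ?_)
      have : IsAffine (y.1.1 : Scheme.{u}) := y.1.2
      rw [← Groth.Agent.Lib.Helper18.ideal_comap_top_of_isAffine (h.resLE A'.1 y.1.1 (ey y)),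
        hcomapy, Groth.Agent.Lib.Helper18.ideal_comap_ι_top, (hrg y).2, Ideal.map_span,
        Ideal.map_span, Set.image_singleton, Set.image_singleton, hkey, hfy]
    rw [Groth.Agent.Lib.Helper18.ideal_comap_ι_top] at hK
    have h2 : Ideal.span {A'.1.topIso.inv.hom f'} =
        (Ideal.span {f'}).map A'.1.topIso.inv.hom := by
      rw [Ideal.map_span, Set.image_singleton]
    rw [h2] at hK
    exact ideal_eq_of_map_iso_eq A'.1.topIso.symm _ _ hK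

end Groth.Agent.H53.EffCartDesc
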