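import Groth.Agent.H53.ZarGlueInt

set_option autoImplicit false
set_option backward.isDefEq.respectTransparency false
universe u
open CategoryTheory CategoryTheory.Limits AlgebraicGeometry Opposite

namespace Groth.Agent.H53.ZarGlue

open AlgSp Groth.Agent.Lib.Helper51

variable {S : Scheme.{u}}

/-- Zariski-local representing data for `φ : F ⟶ G` at a point `t` of `T` (with respect to `g : h_T ⟶ G`), with the
representing morphism satisfying `P`. -/
def LocalRepAt (P : MorphismProperty Scheme.{u}) {F G : Sp S} (φ : F ⟶ G) (T : Over S)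
    (g : (yon S).obj T ⟶ G) (t : ↥T.left) : Prop :=
  ∃ (T' : Over S) (c : T' ⟶ T) (W : Over S) (i : W ⟶ T') (fst : (yon S).obj W ⟶ F),
    IsOpenImmersion c.left ∧ t ∈ Set.range c.left ∧
      IsPullback fst ((yon S).map i) φ ((yon S).map c ≫ g) ∧ P i.left

/-- Zariski-locally representable morphisms are representable. -/
theorem representable_of_localRepAt {P : MorphismProperty Scheme.{u}} {F G : Sp S} {φ : F ⟶ G}
    (hφ : ∀ (T : Over S) (g : (yon S).obj T ⟶ G) (t : ↥T.left), LocalRepAt P φ T g t) :
    Representable φ := by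
  intro T g
  choose T' c W i fstW hc htc sqW _ using hφ T g
  let fU : ∀ t : ↥T.left, (yon S).obj (W t) ⟶ pullback φ g := fun t =>
    pullback.lift (fstW t) ((yon S).map (i t ≫ c t))
      (by rw [(sqW t).w, Functor.map_comp, Category.assoc])
  have sqL : ∀ t, IsPullback (fU t) ((yon S).map (i t)) (pullback.snd φ g)
      ((yon S).map (c t)) := fun t =>
    IsPullback.of_right (by simpa [fU] using sqW t) (by simp [fU]) (IsPullback.of_hasPullback φ g)
  have hfU : ∀ t, RepWith @IsOpenImmersion (fU t) := fun t =>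
    MorphismProperty.of_isPullback (sqL t).flip ((repWith_yon_map_iff _ _).2 (hc t))
  have hcov : LocallyLifts fU := by
    intro T'' g' t
    let b : T'' ⟶ T := (yon S).preimage (g' ≫ pullback.snd φ g)
    have hb : (yon S).map b = g' ≫ pullback.snd φ g := Functor.map_preimage _ _
    have := hc (b.left t)
    let U : T''.left.Opens := b.left ⁻¹ᵁ (c (b.left t)).left.opensRange
    have hU : Set.range (U.ι ≫ b.left) ⊆ Set.range (c (b.left t)).left := by
      rintro _ ⟨y, rfl⟩
      exact y.2
    let r₀ : U.toScheme ⟶ (T' (b.left t)).left :=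
      IsOpenImmersion.lift (c (b.left t)).left (U.ι ≫ b.left) hU
    have hr₀ : r₀ ≫ (c (b.left t)).left = U.ι ≫ b.left := IsOpenImmersion.lift_fac _ _ _
    let r : ov T'' U ⟶ T' (b.left t) := Over.homMk r₀ (by
      change r₀ ≫ (T' (b.left t)).hom = U.ι ≫ T''.hom
      rw [← Over.w (c (b.left t)), ← Category.assoc, hr₀, Category.assoc, Over.w])
    have hr : r ≫ c (b.left t) = ovι T'' U ≫ b := by ext; exact hr₀
    let l' : (yon S).obj (ov T'' U) ⟶ (yon S).obj (W (b.left t)) :=
      (sqL (b.left t)).lift ((yon S).map (ovι T'' U) ≫ g') ((yon S).map r) (by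
          rw [Category.assoc, ← hb, ← Functor.map_comp, ← Functor.map_comp, hr])
    refine ⟨b.left t, U, (yon S).preimage l', htc (b.left t), ?_⟩
    rw [Functor.map_preimage]
    exact ((sqL (b.left t)).lift_fst _ _ _).symm
  obtain ⟨Yg, e, j, -, hj, -⟩ := exists_iso_yon hfU hcov
  refine ⟨Yg, (yon S).preimage (e.hom ≫ pullback.snd φ g), e.hom ≫ pullback.fst φ g, ?_⟩
  rw [Functor.map_preimage]
  exact IsPullback.of_iso (IsPullback.of_hasPullback φ g) e.symm (Iso.refl _) (Iso.refl _)
    (Iso.refl _) (by simp) (by simp) (by simp) (by simp)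


/-- A Zariski-local-at-the-target property of the local representing morphisms passes to every representing base
change. -/
theorem prop_of_localRepAt {P : MorphismProperty Scheme.{u}} [IsZariskiLocalAtTarget P]
    {F G : Sp S} {φ : F ⟶ G}
    {U V : Over S} (g : (yon S).obj U ⟶ G) (fst : (yon S).obj V ⟶ F) (snd : V ⟶ U)
    (sq : IsPullback fst ((yon S).map snd) φ g)
    (hφ : ∀ (u : ↥U.left), LocalRepAt P φ U g u) : P snd.left := by
  apply IsZariskiLocalAtTarget.of_forall_exists_morphismRestrict
  intro u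
  obtain ⟨T', c, W, i, fstW, hc, huc, sqW, hP⟩ := hφ u
  refine ⟨c.left.opensRange, huc, ?_⟩
  -- the isomorphism `T' ≅ ov U (range c)`
  let ε₀ : T'.left ≅ (c.left.opensRange : U.left.Opens).toScheme :=
    IsOpenImmersion.isoOfRangeEq c.left (c.left.opensRange).ι (by simp)
  have hε₀ : ε₀.hom ≫ (c.left.opensRange).ι = c.left :=
    IsOpenImmersion.isoOfRangeEq_hom_fac _ _ _
  let ε : T' ≅ ov U c.left.opensRange := Over.isoMk ε₀ (by
    change ε₀.hom ≫ (c.left.opensRange).ι ≫ U.hom = T'.hom
    rw [← Category.assoc, hε₀, Over.w])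
  have hε : ε.hom ≫ ovι U c.left.opensRange = c := by ext; exact hε₀
  have sqW' : IsPullback fstW ((yon S).map (i ≫ ε.hom)) φ
      ((yon S).map (ovι U c.left.opensRange) ≫ g) := by
    refine IsPullback.of_iso sqW (Iso.refl _) (Iso.refl _) ((yon S).mapIso ε) (Iso.refl _)
      (by simp) (by simp) (by simp) ?_
    rw [Iso.refl_hom, Category.comp_id, Functor.mapIso_hom, ← Category.assoc, ← Functor.map_comp,
      hε]
  let e : (yon S).obj W ≅ (yon S).obj (ov V (snd.left ⁻¹ᵁ c.left.opensRange)) :=
    sqW'.isoIsPullback _ _ (isPullback_restrict sq c.left.opensRange)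
  have he : e.hom ≫ (yon S).map (ovRestrict snd c.left.opensRange) = (yon S).map (i ≫ ε.hom) :=
    sqW'.isoIsPullback_hom_snd _ _ (isPullback_restrict sq c.left.opensRange)
  let e' : W ≅ ov V (snd.left ⁻¹ᵁ c.left.opensRange) := (yon S).preimageIso e
  have he' : e'.hom ≫ ovRestrict snd c.left.opensRange = i ≫ ε.hom := by
    apply (yon S).map_injective
    rw [Functor.map_comp, Functor.preimageIso_hom, Functor.map_preimage, he]
  have he'' : ((Over.forget S).mapIso e').hom ≫ (snd.left ∣_ c.left.opensRange) =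
      i.left ≫ ε₀.hom := by
    have := congrArg CommaMorphism.left he'
    exact this
  have h4 : P (i.left ≫ ε₀.hom) := (P.cancel_right_of_respectsIso _ _).2 hP
  rw [← he''] at h4
  exact (P.cancel_left_of_respectsIso _ _).1 h4

theorem repWith_of_localRepAt {P : MorphismProperty Scheme.{u}} [IsZariskiLocalAtTarget P]
    {F G : Sp S} {φ : F ⟶ G}
    (hφ : ∀ (T : Over S) (g : (yon S).obj T ⟶ G) (t : ↥T.left), LocalRepAt P φ T g t) :
    RepWith P φ :=
  ⟨representable_of_localRepAt hφ, fun U _ g fst snd sq => prop_of_localRepAt g fst snd sq (hφ U g)⟩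

end Groth.Agent.H53.ZarGlue
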