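import Groth.Agent.H53.EffDescSp
import Groth.Agent.H53.ZarGlueLoc
import Groth.Agent.H52.Epi

set_option autoImplicit false
set_option backward.isDefEq.respectTransparency false
universe u
open CategoryTheory CategoryTheory.Limits AlgebraicGeometry Opposite
open AlgSp

namespace Groth.Agent.H53.EffDesc

open Groth.Agent.H53.ZarGlue

variable {S : Scheme.{u}}

/-- Monomorphisms of fppf sheaves descend along base change by an epimorphism. -/
theorem mono_of_isPullback_of_epi {A B C D : Sp S} {fst : A ⟶ B} {snd : A ⟶ C} {f : B ⟶ D}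
    {g : C ⟶ D} (sq : IsPullback fst snd f g) [Epi g] [Mono snd] : Mono f := by
  apply Groth.Agent.Lib.Helper51.mono_of_forall_yon
  intro T x₁ x₂ hx
  obtain ⟨Sv, hSv, hl⟩ := Groth.Agent.Lib.Helper51.exists_cover_lift_of_epi g (x₁ ≫ f)
  refine Groth.Agent.Lib.Helper51.yon_hom_ext_of_cover x₁ x₂ Sv hSv fun Y y hy => ?_
  obtain ⟨a, ha⟩ := hl y hy
  have e : sq.lift ((yon S).map y ≫ x₁) a (by rw [Category.assoc, ha]) =
      sq.lift ((yon S).map y ≫ x₂) a (by rw [Category.assoc, ← hx, ha]) := by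
    rw [← cancel_mono snd, sq.lift_snd, sq.lift_snd]
  have := congrArg (· ≫ fst) e
  simpa only [sq.lift_fst] using this


/-- Around every point of the target of an étale surjective morphism of schemes there is an affine
open neighbourhood which is covered by a single affine open of the source. -/
theorem exists_affine_refinement {T T' : Scheme.{u}} (b : T' ⟶ T) [Etale b] [Surjective b]
    (t : ↥T) :
    ∃ (T₁ : T.Opens) (N : T'.Opens) (hle : N ≤ b ⁻¹ᵁ T₁),
      t ∈ T₁ ∧ IsAffineOpen T₁ ∧ IsAffineOpen N ∧ Function.Surjective (b.resLE T₁ N hle) := by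
  obtain ⟨t', ht'⟩ := b.surjective t
  obtain ⟨_, ⟨T₀, hT₀, rfl⟩, htT₀, -⟩ :=
    T.isBasis_affineOpens.exists_subset_of_mem_open (Set.mem_univ t) isOpen_univ
  obtain ⟨_, ⟨N₀, hN₀, rfl⟩, ht'N₀, hN₀le'⟩ :=
    T'.isBasis_affineOpens.exists_subset_of_mem_open
      (show t' ∈ ((b ⁻¹ᵁ T₀ : T'.Opens) : Set ↥T') from by
        change b t' ∈ T₀
        rw [ht']; exact htT₀) (b ⁻¹ᵁ T₀).2
  have hN₀le : N₀ ≤ b ⁻¹ᵁ T₀ := hN₀le'
  let O : T.Opens := ⟨b '' N₀, b.isOpenMap _ N₀.2⟩
  have htO : t ∈ O := ⟨t', ht'N₀, ht'⟩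
  obtain ⟨s, hsO, hts⟩ := hT₀.exists_basicOpen_le (V := O) ⟨t, htO⟩ htT₀
  have hNeq : T'.basicOpen (b.appLE T₀ N₀ hN₀le s) = N₀ ⊓ b ⁻¹ᵁ T.basicOpen s :=
    Scheme.basicOpen_appLE b N₀ T₀ hN₀le s
  refine ⟨T.basicOpen s, T'.basicOpen (b.appLE T₀ N₀ hN₀le s), by rw [hNeq]; exact inf_le_right,
    hts, hT₀.basicOpen s, hN₀.basicOpen _, ?_⟩
  intro x
  have hxO : x.1 ∈ O := hsO x.2
  obtain ⟨n₀, hn₀, hbn₀⟩ := hxO
  have hn₀N : n₀ ∈ T'.basicOpen (b.appLE T₀ N₀ hN₀le s) := by
    rw [hNeq]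
    refine ⟨hn₀, ?_⟩
    change b n₀ ∈ T.basicOpen s
    rw [hbn₀]; exact x.2
  refine ⟨⟨n₀, hn₀N⟩, ?_⟩
  apply (T.basicOpen s).ι.injective
  rw [← Scheme.Hom.comp_apply, Scheme.Hom.resLE_comp_ι, Scheme.Hom.comp_apply]
  exact hbn₀


/-- **Effective descent for closed immersions** along a representable étale surjective morphism
from a scheme: a morphism of fppf sheaves whose base change to an étale chart of the target is
representable by closed immersions is itself representable by closed immersions. -/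
theorem repWith_isClosedImmersion_of_etale_cover {F G F' : Sp S} (f : F ⟶ G) {V : Over S}
    (p : (yon S).obj V ⟶ G) (hpe : RepWith @Etale p) (hps : RepWith @Surjective p)
    (fst : F' ⟶ F) (snd : F' ⟶ (yon S).obj V) (sq : IsPullback fst snd f p)
    (h : RepWith @IsClosedImmersion snd) : RepWith @IsClosedImmersion f := by
  apply repWith_of_localRepAt
  intro T y t
  have sqT := hpe.rep.isPullback' y
  have hbet : Etale (hpe.rep.snd y).left := hpe.property_snd y
  have hbsurj : Surjective (hpe.rep.snd y).left := hps.2 y _ _ (hpe.rep.isPullback y)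
  generalize hpe.rep.fst' y = a at sqT
  generalize hpe.rep.snd y = b at sqT hbet hbsurj
  generalize hpe.rep.pullback y = T' at a b
  obtain ⟨T₁, N, hle, htT₁, hT₁, hN, hsurj⟩ := exists_affine_refinement b.left t
  let g : ov T' N ⟶ ov T T₁ := Over.homMk (b.left.resLE T₁ N hle) (by
    change b.left.resLE T₁ N hle ≫ T₁.ι ≫ T.hom = N.ι ≫ T'.hom
    rw [← Category.assoc, Scheme.Hom.resLE_comp_ι, Category.assoc, Over.w])
  have hg : g ≫ ovι T T₁ = ovι T' N ≫ b := by ext1; exact Scheme.Hom.resLE_comp_ι _ _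
  have hgaff1 : IsAffine (ov T T₁).left := hT₁
  have hgaff2 : IsAffine (ov T' N).left := hN
  have hget : Etale g.left := IsZariskiLocalAtSource.resLE (P := @Etale) hle hbet
  have hgsurj : Surjective g.left := ⟨hsurj⟩
  have hgepi : Epi ((yon S).map g) := Groth.Agent.H52.epi_yon_map_of_fppf g
  let aN : ov T' N ⟶ V := ovι T' N ≫ a
  have sqh := h.rep.isPullback ((yon S).map aN)
  have hici : IsClosedImmersion (h.rep.snd ((yon S).map aN)).left := h.property_snd _
  generalize h.rep.fst ((yon S).map aN) = κ at sqh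
  generalize h.rep.snd ((yon S).map aN) = i at sqh hici
  generalize h.rep.pullback ((yon S).map aN) = C' at κ i
  have big := sqh.paste_horiz sq
  have hcomp : (yon S).map aN ≫ p = (yon S).map g ≫ ((yon S).map (ovι T T₁) ≫ y) := by
    rw [← Category.assoc ((yon S).map g), ← Functor.map_comp, hg, Functor.map_comp,
      Functor.map_comp, Category.assoc, Category.assoc, sqT.w]
  rw [hcomp] at big
  have sqP := IsPullback.of_hasPullback f ((yon S).map (ovι T T₁) ≫ y)
  have sqN : IsPullback (sqP.lift (κ ≫ fst) ((yon S).map i ≫ (yon S).map g) big.w) ((yon S).map i)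
      (pullback.snd f ((yon S).map (ovι T T₁) ≫ y)) ((yon S).map g) :=
    IsPullback.of_right (by rwa [sqP.lift_fst]) (sqP.lift_snd _ _ _) sqP
  have hmono_i : Mono ((yon S).map i) := by
    have : Mono i.left := inferInstance
    have : Mono i := Groth.Agent.H52.mono_over_of_mono_left i
    exact Groth.Agent.H52.mono_yon_map i
  have hm : Mono (pullback.snd f ((yon S).map (ovι T T₁) ≫ y)) := mono_of_isPullback_of_epi sqN
  obtain ⟨C, c, e, hc, he, hem⟩ := exists_closed_of_affine_cover g i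
    (pullback.snd f ((yon S).map (ovι T T₁) ≫ y)) _ sqN
  refine ⟨ov T T₁, ovι T T₁, C, c, e ≫ pullback.fst f ((yon S).map (ovι T T₁) ≫ y),
    (inferInstance : IsOpenImmersion T₁.ι), ⟨⟨t, htT₁⟩, rfl⟩, ?_, hc⟩
  refine IsPullback.of_iso sqP (asIso e).symm (Iso.refl _) (Iso.refl _) (Iso.refl _) ?_ ?_ ?_ ?_
  · simp
  · rw [Iso.refl_hom, Category.comp_id, Iso.symm_hom, asIso_inv, ← hem, IsIso.inv_hom_id_assoc]
  · simp
  · simp

end Groth.Agent.H53.EffDesc
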