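import Groth.Agent.H53.DescIdeal
import Mathlib.AlgebraicGeometry.Morphisms.ClosedImmersion
import Mathlib.AlgebraicGeometry.Morphisms.Flat
import Mathlib.AlgebraicGeometry.IdealSheaf.Subscheme

set_option autoImplicit false
set_option backward.isDefEq.respectTransparency false
universe u
open CategoryTheory CategoryTheory.Limits AlgebraicGeometry Opposite TensorProduct

namespace Groth.Agent.H53.EffDesc

/-- Comparison of kernels over an affine target reduces to global sections. -/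
theorem ker_le_ker_iff_of_isAffine {X Y Z : Scheme.{u}} [IsAffine Z] (f : X ⟶ Z) (g : Y ⟶ Z) :
    f.ker ≤ g.ker ↔ RingHom.ker f.appTop.hom ≤ RingHom.ker g.appTop.hom := by
  rw [Scheme.ker_of_isAffine f, Scheme.ker_of_isAffine g,
    ← Scheme.IdealSheafData.equivOfIsAffine_symm_apply,
    ← Scheme.IdealSheafData.equivOfIsAffine_symm_apply]
  exact map_le_map_iff (Scheme.IdealSheafData.equivOfIsAffine (X := Z)).symm

/-- Factorization through a closed subscheme of an affine scheme is detected on global sections. -/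
theorem exists_factor_iff_of_isAffine {X Y Z : Scheme.{u}} [IsAffine Z] (f : X ⟶ Z)
    [IsClosedImmersion f] (g : Y ⟶ Z) :
    (∃ l : Y ⟶ X, l ≫ f = g) ↔ RingHom.ker f.appTop.hom ≤ RingHom.ker g.appTop.hom := by
  constructor
  · rintro ⟨l, rfl⟩ x hx
    rw [RingHom.mem_ker] at hx ⊢
    rw [Scheme.Hom.comp_appTop, CommRingCat.hom_comp, RingHom.comp_apply, hx, map_zero]
  · intro h
    exact ⟨IsClosedImmersion.lift f g ((ker_le_ker_iff_of_isAffine f g).2 h),
      IsClosedImmersion.lift_fac _ _ _⟩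

/-- The morphism from `Spec B` to an affine scheme `N` defined by a ring map `Γ(N) ⟶ B`. -/
noncomputable def toAff (N : Scheme.{u}) [IsAffine N] {B : CommRingCat.{u}} (β : Γ(N, ⊤) ⟶ B) :
    Spec B ⟶ N := Spec.map β ≫ N.isoSpec.inv

theorem toAff_appTop (N : Scheme.{u}) [IsAffine N] {B : CommRingCat.{u}} (β : Γ(N, ⊤) ⟶ B) :
    (toAff N β).appTop = β ≫ (Scheme.ΓSpecIso B).inv := by
  have h1 : N.isoSpec.inv.appTop = (Scheme.ΓSpecIso Γ(N, ⊤)).inv := by
    rw [← cancel_mono N.isoSpec.hom.appTop, ← Scheme.Hom.comp_appTop, Iso.hom_inv_id,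
      Scheme.isoSpec_hom, Scheme.toSpecΓ_appTop, Iso.inv_hom_id]
    rfl
  rw [toAff, Scheme.Hom.comp_appTop, h1, Scheme.ΓSpecIso_inv_naturality]

theorem ker_toAff_appTop (N : Scheme.{u}) [IsAffine N] {B : CommRingCat.{u}} (β : Γ(N, ⊤) ⟶ B) :
    RingHom.ker (toAff N β).appTop.hom = RingHom.ker β.hom := by
  rw [toAff_appTop]
  ext x
  simp only [RingHom.mem_ker, CommRingCat.hom_comp, RingHom.comp_apply]
  constructor
  · intro h
    have hinj : Function.Injective (Scheme.ΓSpecIso B).inv.hom :=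
      (ConcreteCategory.bijective_of_isIso (Scheme.ΓSpecIso B).inv).1
    exact hinj (by rw [h, map_zero])
  · intro h
    rw [h, map_zero]

theorem toAff_comp {N T : Scheme.{u}} [IsAffine N] [IsAffine T] (g : N ⟶ T) {B : CommRingCat.{u}}
    (β : Γ(N, ⊤) ⟶ B) : toAff N β ≫ g = toAff T (g.appTop ≫ β) := by
  rw [toAff, toAff, Category.assoc, ← Scheme.isoSpec_inv_naturality, ← Category.assoc,
    ← Spec.map_comp]


/-- The ideal of a closed subscheme of `N` satisfying the descent condition along a flat morphism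
`g : N ⟶ T` of affine schemes is generated by its contraction. -/
theorem map_comap_ker_eq {N T C' : Scheme.{u}} [IsAffine N] [IsAffine T] (g : N ⟶ T) [Flat g]
    (i : C' ⟶ N) [IsClosedImmersion i]
    (D : ∀ (B : CommRingCat.{u}) (h₁ h₂ : Spec B ⟶ N), h₁ ≫ g = h₂ ≫ g →
      (∃ l, l ≫ i = h₁) → ∃ l, l ≫ i = h₂) :
    Ideal.map g.appTop.hom (Ideal.comap g.appTop.hom (RingHom.ker i.appTop.hom)) =
      RingHom.ker i.appTop.hom := by
  letI : Algebra Γ(T, ⊤) Γ(N, ⊤) := g.appTop.hom.toAlgebra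
  have hflat : Module.Flat Γ(T, ⊤) Γ(N, ⊤) :=
    (HasRingHomProperty.iff_of_isAffine (P := @Flat)).1 ‹Flat g›
  refine Groth.Agent.H53.DescIdeal.map_comap_eq_of_descent (A := Γ(T, ⊤)) (A' := Γ(N, ⊤))
    (RingHom.ker i.appTop.hom) fun x hx => ?_
  let K : Ideal (Γ(N, ⊤) ⊗[Γ(T, ⊤)] Γ(N, ⊤)) :=
    Ideal.map (Algebra.TensorProduct.includeLeft : Γ(N, ⊤) →ₐ[Γ(T, ⊤)] _) (RingHom.ker i.appTop.hom)
  let B : CommRingCat.{u} := CommRingCat.of ((Γ(N, ⊤) ⊗[Γ(T, ⊤)] Γ(N, ⊤)) ⧸ K)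
  let β₁ : Γ(N, ⊤) ⟶ B := CommRingCat.ofHom ((Ideal.Quotient.mk K).comp
    (Algebra.TensorProduct.includeLeft : Γ(N, ⊤) →ₐ[Γ(T, ⊤)] _).toRingHom)
  let β₂ : Γ(N, ⊤) ⟶ B := CommRingCat.ofHom ((Ideal.Quotient.mk K).comp
    (Algebra.TensorProduct.includeRight : Γ(N, ⊤) →ₐ[Γ(T, ⊤)] _).toRingHom)
  have hcomp : g.appTop ≫ β₁ = g.appTop ≫ β₂ := by
    ext a
    change (Ideal.Quotient.mk K) ((Algebra.TensorProduct.includeLeft :
        Γ(N, ⊤) →ₐ[Γ(T, ⊤)] _) (algebraMap Γ(T, ⊤) Γ(N, ⊤) a)) =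
      (Ideal.Quotient.mk K) ((Algebra.TensorProduct.includeRight :
        Γ(N, ⊤) →ₐ[Γ(T, ⊤)] _) (algebraMap Γ(T, ⊤) Γ(N, ⊤) a))
    rw [AlgHom.commutes, AlgHom.commutes]
  have h12 : toAff N β₁ ≫ g = toAff N β₂ ≫ g := by rw [toAff_comp, toAff_comp, hcomp]
  have hf1 : ∃ l, l ≫ i = toAff N β₁ := by
    rw [exists_factor_iff_of_isAffine, ker_toAff_appTop]
    intro y hy
    rw [RingHom.mem_ker]
    change (Ideal.Quotient.mk K) ((Algebra.TensorProduct.includeLeft :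
        Γ(N, ⊤) →ₐ[Γ(T, ⊤)] _) y) = 0
    exact Ideal.Quotient.eq_zero_iff_mem.2 (Ideal.mem_map_of_mem _ hy)
  have hf2 := D B _ _ h12 hf1
  rw [exists_factor_iff_of_isAffine, ker_toAff_appTop] at hf2
  have := hf2 hx
  rw [RingHom.mem_ker] at this
  exact Ideal.Quotient.eq_zero_iff_mem.1 this

/-- Effective descent of a closed subscheme along a flat morphism of affine schemes, in terms of
factorizations. -/
theorem exists_closed_descent {N T C' : Scheme.{u}} [IsAffine N] [IsAffine T] (g : N ⟶ T) [Flat g]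
    (i : C' ⟶ N) [IsClosedImmersion i]
    (D : ∀ (B : CommRingCat.{u}) (h₁ h₂ : Spec B ⟶ N), h₁ ≫ g = h₂ ≫ g →
      (∃ l, l ≫ i = h₁) → ∃ l, l ≫ i = h₂) :
    ∃ (C : Scheme.{u}) (c : C ⟶ T), IsClosedImmersion c ∧ (∃ l : C' ⟶ C, l ≫ c = i ≫ g) ∧
      ∀ (Q : Scheme.{u}) (q₁ : Q ⟶ C) (q₂ : Q ⟶ N), q₁ ≫ c = q₂ ≫ g →
        ∃ l : Q ⟶ C', l ≫ i = q₂ := by
  set I' : Ideal Γ(N, ⊤) := RingHom.ker i.appTop.hom with hI'
  set I : Ideal Γ(T, ⊤) := Ideal.comap g.appTop.hom I' with hI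
  have hmap : Ideal.map g.appTop.hom I = I' := map_comap_ker_eq g i D
  let c : Spec (CommRingCat.of (Γ(T, ⊤) ⧸ I)) ⟶ T :=
    toAff T (CommRingCat.ofHom (Ideal.Quotient.mk I))
  have hc : IsClosedImmersion c := by
    have : IsClosedImmersion (Spec.map (CommRingCat.ofHom (Ideal.Quotient.mk I))) :=
      IsClosedImmersion.spec_of_surjective _ Ideal.Quotient.mk_surjective
    change IsClosedImmersion (Spec.map (CommRingCat.ofHom (Ideal.Quotient.mk I)) ≫ T.isoSpec.inv)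
    infer_instance
  have hkc : RingHom.ker c.appTop.hom = I := by
    rw [ker_toAff_appTop]
    exact Ideal.mk_ker
  refine ⟨_, c, hc, ?_, ?_⟩
  · rw [exists_factor_iff_of_isAffine, hkc]
    intro x hx
    rw [RingHom.mem_ker, Scheme.Hom.comp_appTop, CommRingCat.hom_comp, RingHom.comp_apply]
    exact hx
  · intro Q q₁ q₂ hq
    rw [exists_factor_iff_of_isAffine, ← hI', ← hmap, Ideal.map_le_iff_le_comap]
    intro a ha
    rw [Ideal.mem_comap, RingHom.mem_ker]
    have h1 : q₂.appTop.hom (g.appTop.hom a) = (q₂ ≫ g).appTop.hom a := by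
      rw [Scheme.Hom.comp_appTop, CommRingCat.hom_comp, RingHom.comp_apply]
    rw [h1, ← hq, Scheme.Hom.comp_appTop, CommRingCat.hom_comp, RingHom.comp_apply]
    have h2 : c.appTop.hom a = 0 := by
      rw [← RingHom.mem_ker, hkc]; exact ha
    rw [h2, map_zero]

end Groth.Agent.H53.EffDesc
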