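import Groth.Agent.H53.EffDescSch
import Groth.Agent.Lib.Helper51.EpiDescentPullback
import Groth.Agent.Lib.Helper54.ReducedFactor

set_option autoImplicit false
set_option backward.isDefEq.respectTransparency false
universe u
open CategoryTheory CategoryTheory.Limits AlgebraicGeometry Opposite
open AlgSp

namespace Groth.Agent.H53.EffDesc

variable {S : Scheme.{u}}

/-- Epimorphisms of fppf sheaves are stable under base change. -/
theorem epi_fst_of_isPullback {A B C D : Sp S} {fst : A ⟶ B} {snd : A ⟶ C} {f : B ⟶ D} {g : C ⟶ D}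
    (sq : IsPullback fst snd f g) [Epi g] : Epi fst := by
  apply Groth.Agent.Lib.Helper51.epi_of_forall_local_lift
  intro T z
  obtain ⟨Sv, hSv, hl⟩ := Groth.Agent.Lib.Helper51.exists_cover_lift_of_epi g (z ≫ f)
  refine ⟨Sv, hSv, fun Y y hy => ?_⟩
  obtain ⟨a, ha⟩ := hl y hy
  refine ⟨sq.lift ((yon S).map y ≫ z) a (by rw [Category.assoc, ha]), sq.lift_fst _ _ _⟩

/-- Effective descent of a closed subscheme along a flat covering morphism of affine schemes,
for a subsheaf of the target. -/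
theorem exists_closed_of_affine_cover {T₁ N C' : Over S} [IsAffine T₁.left] [IsAffine N.left]
    (g : N ⟶ T₁) [Flat g.left] [Epi ((yon S).map g)]
    (i : C' ⟶ N) [IsClosedImmersion i.left]
    {P : Sp S} (m : P ⟶ (yon S).obj T₁) [Mono m] (k : (yon S).obj C' ⟶ P)
    (sq : IsPullback k ((yon S).map i) m ((yon S).map g)) :
    ∃ (C : Over S) (c : C ⟶ T₁) (e : (yon S).obj C ⟶ P), IsClosedImmersion c.left ∧ IsIso e ∧
      e ≫ m = (yon S).map c := by
  have hNhom : N.hom = g.left ≫ T₁.hom := (Over.w g).symm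
  have hChom : C'.hom = i.left ≫ N.hom := (Over.w i).symm
  -- the descent condition
  have D : ∀ (B : CommRingCat.{u}) (h₁ h₂ : Spec B ⟶ N.left), h₁ ≫ g.left = h₂ ≫ g.left →
      (∃ l, l ≫ i.left = h₁) → ∃ l, l ≫ i.left = h₂ := by
    rintro B h₁ h₂ h12 ⟨l₁, hl₁⟩
    let W : Over S := Over.mk (h₁ ≫ N.hom)
    let H₁ : W ⟶ N := Over.homMk h₁ rfl
    let H₂ : W ⟶ N := Over.homMk h₂ (by
      change h₂ ≫ N.hom = h₁ ≫ N.hom
      rw [hNhom, ← Category.assoc, ← h12, Category.assoc])
    let L₁ : W ⟶ C' := Over.homMk l₁ (by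
      change l₁ ≫ C'.hom = h₁ ≫ N.hom
      rw [hChom, ← Category.assoc, hl₁])
    have hL₁ : L₁ ≫ i = H₁ := by ext1; exact hl₁
    have hH : H₁ ≫ g = H₂ ≫ g := by ext1; exact h12
    obtain ⟨L₂, hL₂⟩ := (yon S).map_surjective (sq.lift ((yon S).map L₁ ≫ k) ((yon S).map H₂) (by
      rw [Category.assoc, sq.w, ← Functor.map_comp, ← Functor.map_comp, ← Functor.map_comp,
        ← Category.assoc, hL₁, hH]))
    have h2 : L₂ ≫ i = H₂ := (yon S).map_injective (by
      rw [Functor.map_comp, hL₂, sq.lift_snd])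
    exact ⟨L₂.left, congrArg (fun φ => φ.left) h2⟩
  obtain ⟨C₀, c₀, hc₀, ⟨l₀, hl₀⟩, K2⟩ := exists_closed_descent g.left i.left D
  let C : Over S := Over.mk (c₀ ≫ T₁.hom)
  let c : C ⟶ T₁ := Over.homMk c₀ rfl
  have hcmono : Mono ((yon S).map c) := by
    have : Mono c.left := by
      change Mono c₀
      infer_instance
    have : Mono c := Groth.Agent.H52.mono_over_of_mono_left c
    exact Groth.Agent.H52.mono_yon_map c
  -- `P ⟶ h_C`
  have hkepi : Epi k := epi_fst_of_isPullback sq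
  let L₀ : C' ⟶ C := Over.homMk l₀ (by
    change l₀ ≫ c₀ ≫ T₁.hom = C'.hom
    rw [← Category.assoc, hl₀, hChom, hNhom, Category.assoc])
  have hL₀ : L₀ ≫ c = i ≫ g := by ext1; exact hl₀
  obtain ⟨e', he'⟩ := Groth.Agent.Lib.Helper54.exists_factor_mono_of_epi ((yon S).map c) m k
    ((yon S).map L₀) (by rw [← Functor.map_comp, hL₀, Functor.map_comp, sq.w])
  -- `h_C ⟶ P`
  have sqC := IsPullback.of_hasPullback c g
  have hq : Epi ((yon S).map (pullback.fst c g)) :=
    epi_fst_of_isPullback (sqC.map (yon S))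
  obtain ⟨l₂, hl₂⟩ := K2 (pullback c g).left (pullback.fst c g).left (pullback.snd c g).left
    (congrArg (fun φ => φ.left) sqC.w)
  let L₂ : pullback c g ⟶ C' := Over.homMk l₂ (by
    rw [hChom, ← Category.assoc, hl₂, Over.w])
  have hL₂ : L₂ ≫ i = pullback.snd c g := by ext1; exact hl₂
  obtain ⟨e, he⟩ := Groth.Agent.Lib.Helper54.exists_factor_mono_of_epi m ((yon S).map c)
    ((yon S).map (pullback.fst c g)) ((yon S).map L₂ ≫ k) (by
      rw [Category.assoc, sq.w, ← Functor.map_comp, ← Functor.map_comp, ← Functor.map_comp,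
        ← Category.assoc, hL₂, sqC.w])
  have h1 : e ≫ e' = 𝟙 _ := by
    rw [← cancel_mono ((yon S).map c), Category.assoc, he', he, Category.id_comp]
  have h2 : e' ≫ e = 𝟙 _ := by
    rw [← cancel_mono m, Category.assoc, he, he', Category.id_comp]
  exact ⟨C, c, e, hc₀, ⟨e', h1, h2⟩, he⟩

end Groth.Agent.H53.EffDesc
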