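import Groth.Agent.H53.SoberSp

set_option autoImplicit false
set_option backward.isDefEq.respectTransparency false
universe u
open CategoryTheory CategoryTheory.Limits AlgebraicGeometry Opposite Topology TopologicalSpace
open AlgSp

namespace Groth.Agent.H53.SpectralSp

variable {S : Scheme.{u}}

theorem range_map_overOpenι {X : Sp S} {U : Over S} (a : (yon S).obj U ⟶ X) (V₀ : U.left.Opens) :
    Set.range (Points.map ((yon S).map (Groth.Agent.H52.overOpenι U V₀) ≫ a)) =
      Points.ofPt a '' (V₀ : Set ↥U.left) := by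
  have hrange : Set.range (Groth.Agent.H52.overOpenι U V₀).left = (V₀ : Set ↥U.left) := by
    change Set.range V₀.ι = _
    rw [Scheme.Opens.range_ι]
  rw [← hrange]
  ext x
  constructor
  · rintro ⟨y, rfl⟩
    obtain ⟨v, rfl⟩ := Groth.Agent.Lib.Helper54.exists_ofScheme_eq _ y
    refine ⟨_, ⟨v, rfl⟩, ?_⟩
    rw [← Points.ofPt_eq_map_ofScheme, Groth.Agent.H53.FibrePts.ofPt_yon_map_comp]
  · rintro ⟨_, ⟨v, rfl⟩, rfl⟩
    refine ⟨Points.ofScheme _ v, ?_⟩
    rw [← Points.ofPt_eq_map_ofScheme, Groth.Agent.H53.FibrePts.ofPt_yon_map_comp]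

theorem range_ofPt_overOpenι {X : Sp S} {U : Over S} (a : (yon S).obj U ⟶ X) (V₀ : U.left.Opens) :
    Set.range (Points.ofPt ((yon S).map (Groth.Agent.H52.overOpenι U V₀) ≫ a)) =
      Points.ofPt a '' (V₀ : Set ↥U.left) := by
  rw [← range_map_overOpenι]
  ext x
  constructor
  · rintro ⟨v, rfl⟩
    exact ⟨Points.ofScheme _ v, (Points.ofPt_eq_map_ofScheme _ v).symm⟩
  · rintro ⟨y, rfl⟩
    obtain ⟨v, rfl⟩ := Groth.Agent.Lib.Helper54.exists_ofScheme_eq _ y
    exact ⟨v, Points.ofPt_eq_map_ofScheme _ v⟩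

/-- The space of points of a quasi-compact quasi-separated algebraic space over a quasi-separated
base is spectral. -/
theorem spectralSpace_points [QuasiSeparatedSpace ↥S] (X : Space S)
    (hqc : IsQuasiCompactSp X.obj) (hqs : IsQuasiSeparatedSp X.obj) :
    SpectralSpace (Points X.obj) := by
  obtain ⟨U, p, hpe, hps, hU⟩ := hqc
  have hUc : CompactSpace ↥U.left := hU
  have hπc := Points.continuous_ofPt p
  have hπo := Groth.Agent.H53.isOpenMap_ofPt_of_etale p hpe
  have hπs := Groth.Agent.H53.surjective_ofPt_of_surjective p hps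
  obtain ⟨hsob, ht0⟩ := Groth.Agent.H53.SoberSp.quasiSober_t0_of_zariski_locally_qs X
    ⟨PUnit.{u + 1}, fun _ => X, fun _ => 𝟙 X,
      ⟨fun _ => Groth.Agent.H52.repWith_of_isIso _ _, fun x => ⟨PUnit.unit, x, by
        change Points.map (𝟙 X.obj) x = x
        rw [Points.map_id]⟩⟩, fun _ => hqs⟩
  have h1 : CompactSpace (Points X.obj) := hπs.compactSpace hπc
  have h2 : PrespectralSpace (Points X.obj) := by
    refine PrespectralSpace.of_isTopologicalBasis
      (B := {O | ∃ V : Set ↥U.left, IsOpen V ∧ IsCompact V ∧ O = Points.ofPt p '' V}) ?_ ?_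
    · refine isTopologicalBasis_of_isOpen_of_nhds ?_ ?_
      · rintro _ ⟨V, hVo, -, rfl⟩
        exact hπo V hVo
      · intro x O hxO hO
        obtain ⟨u, rfl⟩ := hπs x
        obtain ⟨V, ⟨hVo, hVc⟩, huV, hVO⟩ :=
          (PrespectralSpace.isTopologicalBasis (X := ↥U.left)).exists_subset_of_mem_open
            (show u ∈ Points.ofPt p ⁻¹' O from hxO) (hO.preimage hπc)
        refine ⟨Points.ofPt p '' V, ⟨V, hVo, hVc, rfl⟩, ⟨u, huV, rfl⟩, ?_⟩
        rintro _ ⟨v, hv, rfl⟩
        exact hVO hv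
    · rintro _ ⟨V, -, hVc, rfl⟩
      exact hVc.image hπc
  have h3 : QuasiSeparatedSpace (Points X.obj) := by
    refine ⟨fun O₁ O₂ hO₁ hO₁c hO₂ hO₂c => ?_⟩
    obtain ⟨V₁, hV₁c, rfl⟩ := hπo.exists_opens_image_eq_of_prespectralSpace hπc
      (by rw [hπs.range_eq]; exact Set.subset_univ _) hO₁ hO₁c
    obtain ⟨V₂, hV₂c, rfl⟩ := hπo.exists_opens_image_eq_of_prespectralSpace hπc
      (by rw [hπs.range_eq]; exact Set.subset_univ _) hO₂ hO₂c
    have hc1 : CompactSpace ↥(Groth.Agent.H52.overOpen U V₁).left := by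
      change CompactSpace ↥V₁
      exact isCompact_iff_compactSpace.1 hV₁c
    have hc2 : CompactSpace ↥(Groth.Agent.H52.overOpen U V₂).left := by
      change CompactSpace ↥V₂
      exact isCompact_iff_compactSpace.1 hV₂c
    have hrep := X.property.representable_from_yon
      ((yon S).map (Groth.Agent.H52.overOpenι U V₁) ≫ p)
    have sq := hrep.isPullback' ((yon S).map (Groth.Agent.H52.overOpenι U V₂) ≫ p)
    generalize hrep.fst' ((yon S).map (Groth.Agent.H52.overOpenι U V₂) ≫ p) = c at sq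
    generalize hrep.snd ((yon S).map (Groth.Agent.H52.overOpenι U V₂) ≫ p) = d at sq
    generalize hrep.pullback ((yon S).map (Groth.Agent.H52.overOpenι U V₂) ≫ p) = P at c d
    have hP : CompactSpace ↥P.left :=
      Groth.Agent.H53.SoberSp.compactSpace_of_isPullback hqs inferInstance _ _ c d sq
    have h1 := Groth.Agent.H53.ResidualClosed.range_eq_preimage_range _ _ _ d sq
    rw [range_map_overOpenι] at h1
    have h4 : Points.ofPt p '' (V₁ : Set ↥U.left) ∩ Points.ofPt p '' (V₂ : Set ↥U.left) =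
        Points.ofPt ((yon S).map (Groth.Agent.H52.overOpenι U V₂) ≫ p) '' Set.range d.left := by
      rw [h1, Set.image_preimage_eq_inter_range, range_ofPt_overOpenι]
    rw [h4]
    exact (isCompact_range d.left.continuous).image (Points.continuous_ofPt _)
  exact { toT0Space := ht0, toCompactSpace := h1, toQuasiSober := hsob,
          toQuasiSeparatedSpace := h3, toPrespectralSpace := h2 }

end Groth.Agent.H53.SpectralSp
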