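import Groth.Agent.H53.ConsTop
import Groth.Agent.H53.SpectralSp
import Groth.Agent.H52.DiagLfp
import Groth.Agent.H52.LocNoeth

set_option autoImplicit false
set_option backward.isDefEq.respectTransparency false
universe u
open CategoryTheory CategoryTheory.Limits AlgebraicGeometry Opposite Topology
open AlgSp

namespace Groth.Agent.H53.EtCons

variable {S : Scheme.{u}}

/-- The data attached to an affine étale chart (over an affine of the base) of a quasi-separated
algebraic space: its image `W` has a spectral space of points, and the chart induces a surjective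
spectral map `U → |W|`. -/
theorem chart_facts [QuasiSeparatedSpace ↥S] {X : Space S} (hX : IsQuasiSeparatedSp X.obj)
    {U : Over S} [IsAffine U.left] (hUU : CompactSpace ↥(pullback U.hom U.hom))
    (a : (yon S).obj U ⟶ X.obj) (hae : RepWith @Etale a) :
    SpectralSpace (Points (Sheaf.image a)) ∧
      IsSpectralMap (Points.ofPt (Sheaf.toImage a)) ∧
      Function.Surjective (Points.ofPt (Sheaf.toImage a)) ∧
      IsOpenEmbedding (Points.map (Sheaf.imageι a)) ∧
      Points.ofPt a = Points.map (Sheaf.imageι a) ∘ Points.ofPt (Sheaf.toImage a) := by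
  have hW : IsAlgSpace (Sheaf.image a) := Groth.Agent.H52.isAlgSpace_image X.property a hae
  have hπe := Groth.Agent.H52.repWith_etale_toImage a hae
  have hπs := Groth.Agent.H52.repWith_surjective_toImage a hae
  have hπq := Groth.Agent.H53.SoberSp.repWith_quasiCompact_toImage_of_affine X.property hX hUU a hae
  have hej : Sheaf.toImage a ≫ Sheaf.imageι a = a := Sheaf.toImage_ι a
  have hιo := Groth.Agent.H52.repWith_isOpenImmersion_imageι a hae
  have hqc : IsQuasiCompactSp (Sheaf.image a) :=
    ⟨U, Sheaf.toImage a, hπe, hπs, (inferInstance : CompactSpace ↥U.left)⟩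
  have hqs : IsQuasiSeparatedSp (Sheaf.image a) :=
    Groth.Agent.H52.isQuasiSeparatedSp_of_isQuasiSeparatedMor (Sheaf.imageι a)
      (Groth.Agent.H52.isQuasiSeparatedMor_of_mono _) hX
  have hspec : SpectralSpace (Points (Sheaf.image a)) :=
    Groth.Agent.H53.SpectralSp.spectralSpace_points (⟨Sheaf.image a, hW⟩ : Space S) hqc hqs
  have hfc := Points.continuous_ofPt (Sheaf.toImage a)
  have hfo := Groth.Agent.H53.isOpenMap_ofPt_of_etale (Sheaf.toImage a) hπe
  have hfs := Groth.Agent.H53.surjective_ofPt_of_surjective (Sheaf.toImage a) hπs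
  refine ⟨hspec, ⟨hfc, fun K hKo hKc => ?_⟩, hfs, ?_, ?_⟩
  · -- preimage of a compact open is compact
    have hpre : IsOpen (Points.ofPt (Sheaf.toImage a) ⁻¹' K) := hKo.preimage hfc
    -- cover by compact opens
    have hcov : ∀ k ∈ K, ∃ V : Set ↥U.left, IsOpen V ∧ IsCompact V ∧
        V ⊆ Points.ofPt (Sheaf.toImage a) ⁻¹' K ∧ k ∈ Points.ofPt (Sheaf.toImage a) '' V := by
      intro k hk
      obtain ⟨u, rfl⟩ := hfs k
      obtain ⟨V, ⟨hVo, hVc⟩, huV, hVK⟩ :=
        PrespectralSpace.isTopologicalBasis.exists_subset_of_mem_open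
          (show u ∈ Points.ofPt (Sheaf.toImage a) ⁻¹' K from hk) hpre
      exact ⟨V, hVo, hVc, hVK, u, huV, rfl⟩
    choose! V hVo hVc hVK hkV using hcov
    obtain ⟨t, htK, htf, ht⟩ := hKc.elim_finite_subcover_image
      (b := K) (c := fun k => Points.ofPt (Sheaf.toImage a) '' V k)
      (fun k hk => hfo _ (hVo k hk)) (fun k hk => Set.mem_biUnion hk (hkV k hk))
    let V₀ : Set ↥U.left := ⋃ k ∈ t, V k
    have hV₀o : IsOpen V₀ := isOpen_biUnion fun k hk => hVo k (htK hk)
    have hV₀c : IsCompact V₀ := htf.isCompact_biUnion fun k hk => hVc k (htK hk)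
    have hsat := Groth.Agent.H53.SoberSp.isCompact_saturation (Sheaf.toImage a) hπe hπq V₀ hV₀o hV₀c
    have heq : Points.ofPt (Sheaf.toImage a) ⁻¹' K =
        Points.ofPt (Sheaf.toImage a) ⁻¹' (Points.ofPt (Sheaf.toImage a) '' V₀) := by
      congr 1
      apply subset_antisymm
      · intro k hk
        obtain ⟨k', hk't, hk'⟩ := Set.mem_iUnion₂.1 (ht hk)
        obtain ⟨v, hv, rfl⟩ := hk'
        exact ⟨v, Set.mem_biUnion hk't hv, rfl⟩
      · rintro _ ⟨v, hv, rfl⟩
        obtain ⟨k', hk't, hk'⟩ := Set.mem_iUnion₂.1 hv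
        exact hVK k' (htK hk't) hk'
    rw [heq]
    exact hsat
  · have hinj : Function.Injective (Points.map (Sheaf.imageι a)) :=
      Groth.Agent.H53.injective_points_of_repWith _ @IsOpenImmersion
        (fun A B φ hφ => by
          have : IsOpenImmersion φ := hφ
          exact φ.isOpenEmbedding.injective) hιo
    exact IsOpenEmbedding.of_continuous_injective_isOpenMap (Points.continuous_map _) hinj
      (Groth.Agent.H52.isOpenMap_points_of_etale _
        (Groth.Agent.H53.QCCharts.repWith_etale_of_isOpenImmersion _ hιo))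
  · funext w
    rw [← hej]
    exact (Points.map_ofPt _ _ w).symm

theorem key [QuasiSeparatedSpace ↥S] {X : Space S} (hX : IsQuasiSeparatedSp X.obj)
    {U : Over S} [IsAffine U.left] (hUU : CompactSpace ↥(pullback U.hom U.hom))
    (a : (yon S).obj U ⟶ X.obj) (hae : RepWith @Etale a) (E : Set (Points X.obj)) :
    IsConstructible (Points.ofPt a ⁻¹' E) ↔
      IsConstructible (Points.map (Sheaf.imageι a) ⁻¹' E) := by
  obtain ⟨hspec, hf, hfs, -, hcomp⟩ := chart_facts hX hUU a hae
  rw [hcomp, Set.preimage_comp]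
  constructor
  · intro h
    exact ConsTop.isConstructible_of_preimage _ hf hfs h
  · intro h
    exact h.preimage hf.continuous (fun s hso hsr =>
      (hf.isCompact_preimage_of_isOpen hso hsr.isCompact).isRetrocompact
        (hso.preimage hf.continuous))

theorem main [QuasiSeparatedSpace ↥S] (X : Space S) (hX : IsQuasiSeparatedSp X.obj)
    (E : Set (Points X.obj)) :
    (∀ (U : Over S) (a : (yon S).obj U ⟶ X.obj), RepWith @Etale a →
        IsLocallyConstructible (Points.ofPt a ⁻¹' E)) ↔
      IsLocallyConstructible E := by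
  constructor
  · intro h x
    obtain ⟨U, a, u, hU, hae, hu, hUU⟩ :=
      Groth.Agent.H53.SoberSp.exists_affine_chart_over_affine X.property x
    obtain ⟨hspec, hf, hfs, hj, hcomp⟩ := chart_facts hX hUU a hae
    have h1 : IsConstructible (Points.ofPt a ⁻¹' E) := (h U a hae).isConstructible
    have h2 := (key hX hUU a hae E).1 h1
    refine ⟨Set.range (Points.map (Sheaf.imageι a)),
      hj.isOpen_range.mem_nhds ⟨Points.ofPt (Sheaf.toImage a) u, ?_⟩, hj.isOpen_range, ?_⟩
    · rw [← hu, hcomp]; rfl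
    · let e := hj.isEmbedding.toHomeomorph
      have h3 := h2.preimage_of_isOpenEmbedding e.symm.isOpenEmbedding
      convert h3 using 1
      ext ⟨y, hy⟩
      obtain ⟨w, rfl⟩ := hy
      simp only [Set.mem_preimage]
      have : e.symm ⟨Points.map (Sheaf.imageι a) w, ⟨w, rfl⟩⟩ = w :=
        hj.isEmbedding.toHomeomorph_symm_apply w
      rw [this]
  · intro h U a hae
    let ι := {V : U.left.Opens // IsAffineOpen V ∧ ∃ S₀ : S.Opens, IsAffineOpen S₀ ∧
      V ≤ U.hom ⁻¹ᵁ S₀}
    have hcov : TopologicalSpace.IsOpenCover (fun i : ι => (i.1 : TopologicalSpace.Opens ↥U.left)) := by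
      refine TopologicalSpace.IsOpenCover.mk ?_
      rw [eq_top_iff]
      intro v _
      obtain ⟨_, ⟨S₀, hS₀, rfl⟩, hvS₀, -⟩ :=
        (S.isBasis_affineOpens).exists_subset_of_mem_open (Set.mem_univ (U.hom v)) isOpen_univ
      obtain ⟨_, ⟨V', hV', rfl⟩, hvV', hV'S₀⟩ :=
        (U.left.isBasis_affineOpens).exists_subset_of_mem_open
          (show v ∈ ((U.hom ⁻¹ᵁ S₀ : U.left.Opens) : Set ↥U.left) from hvS₀)
          (U.hom ⁻¹ᵁ S₀).isOpen
      exact TopologicalSpace.Opens.mem_iSup.2 ⟨⟨V', hV', S₀, hS₀, hV'S₀⟩, hvV'⟩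
    refine IsLocallyConstructible.of_isOpenCover hcov ?_
    rintro ⟨V, hV, S₀, hS₀, hVS₀⟩
    have hUaff : IsAffine (Groth.Agent.H52.overOpen U V).left := hV
    have hae' : RepWith @Etale ((yon S).map (Groth.Agent.H52.overOpenι U V) ≫ a) := by
      have : (RepWith (S := S) @Etale).IsMultiplicative := repWith_isMultiplicative _
      exact MorphismProperty.comp_mem _ _ _ (Groth.Agent.H52.repWith_etale_overOpenι U V) hae
    have hUU : CompactSpace ↥(pullback (Groth.Agent.H52.overOpen U V).hom
        (Groth.Agent.H52.overOpen U V).hom) := by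
      have hr : Set.range (Groth.Agent.H52.overOpen U V).hom ⊆ (S₀ : Set ↥S) := by
        rintro _ ⟨w, rfl⟩
        change (Scheme.Opens.ι V ≫ U.hom) w ∈ (S₀ : Set ↥S)
        exact hVS₀ w.2
      exact Groth.Agent.H53.SoberSp.compactSpace_pullback_of_factor _ _ S₀ hS₀ hr hr
    obtain ⟨hspec, hf, hfs, hj, hcomp⟩ := chart_facts hX hUU _ hae'
    have h1 : IsConstructible (Points.map (Sheaf.imageι
        ((yon S).map (Groth.Agent.H52.overOpenι U V) ≫ a)) ⁻¹' E) :=
      (h.preimage_of_isOpenEmbedding hj).isConstructible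
    have h2 := (key hX hUU _ hae' E).2 h1
    have h3 : (Points.ofPt ((yon S).map (Groth.Agent.H52.overOpenι U V) ≫ a) ⁻¹' E) =
        (fun w : ↥(Groth.Agent.H52.overOpen U V).left =>
          Points.ofPt a ((Groth.Agent.H52.overOpenι U V).left w)) ⁻¹' E := by
      ext w
      simp only [Set.mem_preimage]
      rw [Groth.Agent.H53.FibrePts.ofPt_yon_map_comp]
    rw [h3] at h2
    exact h2.isLocallyConstructible

end Groth.Agent.H53.EtCons
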