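import Mathlib.CategoryTheory.Sites.Point.Basic
import Mathlib.CategoryTheory.Sites.LocallySurjective
import Mathlib.CategoryTheory.Sites.LocallyInjective

/-!
# Families of points detecting covering sieves detect local injectivity and surjectivity (helper53)

Mathlib's `IsConservativeFamilyOfPoints` API requires the coefficient category to be concrete over
`Type w` for `w` the universe of the points; here the concrete universe is arbitrary.
-/

set_option autoImplicit false
universe w w' v v' u₁ u'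
open CategoryTheory CategoryTheory.Limits Opposite

namespace Groth.Agent.H53

variable {C : Type u₁} [Category.{v} C] {J : GrothendieckTopology C}

/-- A family of points detects covering sieves: a sieve through which every fibre element of every point of the
family lifts is covering (SGA 4 IV 6.5 (a)). -/
def DetectsCoverings (Pts : Set (GrothendieckTopology.Point.{w} J)) : Prop :=
  ∀ ⦃X : C⦄ (R : Sieve X),
    (∀ Φ ∈ Pts, ∀ x : Φ.fiber.obj X,
      ∃ (Y : C) (f : Y ⟶ X) (_ : R f) (y : Φ.fiber.obj Y), Φ.fiber.map f y = x) → R ∈ J X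

variable [LocallySmall.{w} C] {A : Type u'} [Category.{v'} A] [HasColimitsOfSize.{w, w} A]
  {FC : A → A → Type*} {CC : A → Type w'} [∀ X Y, FunLike (FC X Y) (CC X) (CC Y)]
  [ConcreteCategory.{w'} A FC] [PreservesFilteredColimitsOfSize.{w, w} (forget A)]
  {Pts : Set (GrothendieckTopology.Point.{w} J)}

theorem isLocallyInjective_of_points (hPts : DetectsCoverings Pts) {P Q : Cᵒᵖ ⥤ A} (f : P ⟶ Q)
    (hf : ∀ Φ ∈ Pts, Function.Injective (Φ.presheafFiber.map f)) :
    Presheaf.IsLocallyInjective J f where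
  equalizerSieve_mem {X} s t hst := by
    refine hPts _ fun Φ hΦ x => ?_
    have h1 : Φ.toPresheafFiber X.unop x P s = Φ.toPresheafFiber X.unop x P t := by
      apply hf Φ hΦ
      rw [Φ.toPresheafFiber_naturality_apply, Φ.toPresheafFiber_naturality_apply, hst]
    obtain ⟨Y, g, y, hy, hg⟩ := (Φ.toPresheafFiber_eq_iff' X.unop x s t).1 h1
    exact ⟨Y, g, hg, y, hy⟩

theorem isLocallySurjective_of_points (hPts : DetectsCoverings Pts) {P Q : Cᵒᵖ ⥤ A} (f : P ⟶ Q)
    (hf : ∀ Φ ∈ Pts, Function.Surjective (Φ.presheafFiber.map f)) :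
    Presheaf.IsLocallySurjective J f where
  imageSieve_mem {U} t := by
    refine hPts _ fun Φ hΦ x => ?_
    obtain ⟨σ, hσ⟩ := hf Φ hΦ (Φ.toPresheafFiber U x Q t)
    obtain ⟨V, y, s, rfl⟩ := Φ.toPresheafFiber_jointly_surjective σ
    rw [Φ.toPresheafFiber_naturality_apply] at hσ
    -- a common refinement of `(V, y)` and `(U, x)`
    obtain ⟨W, g₁, g₂, -⟩ := IsCofilteredOrEmpty.cone_objs (Φ.fiber.elementsMk V y) (Φ.fiber.elementsMk U x)
    obtain ⟨W, w⟩ := W
    obtain ⟨g₁, hg₁⟩ := g₁
    obtain ⟨g₂, hg₂⟩ := g₂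
    change W ⟶ V at g₁
    change W ⟶ U at g₂
    change Φ.fiber.map g₁ w = y at hg₁
    change Φ.fiber.map g₂ w = x at hg₂
    subst hg₁ hg₂
    rw [← Φ.toPresheafFiber_w_apply g₁ w Q, ← Φ.toPresheafFiber_w_apply g₂ w Q] at hσ
    obtain ⟨Z, h, z, hz, hh⟩ := (Φ.toPresheafFiber_eq_iff' W w _ _).1 hσ
    refine ⟨Z, h ≫ g₂, ⟨P.map (h ≫ g₁).op s, ?_⟩, z, ?_⟩
    · rw [NatTrans.naturality_apply]
      simp only [op_comp, Functor.map_comp, ConcreteCategory.comp_apply]
      exact hh
    · rw [Functor.map_comp]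
      change Φ.fiber.map g₂ (Φ.fiber.map h z) = _
      rw [hz]

end Groth.Agent.H53
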