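import Groth.Agent.H53.EtStalk
import Groth.Agent.H53.PointsDetect
import Mathlib.FieldTheory.IsAlgClosed.AlgebraicClosure

/-!
# Geometric points of an algebraic space detect coverings of its small etale site (helper53)
-/

set_option autoImplicit false
set_option backward.isDefEq.respectTransparency false
universe u
open CategoryTheory CategoryTheory.Limits AlgebraicGeometry Opposite

namespace Groth.Agent.H53
open AlgSp

variable {S : Scheme.{u}} {X : Sp S}

/-- The points of the small etale site defined by the geometric points of `X`. -/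
def geomPoints (hX : IsAlgSpace X) : Set (GrothendieckTopology.Point.{u} (etTop X)) :=
  {Φ | ∃ (p : FieldPt X) (hp : p.IsGeometric), Φ = etPoint hX p hp}

theorem etPoint_mem_geomPoints (hX : IsAlgSpace X) (p : FieldPt X) (hp : p.IsGeometric) :
    etPoint hX p hp ∈ geomPoints hX := ⟨p, hp, rfl⟩

/-- Over every point of an object of the small etale site lies a geometric point with a lift through that point. -/
theorem exists_geometric_lift (U : EtOver X) (u : ↥U.obj.left.left) :
    ∃ (p : FieldPt X) (_ : p.IsGeometric) (l : (FieldPt.liftsTo p).obj U),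
      ∀ (V : EtOver X) (g : V ⟶ U) (y : (FieldPt.liftsTo p).obj V),
        (FieldPt.liftsTo p).map g y = l → u ∈ Set.range g.hom.left.left := by
  let κ := U.obj.left.left.residueField u
  let K := AlgebraicClosure κ
  let ι : Spec (CommRingCat.of K) ⟶ U.obj.left.left :=
    Spec.map (CommRingCat.ofHom (algebraMap κ K)) ≫ U.obj.left.left.fromSpecResidueField u
  let str : Spec (CommRingCat.of K) ⟶ S := ι ≫ U.obj.left.hom
  let ιO : Over.mk str ⟶ U.obj.left := Over.homMk ι rfl
  let b : (yon S).obj (Over.mk str) ⟶ X := (yon S).map ιO ≫ U.obj.hom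
  let p : FieldPt X := H52.fieldPtOfHom str b
  have hb : p.toHom = b := Equiv.symm_apply_apply _ _
  have hp : p.IsGeometric := inferInstanceAs (IsAlgClosed (AlgebraicClosure κ))
  refine ⟨p, hp, ⟨ιO, hb.symm⟩, fun V g y hy => ?_⟩
  have h1 : y.1 ≫ g.hom.left = ιO := congrArg Subtype.val hy
  have h2 : y.1.left ≫ g.hom.left.left = ι := congrArg (fun m => m.left) h1
  let s : Spec (CommRingCat.of K) ⟶ V.obj.left.left := y.1.left
  refine ⟨s default, ?_⟩
  have h4 : ι default = u := by
    simp only [ι, Scheme.Hom.comp_apply]
    exact Scheme.fromSpecResidueField_apply _ _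
  have h3 : (s ≫ g.hom.left.left) default = ι default :=
    congrArg (fun m : Spec (CommRingCat.of K) ⟶ U.obj.left.left => m default) h2
  rw [Scheme.Hom.comp_apply, h4] at h3
  exact h3

/-- The geometric points of an algebraic space detect the coverings of its small etale site. -/
theorem detectsCoverings_geomPoints (hX : IsAlgSpace X) : DetectsCoverings (geomPoints hX) := by
  intro U R hR
  choose p hp l hl using exists_geometric_lift U
  choose Y f hf y hy using fun u => hR _ (etPoint_mem_geomPoints hX (p u) (hp u)) (l u)
  have hcov : Sieve.ofArrows Y f ∈ etTop X U :=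
    ofArrows_mem_etTop Y f fun u => ⟨u, hl u (Y u) (f u) (y u) (hy u)⟩
  refine (etTop X).superset_covering ?_ hcov
  rw [Sieve.ofArrows, Sieve.generate_le_iff]
  rintro _ _ ⟨u⟩
  exact hf u

end Groth.Agent.H53
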