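import Groth.Agent.H53.EtMonoEpi
import Mathlib.Algebra.Homology.ShortComplex.ExactFunctor
import Mathlib.Algebra.Homology.ShortComplex.Ab

/-!
# Exactness of complexes of abelian sheaves on the small etale site is detected on stalks (helper53)
-/

set_option autoImplicit false
set_option backward.isDefEq.respectTransparency false
universe u
open CategoryTheory CategoryTheory.Limits AlgebraicGeometry Opposite ZeroObject

namespace Groth.Agent.H53
open AlgSp

variable {S : Scheme.{u}}

theorem preservesFilteredColimits_forget_ab_succ :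
    PreservesFilteredColimitsOfSize.{u, u} (forget AddCommGrpCat.{u + 1}) :=
  preservesFilteredColimitsOfSize_of_univLE.{u + 1, u + 1, u, u} _

theorem mono_of_stalks_ab {X : Sp S} (hX : IsAlgSpace X) {F G : AbEt X} (a : F ⟶ G)
    (h : ∀ p : FieldPt X, p.IsGeometric →
      Function.Injective ((stalkEtFunctor AddCommGrpCat.{u + 1} p).map a)) : Mono a := by
  have := preservesFilteredColimits_forget_ab_succ.{u}
  have : Presheaf.IsLocallyInjective (etTop X) a.hom :=
    isLocallyInjective_of_points (detectsCoverings_geomPoints hX) a.hom (by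
      rintro Φ ⟨p, hp, rfl⟩
      exact h p hp)
  exact Sheaf.mono_of_isLocallyInjective a

theorem epi_of_stalks_ab {X : Sp S} (hX : IsAlgSpace X) {F G : AbEt X} (a : F ⟶ G)
    (h : ∀ p : FieldPt X, p.IsGeometric →
      Function.Surjective ((stalkEtFunctor AddCommGrpCat.{u + 1} p).map a)) : Epi a := by
  have := preservesFilteredColimits_forget_ab_succ.{u}
  have : Presheaf.IsLocallySurjective (etTop X) a.hom :=
    isLocallySurjective_of_points (detectsCoverings_geomPoints hX) a.hom (by
      rintro Φ ⟨p, hp, rfl⟩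
      exact h p hp)
  exact Sheaf.epi_of_isLocallySurjective a

instance stalkEtFunctor_additive {X : Sp S} (p : FieldPt X) :
    (stalkEtFunctor AddCommGrpCat.{u + 1} p).Additive := by
  unfold stalkEtFunctor stalkEtPshFunctor
  infer_instance

theorem isZero_of_stalks_ab {X : Sp S} (hX : IsAlgSpace X) (H : AbEt X)
    (h : ∀ p : FieldPt X, p.IsGeometric → IsZero ((stalkEtFunctor AddCommGrpCat.{u + 1} p).obj H)) :
    IsZero H := by
  have hm : Mono (0 : H ⟶ 0) := mono_of_stalks_ab hX _ (fun p hp => by
    have := AddCommGrpCat.subsingleton_of_isZero (h p hp)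
    exact Function.injective_of_subsingleton _)
  exact IsZero.of_mono (0 : H ⟶ 0) (isZero_zero _)

theorem exact_iff_stalks_exact {X : Sp S} (hX : IsAlgSpace X) (C : ShortComplex (AbEt X)) :
    C.Exact ↔ ∀ p : FieldPt X, p.IsGeometric →
      (C.map (stalkEtFunctor AddCommGrpCat.{u + 1} p)).Exact := by
  constructor
  · intro hC p hp
    have h1 := preservesFiniteLimits_stalkEtFunctor_ab hX p hp
    have h2 := preservesFiniteColimits_stalkEtFunctor_ab hX p hp
    have t : (PreservesFiniteLimits (stalkEtFunctor AddCommGrpCat.{u + 1} p) ∧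
        PreservesFiniteColimits (stalkEtFunctor AddCommGrpCat.{u + 1} p)) →
        ∀ T : ShortComplex (AbEt X), T.Exact → (T.map (stalkEtFunctor AddCommGrpCat.{u + 1} p)).Exact :=
      ((Functor.exact_tfae (stalkEtFunctor AddCommGrpCat.{u + 1} p)).out 3 1).1
    exact t ⟨h1, h2⟩ C hC
  · intro h
    rw [ShortComplex.exact_iff_isZero_homology]
    refine isZero_of_stalks_ab hX _ fun p hp => ?_
    have h1 := preservesFiniteLimits_stalkEtFunctor_ab hX p hp
    have h2 := preservesFiniteColimits_stalkEtFunctor_ab hX p hp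
    have t : (PreservesFiniteLimits (stalkEtFunctor AddCommGrpCat.{u + 1} p) ∧
        PreservesFiniteColimits (stalkEtFunctor AddCommGrpCat.{u + 1} p)) →
        (stalkEtFunctor AddCommGrpCat.{u + 1} p).PreservesHomology :=
      ((Functor.exact_tfae (stalkEtFunctor AddCommGrpCat.{u + 1} p)).out 3 2).1
    have h3 : (stalkEtFunctor AddCommGrpCat.{u + 1} p).PreservesHomology := t ⟨h1, h2⟩
    have h4 := (ShortComplex.exact_iff_isZero_homology _).1 (h p hp)
    exact IsZero.of_iso h4 (C.mapHomologyIso (stalkEtFunctor AddCommGrpCat.{u + 1} p)).symm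

theorem exact_iff_stalks {X : Sp S} (hX : IsAlgSpace X) (C : ShortComplex (AbEt X)) :
    C.Exact ↔ ∀ p : FieldPt X, p.IsGeometric →
      ∀ y : ↥((stalkEtFunctor AddCommGrpCat.{u + 1} p).obj C.X₂),
        ((stalkEtFunctor AddCommGrpCat.{u + 1} p).map C.g) y = 0 →
          ∃ x : ↥((stalkEtFunctor AddCommGrpCat.{u + 1} p).obj C.X₁),
            ((stalkEtFunctor AddCommGrpCat.{u + 1} p).map C.f) x = y := by
  rw [exact_iff_stalks_exact hX]
  refine forall_congr' fun p => forall_congr' fun hp => ?_
  exact ShortComplex.ab_exact_iff _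

end Groth.Agent.H53
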