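import Groth.Prelude.Def_AlgSpOX
import Groth.Prelude.Def_ModSite

/-!
# The small étale site of an algebraic space is a locally ringed site (helper53)
-/

set_option autoImplicit false
set_option backward.isDefEq.respectTransparency false
universe u
open CategoryTheory CategoryTheory.Limits AlgebraicGeometry Opposite

namespace Groth.Agent.H53
open AlgSp

variable {S : Scheme.{u}}

/-- A global function whose non-vanishing locus is everything is a unit. -/
theorem isUnit_of_basicOpen_eq_top {Z : Scheme.{u}} (s : Γ(Z, ⊤)) (h : Z.basicOpen s = ⊤) : IsUnit s := by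
  apply Z.toRingedSpace.isUnit_of_isUnit_germ ⊤ s
  intro x hx
  have : x ∈ Z.basicOpen s := by rw [h]; trivial
  exact (Z.mem_basicOpen_top s x).1 this

/-- The restriction of a global function to its non-vanishing locus is a unit. -/
theorem isUnit_ι_appTop_basicOpen {Z : Scheme.{u}} (s : Γ(Z, ⊤)) :
    IsUnit ((Z.basicOpen s).ι.appTop.hom s) := by
  apply isUnit_of_basicOpen_eq_top
  rw [← Scheme.preimage_basicOpen_top]
  exact (Z.basicOpen s).ι_preimage_self

/-- The open subscheme of an object of the small étale site, as an object of the site. -/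
noncomputable def etOverOpen {X : Sp S} (E : EtOver X) (D : E.obj.left.left.Opens) : EtOver X :=
  EtOver.mk (U := Over.mk (D.ι ≫ E.obj.left.hom))
    ((yon S).map (Over.homMk D.ι rfl : Over.mk (D.ι ≫ E.obj.left.hom) ⟶ E.obj.left) ≫ E.obj.hom)
    ((repWith_isMultiplicative (S := S) @Etale).comp_mem _ _
      ((repWith_yon_map_iff _ _).2 (show Etale D.ι from inferInstance)) E.property)

/-- The inclusion of an open subscheme in the small étale site. -/
noncomputable def etOverOpenι {X : Sp S} (E : EtOver X) (D : E.obj.left.left.Opens) : etOverOpen E D ⟶ E :=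
  EtOver.homMk (Over.homMk D.ι rfl) rfl

theorem isLocallyRinged_etTop_OEt (X : Sp S) : ModSite.IsLocallyRinged (etTop X) (OEt X) := by
  refine ⟨fun E f => ?_, fun E h01 => ?_⟩
  · let Z : Scheme.{u} := E.obj.left.left
    let f₀ : Γ(Z, ⊤) := f.down
    let D : Bool → Z.Opens := fun b => if b then Z.basicOpen f₀ else Z.basicOpen (1 - f₀)
    let Y : Bool → EtOver X := fun b => etOverOpen E (D b)
    let g : ∀ b, Y b ⟶ E := fun b => etOverOpenι E (D b)
    have hcov : Sieve.ofArrows Y g ∈ etTop X E := by
      refine ofArrows_mem_etTop Y g fun x => ?_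
      by_cases hx : x ∈ Z.basicOpen f₀
      · exact ⟨true, ⟨x, hx⟩, rfl⟩
      · refine ⟨false, ⟨x, ?_⟩, rfl⟩
        change x ∈ Z.basicOpen (1 - f₀)
        rw [Z.mem_basicOpen_top] at hx ⊢
        rw [map_sub, map_one]
        exact (IsLocalRing.isUnit_or_isUnit_one_sub_self _).resolve_left hx
    refine ⟨_, hcov, fun V k hk => ?_⟩
    obtain ⟨W, h, _, ⟨b⟩, rfl⟩ := hk
    rw [op_comp, Functor.map_comp]
    cases b with
    | true =>
      left
      change IsUnit (((OEt X).obj.map h.op).hom (((OEt X).obj.map (g true).op).hom f))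
      refine IsUnit.map _ ?_
      have h1 : ((OEt X).obj.map (g true).op).hom f = ULift.up ((Z.basicOpen f₀).ι.appTop.hom f₀) := rfl
      rw [h1]
      exact (isUnit_ι_appTop_basicOpen f₀).map (ULift.ringEquiv.symm : _ ≃+* ULift.{u+1} _).toRingHom
    | false =>
      right
      change IsUnit (((OEt X).obj.map h.op).hom (((OEt X).obj.map (g false).op).hom (1 - f)))
      refine IsUnit.map _ ?_
      have h1 : ((OEt X).obj.map (g false).op).hom (1 - f) =
          ULift.up ((Z.basicOpen (1 - f₀)).ι.appTop.hom (1 - f₀)) := rfl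
      rw [h1]
      exact (isUnit_ι_appTop_basicOpen (1 - f₀)).map (ULift.ringEquiv.symm : _ ≃+* ULift.{u+1} _).toRingHom
  · let Z : Scheme.{u} := E.obj.left.left
    have h01' : (0 : Γ(Z, ⊤)) = 1 := congrArg ULift.down h01
    have hempty : IsEmpty ↥Z := by
      refine ⟨fun x => ?_⟩
      have h1 : x ∈ Z.basicOpen (1 : Γ(Z, ⊤)) := by
        rw [Z.mem_basicOpen_top, map_one]; exact isUnit_one
      rw [← h01', Z.mem_basicOpen_top, map_zero] at h1
      exact not_isUnit_zero h1
    have hcov : Sieve.ofArrows (fun i : PEmpty.{1} => (i.elim : EtOver X)) (fun i => i.elim) ∈ etTop X E :=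
      ofArrows_mem_etTop _ _ fun x => (hempty.false x).elim
    refine (etTop X).superset_covering ?_ hcov
    rw [Sieve.ofArrows, Sieve.generate_le_iff]
    rintro _ _ ⟨i⟩
    exact i.elim

end Groth.Agent.H53
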