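import Groth.Agent.H53.EtConserv
import Groth.Agent.H53.SpBasic
import Mathlib.AlgebraicGeometry.Morphisms.UniversallyOpen
import Mathlib.AlgebraicGeometry.Morphisms.Flat

/-!
# The locus where two sections of a sheaf on the small etale site agree (helper53)
-/

set_option autoImplicit false
set_option backward.isDefEq.respectTransparency false
universe w' v' u' u
open CategoryTheory CategoryTheory.Limits AlgebraicGeometry Opposite

namespace Groth.Agent.H53
open AlgSp

variable {S : Scheme.{u}} {X : Sp S}

/-- A geometric point lifts along a morphism of the small etale site through any point of the fibre. -/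
theorem exists_lift_of_mem_range (p : FieldPt X) (hp : p.IsGeometric) {U V : EtOver X} (φ : V ⟶ U)
    (l : (FieldPt.liftsTo p).obj U)
    (h : l.1.left (IsLocalRing.closedPoint p.K) ∈ Set.range φ.hom.left.left) :
    ∃ y : (FieldPt.liftsTo p).obj V, (FieldPt.liftsTo p).map φ y = l := by
  have hK : IsAlgClosed p.K := hp
  let s : Spec (CommRingCat.of p.K) ⟶ U.obj.left.left := l.1.left
  obtain ⟨v, hv⟩ := h
  have het : Etale φ.hom.left.left := EtOver.etale_left φ
  have hv' : φ.hom.left.left v = s default := by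
    rw [hv]
    exact congrArg s (Subsingleton.elim _ _)
  obtain ⟨m, hm, -⟩ := Scheme.exists_fac_of_etale_of_isSepClosed φ.hom.left.left s v hv'
  have hstr : m ≫ V.obj.left.hom = p.str := by
    rw [← Over.w φ.hom.left, ← Category.assoc, hm]
    exact Over.w l.1
  let mO : p.pt ⟶ V.obj.left := Over.homMk m hstr
  have hmO : mO ≫ φ.hom.left = l.1 := Over.OverMorphism.ext hm
  refine ⟨⟨mO, ?_⟩, Subtype.ext hmO⟩
  rw [← EtOver.w φ, ← Category.assoc, ← Functor.map_comp, hmO]
  exact l.2

/-- Over every point of an object of the small etale site lies a geometric point with a lift through that point. -/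
theorem exists_geometric_lift' (U : EtOver X) (u : ↥U.obj.left.left) :
    ∃ (p : FieldPt X) (_ : p.IsGeometric) (l : (FieldPt.liftsTo p).obj U),
      l.1.left (IsLocalRing.closedPoint p.K) = u ∧
        Points.mk p = Points.ofPt U.obj.hom u := by
  let κ := U.obj.left.left.residueField u
  let K := AlgebraicClosure κ
  let ι : Spec (CommRingCat.of K) ⟶ U.obj.left.left :=
    Spec.map (CommRingCat.ofHom (algebraMap κ K)) ≫ U.obj.left.left.fromSpecResidueField u
  let str : Spec (CommRingCat.of K) ⟶ S := ι ≫ U.obj.left.hom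
  let ιO : Over.mk str ⟶ U.obj.left := Over.homMk ι rfl
  let b : (yon S).obj (Over.mk str) ⟶ X := (yon S).map ιO ≫ U.obj.hom
  let p : FieldPt X := H52.fieldPtOfHom str b
  have hb : p.toHom = b := Equiv.symm_apply_apply _ _
  have hp : p.IsGeometric := inferInstanceAs (IsAlgClosed (AlgebraicClosure κ))
  have h4 : ι default = u := by
    simp only [ι, Scheme.Hom.comp_apply]
    exact Scheme.fromSpecResidueField_apply _ _
  have h5 : ι (IsLocalRing.closedPoint K) = u :=
    (congrArg ι (Subsingleton.elim _ _)).trans h4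
  refine ⟨p, hp, ⟨ιO, hb.symm⟩, h5, ?_⟩
  rw [← Points.ofPt_toHom p default, hb, ofPt_yon_map_comp]
  exact congrArg _ h4

variable {A : Type u'} [Category.{v'} A] {FC : A → A → Type*} {CC : A → Type w'}
  [∀ X Y, FunLike (FC X Y) (CC X) (CC Y)] [ConcreteCategory.{w'} A FC]

/-- The open locus of `U` where two sections over `U` of a presheaf on the small etale site agree: the union of the
images of the objects over `U` on which they agree. -/
def eqLocus (F : (EtOver X)ᵒᵖ ⥤ A) {U : EtOver X} (s t : ToType (F.obj (op U))) :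
    TopologicalSpace.Opens ↥U.obj.left.left :=
  ⟨⋃ (V : EtOver X) (φ : V ⟶ U) (_ : F.map φ.op s = F.map φ.op t), Set.range φ.hom.left.left, by
    refine isOpen_iUnion fun V => isOpen_iUnion fun φ => isOpen_iUnion fun _ => ?_
    have het : Etale φ.hom.left.left := EtOver.etale_left φ
    exact φ.hom.left.left.isOpenMap.isOpen_range⟩

theorem mem_eqLocus_iff (F : (EtOver X)ᵒᵖ ⥤ A) {U : EtOver X} (s t : ToType (F.obj (op U)))
    (u : ↥U.obj.left.left) :
    u ∈ eqLocus F s t ↔ ∃ (V : EtOver X) (φ : V ⟶ U), F.map φ.op s = F.map φ.op t ∧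
      u ∈ Set.range φ.hom.left.left := by
  change u ∈ ⋃ (V : EtOver X) (φ : V ⟶ U) (_ : F.map φ.op s = F.map φ.op t),
    Set.range φ.hom.left.left ↔ _
  simp only [Set.mem_iUnion, exists_prop]

theorem range_subset_eqLocus (F : (EtOver X)ᵒᵖ ⥤ A) {U V : EtOver X} (s t : ToType (F.obj (op U)))
    (φ : V ⟶ U) (h : F.map φ.op s = F.map φ.op t) :
    Set.range φ.hom.left.left ⊆ (eqLocus F s t : Set ↥U.obj.left.left) := by
  rintro _ ⟨v, rfl⟩
  exact (mem_eqLocus_iff F s t _).2 ⟨V, φ, h, v, rfl⟩

/-- For a sheaf, two sections agree on `V ⟶ U` as soon as the image of `V` lies in the agreement locus. -/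
theorem eq_of_range_subset_eqLocus [(etTop X).HasSheafCompose (forget A)] (F : EtSh X A) {U V : EtOver X}
    (s t : ToType (F.obj.obj (op U))) (φ : V ⟶ U)
    (h : Set.range φ.hom.left.left ⊆ (eqLocus F.obj s t : Set ↥U.obj.left.left)) :
    F.obj.map φ.op s = F.obj.map φ.op t := by
  -- for each point of `V` choose an object over `U` on which the sections agree
  have hex : ∀ v : ↥V.obj.left.left, ∃ (V' : EtOver X) (φ' : V' ⟶ U),
      F.obj.map φ'.op s = F.obj.map φ'.op t ∧ φ.hom.left.left v ∈ Set.range φ'.hom.left.left :=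
    fun v => (mem_eqLocus_iff F.obj s t _).1 (h ⟨v, rfl⟩)
  choose V' φ' hφ' hv using hex
  have hcov : Sieve.ofArrows (fun v => EtOver.pullbackObj φ (φ' v)) (fun v => EtOver.pullbackFst φ (φ' v)) ∈
      etTop X V := by
    refine ofArrows_mem_etTop _ _ fun v => ⟨v, ?_⟩
    obtain ⟨v', hv'⟩ := hv v
    obtain ⟨z, hz, -⟩ := Scheme.Pullback.exists_preimage_pullback (f := φ.hom.left.left)
      (g := (φ' v).hom.left.left) v v' hv'.symm
    have hpb := ((IsPullback.of_hasPullback φ.hom.left (φ' v).hom.left).map (Over.forget S))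
    let e := hpb.isoPullback
    refine ⟨e.inv z, ?_⟩
    have : e.inv ≫ (pullback.fst φ.hom.left (φ' v).hom.left).left = pullback.fst _ _ :=
      hpb.isoPullback_inv_fst
    change (e.inv ≫ (pullback.fst φ.hom.left (φ' v).hom.left).left) z = v
    rw [this]
    exact hz
  have hsep := ((isSheaf_iff_isSheaf_of_type _ _).1
    ((sheafCompose (etTop X) (forget A)).obj F).2).isSeparated
  refine (hsep _ hcov).ext ?_
  rintro W g ⟨W', k, _, ⟨v⟩, rfl⟩
  change (F.obj ⋙ forget A).map (k ≫ EtOver.pullbackFst φ (φ' v)).op (F.obj.map φ.op s) =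
    (F.obj ⋙ forget A).map (k ≫ EtOver.pullbackFst φ (φ' v)).op (F.obj.map φ.op t)
  change F.obj.map (k ≫ EtOver.pullbackFst φ (φ' v)).op (F.obj.map φ.op s) =
    F.obj.map (k ≫ EtOver.pullbackFst φ (φ' v)).op (F.obj.map φ.op t)
  rw [← ConcreteCategory.comp_apply, ← ConcreteCategory.comp_apply, ← Functor.map_comp, ← op_comp,
    Category.assoc, EtOver.pullback_condition, ← Category.assoc, op_comp, Functor.map_comp,
    ConcreteCategory.comp_apply, ConcreteCategory.comp_apply, hφ' v]

theorem map_eq_iff_range_subset_eqLocus [(etTop X).HasSheafCompose (forget A)] (F : EtSh X A)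
    {U V : EtOver X} (s t : ToType (F.obj.obj (op U))) (φ : V ⟶ U) :
    F.obj.map φ.op s = F.obj.map φ.op t ↔
      Set.range φ.hom.left.left ⊆ (eqLocus F.obj s t : Set ↥U.obj.left.left) :=
  ⟨range_subset_eqLocus F.obj s t φ, eq_of_range_subset_eqLocus F s t φ⟩

end Groth.Agent.H53
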