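import Groth.Agent.H53.EtLocus
import Groth.Agent.H53.EtExact

/-!
# Germs at geometric points and the agreement locus; supports of sheaves on the small etale site (helper53)
-/

set_option autoImplicit false
set_option backward.isDefEq.respectTransparency false
universe w' v' u' u
open CategoryTheory CategoryTheory.Limits AlgebraicGeometry Opposite

namespace Groth.Agent.H53
open AlgSp

variable {S : Scheme.{u}} {X : Sp S}

/-- A geometric point over the image of a point `u` of an object `U` of the small etale site lifts to `U`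
through `u`. -/
theorem exists_lift_through_point (hX : IsAlgSpace X) (p : FieldPt X) (hp : p.IsGeometric)
    (U : EtOver X) (u : ↥U.obj.left.left) (h : Points.mk p = Points.ofPt U.obj.hom u) :
    ∃ l : (FieldPt.liftsTo p).obj U, l.1.left (IsLocalRing.closedPoint p.K) = u := by
  obtain ⟨ubar, h1, h2⟩ := exists_lift_geometric_point (IsAlgSpace.yon_obj U.obj.left) hX U.obj.hom
    (isEtaleMor_of_repWith _ U.property) p hp (Points.ofScheme _ u)
    (by rw [← Points.ofPt_eq_map_ofScheme]; exact h.symm)
  obtain ⟨l₀, rfl⟩ := (yon S).map_surjective ubar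
  refine ⟨⟨l₀, h1⟩, ?_⟩
  apply (Points.schemeEquiv U.obj.left).injective
  change Points.ofScheme _ _ = Points.ofScheme _ u
  rw [← h2]
  have := ofPt_yon_map_comp l₀ (𝟙 ((yon S).obj U.obj.left)) (IsLocalRing.closedPoint p.K)
  rw [Category.comp_id] at this
  exact this.symm

/-- The image in `|X|` of the point of `U` under a lift of `p` is the class of `p`. -/
theorem ofPt_lift_eq_mk (p : FieldPt X) {U : EtOver X} (l : (FieldPt.liftsTo p).obj U) :
    Points.ofPt U.obj.hom (l.1.left (IsLocalRing.closedPoint p.K)) = Points.mk p := by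
  rw [← ofPt_yon_map_comp, l.2]
  exact Points.ofPt_toHom p _

variable {A : Type u'} [Category.{v'} A] {FC : A → A → Type*} {CC : A → Type w'}
  [∀ X Y, FunLike (FC X Y) (CC X) (CC Y)] [ConcreteCategory.{w'} A FC]
  [HasColimitsOfSize.{u, u} A] [PreservesFilteredColimitsOfSize.{u, u} (forget A)]

/-- Two sections have the same germ at a lift of a geometric point iff the point of the lift lies in the
agreement locus. -/
theorem toPresheafFiber_eq_iff_mem_eqLocus (hX : IsAlgSpace X) (F : (EtOver X)ᵒᵖ ⥤ A) (p : FieldPt X)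
    (hp : p.IsGeometric) {U : EtOver X} (l : (FieldPt.liftsTo p).obj U) (s t : ToType (F.obj (op U))) :
    (etPoint hX p hp).toPresheafFiber U l F s = (etPoint hX p hp).toPresheafFiber U l F t ↔
      l.1.left (IsLocalRing.closedPoint p.K) ∈ eqLocus F s t := by
  rw [(etPoint hX p hp).toPresheafFiber_eq_iff' U l s t, mem_eqLocus_iff]
  constructor
  · rintro ⟨V, φ, y, hy, hφ⟩
    refine ⟨V, φ, hφ, y.1.left (IsLocalRing.closedPoint p.K), ?_⟩
    have h1 : y.1 ≫ φ.hom.left = l.1 := congrArg Subtype.val hy
    have h2 : y.1.left ≫ φ.hom.left.left = l.1.left := congrArg (fun m => m.left) h1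
    rw [← h2]
    rfl
  · rintro ⟨V, φ, hφ, hmem⟩
    obtain ⟨y, hy⟩ := exists_lift_of_mem_range p hp φ l hmem
    exact ⟨V, φ, y, hy, hφ⟩

end Groth.Agent.H53
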