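import Groth.Agent.H53.EtConserv

/-!
# Monomorphisms, epimorphisms and exactness of sheaves on the small etale site are detected on stalks (helper53)
-/

set_option autoImplicit false
set_option backward.isDefEq.respectTransparency false
universe u
open CategoryTheory CategoryTheory.Limits AlgebraicGeometry Opposite

namespace Groth.Agent.H53
open AlgSp

variable {S : Scheme.{u}}

theorem mono_of_stalks_type {X : Sp S} (hX : IsAlgSpace X) {F G : EtSh X (Type (u + 1))} (a : F ⟶ G)
    (h : ∀ p : FieldPt X, p.IsGeometric →
      Function.Injective ((stalkEtFunctor (Type (u + 1)) p).map a)) : Mono a := by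
  have : Presheaf.IsLocallyInjective (etTop X) a.hom :=
    isLocallyInjective_of_points (detectsCoverings_geomPoints hX) a.hom (by
      rintro Φ ⟨p, hp, rfl⟩
      exact h p hp)
  exact Sheaf.mono_of_isLocallyInjective a

theorem epi_of_stalks_type {X : Sp S} (hX : IsAlgSpace X) {F G : EtSh X (Type (u + 1))} (a : F ⟶ G)
    (h : ∀ p : FieldPt X, p.IsGeometric →
      Function.Surjective ((stalkEtFunctor (Type (u + 1)) p).map a)) : Epi a := by
  have : Presheaf.IsLocallySurjective (etTop X) a.hom :=
    isLocallySurjective_of_points (detectsCoverings_geomPoints hX) a.hom (by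
      rintro Φ ⟨p, hp, rfl⟩
      exact h p hp)
  exact Sheaf.epi_of_isLocallySurjective' a

theorem mono_epi_iff_stalks_type {X : Sp S} (hX : IsAlgSpace X) {F G : EtSh X (Type (u + 1))}
    (a : F ⟶ G) :
    (Mono a ↔ ∀ p : FieldPt X, p.IsGeometric →
        Function.Injective ((stalkEtFunctor (Type (u + 1)) p).map a)) ∧
    (Epi a ↔ ∀ p : FieldPt X, p.IsGeometric →
        Function.Surjective ((stalkEtFunctor (Type (u + 1)) p).map a)) := by
  refine ⟨⟨fun ha p hp => ?_, mono_of_stalks_type hX a⟩, ⟨fun ha p hp => ?_, epi_of_stalks_type hX a⟩⟩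
  · have := preservesFiniteLimits_stalkEtFunctor_type hX p hp
    exact (mono_iff_injective _).1 inferInstance
  · have := preservesFiniteColimits_stalkEtFunctor_type hX p hp
    exact (epi_iff_surjective _).1 inferInstance

end Groth.Agent.H53
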