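import Groth.Agent.H53.FiniteComp
import Groth.Agent.H53.LocPCalc
import Groth.Agent.H53.Proper
import Groth.Agent.H52.Descent
import Groth.Agent.H52.DiagSp2
import Mathlib.AlgebraicGeometry.Morphisms.FlatDescent
import Mathlib.AlgebraicGeometry.Morphisms.FlatMono

/-!
# Unramified morphisms of algebraic spaces and the diagonal (helper53)
-/

set_option autoImplicit false
universe u
open CategoryTheory CategoryTheory.Limits AlgebraicGeometry Opposite Topology

namespace Groth.Agent.H53
open AlgSp

variable {S : Scheme.{u}}

/-- A monomorphism `g : A ⟶ B` over `h_U` with `B ⟶ h_U` unramified and `A ⟶ h_U` etale is an open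
immersion. -/
theorem repWith_isOpenImmersion_of_comp_etale_of_unramified {A B : Sp S} {U : Over S}
    (g : A ⟶ B) (p : B ⟶ (yon S).obj U) [Mono g]
    (hp : RepWith (@LocallyOfFiniteType ⊓ @FormallyUnramified) p)
    (hgp : RepWith @Etale (g ≫ p)) : RepWith @IsOpenImmersion g := by
  obtain ⟨B₀, c, e, he, hec, hc⟩ := exists_iso_yon_of_repWith _ p hp
  obtain ⟨A₀, d, e', he', he'c, hd⟩ := exists_iso_yon_of_repWith _ (g ≫ p) hgp
  obtain ⟨g₀, hg₀⟩ := (yon S).map_surjective (e' ≫ g ≫ inv e)
  have hcomp : g₀ ≫ c = d := by
    apply (yon S).map_injective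
    rw [Functor.map_comp, hg₀, ← hec, ← he'c]
    simp
  have : Mono ((yon S).map g₀) := by
    rw [hg₀]
    infer_instance
  have hmono : Mono g₀ := (yon S).mono_of_mono_map this
  have : Mono g₀.left := inferInstance
  have : LocallyOfFiniteType c.left := hc.1
  have : FormallyUnramified c.left := hc.2
  have : Etale (g₀.left ≫ c.left) := by
    rw [← Over.comp_left, hcomp]
    exact hd
  have : Etale g₀.left := Etale.of_comp g₀.left c.left
  have hopen : IsOpenImmersion g₀.left := IsOpenImmersion.of_flat_of_mono g₀.left
  have h1 : RepWith @IsOpenImmersion ((yon S).map g₀) := (repWith_yon_map_iff _ _).2 hopen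
  rw [hg₀] at h1
  have h2 : RepWith @IsOpenImmersion (g ≫ inv e) :=
    (MorphismProperty.cancel_left_of_respectsIso (RepWith (S := S) @IsOpenImmersion) e' _).1 h1
  exact (MorphismProperty.cancel_right_of_respectsIso (RepWith (S := S) @IsOpenImmersion) g
    (inv e)).1 h2

/-- Scheme-target case: the diagonal of an unramified morphism is an open immersion. -/
theorem repWith_isOpenImmersion_diagonal_of_unramified_yon {F : Sp S} (hF : IsAlgSpace F)
    {T : Over S} (i : F ⟶ (yon S).obj T)
    (hi : LocP (@LocallyOfFiniteType ⊓ @FormallyUnramified) i) :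
    RepWith @IsOpenImmersion (pullback.diagonal i) := by
  obtain ⟨U, a, hae, has⟩ := hF.atlas
  obtain ⟨k, hk⟩ := (yon S).map_surjective (a ≫ i)
  have hPk : (@LocallyOfFiniteType ⊓ @FormallyUnramified : MorphismProperty Scheme.{u}) k.left :=
    hi a (𝟙 _) k hae (repWith_id _ T) (by rw [Category.comp_id, hk])
  have sq := pullback_map_diagonal_isPullback a a i
  have hrepΔ := (H52.diagonal_properties hF i).1
  refine H52.repWith_of_etale_surjective_base_change @IsOpenImmersion sq hrepΔ ?_ ?_ ?_
  · exact MorphismProperty.pullbackMap hae hae rfl rfl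
  · exact MorphismProperty.pullbackMap has has rfl rfl
  · have : Mono (pullback.map a a (a ≫ i) (a ≫ i) (𝟙 _) (𝟙 _) i (Category.id_comp _).symm
        (Category.id_comp _).symm) :=
      MorphismProperty.of_isPullback (P := MorphismProperty.monomorphisms _) sq
        (inferInstance : Mono (pullback.diagonal i))
    refine repWith_isOpenImmersion_of_comp_etale_of_unramified _ (pullback.fst (a ≫ i) (a ≫ i))
      ?_ ?_
    · refine MorphismProperty.of_isPullback (IsPullback.of_hasPullback _ _).flip ?_
      rw [← hk]
      exact (repWith_yon_map_iff _ _).2 hPk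
    · rw [pullback.lift_fst, Category.comp_id]
      exact MorphismProperty.of_isPullback (IsPullback.of_hasPullback a a).flip hae

theorem isPullback_id_of_mono {C : Type*} [Category C] {A B C' : C} (φ : A ⟶ B) (ι : B ⟶ C')
    [Mono ι] : IsPullback (𝟙 A) φ (φ ≫ ι) ι :=
  ⟨⟨by simp⟩, ⟨PullbackCone.IsLimit.mk _ (fun s => s.fst) (fun s => by simp)
    (fun s => by rw [← cancel_mono ι]; simpa using s.condition)
    (fun s m h1 _ => by simpa using h1)⟩⟩

/-- `Δ_{f ≫ g} = Δ_f ≫ ι`, where `ι : X ×_Y X ⟶ X ×_Z X` is the base change of `Δ_g`. -/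
theorem diagonal_comp_eq {C : Type*} [Category C] [HasPullbacks C] {X Y Z : C} (f : X ⟶ Y)
    (g : Y ⟶ Z) : pullback.diagonal (f ≫ g) = pullback.diagonal f ≫
      pullback.map f f (f ≫ g) (f ≫ g) (𝟙 _) (𝟙 _) g (Category.id_comp _).symm
        (Category.id_comp _).symm := by
  apply pullback.hom_ext
  · rw [pullback.diagonal_fst, Category.assoc, pullback.lift_fst, ← Category.assoc,
      pullback.diagonal_fst, Category.id_comp]
  · rw [pullback.diagonal_snd, Category.assoc, pullback.lift_snd, ← Category.assoc,
      pullback.diagonal_snd, Category.id_comp]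

instance mono_pullback_map_comp {C : Type*} [Category C] [HasPullbacks C] {X Y Z : C} (f : X ⟶ Y)
    (g : Y ⟶ Z) : Mono (pullback.map f f (f ≫ g) (f ≫ g) (𝟙 _) (𝟙 _) g (Category.id_comp _).symm
        (Category.id_comp _).symm) :=
  MorphismProperty.of_isPullback (P := MorphismProperty.monomorphisms _)
    (pullback_map_diagonal_isPullback f f g) (inferInstance : Mono (pullback.diagonal g))

/-- If the diagonal of `f ≫ g` has `P` then so does the diagonal of `f`. -/
theorem repWith_diagonal_of_comp (P : MorphismProperty Scheme.{u}) [P.IsStableUnderBaseChange]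
    {X Y Z : Sp S} (f : X ⟶ Y) (g : Y ⟶ Z) (h : RepWith P (pullback.diagonal (f ≫ g))) :
    RepWith P (pullback.diagonal f) := by
  have sq := isPullback_id_of_mono (pullback.diagonal f)
    (pullback.map f f (f ≫ g) (f ≫ g) (𝟙 _) (𝟙 _) g (Category.id_comp _).symm
        (Category.id_comp _).symm)
  rw [← diagonal_comp_eq] at sq
  exact MorphismProperty.of_isPullback sq h

/-- The diagonal of a composition has `P` if the diagonals of both morphisms do. -/
theorem repWith_diagonal_comp (P : MorphismProperty Scheme.{u}) [P.IsStableUnderBaseChange]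
    [P.IsStableUnderComposition]
    {X Y Z : Sp S} (f : X ⟶ Y) (g : Y ⟶ Z) (hf : RepWith P (pullback.diagonal f))
    (hg : RepWith P (pullback.diagonal g)) : RepWith P (pullback.diagonal (f ≫ g)) := by
  rw [diagonal_comp_eq]
  exact (RepWith (S := S) P).comp_mem _ _ hf
    (MorphismProperty.of_isPullback (pullback_map_diagonal_isPullback f f g) hg)

/-- The diagonal of a representable etale morphism with representable source is an open
immersion. -/
theorem repWith_isOpenImmersion_diagonal_of_etale {X : Sp S} {U : Over S} (a : (yon S).obj U ⟶ X)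
    (ha : RepWith @Etale a) : RepWith @IsOpenImmersion (pullback.diagonal a) := by
  have h1 : RepWith @Etale (pullback.fst a a) :=
    MorphismProperty.of_isPullback (IsPullback.of_hasPullback a a).flip ha
  refine repWith_isOpenImmersion_of_comp_etale_of_unramified _ (pullback.fst a a) ?_ ?_
  · refine repWith_of_le (fun A B φ hφ => ?_) h1
    have : Etale φ := hφ
    exact ⟨inferInstance, inferInstance⟩
  · rw [pullback.diagonal_fst]
    exact repWith_id _ U

/-- The diagonal of `h_g` computes the diagonal of `g`. -/
theorem diagonal_left_of_repWith_diagonal_yon_map (P : MorphismProperty Scheme.{u})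
    [P.IsStableUnderBaseChange] {U V : Over S} (h : U ⟶ V)
    (hΔ : RepWith P (pullback.diagonal ((yon S).map h))) : P (pullback.diagonal h.left) := by
  have hpb := IsPullback.of_hasPullback h.left h.left
  let D' : Over S := Over.mk (pullback.fst h.left h.left ≫ U.hom)
  let P₁ : D' ⟶ U := Over.homMk (pullback.fst h.left h.left) rfl
  let P₂ : D' ⟶ U := Over.homMk (pullback.snd h.left h.left) (by
    have := Over.w h
    simp only [D', Over.mk_hom]
    rw [← this, ← Category.assoc, ← Category.assoc, ← pullback.condition])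
  have sqO : IsPullback P₁ P₂ h h :=
    IsPullback.of_map (Over.forget S) (by ext; exact hpb.w) hpb
  have sqY := sqO.map (yon S)
  let Δ' : U ⟶ D' := Over.homMk (pullback.diagonal h.left) (by simp [D'])
  have h1 : Δ' ≫ P₁ = 𝟙 _ := by ext; simp [Δ', P₁]
  have h2 : Δ' ≫ P₂ = 𝟙 _ := by ext; simp [Δ', P₂]
  have hΔ' : (yon S).map Δ' ≫ sqY.isoPullback.hom = pullback.diagonal ((yon S).map h) := by
    apply pullback.hom_ext
    · rw [Category.assoc, sqY.isoPullback_hom_fst, ← Functor.map_comp, h1,
        CategoryTheory.Functor.map_id, pullback.diagonal_fst]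
    · rw [Category.assoc, sqY.isoPullback_hom_snd, ← Functor.map_comp, h2,
        CategoryTheory.Functor.map_id, pullback.diagonal_snd]
  rw [← hΔ'] at hΔ
  have := (MorphismProperty.cancel_right_of_respectsIso (RepWith (S := S) P) ((yon S).map Δ')
    sqY.isoPullback.hom).1 hΔ
  exact (repWith_yon_map_iff P Δ').1 this

end Groth.Agent.H53
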