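import Groth.Prelude.Def_AlgSpOX3
import Groth.Agent.H53.Unram
import Groth.Agent.H53.GeomPt
import Groth.Agent.H52.Points

/-!
# Etale neighbourhoods of a geometric point of an algebraic space form a cofiltered category (helper53)
-/

set_option autoImplicit false
set_option backward.isDefEq.respectTransparency false
universe u
open CategoryTheory CategoryTheory.Limits AlgebraicGeometry Opposite

namespace Groth.Agent.H53
open AlgSp

variable {S : Scheme.{u}}

/-- A geometric point of an algebraic space has an etale neighbourhood. -/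
theorem nonempty_etNbhd {X : Sp S} (hX : IsAlgSpace X) (p : FieldPt X) (hp : p.IsGeometric) :
    Nonempty (EtNbhd p) := by
  obtain ⟨U, a, ha1, ha2⟩ := hX.atlas
  obtain ⟨u, hu⟩ := H52.surjective_points_of_repWith_surjective a ha2 (Points.mk p)
  obtain ⟨ubar, h1, -⟩ := exists_lift_geometric_point (IsAlgSpace.yon_obj U) hX a
    (isEtaleMor_of_repWith a ha1) p hp u hu
  obtain ⟨u₀, rfl⟩ := (yon S).map_surjective ubar
  exact ⟨⟨EtOver.mk a ha1, ⟨u₀, h1⟩⟩⟩

/-- Any two etale neighbourhoods are dominated by a third. -/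
theorem cone_objs_etNbhd {X : Sp S} (p : FieldPt X) (N₁ N₂ : EtNbhd p) :
    ∃ (W : EtNbhd p) (_ : W ⟶ N₁) (_ : W ⟶ N₂), True := by
  obtain ⟨E₁, u₁⟩ := N₁
  obtain ⟨E₂, u₂⟩ := N₂
  have h : (yon S).map u₂.1 ≫ E₂.obj.hom = (yon S).map u₁.1 ≫ E₁.obj.hom := by rw [u₁.2, u₂.2]
  let w : p.pt ⟶ (EtOver.prodObj E₁ E₂).obj.left := E₂.property.1.lift' u₂.1 u₁.1 h
  have hw1 : w ≫ (EtOver.prodFst E₁ E₂).hom.left = u₁.1 :=
    Functor.relativelyRepresentable.lift'_snd _ _ _ _
  have hw2 : w ≫ (EtOver.prodSnd E₁ E₂).hom.left = u₂.1 :=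
    Functor.relativelyRepresentable.lift'_fst _ _ _ _
  have hw : (yon S).map w ≫ (EtOver.prodObj E₁ E₂).obj.hom = p.toHom := by
    rw [← EtOver.w (EtOver.prodFst E₁ E₂), ← Category.assoc, ← Functor.map_comp, hw1]
    exact u₁.2
  refine ⟨⟨EtOver.prodObj E₁ E₂, ⟨w, hw⟩⟩, ⟨EtOver.prodFst E₁ E₂, Subtype.ext hw1⟩,
    ⟨EtOver.prodSnd E₁ E₂, Subtype.ext hw2⟩, trivial⟩

/-- Any two parallel morphisms of etale neighbourhoods are equalised by a further neighbourhood. -/
theorem cone_maps_etNbhd {X : Sp S} (p : FieldPt X) {N₁ N₂ : EtNbhd p} (f g : N₁ ⟶ N₂) :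
    ∃ (W : EtNbhd p) (h : W ⟶ N₁), h ≫ f = h ≫ g := by
  obtain ⟨E, u⟩ := N₁
  obtain ⟨E', u'⟩ := N₂
  obtain ⟨f, hf⟩ := f
  obtain ⟨g, hg⟩ := g
  change E ⟶ E' at f g
  have hf' : u.1 ≫ f.hom.left = u'.1 := congrArg Subtype.val hf
  have hg' : u.1 ≫ g.hom.left = u'.1 := congrArg Subtype.val hg
  -- the diagonal of `E' ⟶ X` is an open immersion
  have hΔ : RepWith @IsOpenImmersion (pullback.diagonal E'.obj.hom) :=
    repWith_isOpenImmersion_diagonal_of_etale E'.obj.hom E'.property
  let φ : (yon S).obj E.obj.left ⟶ pullback E'.obj.hom E'.obj.hom :=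
    pullback.lift ((yon S).map f.hom.left) ((yon S).map g.hom.left) (by rw [EtOver.w f, EtOver.w g])
  have sq := hΔ.rep.isPullback φ
  have hι : IsOpenImmersion (hΔ.rep.snd φ).left := hΔ.property_snd φ
  have e1 : (yon S).map (hΔ.rep.snd φ) ≫ (yon S).map f.hom.left = hΔ.rep.fst φ := by
    have := congrArg (fun m => m ≫ pullback.fst _ _) sq.w
    simp only [Category.assoc, pullback.diagonal_fst, pullback.lift_fst, Category.comp_id, φ] at this
    exact this.symm
  have e2 : (yon S).map (hΔ.rep.snd φ) ≫ (yon S).map g.hom.left = hΔ.rep.fst φ := by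
    have := congrArg (fun m => m ≫ pullback.snd _ _) sq.w
    simp only [Category.assoc, pullback.diagonal_snd, pullback.lift_snd, Category.comp_id, φ] at this
    exact this.symm
  have e3 : hΔ.rep.snd φ ≫ f.hom.left = hΔ.rep.snd φ ≫ g.hom.left :=
    (yon S).map_injective (by rw [Functor.map_comp, Functor.map_comp, e1, e2])
  -- the new neighbourhood
  let W : EtOver X := EtOver.mk ((yon S).map (hΔ.rep.snd φ) ≫ E.obj.hom)
    ((repWith_isMultiplicative (S := S) @Etale).comp_mem _ _
      ((repWith_yon_map_iff _ _).2 (inferInstanceAs (Etale (hΔ.rep.snd φ).left))) E.property)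
  let h : W ⟶ E := EtOver.homMk (hΔ.rep.snd φ) rfl
  -- the lift of the point
  have hlift : (yon S).map u'.1 ≫ pullback.diagonal E'.obj.hom = (yon S).map u.1 ≫ φ := by
    apply pullback.hom_ext
    · simp only [Category.assoc, pullback.diagonal_fst, pullback.lift_fst, Category.comp_id, φ]
      rw [← Functor.map_comp, hf']
    · simp only [Category.assoc, pullback.diagonal_snd, pullback.lift_snd, Category.comp_id, φ]
      rw [← Functor.map_comp, hg']
  obtain ⟨w, hw⟩ := (yon S).map_surjective (sq.lift _ _ hlift)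
  have hw2 : w ≫ hΔ.rep.snd φ = u.1 := (yon S).map_injective (by
    rw [Functor.map_comp, hw]; exact sq.lift_snd _ _ _)
  have hwW : (yon S).map w ≫ W.obj.hom = p.toHom := by
    change (yon S).map w ≫ (yon S).map (hΔ.rep.snd φ) ≫ E.obj.hom = p.toHom
    rw [← Category.assoc, ← Functor.map_comp, hw2]
    exact u.2
  refine ⟨⟨W, ⟨w, hwW⟩⟩, ⟨h, Subtype.ext hw2⟩, ?_⟩
  apply Subtype.ext
  exact EtOver.hom_ext _ _ e3

/-- The category of etale neighbourhoods of a geometric point of an algebraic space is cofiltered. -/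
theorem isCofiltered_etNbhd {X : Sp S} (hX : IsAlgSpace X) (p : FieldPt X) (hp : p.IsGeometric) :
    IsCofiltered (EtNbhd p) :=
  { nonempty := nonempty_etNbhd hX p hp
    cone_objs := fun N₁ N₂ => cone_objs_etNbhd p N₁ N₂
    cone_maps := fun _ _ f g => cone_maps_etNbhd p f g }

end Groth.Agent.H53
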