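import Groth.Agent.H53.EtNbhd
import Mathlib.AlgebraicGeometry.Sites.EtalePoint
import Mathlib.CategoryTheory.Sites.Point.Basic

/-!
# A geometric point of an algebraic space defines a point of its small etale site (helper53)
-/

set_option autoImplicit false
set_option backward.isDefEq.respectTransparency false
universe u
open CategoryTheory CategoryTheory.Limits AlgebraicGeometry Opposite

namespace Groth.Agent.H53
open AlgSp

variable {S : Scheme.{u}}

/-- A geometric point lifts along some member of a jointly surjective family in the small etale site. -/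
theorem exists_lift_of_covering {X : Sp S} (p : FieldPt X) (hp : p.IsGeometric)
    (N : EtNbhd p) {ι : Type*} (Ui : ι → EtOver X) (g : ∀ i, Ui i ⟶ N.1)
    (hcov : Presieve.ofArrows Ui g ∈ etPre X N.1) :
    ∃ (i : ι) (ui : (FieldPt.liftsTo p).obj (Ui i)), (FieldPt.liftsTo p).map (g i) ui = N.2 := by
  obtain ⟨E, e⟩ := N
  have hK : IsAlgClosed p.K := hp
  rw [ofArrows_mem_etPre_iff] at hcov
  let s : Spec (CommRingCat.of p.K) ⟶ E.obj.left.left := e.1.left
  obtain ⟨i, y, hy⟩ := hcov (s default)
  have het : Etale (g i).hom.left.left := EtOver.etale_left (g i)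
  obtain ⟨l, hl, -⟩ := Scheme.exists_fac_of_etale_of_isSepClosed (g i).hom.left.left s y hy
  have hstr : l ≫ (Ui i).obj.left.hom = p.str := by
    rw [← Over.w (g i).hom.left, ← Category.assoc, hl]
    exact Over.w e.1
  let lO : p.pt ⟶ (Ui i).obj.left := Over.homMk l hstr
  have hlO : lO ≫ (g i).hom.left = e.1 := Over.OverMorphism.ext hl
  refine ⟨i, ⟨lO, ?_⟩, Subtype.ext hlO⟩
  rw [← EtOver.w (g i), ← Category.assoc, ← Functor.map_comp, hlO]
  exact e.2

/-- The lifts of a geometric point are jointly surjective on covering sieves. -/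
theorem liftsTo_jointly_surjective {X : Sp S} (p : FieldPt X) (hp : p.IsGeometric)
    {E : EtOver X} (R : Sieve E) (hR : R ∈ etTop X E) (x : (FieldPt.liftsTo p).obj E) :
    ∃ (Y : EtOver X) (f : Y ⟶ E) (_ : R f) (y : (FieldPt.liftsTo p).obj Y),
      (FieldPt.liftsTo p).map f y = x := by
  rw [etTop, Precoverage.mem_toGrothendieck_iff_of_isStableUnderComposition] at hR
  obtain ⟨R', hR', hle⟩ := hR
  obtain ⟨ι, Y, f, rfl⟩ := R'.exists_eq_ofArrows
  obtain ⟨i, ui, hui⟩ := exists_lift_of_covering p hp ⟨E, x⟩ Y f hR'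
  exact ⟨Y i, f i, hle _ _ (Presieve.ofArrows.mk i), ui, hui⟩

/-- Every etale neighbourhood mapping to a chart is refined by an affine etale scheme over the chart. -/
theorem exists_affineEtale_refinement {X : Sp S} (p : FieldPt X) {U : Over S}
    (a : (yon S).obj U ⟶ X) (ha : RepWith @Etale a) (N : EtNbhd p) (h₂ : N.1 ⟶ EtOver.mk a ha) :
    ∃ (V : U.left.AffineEtale)
      (l : (FieldPt.liftsTo p).obj ((Scheme.AffineEtale.Spec U.left ⋙ EtOver.ofChart a ha).obj V)),
      Nonempty ((FieldPt.liftsTo p).elementsMk ((Scheme.AffineEtale.Spec U.left ⋙ EtOver.ofChart a ha).obj V) l ⟶ N) := by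
  obtain ⟨W, w⟩ := N
  change W ⟶ EtOver.mk a ha at h₂
  let s : Spec (CommRingCat.of p.K) ⟶ W.obj.left.left := w.1.left
  obtain ⟨R, j, hj, hx, -⟩ := Scheme.exists_affine_mem_range_and_range_subset
    (x := s default) (U := ⊤) (by simp)
  have hfac : Set.range s ⊆ Set.range j := by
    rintro _ ⟨t, rfl⟩
    rwa [Subsingleton.elim t default]
  let l' : Spec (CommRingCat.of p.K) ⟶ Spec R := IsOpenImmersion.lift j s hfac
  have hl' : l' ≫ j = w.1.left := IsOpenImmersion.lift_fac j s hfac
  have het : Etale h₂.hom.left.left := EtOver.etale_left h₂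
  have hU : h₂.hom.left.left ≫ U.hom = W.obj.left.hom := Over.w h₂.hom.left
  let V : U.left.AffineEtale := Scheme.AffineEtale.mk (j ≫ h₂.hom.left.left)
  let G := Scheme.AffineEtale.Spec U.left ⋙ EtOver.ofChart a ha
  let jO : (G.obj V).obj.left ⟶ W.obj.left := Over.homMk j (by
    change j ≫ W.obj.left.hom = (j ≫ h₂.hom.left.left) ≫ U.hom
    rw [Category.assoc, hU])
  have hjO : EtOver.homOfEtale ((Scheme.AffineEtale.Spec U.left).obj V) = jO ≫ h₂.hom.left :=
    Over.OverMorphism.ext rfl
  have hGV : (G.obj V).obj.hom = (yon S).map jO ≫ W.obj.hom := by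
    change (yon S).map (EtOver.homOfEtale ((Scheme.AffineEtale.Spec U.left).obj V)) ≫ a = _
    rw [hjO, Functor.map_comp, Category.assoc]
    congr 1
    exact EtOver.w h₂
  let m : G.obj V ⟶ W := EtOver.homMk jO hGV.symm
  have hstr : l' ≫ (G.obj V).obj.left.hom = p.str := by
    change l' ≫ (j ≫ h₂.hom.left.left) ≫ U.hom = p.str
    rw [Category.assoc, hU, ← Category.assoc, hl']
    exact Over.w w.1
  let lO : p.pt ⟶ (G.obj V).obj.left := Over.homMk l' hstr
  have hlO : lO ≫ jO = w.1 := Over.OverMorphism.ext hl'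
  have hlift : (yon S).map lO ≫ (G.obj V).obj.hom = p.toHom := by
    rw [hGV, ← Category.assoc, ← Functor.map_comp, hlO]
    exact w.2
  exact ⟨V, ⟨lO, hlift⟩, ⟨⟨m, Subtype.ext hlO⟩⟩⟩

/-- The category of etale neighbourhoods of a geometric point of an algebraic space is initially small. -/
theorem initiallySmall_etNbhd {X : Sp S} (hX : IsAlgSpace X) (p : FieldPt X) (hp : p.IsGeometric) :
    InitiallySmall.{u} (EtNbhd p) := by
  have := isCofiltered_etNbhd hX p hp
  obtain ⟨U, a, ha1, ha2⟩ := hX.atlas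
  obtain ⟨u, hu⟩ := H52.surjective_points_of_repWith_surjective a ha2 (Points.mk p)
  obtain ⟨ubar, h1, -⟩ := exists_lift_geometric_point (IsAlgSpace.yon_obj U) hX a
    (isEtaleMor_of_repWith a ha1) p hp u hu
  obtain ⟨u₀, rfl⟩ := (yon S).map_surjective ubar
  let N₀ : EtNbhd p := ⟨EtOver.mk a ha1, ⟨u₀, h1⟩⟩
  let G : U.left.AffineEtale ⥤ EtOver X := Scheme.AffineEtale.Spec U.left ⋙ EtOver.ofChart a ha1
  refine initiallySmall_of_essentiallySmall_weakly_initial_objectProperty
    (Functor.Elements.precomp G (FieldPt.liftsTo p)).essImage ?_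
  intro N
  obtain ⟨W, f₁, f₂, -⟩ := cone_objs_etNbhd p N N₀
  obtain ⟨V, l, ⟨m⟩⟩ := exists_affineEtale_refinement p a ha1 W f₂.1
  exact ⟨(Functor.Elements.precomp G (FieldPt.liftsTo p)).obj ⟨V, l⟩,
    Functor.obj_mem_essImage _ _, ⟨m ≫ f₁⟩⟩

/-- A geometric point of an algebraic space defines a point of its small etale site. -/
noncomputable def etPoint {X : Sp S} (hX : IsAlgSpace X) (p : FieldPt X) (hp : p.IsGeometric) :
    GrothendieckTopology.Point.{u} (etTop X) where
  fiber := FieldPt.liftsTo p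
  isCofiltered := isCofiltered_etNbhd hX p hp
  initiallySmall := initiallySmall_etNbhd hX p hp
  jointly_surjective R hR x := liftsTo_jointly_surjective p hp R hR x

@[simp] theorem etPoint_fiber {X : Sp S} (hX : IsAlgSpace X) (p : FieldPt X) (hp : p.IsGeometric) :
    (etPoint hX p hp).fiber = FieldPt.liftsTo p := rfl

end Groth.Agent.H53
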