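import Groth.Prelude.Def_AlgSpEt
import Mathlib.CategoryTheory.Sites.CoverLifting

/-!
# `EtOver.postcomp` is continuous and cocontinuous (helper53)
-/

set_option autoImplicit false
set_option backward.isDefEq.respectTransparency false
universe u
open CategoryTheory CategoryTheory.Limits AlgebraicGeometry Opposite

namespace Groth.Agent.H53
open AlgSp

variable {S : Scheme.{u}} {X Y : Sp S} (f : X ⟶ Y) (hf : IsEtaleMor f)

/-- `postcomp` maps the chosen fibre product cone to a limit cone. -/
noncomputable def postcompPullbackIsLimit {E₁ E₂ E₀ : EtOver X} (g₁ : E₁ ⟶ E₀) (g₂ : E₂ ⟶ E₀) :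
    IsLimit (PullbackCone.mk ((EtOver.postcomp f hf).map (EtOver.pullbackFst g₁ g₂))
      ((EtOver.postcomp f hf).map (EtOver.pullbackSnd g₁ g₂))
      (by rw [← Functor.map_comp, ← Functor.map_comp, EtOver.pullback_condition])) :=
  PullbackCone.IsLimit.mk _
    (fun s => EtOver.homMk (pullback.lift s.fst.hom.left s.snd.hom.left
        (congrArg (fun k => k.hom.left) s.condition)) (by
      change (yon S).map _ ≫ ((yon S).map _ ≫ E₁.obj.hom) ≫ f = s.pt.obj.hom
      rw [Category.assoc, ← Category.assoc, ← Functor.map_comp, pullback.lift_fst]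
      exact EtOver.w s.fst))
    (fun s => EtOver.hom_ext _ _ (pullback.lift_fst _ _ _))
    (fun s => EtOver.hom_ext _ _ (pullback.lift_snd _ _ _))
    (fun s m h₁ h₂ => EtOver.hom_ext _ _ (pullback.hom_ext
      ((congrArg (fun k => k.hom.left) h₁).trans (pullback.lift_fst _ _ _).symm)
      ((congrArg (fun k => k.hom.left) h₂).trans (pullback.lift_snd _ _ _).symm)))

instance preservesLimit_cospan_postcomp {E₁ E₂ E₀ : EtOver X} (g₁ : E₁ ⟶ E₀) (g₂ : E₂ ⟶ E₀) :
    PreservesLimit (cospan g₁ g₂) (EtOver.postcomp f hf) :=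
  preservesLimit_of_preserves_limit_cone (EtOver.pullbackIsLimit g₁ g₂)
    ((isLimitMapConePullbackConeEquiv _ _).symm (postcompPullbackIsLimit f hf g₁ g₂))

instance preservesPullbacks_postcomp : PreservesLimitsOfShape WalkingCospan (EtOver.postcomp f hf) where
  preservesLimit {K} := preservesLimit_of_iso_diagram _ (diagramIsoCospan K).symm

theorem postcomp_isContinuous :
    (EtOver.postcomp f hf).IsContinuous (etTop X) (etTop Y) := by
  unfold etTop
  refine Functor.isContinuous_toGrothendieck_of_pullbacksPreservedBy (EtOver.postcomp f hf) (etPre X) (etPre Y) ?_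
  have h : etPre X = Precoverage.comap (EtOver.postcomp f hf) (etPre Y) :=
    Precoverage.comap_comp (EtOver.postcomp f hf) (EtOver.toScheme Y) Scheme.etalePrecoverage
  exact le_of_eq h

theorem postcomp_isCocontinuous :
    (EtOver.postcomp f hf).IsCocontinuous (etTop X) (etTop Y) := by
  refine ⟨fun {E} {T} hT => ?_⟩
  rw [etTop, Precoverage.mem_toGrothendieck_iff_of_isStableUnderComposition] at hT
  obtain ⟨R', hR', hle⟩ := hT
  obtain ⟨ι, Z, g, rfl⟩ := R'.exists_eq_ofArrows
  rw [ofArrows_mem_etPre_iff] at hR'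
  -- lift the covering family to the small etale site of `X`
  have hZet : ∀ i, RepWith @Etale ((yon S).map (g i).hom.left ≫ E.obj.hom) := fun i =>
    (repWith_isMultiplicative (S := S) @Etale).comp_mem _ _
      ((repWith_yon_map_iff _ _).2 (EtOver.etale_left (g i))) E.property
  let Z' : ι → EtOver X := fun i => EtOver.mk ((yon S).map (g i).hom.left ≫ E.obj.hom) (hZet i)
  let g' : ∀ i, Z' i ⟶ E := fun i => EtOver.homMk (g i).hom.left rfl
  have hcov : Sieve.ofArrows Z' g' ∈ etTop X E := ofArrows_mem_etTop Z' g' hR'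
  refine (etTop X).superset_covering ?_ hcov
  rw [Sieve.ofArrows, Sieve.generate_le_iff]
  rintro _ _ ⟨i⟩
  change T ((EtOver.postcomp f hf).map (g' i))
  -- `postcomp (g' i)` factors through `g i`
  let ι' : (EtOver.postcomp f hf).obj (Z' i) ⟶ Z i := EtOver.homMk (𝟙 _) (by
    change (yon S).map (𝟙 _) ≫ (Z i).obj.hom = ((yon S).map (g i).hom.left ≫ E.obj.hom) ≫ f
    rw [CategoryTheory.Functor.map_id, Category.id_comp, Category.assoc]
    exact (EtOver.w (g i)).symm)
  have hfac : (EtOver.postcomp f hf).map (g' i) = ι' ≫ g i :=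
    EtOver.hom_ext _ _ (Category.id_comp _).symm
  rw [hfac]
  exact T.downward_closed (hle _ _ (Presieve.ofArrows.mk i)) ι'

end Groth.Agent.H53
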