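import Groth.Agent.H53.EtSubTerminal
import Groth.Agent.Lib.Helper24.EtaleStalk
import Groth.Prelude.Def_AlgSpSub

/-!
# Reducedness of algebraic spaces through étale charts (helper53)
-/

set_option autoImplicit false
set_option backward.isDefEq.respectTransparency false
universe u
open CategoryTheory CategoryTheory.Limits AlgebraicGeometry Opposite

namespace Groth.Agent.H53
open AlgSp

variable {S : Scheme.{u}}

/-- Reducedness of local rings is invariant under étale morphisms of schemes (cf. S0119, without the Noetherian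
hypothesis, which its proof does not use). -/
theorem isReduced_stalk_iff_of_etale {X Y : Scheme.{u}} (f : X ⟶ Y) [Etale f] (x : X) :
    _root_.IsReduced (X.presheaf.stalk x) ↔ _root_.IsReduced (Y.presheaf.stalk (f.base x)) := by
  constructor
  · intro hS
    algebraize [(f.stalkMap x).hom]
    have : Module.FaithfullyFlat (Y.presheaf.stalk (f.base x)) (X.presheaf.stalk x) :=
      @Module.FaithfullyFlat.of_flat_of_isLocalHom _ _ _ _ _ _ _
        (Flat.stalkMap f x) (f.toLRSHom.prop x)
    exact isReduced_of_injective (f.stalkMap x).hom ‹RingHom.FaithfullyFlat _›.injective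
  · intro hR
    obtain ⟨_, ⟨U, hU : IsAffineOpen U, rfl⟩, hfxU, -⟩ :=
      Y.isBasis_affineOpens.exists_subset_of_mem_open (Set.mem_univ (f.base x)) isOpen_univ
    obtain ⟨_, ⟨V, hV : IsAffineOpen V, rfl⟩, hxV, hVU⟩ :=
      X.isBasis_affineOpens.exists_subset_of_mem_open (show x ∈ f ⁻¹ᵁ U from hfxU) (f ⁻¹ᵁ U).2
    have hVU' : V ≤ f ⁻¹ᵁ U := hVU
    have het : (f.appLE U V hVU').hom.Etale := f.etale_appLE hU hV hVU'
    algebraize [(f.appLE U V hVU').hom]
    let i1 : Algebra Γ(Y, U) (Y.presheaf.stalk (f.base x)) :=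
      TopCat.Presheaf.algebra_section_stalk Y.presheaf (U := U) ⟨f.base x, hfxU⟩
    let i2 : Algebra Γ(X, V) (X.presheaf.stalk x) :=
      TopCat.Presheaf.algebra_section_stalk X.presheaf (U := V) ⟨x, hxV⟩
    have h1 : IsLocalization.AtPrime (Y.presheaf.stalk (f.base x))
        (hU.primeIdealOf ⟨f.base x, hfxU⟩).asIdeal := hU.isLocalization_stalk ⟨f.base x, hfxU⟩
    have h2 : IsLocalization.AtPrime (X.presheaf.stalk x)
        (hV.primeIdealOf ⟨x, hxV⟩).asIdeal := hV.isLocalization_stalk ⟨x, hxV⟩
    have hpq : (hV.primeIdealOf ⟨x, hxV⟩).asIdeal.comap (algebraMap Γ(Y, U) Γ(X, V)) =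
        (hU.primeIdealOf ⟨f.base x, hfxU⟩).asIdeal :=
      congrArg PrimeSpectrum.asIdeal (IsAffineOpen.comap_primeIdealOf_appLE U hU V hV hVU' hxV)
    exact Groth.Agent.Lib.Helper24.isReduced_localization_of_etale Γ(Y, U) Γ(X, V)
      (hU.primeIdealOf ⟨f.base x, hfxU⟩).asIdeal (hV.primeIdealOf ⟨x, hxV⟩).asIdeal hpq
      (Y.presheaf.stalk (f.base x)) (X.presheaf.stalk x)

/-- Points of two objects of the small étale site with the same image come from a point of the product. -/
theorem exists_point_prodObj' {X : Sp S} (E E' : EtOver X) (e : ↥E.obj.left.left) (e' : ↥E'.obj.left.left)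
    (h : Points.ofPt E.obj.hom e = Points.ofPt E'.obj.hom e') :
    ∃ z : ↥(EtOver.prodObj E E').obj.left.left, (EtOver.prodFst E E').hom.left.left z = e ∧
      (EtOver.prodSnd E E').hom.left.left z = e' := by
  have sq := E'.property.1.isPullback E.obj.hom
  obtain ⟨p, hp', hp⟩ := H52.exists_point_of_isPullback sq (Points.ofScheme E'.obj.left e')
    (Points.ofScheme E.obj.left e)
    (by rw [← Points.ofPt_eq_map_ofScheme, ← Points.ofPt_eq_map_ofScheme, h])
  obtain ⟨z, rfl⟩ := (Points.schemeEquiv _).surjective p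
  refine ⟨z, ?_, ?_⟩
  · apply (Points.schemeEquiv E.obj.left).injective
    exact (H52.points_map_ofScheme _ z).symm.trans hp
  · apply (Points.schemeEquiv E'.obj.left).injective
    refine (H52.points_map_ofScheme _ z).symm.trans ?_
    change Points.map ((yon S).map (E'.property.1.fst' E.obj.hom)) _ = _
    rw [Functor.relativelyRepresentable.map_fst']
    exact hp'

/-- If the local ring at one chart point over `x` is reduced, so is the local ring at every chart point over `x`. -/
theorem isReduced_stalk_of_hasAt {X : Sp S} {x : Points X}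
    (h : HasAt (fun U u => _root_.IsReduced ↥(U.presheaf.stalk u)) X x)
    (E : EtOver X) (e : ↥E.obj.left.left) (he : Points.ofPt E.obj.hom e = x) :
    _root_.IsReduced ↥(E.obj.left.left.presheaf.stalk e) := by
  obtain ⟨U', a', u', ha', hu', hred⟩ := h
  let E' : EtOver X := EtOver.mk a' ha'
  obtain ⟨z, hz1, hz2⟩ := exists_point_prodObj' E E' e u' (he.trans hu'.symm)
  have h1 : Etale (EtOver.prodFst E E').hom.left.left := EtOver.etale_left _
  have h2 : Etale (EtOver.prodSnd E E').hom.left.left := EtOver.etale_left _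
  have hz : _root_.IsReduced ↥((EtOver.prodObj E E').obj.left.left.presheaf.stalk z) := by
    rw [isReduced_stalk_iff_of_etale (EtOver.prodSnd E E').hom.left.left z]
    change _root_.IsReduced ↥(U'.left.presheaf.stalk ((EtOver.prodSnd E E').hom.left.left z))
    rw [hz2]
    exact hred
  rw [isReduced_stalk_iff_of_etale (EtOver.prodFst E E').hom.left.left z] at hz
  change _root_.IsReduced ↥(E.obj.left.left.presheaf.stalk ((EtOver.prodFst E E').hom.left.left z)) at hz
  rw [hz1] at hz
  exact hz

theorem hasAt_isReduced_of_isReducedSp {X : Sp S} (hX : IsReducedSp X) (x : Points X) :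
    HasAt (fun U u => _root_.IsReduced ↥(U.presheaf.stalk u)) X x := by
  obtain ⟨U, p, hp1, hp2, hU⟩ := hX
  obtain ⟨u, rfl⟩ := surjective_ofPt_of_surjective p hp2 x
  have : AlgebraicGeometry.IsReduced U.left := hU
  exact ⟨U, p, u, hp1, rfl, inferInstance⟩

/-- Every scheme étale over a reduced algebraic space is reduced. -/
theorem isReduced_of_etOver {X : Sp S} (h : ∀ x : Points X, HasAt (fun U u => _root_.IsReduced ↥(U.presheaf.stalk u)) X x)
    (E : EtOver X) : AlgebraicGeometry.IsReduced E.obj.left.left := by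
  have : ∀ e : ↥E.obj.left.left, _root_.IsReduced ↥(E.obj.left.left.presheaf.stalk e) := fun e =>
    isReduced_stalk_of_hasAt (h _) E e rfl
  exact isReduced_of_isReduced_stalk _

theorem isReducedSp_iff_forall_hasAt {X : Sp S} (hX : IsAlgSpace X) :
    IsReducedSp X ↔ ∀ x : Points X, HasAt (fun U u => _root_.IsReduced ↥(U.presheaf.stalk u)) X x := by
  refine ⟨hasAt_isReduced_of_isReducedSp, fun h => ?_⟩
  obtain ⟨U, a, ha1, ha2⟩ := hX.atlas
  exact ⟨U, a, ha1, ha2, isReduced_of_etOver h (EtOver.mk a ha1)⟩

end Groth.Agent.H53
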