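import Groth.Agent.H53.EtReduced
import Groth.Prelude.Def_AlgSpOX

/-!
# Global sections of the structure sheaf of a reduced algebraic space (helper53)
-/

set_option autoImplicit false
set_option backward.isDefEq.respectTransparency false
universe u
open CategoryTheory CategoryTheory.Limits AlgebraicGeometry Opposite

namespace Groth.Agent.H53
open AlgSp

variable {S : Scheme.{u}}

theorem isReduced_gsectEt_of_isReducedSp {X : Sp S} (hX : IsReducedSp X) :
    _root_.IsReduced ↥(gsectEt (OEt X)) ∧
      ∀ f : ↥(gsectEt (OEt X)),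
        (∀ E : EtOver X,
            E.obj.left.left.basicOpen ((limit.π (OEt X).obj (op E)) f).down = ⊥) →
          f = 0 := by
  have hE : ∀ E : EtOver X, AlgebraicGeometry.IsReduced E.obj.left.left := fun E =>
    isReduced_of_etOver (hasAt_isReduced_of_isReducedSp hX) E
  constructor
  · refine ⟨fun f hf => ?_⟩
    obtain ⟨n, hn⟩ := hf
    apply Concrete.limit_ext
    rintro ⟨E⟩
    rw [map_zero]
    have h1 : ((limit.π (OEt X).obj (op E)) f) ^ n = 0 := by rw [← map_pow, hn, map_zero]
    let s : Γ(E.obj.left.left, ⊤) := ((limit.π (OEt X).obj (op E)) f).down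
    have h2 : s ^ n = 0 := congrArg ULift.down h1
    have := hE E
    have h3 : s = 0 := IsNilpotent.eq_zero ⟨n, h2⟩
    exact ULift.ext _ _ h3
  · intro f hf
    apply Concrete.limit_ext
    rintro ⟨E⟩
    rw [map_zero]
    let s : Γ(E.obj.left.left, ⊤) := ((limit.π (OEt X).obj (op E)) f).down
    have := hE E
    have h3 : s = 0 := (basicOpen_eq_bot_iff s).1 (hf E)
    exact ULift.ext _ _ h3

end Groth.Agent.H53
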