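import Groth.Agent.H53.EtPoint
import Mathlib.CategoryTheory.Sites.Point.Skyscraper

/-!
# Exactness of the stalk functors at a geometric point of an algebraic space (helper53)
-/

set_option autoImplicit false
set_option backward.isDefEq.respectTransparency false
universe u
open CategoryTheory CategoryTheory.Limits AlgebraicGeometry Opposite

namespace Groth.Agent.H53
open AlgSp

variable {S : Scheme.{u}} {X : Sp S}

theorem ab5_addCommGrpCat_succ : AB5OfSize.{u, u} AddCommGrpCat.{u + 1} :=
  AB5OfSize_of_univLE.{u, u, u + 1, u + 1} _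

theorem ab5_type_succ : AB5OfSize.{u, u} (Type (u + 1)) :=
  AB5OfSize_of_univLE.{u, u, u + 1, u + 1} _

theorem etPoint_presheafFiber_ab (hX : IsAlgSpace X) (p : FieldPt X) (hp : p.IsGeometric) :
    (etPoint hX p hp).presheafFiber (A := AddCommGrpCat.{u + 1}) =
      stalkEtPshFunctor AddCommGrpCat.{u + 1} p := rfl

theorem etPoint_presheafFiber_type (hX : IsAlgSpace X) (p : FieldPt X) (hp : p.IsGeometric) :
    (etPoint hX p hp).presheafFiber (A := Type (u + 1)) = stalkEtPshFunctor (Type (u + 1)) p := rfl

theorem etPoint_sheafFiber_ab (hX : IsAlgSpace X) (p : FieldPt X) (hp : p.IsGeometric) :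
    (etPoint hX p hp).sheafFiber (A := AddCommGrpCat.{u + 1}) =
      stalkEtFunctor AddCommGrpCat.{u + 1} p := rfl

theorem etPoint_sheafFiber_type (hX : IsAlgSpace X) (p : FieldPt X) (hp : p.IsGeometric) :
    (etPoint hX p hp).sheafFiber (A := Type (u + 1)) = stalkEtFunctor (Type (u + 1)) p := rfl

theorem preservesFiniteLimits_stalkEtPshFunctor_ab (hX : IsAlgSpace X) (p : FieldPt X)
    (hp : p.IsGeometric) : PreservesFiniteLimits (stalkEtPshFunctor AddCommGrpCat.{u + 1} p) := by
  have := ab5_addCommGrpCat_succ.{u}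
  rw [← etPoint_presheafFiber_ab hX p hp]
  infer_instance

theorem preservesFiniteColimits_stalkEtPshFunctor_ab (hX : IsAlgSpace X) (p : FieldPt X)
    (hp : p.IsGeometric) : PreservesFiniteColimits (stalkEtPshFunctor AddCommGrpCat.{u + 1} p) := by
  rw [← etPoint_presheafFiber_ab hX p hp]
  exact PreservesColimitsOfSize.preservesFiniteColimits.{u, u} _

theorem preservesFiniteLimits_stalkEtPshFunctor_type (hX : IsAlgSpace X) (p : FieldPt X)
    (hp : p.IsGeometric) : PreservesFiniteLimits (stalkEtPshFunctor (Type (u + 1)) p) := by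
  have := ab5_type_succ.{u}
  rw [← etPoint_presheafFiber_type hX p hp]
  infer_instance

theorem preservesFiniteLimits_stalkEtFunctor_ab (hX : IsAlgSpace X) (p : FieldPt X)
    (hp : p.IsGeometric) : PreservesFiniteLimits (stalkEtFunctor AddCommGrpCat.{u + 1} p) := by
  have := ab5_addCommGrpCat_succ.{u}
  rw [← etPoint_sheafFiber_ab hX p hp]
  infer_instance

theorem preservesFiniteColimits_stalkEtFunctor_ab (hX : IsAlgSpace X) (p : FieldPt X)
    (hp : p.IsGeometric) : PreservesFiniteColimits (stalkEtFunctor AddCommGrpCat.{u + 1} p) := by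
  rw [← etPoint_sheafFiber_ab hX p hp]
  infer_instance

theorem preservesFiniteLimits_stalkEtFunctor_type (hX : IsAlgSpace X) (p : FieldPt X)
    (hp : p.IsGeometric) : PreservesFiniteLimits (stalkEtFunctor (Type (u + 1)) p) := by
  have := ab5_type_succ.{u}
  rw [← etPoint_sheafFiber_type hX p hp]
  infer_instance

theorem preservesFiniteColimits_stalkEtFunctor_type (hX : IsAlgSpace X) (p : FieldPt X)
    (hp : p.IsGeometric) : PreservesFiniteColimits (stalkEtFunctor (Type (u + 1)) p) := by
  rw [← etPoint_sheafFiber_type hX p hp]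
  infer_instance

theorem isIso_stalkEtPshFunctor_map_toSheafify (hX : IsAlgSpace X) (p : FieldPt X)
    (hp : p.IsGeometric) (P : (EtOver X)ᵒᵖ ⥤ Type (u + 1)) :
    IsIso ((stalkEtPshFunctor (Type (u + 1)) p).map (toSheafify (etTop X) P)) := by
  rw [← etPoint_presheafFiber_type hX p hp]
  infer_instance

end Groth.Agent.H53
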