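import Groth.Agent.H53.EtStalkLocal
import Mathlib.RingTheory.Etale.StandardEtale
import Mathlib.RingTheory.Henselian
import Mathlib.FieldTheory.IsSepClosed
import Groth.Prelude.Def_EtBase

/-!
# The étale local ring of an algebraic space at a geometric point is strictly henselian (helper53)
-/

set_option autoImplicit false
set_option backward.isDefEq.respectTransparency false
universe u
open CategoryTheory CategoryTheory.Limits AlgebraicGeometry Opposite IsLocalRing Polynomial

namespace Groth.Agent.H53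
open AlgSp

variable {S : Scheme.{u}} {Y : Sp S}

/-- Finitely many elements of the étale local ring come from a common étale neighbourhood. -/
theorem exists_common_nbhd (hX : IsAlgSpace Y) (p : FieldPt Y) (hp : p.IsGeometric) (m : ℕ)
    (x : Fin m → ↥(OEtStalk p)) :
    ∃ (N : EtNbhd p) (y : Fin m → Γ(N.1.obj.left.left, ⊤)), ∀ i, ιA p N (y i) = x i := by
  induction m with
  | zero =>
    obtain ⟨N⟩ := nonempty_etNbhd hX p hp
    exact ⟨N, Fin.elim0, fun i => i.elim0⟩
  | succ m ih =>
    obtain ⟨N₁, y₁, hy₁⟩ := ih (fun i => x i.castSucc)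
    obtain ⟨N₂, a₂, ha₂⟩ := ιA_surjective hX p hp (x (Fin.last m))
    obtain ⟨N₃, g₁, g₂, -⟩ := cone_objs_etNbhd p N₁ N₂
    refine ⟨N₃, Fin.lastCases (g₂.1.hom.left.left.appTop.hom a₂)
      (fun i => g₁.1.hom.left.left.appTop.hom (y₁ i)), fun i => ?_⟩
    induction i using Fin.lastCases with
    | last =>
      beta_reduce
      rw [Fin.lastCases_last, ← ιA_map p g₂ a₂, ha₂]
    | cast i =>
      beta_reduce
      rw [Fin.lastCases_castSucc, ← ιA_map p g₁ (y₁ i), hy₁]

/-- A monic polynomial over the étale local ring comes from a monic polynomial over an étale neighbourhood. -/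
theorem exists_monic_descent (hX : IsAlgSpace Y) (p : FieldPt Y) (hp : p.IsGeometric)
    (f : (↥(OEtStalk p))[X]) (hf : f.Monic) :
    ∃ (N : EtNbhd p) (fN : (Γ(N.1.obj.left.left, ⊤))[X]), fN.Monic ∧ fN.map (ιA p N) = f := by
  obtain ⟨N, y, hy⟩ := exists_common_nbhd hX p hp f.natDegree (fun i => f.coeff i)
  refine ⟨N, X ^ f.natDegree + ∑ i : Fin f.natDegree, C (y i) * X ^ (i : ℕ), ?_, ?_⟩
  · exact monic_X_pow_add (degree_sum_fin_lt _)
  · rw [Polynomial.map_add, Polynomial.map_pow, map_X, Polynomial.map_sum]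
    conv_rhs => rw [hf.as_sum, Finset.sum_range]
    congr 1
    refine Finset.sum_congr rfl fun i _ => ?_
    rw [Polynomial.map_mul, Polynomial.map_pow, map_X, map_C, hy]

/-- Lifting simple roots from the residue field of the geometric point to the étale local ring. -/
theorem exists_root_of_simple_root (hX : IsAlgSpace Y) (p : FieldPt Y) (hp : p.IsGeometric)
    (f : (↥(OEtStalk p))[X]) (hf : f.Monic) (x : p.K)
    (h0 : (f.map (evStalk p)).eval x = 0) (h1 : (f.map (evStalk p)).derivative.eval x ≠ 0) :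
    ∃ a : ↥(OEtStalk p), f.IsRoot a ∧ evStalk p a = x := by
  obtain ⟨N, fN, hfN, rfl⟩ := exists_monic_descent hX p hp f hf
  let Z : Scheme.{u} := N.1.obj.left.left
  let A : CommRingCat.{u} := Γ(Z, ⊤)
  let l : Spec (CommRingCat.of p.K) ⟶ Z := N.2.1.left
  letI algK : Algebra A p.K := (evA p N).toAlgebra
  let P : StandardEtalePair A := ⟨fN, hfN, derivative fN, ⟨1, 0, 1, by simp⟩⟩
  have hmap : (fN.map (ιA p N)).map (evStalk p) = fN.map (evA p N) := by
    rw [Polynomial.map_map]
    congr 1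
    ext a
    exact evStalk_ιA p N a
  rw [hmap] at h0 h1
  have hP : P.HasMap x := by
    constructor
    · change aeval x fN = 0
      rw [aeval_def, ← Polynomial.eval_map]
      exact h0
    · change IsUnit (aeval x (derivative fN))
      rw [aeval_def, ← Polynomial.eval_map, ← derivative_map]
      exact isUnit_iff_ne_zero.2 h1
  let β : P.Ring →ₐ[A] p.K := P.lift x hP
  have hβX : β P.X = x := P.lift_X x hP
  let B : CommRingCat.{u} := CommRingCat.of P.Ring
  let φ : A ⟶ B := CommRingCat.ofHom (algebraMap A P.Ring)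
  let βc : B ⟶ CommRingCat.of p.K := CommRingCat.ofHom β.toRingHom
  have hφβ : φ ≫ βc = l.appTop ≫ (Scheme.ΓSpecIso (CommRingCat.of p.K)).hom := by
    apply CommRingCat.hom_ext
    apply RingHom.ext
    intro a
    exact β.commutes a
  have hφ : Etale (Spec.map φ) := by
    rw [HasRingHomProperty.Spec_iff (P := @Etale)]
    exact RingHom.etale_algebraMap.2 inferInstance
  let Z' : Scheme.{u} := pullback Z.toSpecΓ (Spec.map φ)
  let π : Z' ⟶ Z := pullback.fst _ _
  let σ : Z' ⟶ Spec B := pullback.snd _ _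
  have hπ : Etale π := inferInstance
  have hcond : π ≫ Z.toSpecΓ = σ ≫ Spec.map φ := pullback.condition
  have hcompat : l ≫ Z.toSpecΓ = Spec.map βc ≫ Spec.map φ := by
    rw [Scheme.toSpecΓ_naturality, ← SpecMap_ΓSpecIso_hom, ← Spec.map_comp, ← Spec.map_comp, hφβ]
  let l' : Spec (CommRingCat.of p.K) ⟶ Z' := pullback.lift l (Spec.map βc) hcompat
  have hl'π : l' ≫ π = l := pullback.lift_fst _ _ _
  have hl'σ : l' ≫ σ = Spec.map βc := pullback.lift_snd _ _ _
  -- the new étale neighbourhood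
  let U' : Over S := Over.mk (π ≫ N.1.obj.left.hom)
  let πO : U' ⟶ N.1.obj.left := Over.homMk π rfl
  let E' : EtOver Y := EtOver.mk ((yon S).map πO ≫ N.1.obj.hom)
    ((repWith_isMultiplicative (S := S) @Etale).comp_mem _ _
      ((repWith_yon_map_iff _ _).2 (show Etale π from hπ)) N.1.property)
  let gE : E' ⟶ N.1 := EtOver.homMk πO rfl
  have hl'str : l' ≫ π ≫ N.1.obj.left.hom = p.pt.hom := by
    rw [← Category.assoc, hl'π]
    exact Over.w N.2.1
  let l'O : p.pt ⟶ U' := Over.homMk l' hl'str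
  have hl'O : l'O ≫ πO = N.2.1 := Over.OverMorphism.ext hl'π
  have hlift : (yon S).map l'O ≫ E'.obj.hom = p.toHom := by
    change (yon S).map l'O ≫ (yon S).map πO ≫ N.1.obj.hom = p.toHom
    rw [← Category.assoc, ← Functor.map_comp, hl'O]
    exact N.2.2
  let N' : EtNbhd p := ⟨E', ⟨l'O, hlift⟩⟩
  let g : N' ⟶ N := ⟨gE, Subtype.ext hl'O⟩
  -- the root
  let γ : B ⟶ Γ(Z', ⊤) := (Scheme.ΓSpecIso B).inv ≫ σ.appTop
  have hγ : π.appTop = φ ≫ γ := by
    have h2 := congrArg Scheme.Hom.appTop hcond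
    rw [Scheme.Hom.comp_appTop, Scheme.Hom.comp_appTop, Scheme.toSpecΓ_appTop] at h2
    have h3 : π.appTop = (Scheme.ΓSpecIso A).inv ≫ (Spec.map φ).appTop ≫ σ.appTop := by
      rw [← h2, Iso.inv_hom_id_assoc]
    rw [h3, ← Category.assoc, ← Scheme.ΓSpecIso_inv_naturality, Category.assoc]
  let t : Γ(Z', ⊤) := γ.hom P.X
  have hroot : eval₂ π.appTop.hom t fN = 0 := by
    have h4 : π.appTop.hom = γ.hom.comp (algebraMap A P.Ring) := congrArg CommRingCat.Hom.hom hγ
    rw [h4, ← Polynomial.hom_eval₂]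
    have h5 : eval₂ (algebraMap A P.Ring) P.X fN = 0 := P.hasMap_X.1
    rw [h5, map_zero]
  have hιA : ιA p N = (ιA p N').comp π.appTop.hom := RingHom.ext fun a => ιA_map p g a
  refine ⟨ιA p N' t, ?_, ?_⟩
  · change Polynomial.eval (ιA p N' t) (fN.map (ιA p N)) = 0
    rw [Polynomial.eval_map, hιA, ← Polynomial.hom_eval₂, hroot, map_zero]
  · rw [evStalk_ιA]
    change (Scheme.ΓSpecIso (CommRingCat.of p.K)).hom.hom (l'.appTop.hom (σ.appTop.hom ((Scheme.ΓSpecIso B).inv.hom P.X))) = x
    have h6 : (Scheme.ΓSpecIso B).inv ≫ σ.appTop ≫ l'.appTop ≫ (Scheme.ΓSpecIso (CommRingCat.of p.K)).hom = βc := by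
      rw [← Category.assoc σ.appTop, ← Scheme.Hom.comp_appTop, hl'σ, ← Category.assoc,
        ← Scheme.ΓSpecIso_inv_naturality, Category.assoc, Iso.inv_hom_id, Category.comp_id]
    have h7 := ConcreteCategory.congr_hom h6 P.X
    exact h7.trans hβX

theorem henselianLocalRing_OEtStalk (hX : IsAlgSpace Y) (p : FieldPt Y) (hp : p.IsGeometric) :
    HenselianLocalRing ↥(OEtStalk p) := by
  have hloc := isLocalRing_OEtStalk hX p hp
  refine { toIsLocalRing := hloc, is_henselian := fun f hf a₀ h₁ h₂ => ?_ }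
  have h0 : (f.map (evStalk p)).eval (evStalk p a₀) = 0 := by
    rw [Polynomial.eval_map, Polynomial.eval₂_hom]
    exact (mem_maximalIdeal_OEtStalk_iff hX p hp _).1 h₁
  have h1 : (f.map (evStalk p)).derivative.eval (evStalk p a₀) ≠ 0 := by
    rw [derivative_map, Polynomial.eval_map, Polynomial.eval₂_hom]
    exact (isUnit_iff_evStalk_ne_zero hX p hp _).1 h₂
  obtain ⟨a, ha, hax⟩ := exists_root_of_simple_root hX p hp f hf _ h0 h1
  refine ⟨a, ha, ?_⟩
  rw [mem_maximalIdeal_OEtStalk_iff hX p hp, map_sub, hax, sub_self]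

theorem isSepClosed_residueField_OEtStalk (hX : IsAlgSpace Y) (p : FieldPt Y) (hp : p.IsGeometric) :
    letI := isLocalRing_OEtStalk hX p hp
    IsSepClosed (IsLocalRing.ResidueField ↥(OEtStalk p)) := by
  letI := isLocalRing_OEtStalk hX p hp
  have hK : IsAlgClosed p.K := hp
  have hlh : IsLocalHom (evStalk p) :=
    ⟨fun s hs => isUnit_of_evStalk_ne_zero hX p hp s hs.ne_zero⟩
  let evbar : IsLocalRing.ResidueField ↥(OEtStalk p) →+* p.K := IsLocalRing.ResidueField.lift (evStalk p)
  have hevbar : evbar.comp (residue ↥(OEtStalk p)) = evStalk p :=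
    IsLocalRing.ResidueField.lift_comp_residue (evStalk p)
  refine IsSepClosed.of_exists_root _ fun q hqm hqi hqs => ?_
  obtain ⟨f, hfq, -, hfm⟩ := Polynomial.lifts_and_natDegree_eq_and_monic
    (Polynomial.mem_lifts_of_surjective (residue_surjective (R := ↥(OEtStalk p))) q) hqm
  have hdeg : (q.map evbar).degree ≠ 0 := by
    rw [Polynomial.degree_map]
    exact Polynomial.degree_pos_of_irreducible hqi |>.ne'
  obtain ⟨x, hx⟩ := IsAlgClosed.exists_root (q.map evbar) hdeg
  have hfmap : f.map (evStalk p) = q.map evbar := by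
    rw [← hevbar, ← Polynomial.map_map, hfq]
  have h0 : (f.map (evStalk p)).eval x = 0 := by rw [hfmap]; exact hx
  have h1 : (f.map (evStalk p)).derivative.eval x ≠ 0 := by
    rw [hfmap, derivative_map, Polynomial.eval_map]
    refine hqs.eval₂_derivative_ne_zero evbar ?_
    rw [← Polynomial.eval_map]
    exact hx
  obtain ⟨a, ha, -⟩ := exists_root_of_simple_root hX p hp f hfm x h0 h1
  refine ⟨residue _ a, ?_⟩
  rw [← hfq, Polynomial.eval_map, Polynomial.eval₂_hom, ha, map_zero]

theorem isStrictlyHenselianLocalRing_OEtStalk (hX : IsAlgSpace Y) (p : FieldPt Y) (hp : p.IsGeometric) :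
    IsLocalRing ↥(OEtStalk p) ∧ EtCoh.IsStrictlyHenselianLocalRing ↥(OEtStalk p) :=
  ⟨isLocalRing_OEtStalk hX p hp, henselianLocalRing_OEtStalk hX p hp,
    isSepClosed_residueField_OEtStalk hX p hp⟩

end Groth.Agent.H53
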