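import Groth.Agent.H53.EtStalkReduced

/-!
# The étale local ring of an algebraic space at a geometric point is a local ring (helper53)
-/

set_option autoImplicit false
set_option backward.isDefEq.respectTransparency false
universe u
open CategoryTheory CategoryTheory.Limits AlgebraicGeometry Opposite IsLocalRing

namespace Groth.Agent.H53
open AlgSp

variable {S : Scheme.{u}} {X : Sp S}

/-- The canonical map from the global functions of an étale neighbourhood to the étale local ring. -/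
noncomputable def ιA (p : FieldPt X) (N : EtNbhd p) : Γ(N.1.obj.left.left, ⊤) →+* ↥(OEtStalk p) :=
  RingHom.comp (stalkEtι p (OEt X) N).hom
    (show Γ(N.1.obj.left.left, ⊤) →+* ↥((OEt X).obj.obj (op N.1)) from
      RingEquiv.toRingHom
        (ULift.ringEquiv.symm : Γ(N.1.obj.left.left, ⊤) ≃+* ULift.{u + 1} Γ(N.1.obj.left.left, ⊤)))

theorem ιA_apply (p : FieldPt X) (N : EtNbhd p) (a : Γ(N.1.obj.left.left, ⊤)) :
    ιA p N a = stalkEtι p (OEt X) N (show ↥((OEt X).obj.obj (op N.1)) from ULift.up a) := rfl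

theorem ιA_map (p : FieldPt X) {N N' : EtNbhd p} (g : N' ⟶ N) (a : Γ(N.1.obj.left.left, ⊤)) :
    ιA p N a = ιA p N' (g.1.hom.left.left.appTop.hom a) := by
  rw [ιA_apply, ιA_apply]
  exact stalkEtι_OEt_map p g (ULift.up a)

theorem ιA_surjective (hX : IsAlgSpace X) (p : FieldPt X) (hp : p.IsGeometric) (s : ↥(OEtStalk p)) :
    ∃ (N : EtNbhd p) (a : Γ(N.1.obj.left.left, ⊤)), ιA p N a = s := by
  have := isFiltered_etNbhd_op hX p hp
  have := preservesColimit_forget_stalkEtDiagram hX p hp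
  obtain ⟨⟨N⟩, f, rfl⟩ := Concrete.colimit_exists_rep (stalkEtDiagram p (OEt X)) s
  exact ⟨N, f.down, ιA_apply p N f.down⟩

theorem ιA_eq_iff (hX : IsAlgSpace X) (p : FieldPt X) (hp : p.IsGeometric) (N : EtNbhd p)
    (a b : Γ(N.1.obj.left.left, ⊤)) :
    ιA p N a = ιA p N b ↔ ∃ (N' : EtNbhd p) (g : N' ⟶ N),
      g.1.hom.left.left.appTop.hom a = g.1.hom.left.left.appTop.hom b := by
  have := isFiltered_etNbhd_op hX p hp
  have := preservesColimit_forget_stalkEtDiagram hX p hp
  constructor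
  · intro h
    have h1 : colimit.ι (stalkEtDiagram p (OEt X)) (op N) (ULift.up a) =
        colimit.ι (stalkEtDiagram p (OEt X)) (op N) (ULift.up b) := by
      rw [ιA_apply, ιA_apply] at h
      exact h
    obtain ⟨⟨N''⟩, g, g', hgg'⟩ := Concrete.colimit_exists_of_rep_eq _ _ _ h1
    -- equalize the two morphisms
    obtain ⟨⟨N₃⟩, k, hk⟩ := IsFilteredOrEmpty.cocone_maps g g'
    refine ⟨N₃, (g ≫ k).unop, ?_⟩
    have e1 : (stalkEtDiagram p (OEt X)).map (g ≫ k) (ULift.up a) =
        (stalkEtDiagram p (OEt X)).map (g ≫ k) (ULift.up b) := by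
      conv_rhs => rw [hk]
      rw [Functor.map_comp, Functor.map_comp, ConcreteCategory.comp_apply, ConcreteCategory.comp_apply, hgg']
    exact congrArg ULift.down e1
  · rintro ⟨N', g, hg⟩
    rw [ιA_map p g a, ιA_map p g b, hg]

/-- Evaluation of a global function of an étale neighbourhood at the geometric point. -/
noncomputable def evA (p : FieldPt X) (N : EtNbhd p) : Γ(N.1.obj.left.left, ⊤) →+* p.K :=
  ((Scheme.ΓSpecIso (CommRingCat.of p.K)).hom.hom).comp N.2.1.left.appTop.hom

theorem evA_map (p : FieldPt X) {N N' : EtNbhd p} (g : N' ⟶ N) (a : Γ(N.1.obj.left.left, ⊤)) :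
    evA p N' (g.1.hom.left.left.appTop.hom a) = evA p N a := by
  have h : N'.2.1.left ≫ g.1.hom.left.left = N.2.1.left := congrArg (fun l => l.1.left) g.2
  have h2 : N.2.1.left.appTop = g.1.hom.left.left.appTop ≫ N'.2.1.left.appTop := by
    rw [← h, Scheme.Hom.comp_appTop]
  change (Scheme.ΓSpecIso (CommRingCat.of p.K)).hom.hom (N'.2.1.left.appTop.hom (g.1.hom.left.left.appTop.hom a)) =
    (Scheme.ΓSpecIso (CommRingCat.of p.K)).hom.hom (N.2.1.left.appTop.hom a)
  rw [h2]
  rfl

/-- The cocone defining the evaluation map on the étale local ring. -/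
noncomputable def evCocone (p : FieldPt X) : Cocone (stalkEtDiagram p (OEt X)) where
  pt := CommRingCat.of (ULift.{u + 1} p.K)
  ι :=
    { app := fun N => CommRingCat.ofHom
        (show ↥((OEt X).obj.obj (op N.unop.1)) →+* ULift.{u + 1} p.K from
          (RingEquiv.toRingHom (ULift.ringEquiv.symm : p.K ≃+* ULift.{u + 1} p.K)).comp
            ((evA p N.unop).comp (RingEquiv.toRingHom
              (ULift.ringEquiv : ULift.{u + 1} Γ(N.unop.1.obj.left.left, ⊤) ≃+* _))))
      naturality := by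
        rintro ⟨N⟩ ⟨N'⟩ g
        apply CommRingCat.hom_ext
        apply RingHom.ext
        intro x
        exact ULift.ext _ _ (evA_map p g.unop x.down) }

/-- Evaluation at the geometric point, on the étale local ring. -/
noncomputable def evStalk (p : FieldPt X) : ↥(OEtStalk p) →+* p.K :=
  (RingEquiv.toRingHom (ULift.ringEquiv : ULift.{u + 1} p.K ≃+* p.K)).comp
    (colimit.desc (stalkEtDiagram p (OEt X)) (evCocone p)).hom

theorem evStalk_ιA (p : FieldPt X) (N : EtNbhd p) (a : Γ(N.1.obj.left.left, ⊤)) :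
    evStalk p (ιA p N a) = evA p N a := by
  have h := ConcreteCategory.congr_hom (colimit.ι_desc (evCocone p) (op N)) (ULift.up a)
  rw [ιA_apply]
  exact congrArg ULift.down h

theorem etNbhdPt_mem_basicOpen (p : FieldPt X) (N : EtNbhd p) (a : Γ(N.1.obj.left.left, ⊤))
    (h : evA p N a ≠ 0) : etNbhdPt p N ∈ N.1.obj.left.left.basicOpen a := by
  have hb : IsUnit (N.2.1.left.appTop.hom a) := by
    have h1 : IsUnit ((Scheme.ΓSpecIso (CommRingCat.of p.K)).hom.hom (N.2.1.left.appTop.hom a)) :=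
      isUnit_iff_ne_zero.2 h
    have h2 := h1.map (Scheme.ΓSpecIso (CommRingCat.of p.K)).inv.hom
    have h3 : (Scheme.ΓSpecIso (CommRingCat.of p.K)).inv.hom
        ((Scheme.ΓSpecIso (CommRingCat.of p.K)).hom.hom (N.2.1.left.appTop.hom a)) =
        N.2.1.left.appTop.hom a := by
      have := ConcreteCategory.congr_hom (Scheme.ΓSpecIso (CommRingCat.of p.K)).hom_inv_id
        (N.2.1.left.appTop.hom a)
      exact this
    rwa [h3] at h2
  have h4 : N.2.1.left ⁻¹ᵁ N.1.obj.left.left.basicOpen a = ⊤ := by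
    rw [Scheme.preimage_basicOpen_top]
    exact Scheme.basicOpen_of_isUnit _ hb
  have h5 : (closedPoint p.K : ↥(Spec (CommRingCat.of p.K))) ∈ N.2.1.left ⁻¹ᵁ N.1.obj.left.left.basicOpen a := by
    rw [h4]; trivial
  exact h5

theorem isUnit_of_evStalk_ne_zero (hX : IsAlgSpace X) (p : FieldPt X) (hp : p.IsGeometric)
    (s : ↥(OEtStalk p)) (h : evStalk p s ≠ 0) : IsUnit s := by
  obtain ⟨N, a, rfl⟩ := ιA_surjective hX p hp s
  rw [evStalk_ιA] at h
  have hz := etNbhdPt_mem_basicOpen p N a h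
  rw [ιA_map p (etNbhdOpenHom p N _ hz) a]
  exact (isUnit_ι_appTop_basicOpen a).map (ιA p (etNbhdOpen p N _ hz))

theorem isUnit_iff_evStalk_ne_zero (hX : IsAlgSpace X) (p : FieldPt X) (hp : p.IsGeometric)
    (s : ↥(OEtStalk p)) : IsUnit s ↔ evStalk p s ≠ 0 :=
  ⟨fun h => (h.map (evStalk p)).ne_zero, isUnit_of_evStalk_ne_zero hX p hp s⟩

theorem isLocalRing_OEtStalk (hX : IsAlgSpace X) (p : FieldPt X) (hp : p.IsGeometric) :
    IsLocalRing ↥(OEtStalk p) := by
  have hnt : Nontrivial ↥(OEtStalk p) := by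
    refine ⟨0, 1, fun h => ?_⟩
    have := congrArg (evStalk p) h
    rw [map_zero, map_one] at this
    exact zero_ne_one this
  refine IsLocalRing.of_nonunits_add fun a b ha hb => ?_
  rw [mem_nonunits_iff, isUnit_iff_evStalk_ne_zero hX p hp, not_not] at ha hb ⊢
  rw [map_add, ha, hb, add_zero]

theorem mem_maximalIdeal_OEtStalk_iff (hX : IsAlgSpace X) (p : FieldPt X) (hp : p.IsGeometric)
    (s : ↥(OEtStalk p)) :
    letI := isLocalRing_OEtStalk hX p hp
    s ∈ maximalIdeal ↥(OEtStalk p) ↔ evStalk p s = 0 := by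
  letI := isLocalRing_OEtStalk hX p hp
  rw [mem_maximalIdeal, mem_nonunits_iff, isUnit_iff_evStalk_ne_zero hX p hp, not_not]

end Groth.Agent.H53
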