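import Groth.Agent.H53.EtReduced
import Groth.Agent.H53.EtNbhd
import Groth.Agent.H53.EtLocus2
import Mathlib.Algebra.Category.Ring.FilteredColimits

/-!
# Reducedness of the étale local ring of an algebraic space (helper53)
-/

set_option autoImplicit false
set_option backward.isDefEq.respectTransparency false
universe u
open CategoryTheory CategoryTheory.Limits AlgebraicGeometry Opposite IsLocalRing

namespace Groth.Agent.H53
open AlgSp

variable {S : Scheme.{u}} {X : Sp S}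

/-- The point of the underlying scheme of an étale neighbourhood. -/
noncomputable def etNbhdPt (p : FieldPt X) (N : EtNbhd p) : ↥N.1.obj.left.left :=
  N.2.1.left (closedPoint p.K)

theorem etNbhdPt_map (p : FieldPt X) {N N' : EtNbhd p} (g : N' ⟶ N) :
    g.1.hom.left.left (etNbhdPt p N') = etNbhdPt p N := by
  have h := congrArg (fun l => l.1.left (closedPoint p.K)) g.2
  exact h

theorem ofPt_etNbhdPt (p : FieldPt X) (N : EtNbhd p) :
    Points.ofPt N.1.obj.hom (etNbhdPt p N) = Points.mk p :=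
  ofPt_lift_eq_mk p N.2

/-- Shrinking an étale neighbourhood to an open subscheme containing the point. -/
noncomputable def etNbhdOpen (p : FieldPt X) (N : EtNbhd p) (D : N.1.obj.left.left.Opens)
    (hD : etNbhdPt p N ∈ D) : EtNbhd p := by
  have hfac : Set.range N.2.1.left ⊆ Set.range D.ι := by
    rintro _ ⟨t, rfl⟩
    rw [Scheme.Opens.range_ι]
    have : t = closedPoint p.K :=
      @Subsingleton.elim _ (inferInstanceAs (Subsingleton (PrimeSpectrum p.K))) _ _
    rw [this]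
    exact hD
  refine ⟨etOverOpen N.1 D, ⟨Over.homMk (IsOpenImmersion.lift D.ι N.2.1.left hfac) ?_, ?_⟩⟩
  · change IsOpenImmersion.lift D.ι N.2.1.left hfac ≫ D.ι ≫ N.1.obj.left.hom = p.pt.hom
    rw [← Category.assoc, IsOpenImmersion.lift_fac]
    exact Over.w N.2.1
  · change (yon S).map _ ≫ (yon S).map _ ≫ N.1.obj.hom = p.toHom
    rw [← Category.assoc, ← Functor.map_comp]
    have : (Over.homMk (IsOpenImmersion.lift D.ι N.2.1.left hfac) (by
        change IsOpenImmersion.lift D.ι N.2.1.left hfac ≫ D.ι ≫ N.1.obj.left.hom = p.pt.hom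
        rw [← Category.assoc, IsOpenImmersion.lift_fac]
        exact Over.w N.2.1) : p.pt ⟶ Over.mk (D.ι ≫ N.1.obj.left.hom)) ≫
        (Over.homMk D.ι rfl : Over.mk (D.ι ≫ N.1.obj.left.hom) ⟶ N.1.obj.left) = N.2.1 :=
      Over.OverMorphism.ext (IsOpenImmersion.lift_fac _ _ _)
    rw [this]
    exact N.2.2

theorem etNbhdOpen_fst (p : FieldPt X) (N : EtNbhd p) (D : N.1.obj.left.left.Opens)
    (hD : etNbhdPt p N ∈ D) : (etNbhdOpen p N D hD).1 = etOverOpen N.1 D := rfl

/-- The inclusion of the shrunk neighbourhood. -/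
noncomputable def etNbhdOpenHom (p : FieldPt X) (N : EtNbhd p) (D : N.1.obj.left.left.Opens)
    (hD : etNbhdPt p N ∈ D) : etNbhdOpen p N D hD ⟶ N :=
  ⟨etOverOpenι N.1 D, Subtype.ext (Over.OverMorphism.ext (IsOpenImmersion.lift_fac _ _ _))⟩

theorem etNbhdOpenHom_left (p : FieldPt X) (N : EtNbhd p) (D : N.1.obj.left.left.Opens)
    (hD : etNbhdPt p N ∈ D) : (etNbhdOpenHom p N D hD).1.hom.left.left = D.ι := rfl

/-- A global function with vanishing germ at a point vanishes on an open neighbourhood. -/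
theorem exists_open_ι_appTop_eq_zero {Z : Scheme.{u}} (f : Γ(Z, ⊤)) (z : Z)
    (h : Z.presheaf.germ ⊤ z trivial f = 0) : ∃ D : Z.Opens, z ∈ D ∧ D.ι.appTop.hom f = 0 := by
  have h' : Z.presheaf.germ ⊤ z trivial f = Z.presheaf.germ ⊤ z trivial 0 := by rw [h, map_zero]
  obtain ⟨W', hzW, iU, iV, hW⟩ := TopCat.Presheaf.germ_eq Z.presheaf z
    (show z ∈ (⊤ : Z.Opens) from trivial) (show z ∈ (⊤ : Z.Opens) from trivial) f 0 h'
  obtain ⟨W, rfl⟩ : ∃ W : Z.Opens, W = W' := ⟨W', rfl⟩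
  refine ⟨W, hzW, ?_⟩
  rw [map_zero] at hW
  rw [Scheme.Opens.ι_appTop]
  have h1 : (homOfLE (le_top : W.ι ''ᵁ ⊤ ≤ ⊤)).op =
      iU.op ≫ (homOfLE (le_of_eq W.ι_image_top)).op := rfl
  rw [h1, Functor.map_comp]
  change (Z.presheaf.map _).hom ((Z.presheaf.map iU.op).hom f) = 0
  rw [hW, map_zero]

/-- The stalk map of an étale morphism is injective. -/
theorem stalkMap_injective_of_etale {Z' Z : Scheme.{u}} (ψ : Z' ⟶ Z) [Etale ψ] (z' : Z') :
    Function.Injective (ψ.stalkMap z').hom := by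
  algebraize [(ψ.stalkMap z').hom]
  have : Module.FaithfullyFlat (Z.presheaf.stalk (ψ.base z')) (Z'.presheaf.stalk z') :=
    @Module.FaithfullyFlat.of_flat_of_isLocalHom _ _ _ _ _ _ _
      (Flat.stalkMap ψ z') (ψ.toLRSHom.prop z')
  exact ‹RingHom.FaithfullyFlat _›.injective

theorem isFiltered_etNbhd_op (hX : IsAlgSpace X) (p : FieldPt X) (hp : p.IsGeometric) :
    IsFiltered (EtNbhd p)ᵒᵖ := by
  have := isCofiltered_etNbhd hX p hp
  infer_instance

theorem preservesColimit_forget_stalkEtDiagram (hX : IsAlgSpace X) (p : FieldPt X) (hp : p.IsGeometric) :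
    PreservesColimit (stalkEtDiagram p (OEt X)) (forget CommRingCat.{u + 1}) := by
  have := isFiltered_etNbhd_op hX p hp
  have : PreservesFilteredColimitsOfSize.{u, u + 1} (forget CommRingCat.{u + 1}) :=
    preservesFilteredColimitsOfSize_of_univLE.{u + 1, u + 1, u, u + 1} _
  infer_instance

/-- The canonical map to the stalk is compatible with restriction along a morphism of neighbourhoods. -/
theorem stalkEtι_OEt_map (p : FieldPt X) {N N' : EtNbhd p} (g : N' ⟶ N) (x : (OEt X).obj.obj (op N.1)) :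
    stalkEtι p (OEt X) N x = stalkEtι p (OEt X) N' ((OEt X).obj.map g.1.op x) := by
  have h := colimit.w (stalkEtDiagram p (OEt X)) g.op
  exact (ConcreteCategory.congr_hom h x).symm

theorem isReduced_OEtStalk_of_hasAt (hX : IsAlgSpace X) (p : FieldPt X) (hp : p.IsGeometric)
    (h : HasAt (fun U u => _root_.IsReduced ↥(U.presheaf.stalk u)) X (Points.mk p)) :
    _root_.IsReduced ↥(OEtStalk p) := by
  have := isFiltered_etNbhd_op hX p hp
  have := preservesColimit_forget_stalkEtDiagram hX p hp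
  refine ⟨fun s hs => ?_⟩
  obtain ⟨n, hn⟩ := hs
  obtain ⟨⟨N⟩, f, rfl⟩ := Concrete.colimit_exists_rep (stalkEtDiagram p (OEt X)) s
  have h1 : colimit.ι (stalkEtDiagram p (OEt X)) (op N) (f ^ n) =
      colimit.ι (stalkEtDiagram p (OEt X)) (op N) 0 := by
    rw [map_pow, hn, map_zero]
  obtain ⟨⟨N''⟩, a, b, hab⟩ := Concrete.colimit_exists_of_rep_eq _ _ _ h1
  rw [map_zero, map_pow] at hab
  have hs : colimit.ι (stalkEtDiagram p (OEt X)) (op N) f =
      stalkEtι p (OEt X) N'' ((OEt X).obj.map a.unop.1.op f) := stalkEtι_OEt_map p a.unop f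
  rw [hs]
  set f'' := (OEt X).obj.map a.unop.1.op f with hf''
  let Z'' : Scheme.{u} := N''.1.obj.left.left
  let z'' : ↥Z'' := etNbhdPt p N''
  let f₀ : Γ(Z'', ⊤) := f''.down
  have hred : _root_.IsReduced ↥(Z''.presheaf.stalk z'') :=
    isReduced_stalk_of_hasAt h N''.1 z'' (ofPt_etNbhdPt p N'')
  have hf₀ : f₀ ^ n = 0 := congrArg ULift.down hab
  have hgerm : Z''.presheaf.germ ⊤ z'' trivial f₀ = 0 := by
    apply IsNilpotent.eq_zero
    refine ⟨n, ?_⟩
    rw [← map_pow, hf₀, map_zero]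
  obtain ⟨D, hzD, hD⟩ := exists_open_ι_appTop_eq_zero f₀ z'' hgerm
  rw [stalkEtι_OEt_map p (etNbhdOpenHom p N'' D hzD) f'']
  have h0 : (OEt X).obj.map (etNbhdOpenHom p N'' D hzD).1.op f'' = 0 := ULift.ext _ _ hD
  rw [h0, map_zero]

/-- A global function killed by an étale morphism has vanishing germ at every point of the image. -/
theorem germ_eq_zero_of_etale {Z' Z : Scheme.{u}} (ψ : Z' ⟶ Z) [Etale ψ] (z' : Z') (z : Z) (hz : ψ z' = z)
    (f : Γ(Z, ⊤)) (h : ψ.appTop.hom f = 0) : Z.presheaf.germ ⊤ z trivial f = 0 := by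
  subst hz
  apply stalkMap_injective_of_etale ψ z'
  rw [map_zero]
  have h1 := Scheme.Hom.germ_stalkMap_apply ψ ⊤ z' trivial f
  rw [h1]
  have h2 : (ψ.app ⊤).hom f = 0 := h
  rw [h2, map_zero]

theorem germ_eq_zero_of_isReduced_OEtStalk (hX : IsAlgSpace X) (p : FieldPt X) (hp : p.IsGeometric)
    (hR : _root_.IsReduced ↥(OEtStalk p)) (N : EtNbhd p) (f : Γ(N.1.obj.left.left, ⊤)) (n : ℕ)
    (hn : (N.1.obj.left.left.presheaf.germ ⊤ (etNbhdPt p N) trivial f) ^ n = 0) :
    N.1.obj.left.left.presheaf.germ ⊤ (etNbhdPt p N) trivial f = 0 := by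
  have := isFiltered_etNbhd_op hX p hp
  have := preservesColimit_forget_stalkEtDiagram hX p hp
  have hg : N.1.obj.left.left.presheaf.germ ⊤ (etNbhdPt p N) trivial (f ^ n) = 0 := by rw [map_pow, hn]
  obtain ⟨D, hzD, hD⟩ := exists_open_ι_appTop_eq_zero (f ^ n) (etNbhdPt p N) hg
  let x : (OEt X).obj.obj (op N.1) := ULift.up f
  have hx : (stalkEtι p (OEt X) N x) ^ n = 0 := by
    rw [← map_pow, stalkEtι_OEt_map p (etNbhdOpenHom p N D hzD)]
    have h0 : (OEt X).obj.map (etNbhdOpenHom p N D hzD).1.op (x ^ n) = 0 := ULift.ext _ _ hD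
    rw [h0, map_zero]
  have hx0 : stalkEtι p (OEt X) N x = 0 := IsNilpotent.eq_zero ⟨n, hx⟩
  have h1 : colimit.ι (stalkEtDiagram p (OEt X)) (op N) x =
      colimit.ι (stalkEtDiagram p (OEt X)) (op N) 0 := by
    rw [map_zero]; exact hx0
  obtain ⟨⟨N''⟩, a, b, hab⟩ := Concrete.colimit_exists_of_rep_eq _ _ _ h1
  rw [map_zero] at hab
  have hψ : Etale a.unop.1.hom.left.left := EtOver.etale_left a.unop.1
  exact germ_eq_zero_of_etale a.unop.1.hom.left.left (etNbhdPt p N'') (etNbhdPt p N)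
    (etNbhdPt_map p a.unop) f (congrArg ULift.down hab)

/-- Reduction of the vanishing of nilpotent germs to global functions on open subschemes. -/
theorem germ_eq_zero_of_forall_open {Z : Scheme.{u}} (D : Z.Opens) (z₁ : ↥D) (z : Z) (hz : z₁.1 = z)
    (hzD : z ∈ D) (f : Γ(Z, D)) (n : ℕ) (hn : (Z.presheaf.germ D z hzD f) ^ n = 0)
    (hclaim : ∀ (f'' : Γ(D.toScheme, ⊤)) (n : ℕ),
      (D.toScheme.presheaf.germ ⊤ z₁ trivial f'') ^ n = 0 → D.toScheme.presheaf.germ ⊤ z₁ trivial f'' = 0) :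
    Z.presheaf.germ D z hzD f = 0 := by
  subst hz
  let f'' : Γ(D.toScheme, ⊤) := (Z.presheaf.map (homOfLE (le_of_eq D.ι_image_top)).op).hom f
  have h1 : (D.stalkIso z₁).hom.hom (D.toScheme.presheaf.germ ⊤ z₁ trivial f'') =
      Z.presheaf.germ D z₁.1 hzD f := by
    have h2 := ConcreteCategory.congr_hom (D.germ_stalkIso_hom (V := ⊤) z₁ trivial) f''
    refine h2.trans ?_
    exact TopCat.Presheaf.germ_res_apply Z.presheaf (homOfLE (le_of_eq D.ι_image_top)) z₁.1 _ f
  have h3 : (D.toScheme.presheaf.germ ⊤ z₁ trivial f'') ^ n = 0 := by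
    have hinj : Function.Injective (D.stalkIso z₁).hom.hom :=
      (ConcreteCategory.bijective_of_isIso (D.stalkIso z₁).hom).1
    apply hinj
    rw [map_pow, h1, hn, map_zero]
  rw [← h1, hclaim f'' n h3, map_zero]

theorem hasAt_of_isReduced_OEtStalk (hX : IsAlgSpace X) (p : FieldPt X) (hp : p.IsGeometric)
    (hR : _root_.IsReduced ↥(OEtStalk p)) :
    HasAt (fun U u => _root_.IsReduced ↥(U.presheaf.stalk u)) X (Points.mk p) := by
  obtain ⟨N⟩ := nonempty_etNbhd hX p hp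
  refine ⟨N.1.obj.left, N.1.obj.hom, etNbhdPt p N, N.1.property, ofPt_etNbhdPt p N, ⟨fun g hg => ?_⟩⟩
  obtain ⟨n, hn⟩ := hg
  obtain ⟨D', hzD, f, rfl⟩ := TopCat.Presheaf.exists_germ_eq N.1.obj.left.left.presheaf g
  obtain ⟨D, rfl⟩ : ∃ D : N.1.obj.left.left.Opens, D = D' := ⟨D', rfl⟩
  have hz₁ : (etNbhdPt p (etNbhdOpen p N D hzD) : ↥D).1 = etNbhdPt p N :=
    etNbhdPt_map p (etNbhdOpenHom p N D hzD)
  exact germ_eq_zero_of_forall_open D (etNbhdPt p (etNbhdOpen p N D hzD)) (etNbhdPt p N) hz₁ hzD f n hn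
    (fun f'' n h => germ_eq_zero_of_isReduced_OEtStalk hX p hp hR (etNbhdOpen p N D hzD) f'' n h)

theorem hasAt_isReduced_iff_isReduced_OEtStalk (hX : IsAlgSpace X) (p : FieldPt X) (hp : p.IsGeometric) :
    HasAt (fun U u => _root_.IsReduced ↥(U.presheaf.stalk u)) X (Points.mk p) ↔
      _root_.IsReduced ↥(OEtStalk p) :=
  ⟨isReduced_OEtStalk_of_hasAt hX p hp, hasAt_of_isReduced_OEtStalk hX p hp⟩

end Groth.Agent.H53
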