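import Groth.Agent.H53.SpTop
import Groth.Agent.H53.EtLocRinged
import Groth.Agent.H52.Points

/-!
# Subsheaves of the final object of the small étale topos correspond to opens (helper53)
-/

set_option autoImplicit false
set_option backward.isDefEq.respectTransparency false
universe u
open CategoryTheory CategoryTheory.Limits AlgebraicGeometry Opposite

namespace Groth.Agent.H53
open AlgSp

variable {S : Scheme.{u}}

/-- Points of two objects of the small étale site with the same image come from a point of the product. -/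
theorem exists_point_prodObj {X : Sp S} (E E' : EtOver X) (e : ↥E.obj.left.left) (e' : ↥E'.obj.left.left)
    (h : Points.ofPt E.obj.hom e = Points.ofPt E'.obj.hom e') :
    ∃ z : ↥(EtOver.prodObj E E').obj.left.left, (EtOver.prodFst E E').hom.left.left z = e := by
  have sq := E'.property.1.isPullback E.obj.hom
  obtain ⟨p, -, hp⟩ := H52.exists_point_of_isPullback sq (Points.ofScheme E'.obj.left e')
    (Points.ofScheme E.obj.left e)
    (by rw [← Points.ofPt_eq_map_ofScheme, ← Points.ofPt_eq_map_ofScheme, h])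
  obtain ⟨z, rfl⟩ := (Points.schemeEquiv _).surjective p
  refine ⟨z, ?_⟩
  apply (Points.schemeEquiv E.obj.left).injective
  exact (H52.points_map_ofScheme _ z).symm.trans hp

/-- Every open set of points is a union of images of objects of the small étale site. -/
theorem exists_etOver_of_mem_open {X : Sp S} (hX : IsAlgSpace X) (W : Set (Points X)) (hW : IsOpen W)
    (x : Points X) (hx : x ∈ W) :
    ∃ E : EtOver X, x ∈ Set.range (Points.ofPt E.obj.hom) ∧ Set.range (Points.ofPt E.obj.hom) ⊆ W := by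
  obtain ⟨U, a, ha1, ha2⟩ := hX.atlas
  obtain ⟨u, rfl⟩ := surjective_ofPt_of_surjective a ha2 x
  let E₀ : EtOver X := EtOver.mk a ha1
  let D : U.left.Opens := ⟨Points.ofPt a ⁻¹' W, hW.preimage (Points.continuous_ofPt a)⟩
  refine ⟨etOverOpen E₀ D, ⟨⟨u, hx⟩, ?_⟩, ?_⟩
  · exact ofPt_yon_map_comp (Over.homMk D.ι rfl : Over.mk (D.ι ≫ U.hom) ⟶ U) a ⟨u, hx⟩
  · rintro _ ⟨v, rfl⟩
    have : Points.ofPt (etOverOpen E₀ D).obj.hom v = Points.ofPt a v.1 :=
      ofPt_yon_map_comp (Over.homMk D.ι rfl : Over.mk (D.ι ≫ U.hom) ⟶ U) a v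
    rw [this]
    exact v.2

theorem existsUnique_open_of_subsingleton_etSh {X : Sp S} (hX : IsAlgSpace X)
    (F : EtSh X (Type (u + 1))) (hF : ∀ E : EtOver X, Subsingleton (F.obj.obj (op E))) :
    ∃! W : Set (Points X), IsOpen W ∧
      ∀ E : EtOver X, Nonempty (F.obj.obj (op E)) ↔ Set.range (Points.ofPt E.obj.hom) ⊆ W := by
  let W : Set (Points X) := ⋃ (E : EtOver X) (_ : Nonempty (F.obj.obj (op E))), Set.range (Points.ofPt E.obj.hom)
  have hWopen : IsOpen W :=
    isOpen_iUnion fun E => isOpen_iUnion fun _ => (isOpenMap_ofPt_of_etale E.obj.hom E.property).isOpen_range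
  have hsheaf : Presieve.IsSheaf (etTop X) F.obj := (isSheaf_iff_isSheaf_of_type _ _).1 F.property
  have hiff : ∀ E : EtOver X, Nonempty (F.obj.obj (op E)) ↔ Set.range (Points.ofPt E.obj.hom) ⊆ W := by
    intro E
    refine ⟨fun hE => ?_, fun hE => ?_⟩
    · exact Set.subset_iUnion₂ (s := fun (E : EtOver X) (_ : Nonempty (F.obj.obj (op E))) =>
        Set.range (Points.ofPt E.obj.hom)) E hE
    · -- a covering of `E` by objects with sections
      have hloc : ∀ e : ↥E.obj.left.left, ∃ (E'' : EtOver X) (g : E'' ⟶ E),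
          Nonempty (F.obj.obj (op E'')) ∧ e ∈ Set.range g.hom.left.left := by
        intro e
        have he : Points.ofPt E.obj.hom e ∈ W := hE ⟨e, rfl⟩
        simp only [W, Set.mem_iUnion] at he
        obtain ⟨E', ⟨s'⟩, e', he'⟩ := he
        obtain ⟨z, hz⟩ := exists_point_prodObj E E' e e' he'.symm
        exact ⟨EtOver.prodObj E E', EtOver.prodFst E E', ⟨F.obj.map (EtOver.prodSnd E E').op s'⟩, z, hz⟩
      choose Y g hY hg using hloc
      have hcov : Sieve.ofArrows Y g ∈ etTop X E := ofArrows_mem_etTop Y g fun e => ⟨e, hg e⟩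
      have hne : ∀ ⦃V : EtOver X⦄ (k : V ⟶ E), (Sieve.ofArrows Y g).arrows k → Nonempty (F.obj.obj (op V)) := by
        rintro V k ⟨_, h, _, ⟨e⟩, rfl⟩
        obtain ⟨s⟩ := hY e
        exact ⟨F.obj.map h.op s⟩
      let fam : Presieve.FamilyOfElements F.obj (Sieve.ofArrows Y g).arrows :=
        fun V k hk => Classical.choice (hne k hk)
      have hcompat : fam.Compatible := by
        intro Y₁ Y₂ Z g₁ g₂ f₁ f₂ h₁ h₂ _
        exact (hF Z).elim _ _
      exact ⟨(hsheaf _ hcov).amalgamate fam hcompat⟩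
  refine ⟨W, ⟨hWopen, hiff⟩, ?_⟩
  · rintro W' ⟨hW'open, hW'⟩
    have key : ∀ (W₁ W₂ : Set (Points X)), IsOpen W₁ →
        (∀ E : EtOver X, Set.range (Points.ofPt E.obj.hom) ⊆ W₁ → Set.range (Points.ofPt E.obj.hom) ⊆ W₂) →
        W₁ ⊆ W₂ := by
      intro W₁ W₂ h₁ h x hx
      obtain ⟨E, hxE, hEW⟩ := exists_etOver_of_mem_open hX W₁ h₁ x hx
      exact h E hEW hxE
    apply Set.Subset.antisymm
    · exact key W' W hW'open fun E hE => by
        have : Nonempty (F.obj.obj (op E)) := (hW' E).2 hE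
        exact Set.subset_iUnion₂ (s := fun (E : EtOver X) (_ : Nonempty (F.obj.obj (op E))) =>
          Set.range (Points.ofPt E.obj.hom)) E this
    · refine key W W' hWopen fun E hE => ?_
      exact (hW' E).1 ((hiff E).2 hE)

end Groth.Agent.H53
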