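import Groth.Agent.H53.EtStalk

/-! # Supports of abelian sheaves on the small etale site and epi/mono (helper53) -/ 


set_option autoImplicit false
set_option backward.isDefEq.respectTransparency false
universe u
open CategoryTheory CategoryTheory.Limits AlgebraicGeometry Opposite
open AlgSp
namespace Groth.Agent.H53
variable {S : Scheme.{u}}

theorem support_of_epi_mono (X : AlgSp.Space S) {F G : AlgSp.AbEt X.obj}
    (a : F ⟶ G) (x : AlgSp.Points X.obj) :
    (Epi a → (∃ p : AlgSp.FieldPt X.obj, p.IsGeometric ∧ AlgSp.Points.mk p = x ∧ ¬ IsZero (AlgSp.stalkEt p G)) →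
        ∃ p : AlgSp.FieldPt X.obj, p.IsGeometric ∧ AlgSp.Points.mk p = x ∧ ¬ IsZero (AlgSp.stalkEt p F)) ∧
    (Mono a → (∃ p : AlgSp.FieldPt X.obj, p.IsGeometric ∧ AlgSp.Points.mk p = x ∧ ¬ IsZero (AlgSp.stalkEt p F)) →
        ∃ p : AlgSp.FieldPt X.obj, p.IsGeometric ∧ AlgSp.Points.mk p = x ∧ ¬ IsZero (AlgSp.stalkEt p G)) := by
  constructor
  · rintro ha ⟨p, hp, hx, hG⟩
    refine ⟨p, hp, hx, fun hF => hG ?_⟩
    have := preservesFiniteColimits_stalkEtFunctor_ab X.property p hp
    have : Epi ((stalkEtFunctor AddCommGrpCat.{u + 1} p).map a) := inferInstance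
    exact IsZero.of_epi ((stalkEtFunctor AddCommGrpCat.{u + 1} p).map a) hF
  · rintro ha ⟨p, hp, hx, hF⟩
    refine ⟨p, hp, hx, fun hG => hF ?_⟩
    have := preservesFiniteLimits_stalkEtFunctor_ab X.property p hp
    have : Mono ((stalkEtFunctor AddCommGrpCat.{u + 1} p).map a) := inferInstance
    exact IsZero.of_mono ((stalkEtFunctor AddCommGrpCat.{u + 1} p).map a) hG
end Groth.Agent.H53
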