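import Groth.Agent.H53.EtLocus2

/-!
# Vanishing loci of sections and supports of abelian sheaves on the small etale site (helper53)
-/

set_option autoImplicit false
set_option backward.isDefEq.respectTransparency false
universe u
open CategoryTheory CategoryTheory.Limits AlgebraicGeometry Opposite

namespace Groth.Agent.H53
open AlgSp

variable {S : Scheme.{u}}

theorem stalkEtι_eq_toPresheafFiber_ab {X : Sp S} (hX : IsAlgSpace X) (F : AbEt X) (p : FieldPt X)
    (hp : p.IsGeometric) {U : EtOver X} (l : (FieldPt.liftsTo p).obj U) :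
    stalkEtι p F ⟨U, l⟩ = (etPoint hX p hp).toPresheafFiber U l F.obj := rfl

/-- The germ of a section of an abelian sheaf at a lift of a geometric point vanishes iff the point of the lift
lies in the vanishing locus. -/
theorem stalkEtι_eq_zero_iff {X : Sp S} (hX : IsAlgSpace X) (F : AbEt X) (p : FieldPt X)
    (hp : p.IsGeometric) {U : EtOver X} (l : (FieldPt.liftsTo p).obj U) (σ : ↥(F.obj.obj (op U))) :
    (stalkEtι p F ⟨U, l⟩).hom σ = 0 ↔
      l.1.left (IsLocalRing.closedPoint p.K) ∈ eqLocus F.obj σ (0 : ↥(F.obj.obj (op U))) := by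
  have := preservesFilteredColimits_forget_ab_succ.{u}
  rw [← toPresheafFiber_eq_iff_mem_eqLocus hX F.obj p hp l σ 0]
  rw [← stalkEtι_eq_toPresheafFiber_ab hX F p hp l]
  constructor
  · intro h
    exact h.trans (map_zero (stalkEtι p F ⟨U, l⟩).hom).symm
  · intro h
    exact h.trans (map_zero (stalkEtι p F ⟨U, l⟩).hom)

theorem map_eq_zero_iff_range_subset {X : Sp S} (F : AbEt X) {U V : EtOver X} (σ : ↥(F.obj.obj (op U)))
    (φ : V ⟶ U) :
    (F.obj.map φ.op).hom σ = 0 ↔
      Set.range (fun v => φ.hom.left.left v) ⊆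
        (eqLocus F.obj σ (0 : ↥(F.obj.obj (op U))) : Set ↥U.obj.left.left) := by
  rw [← map_eq_iff_range_subset_eqLocus F σ 0 φ]
  constructor
  · intro h
    exact h.trans (map_zero (F.obj.map φ.op).hom).symm
  · intro h
    exact h.trans (map_zero (F.obj.map φ.op).hom)

theorem exists_vanishing_locus {X : Sp S} (hX : IsAlgSpace X) (F : AbEt X)
    (U : EtOver X) (σ : ↥(F.obj.obj (Opposite.op U))) :
    ∃ W : TopologicalSpace.Opens ↥U.obj.left.left,
      (∀ (V : EtOver X) (φ : V ⟶ U),
          (F.obj.map φ.op).hom σ = 0 ↔ Set.range (fun v => φ.hom.left.left v) ⊆ (W : Set ↥U.obj.left.left)) ∧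
      (∀ p : FieldPt X, p.IsGeometric → ∀ l : (FieldPt.liftsTo p).obj U,
          (stalkEtι p F ⟨U, l⟩).hom σ = 0 ↔ l.1.left (IsLocalRing.closedPoint p.K) ∈ W) :=
  ⟨eqLocus F.obj σ (0 : ↥(F.obj.obj (op U))), fun V φ => map_eq_zero_iff_range_subset F σ φ,
    fun p hp l => stalkEtι_eq_zero_iff hX F p hp l σ⟩

end Groth.Agent.H53
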