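import Groth.Agent.H53.EtSupp2
import Groth.Agent.H53.SpTop

/-!
# Supports of abelian sheaves and of sheaves of rings on the small etale site (helper53)
-/

set_option autoImplicit false
set_option backward.isDefEq.respectTransparency false
universe u
open CategoryTheory CategoryTheory.Limits AlgebraicGeometry Opposite

namespace Groth.Agent.H53
open AlgSp

variable {S : Scheme.{u}}

theorem not_mem_eqLocus_zero_iff {X : Sp S} (F : AbEt X) {U : EtOver X} (σ : ↥(F.obj.obj (op U)))
    (u : ↥U.obj.left.left) :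
    u ∉ eqLocus F.obj σ (0 : ↥(F.obj.obj (op U))) ↔
      ∀ (V : EtOver X) (φ : V ⟶ U), (F.obj.map φ.op).hom σ = 0 →
        u ∉ Set.range (fun v => φ.hom.left.left v) := by
  constructor
  · intro hu V φ hφ hmem
    exact hu ((map_eq_zero_iff_range_subset F σ φ).1 hφ hmem)
  · intro h hu
    obtain ⟨V, φ, hφ, hmem⟩ := (mem_eqLocus_iff F.obj σ 0 u).1 hu
    exact h V φ (hφ.trans (map_zero (F.obj.map φ.op).hom)) hmem

theorem support_iff {X : Sp S} (hX : IsAlgSpace X) (F : AbEt X) (x : Points X) :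
    (∃ p : FieldPt X, p.IsGeometric ∧ Points.mk p = x ∧ ¬ IsZero (stalkEt p F)) ↔
      ∃ (U : EtOver X) (σ : ↥(F.obj.obj (op U))) (u : ↥U.obj.left.left),
        Points.ofPt U.obj.hom u = x ∧
          ∀ (V : EtOver X) (φ : V ⟶ U), (F.obj.map φ.op).hom σ = 0 →
            u ∉ Set.range (fun v => φ.hom.left.left v) := by
  have := preservesFilteredColimits_forget_ab_succ.{u}
  constructor
  · rintro ⟨p, hp, rfl, hnz⟩
    have hex : ∃ τ : ↥(stalkEt p F), τ ≠ 0 := by
      by_contra hcon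
      have hcon' : ∀ a : ↥(stalkEt p F), a = 0 := fun a => by_contra fun ha => hcon ⟨a, ha⟩
      have : Subsingleton ↥(stalkEt p F) := ⟨fun a b => (hcon' a).trans (hcon' b).symm⟩
      exact hnz (AddCommGrpCat.isZero_of_subsingleton _)
    obtain ⟨τ, hτ⟩ := hex
    obtain ⟨U, l, σ, rfl⟩ := (etPoint hX p hp).toPresheafFiber_jointly_surjective (P := F.obj) τ
    refine ⟨U, σ, l.1.left (IsLocalRing.closedPoint p.K), ofPt_lift_eq_mk p l, ?_⟩
    rw [← not_mem_eqLocus_zero_iff, ← stalkEtι_eq_zero_iff hX F p hp l σ]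
    exact hτ
  · rintro ⟨U, σ, u, rfl, h⟩
    rw [← not_mem_eqLocus_zero_iff] at h
    obtain ⟨p, hp, l, hl, hmk⟩ := exists_geometric_lift' U u
    refine ⟨p, hp, hmk, fun hz => h ?_⟩
    rw [← hl, ← stalkEtι_eq_zero_iff hX F p hp l σ]
    have := AddCommGrpCat.subsingleton_of_isZero hz
    exact Subsingleton.elim _ _

theorem isClosed_support_ring {X : Sp S} (hX : IsAlgSpace X) (O' : EtSh X CommRingCat.{u + 1}) :
    IsClosed {x : Points X |
      ∃ p : FieldPt X, p.IsGeometric ∧ Points.mk p = x ∧ Nontrivial ↥(stalkEt p O')} := by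
  have hcol : HasColimitsOfSize.{u, u} CommRingCat.{u + 1} :=
    hasColimitsOfSizeShrink.{u, u, u + 1, u + 1} _
  have hpf : PreservesFilteredColimitsOfSize.{u, u} (forget CommRingCat.{u + 1}) :=
    preservesFilteredColimitsOfSize_of_univLE.{u + 1, u + 1, u, u} _
  obtain ⟨U₀, a, ha1, ha2⟩ := hX.atlas
  let E : EtOver X := EtOver.mk a ha1
  have hq := isQuotientMap_ofPt_of_etale_surjective a ha1 ha2
  rw [← hq.isClosed_preimage]
  let W := eqLocus O'.obj (1 : ↥(O'.obj.obj (op E))) (0 : ↥(O'.obj.obj (op E)))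
  have hset : Points.ofPt a ⁻¹' {x : Points X |
      ∃ p : FieldPt X, p.IsGeometric ∧ Points.mk p = x ∧ Nontrivial ↥(stalkEt p O')} =
      (W : Set ↥E.obj.left.left)ᶜ := by
    ext u
    constructor
    · rintro ⟨p, hp, hmk, hnt⟩ hu
      obtain ⟨l, hl⟩ := exists_lift_through_point hX p hp E u hmk
      have h1 := (toPresheafFiber_eq_iff_mem_eqLocus hX O'.obj p hp l
        (1 : ↥(O'.obj.obj (op E))) (0 : ↥(O'.obj.obj (op E)))).2 (hl ▸ hu)
      have h2 : (1 : ↥(stalkEt p O')) = 0 :=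
        ((map_one ((etPoint hX p hp).toPresheafFiber E l O'.obj).hom).symm.trans h1).trans
          (map_zero ((etPoint hX p hp).toPresheafFiber E l O'.obj).hom)
      exact one_ne_zero h2
    · intro hu
      obtain ⟨p, hp, l, hl, hmk⟩ := exists_geometric_lift' E u
      refine ⟨p, hp, hmk, ?_⟩
      by_contra hnt
      rw [not_nontrivial_iff_subsingleton] at hnt
      apply hu
      change u ∈ W
      rw [← hl, ← toPresheafFiber_eq_iff_mem_eqLocus hX O'.obj p hp l]
      exact Subsingleton.elim (α := ↥(stalkEt p O')) _ _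
  rw [hset]
  exact W.isOpen.isClosed_compl

end Groth.Agent.H53
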