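import Groth.Agent.H53.InfNbhd4

set_option autoImplicit false
set_option backward.isDefEq.respectTransparency false
universe u
open CategoryTheory CategoryTheory.Limits AlgebraicGeometry Opposite Topology TopologicalSpace
open AlgSp

namespace Groth.Agent.H53.InfNbhd

open Groth.Agent.H53.LocPrinc Groth.Agent.H53.QcImage Groth.Agent.H52 Groth.Agent.H53.QcIdeal

variable {S : Scheme.{u}}

theorem repWith_isClosedImmersion_of_isThickMor {X X' : Sp S} {i : X ⟶ X'} (hi : IsThickMor i) :
    RepWith @IsClosedImmersion i :=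
  ⟨hi.rep, fun _ _ t fst snd sq => (hi.property t fst snd sq).1⟩

/-- A first order thickening is the first order infinitesimal neighbourhood of itself. -/
theorem isInfNbhd_of_isFOThickMor {X X' : Sp S} {i : X ⟶ X'} (hi : IsFOThickMor i) :
    IsInfNbhd 1 i i (𝟙 X') := by
  refine ⟨Category.comp_id i, repWith_isClosedImmersion_of_isThickMor hi.1,
    (RepWith (S := S) @IsClosedImmersion).id_mem X', ?_⟩
  intro V W Wn b fst snd fstn sndn hV hb sq sqn
  have h1 : snd.left.ker * snd.left.ker = ⊥ := hi.2 b fst snd hV hb sq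
  have h2 : IsIso ((yon S).map sndn) := sqn.isIso_snd_of_isIso
  have h3 : IsIso sndn := isIso_of_fully_faithful (yon S) sndn
  have h4 : IsIso sndn.left := (Over.forget S).map_isIso sndn
  rw [pow_two, h1]
  exact Scheme.Hom.ker_eq_bot_of_isIso _

/-- The pullback of a first order thickening to any affine scheme has kernel of square zero. -/
theorem ker_mul_self_eq_bot_of_isFOThickMor {X X' : Sp S} (hX' : IsAlgSpace X') {i : X ⟶ X'}
    (hi : IsFOThickMor i) {T W : Over S} (hT : IsAffine T.left) (t : (yon S).obj T ⟶ X')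
    (fst : (yon S).obj W ⟶ X) (snd : W ⟶ T) (sq : IsPullback fst ((yon S).map snd) i t) :
    snd.left.ker * snd.left.ker = ⊥ := by
  have hN := isInfNbhd_of_isFOThickMor hi
  have sq₁ : IsPullback t ((yon S).map (𝟙 T)) (𝟙 X') t := by
    rw [(yon S).map_id]
    exact IsPullback.of_vert_isIso ⟨by simp⟩
  have h := ker_eq_mul_of_isAffine hX' hN hT t fst snd sq t (𝟙 T) sq₁
  rw [← h]
  have : IsIso (𝟙 T : T ⟶ T).left := by
    rw [Over.id_left]
    infer_instance
  exact Scheme.Hom.ker_eq_bot_of_isIso _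

/-- First order thickenings are stable under arbitrary base change. -/
theorem isFOThickMor_of_isPullback {X X' P Q : Sp S} (hX' : IsAlgSpace X') {i : X ⟶ X'}
    (hi : IsFOThickMor i) {g : Q ⟶ X'} {fst : P ⟶ X} {snd : P ⟶ Q}
    (sq : IsPullback fst snd i g) : IsFOThickMor snd := by
  refine ⟨MorphismProperty.of_isPullback (P := RepWith (S := S) thick) sq hi.1, ?_⟩
  intro V W b fst' snd' hV _ sq'
  exact ker_mul_self_eq_bot_of_isFOThickMor hX' hi hV (b ≫ g) (fst' ≫ fst) snd'
    (sq'.paste_horiz sq)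

/-- Base change of a universal first order thickening. -/
theorem isUnivFOThick_baseChange {Z X W Y W' P : Sp S} (hW' : IsAlgSpace W') (h : Z ⟶ X)
    (f : Z ⟶ W) (g : X ⟶ Y) (h' : W ⟶ Y) (sq : IsPullback h f g h')
    (iW : W ⟶ W') (hW : W' ⟶ Y) (HU : IsUnivFOThick h' iW hW)
    (pX : P ⟶ X) (pW : P ⟶ W') (sq' : IsPullback pX pW g hW)
    (iZ : Z ⟶ P) (w1 : iZ ≫ pX = h) (w2 : iZ ≫ pW = f ≫ iW) :
    IsUnivFOThick h iZ pX := by
  obtain ⟨hiW, hw, HU'⟩ := HU
  -- `iZ` is the base change of `iW` along `pW`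
  have sqZ : IsPullback f iZ iW pW := by
    have big : IsPullback (iZ ≫ pX) f g (iW ≫ hW) := by
      rw [w1, hw]
      exact sq
    exact (IsPullback.of_right big w2 sq').flip
  refine ⟨isFOThickMor_of_isPullback hW' hiW sqZ, w1, ?_⟩
  intro T T' hT hT' jT a b hjT w
  obtain ⟨a'', ⟨ha1, ha2⟩, hau⟩ := HU' hT hT' jT (a ≫ f) (b ≫ g) hjT (by
    rw [← Category.assoc, w, Category.assoc, Category.assoc, sq.w])
  refine ⟨sq'.lift b a'' ha2.symm, ⟨?_, sq'.lift_fst _ _ _⟩, fun a₂ h₂ => ?_⟩
  · apply sq'.hom_ext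
    · rw [Category.assoc, sq'.lift_fst, Category.assoc, w1, w]
    · rw [Category.assoc, sq'.lift_snd, Category.assoc, w2, ha1, Category.assoc]
  · apply sq'.hom_ext
    · rw [sq'.lift_fst, h₂.2]
    · rw [sq'.lift_snd]
      apply hau
      refine ⟨?_, ?_⟩
      · rw [← Category.assoc, h₂.1, Category.assoc, w2, Category.assoc]
      · rw [Category.assoc, ← sq'.w, ← Category.assoc, h₂.2]

end Groth.Agent.H53.InfNbhd
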