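import Groth.Agent.H53.MonoPreimm

set_option autoImplicit false
set_option backward.isDefEq.respectTransparency false
universe u
open CategoryTheory CategoryTheory.Limits AlgebraicGeometry Opposite Topology Filter
open AlgSp

namespace Groth.Agent.H53.FibrePts

variable {S : Scheme.{u}}

theorem mono_left_of_mono {X : Sp S} (p : FieldPt X) [Mono p.toHom] {U T : Over S}
    (φ : (yon S).obj U ⟶ X) (c : T ⟶ p.pt) (d : T ⟶ U)
    (sq : IsPullback ((yon S).map c) ((yon S).map d) p.toHom φ) : Mono d.left := by
  have h1 : Mono ((yon S).map d) :=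
    MorphismProperty.of_isPullback (P := MorphismProperty.monomorphisms (Sp S)) sq
      (MorphismProperty.monomorphisms.infer_property p.toHom)
  have h2 : Mono d := (yon S).mono_of_mono_map h1
  infer_instance

/-- An injective continuous map from a finite discrete space is an embedding as soon as there are no
specializations among the image points. -/
theorem isEmbedding_of_finite_discrete {A B : Type*} [TopologicalSpace A] [TopologicalSpace B]
    [Finite A] [DiscreteTopology A] (f : A → B) (hf : Function.Injective f)
    (hns : ∀ a a' : A, f a' ⤳ f a → a' = a) : IsEmbedding f := by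
  refine ⟨isInducing_iff_nhds.2 fun a => ?_, hf⟩
  rw [nhds_discrete]
  apply le_antisymm
  · exact (continuous_of_discreteTopology (f := f)).continuousAt.tendsto.le_comap |>.trans'
      (by rw [nhds_discrete])
  · have : ∀ a' : A, ∃ N : Set B, IsOpen N ∧ f a ∈ N ∧ (a' ≠ a → f a' ∉ N) := by
      intro a'
      by_cases h : a' = a
      · exact ⟨Set.univ, isOpen_univ, Set.mem_univ _, fun h' => (h' h).elim⟩
      · have : ¬ f a' ⤳ f a := fun hsp => h (hns a a' hsp)
        obtain ⟨N, hN1, hN2, hN3⟩ := not_specializes_iff_exists_open.1 this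
        exact ⟨N, hN1, hN2, fun _ => hN3⟩
    choose N hN1 hN2 hN3 using this
    have hopen : IsOpen (⋂ a', N a') := isOpen_iInter_of_finite hN1
    have hmem : (⋂ a', N a') ∈ 𝓝 (f a) := hopen.mem_nhds (Set.mem_iInter.2 hN2)
    rw [Filter.le_pure_iff]
    refine Filter.mem_comap.2 ⟨_, hmem, ?_⟩
    intro a' ha'
    by_contra h
    exact hN3 a' h (Set.mem_iInter.1 ha' a')

/-- The fibre product of a decent point with an étale chart is a preimmersion into the chart, when
the fibre is finite. -/
theorem isPreimmersion_of_finite_fibre {Y : Sp S} (p : FieldPt Y) [Mono p.toHom] {V T R : Over S}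
    (b : (yon S).obj V ⟶ Y) (hb : RepWith @Etale b) (c : T ⟶ p.pt) (j : T ⟶ V)
    (sq : IsPullback ((yon S).map c) ((yon S).map j) p.toHom b)
    (s t : R ⟶ V) (sqR : IsPullback ((yon S).map t) ((yon S).map s) b b)
    (hfin : (Points.ofPt b ⁻¹' {Points.mk p}).Finite) : IsPreimmersion j.left := by
  have he : Etale c.left := etale_fst p b hb c j sq
  obtain ⟨hdisc, hred⟩ :=
    Groth.Agent.H53.FieldQuot.discrete_reduced_of_etale_over_field (k := p.K) c.left
  have hmono : Mono j.left := mono_left_of_mono p b c j sq
  have hsurj : SurjectiveOnStalks j.left :=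
    Groth.Agent.H53.MonoPreimm.surjectiveOnStalks_of_mono_of_discrete j.left
  have hinj : Function.Injective j.left := injective_of_mono p b c j sq
  have hrange := range_eq_fibre p b c j sq
  have hTfin : Finite ↥T.left := by
    have : Finite (Set.range j.left) := by rw [hrange]; exact hfin
    exact Finite.of_injective (Set.rangeFactorization j.left)
      (fun a a' h => hinj (congrArg Subtype.val h))
  have hmem : ∀ a : ↥T.left, Points.ofPt b (j.left a) = Points.mk p := by
    intro a
    have : j.left a ∈ Points.ofPt b ⁻¹' {Points.mk p} := by rw [← hrange]; exact ⟨a, rfl⟩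
    exact this
  have hemb : IsEmbedding j.left := by
    refine isEmbedding_of_finite_discrete _ hinj (fun a a' hsp => ?_)
    exact hinj (eq_of_specializes_of_finite_fibre b hb s t sqR _ hfin _ _ (hmem a') (hmem a) hsp)
  exact { toSurjectiveOnStalks := hsurj, isEmbedding := hemb }

/-- If moreover the point is closed, it is a closed immersion. -/
theorem isClosedImmersion_of_finite_fibre {Y : Sp S} (p : FieldPt Y) [Mono p.toHom] {V T R : Over S}
    (b : (yon S).obj V ⟶ Y) (hb : RepWith @Etale b) (c : T ⟶ p.pt) (j : T ⟶ V)
    (sq : IsPullback ((yon S).map c) ((yon S).map j) p.toHom b)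
    (s t : R ⟶ V) (sqR : IsPullback ((yon S).map t) ((yon S).map s) b b)
    (hfin : (Points.ofPt b ⁻¹' {Points.mk p}).Finite)
    (hcl : IsClosed ({Points.mk p} : Set (Points Y))) : IsClosedImmersion j.left := by
  have := isPreimmersion_of_finite_fibre p b hb c j sq s t sqR hfin
  refine IsClosedImmersion.of_isPreimmersion _ ?_
  rw [range_eq_fibre p b c j sq]
  exact hcl.preimage (Points.continuous_ofPt b)

end Groth.Agent.H53.FibrePts
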