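import Groth.Agent.H53.FibrePts

set_option autoImplicit false
set_option backward.isDefEq.respectTransparency false
universe u
open CategoryTheory CategoryTheory.Limits AlgebraicGeometry Opposite
open AlgSp

namespace Groth.Agent.H53.FibrePts

variable {S : Scheme.{u}}

/-- A representable morphism is representable quasi-compact as soon as its base changes to affine
schemes are quasi-compact schemes. -/
theorem repWith_quasiCompact_of_affine {F G : Sp S} (f : F ⟶ G) (hf : Representable f)
    (h : ∀ (T : Over S) (g : (yon S).obj T ⟶ G), IsAffine T.left →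
      CompactSpace ↥(hf.pullback g).left) : RepWith @QuasiCompact f := by
  refine ⟨hf, fun T V g fst snd sq => ?_⟩
  change QuasiCompact snd.left
  rw [quasiCompact_iff_forall_isAffineOpen]
  intro U hU
  let Ti : Over S := Over.mk (U.ι ≫ T.hom)
  let ι : Ti ⟶ T := Over.homMk U.ι rfl
  have sqi := hf.isPullback ((yon S).map ι ≫ g)
  have hTi : IsAffine Ti.left := hU
  have hc : CompactSpace ↥(hf.pullback ((yon S).map ι ≫ g)).left := h Ti _ hTi
  let l : (yon S).obj (hf.pullback ((yon S).map ι ≫ g)) ⟶ (yon S).obj V :=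
    sq.lift (hf.fst ((yon S).map ι ≫ g)) ((yon S).map (hf.snd ((yon S).map ι ≫ g)) ≫ (yon S).map ι)
      (by rw [Category.assoc]; exact sqi.w)
  obtain ⟨ψ, hψ⟩ := (yon S).map_surjective l
  have hl1 : (yon S).map ψ ≫ fst = hf.fst ((yon S).map ι ≫ g) := by rw [hψ]; exact sq.lift_fst _ _ _
  have hl2 : (yon S).map ψ ≫ (yon S).map snd =
      (yon S).map (hf.snd ((yon S).map ι ≫ g)) ≫ (yon S).map ι := by
    rw [hψ]; exact sq.lift_snd _ _ _
  have sq' : IsPullback ((yon S).map ψ) ((yon S).map (hf.snd ((yon S).map ι ≫ g)))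
      ((yon S).map snd) ((yon S).map ι) := by
    apply IsPullback.of_right (t := sq) _ hl2
    rw [hl1]
    exact sqi
  have hcomm : ψ ≫ snd = hf.snd ((yon S).map ι ≫ g) ≫ ι :=
    (yon S).map_injective (by simpa using hl2)
  have hrange : (snd.left ⁻¹ᵁ U : Set ↥V.left) = Set.range ψ.left := by
    ext v
    constructor
    · intro hv
      obtain ⟨v', hv', -⟩ :=
        Groth.Agent.H52.exists_preimage_of_isPullback_yon sq' v ⟨snd.left v, hv⟩ rfl
      exact ⟨v', hv'⟩
    · rintro ⟨v', rfl⟩
      have := congrArg (fun φ => φ.left v') hcomm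
      simp only [Over.comp_left, Scheme.Hom.comp_apply] at this
      change snd.left (ψ.left v') ∈ U
      rw [this]
      exact ((hf.snd ((yon S).map ι ≫ g)).left v').2
  rw [hrange]
  exact isCompact_range ψ.left.continuous

/-- From an étale chart through `u` such that only finitely many points of `R = U ×_X U` lie over
`(u, u)`, one gets a monomorphism from the spectrum of a field representing the image of `u`. -/
theorem exists_mono_of_finite_fibre {X : Sp S} {U R : Over S} (φ : (yon S).obj U ⟶ X)
    (hφ : RepWith @Etale φ) (u : ↥U.left) (s t : R ⟶ U)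
    (sqR : IsPullback ((yon S).map t) ((yon S).map s) φ φ)
    (hfin : {r : ↥R.left | s.left r = u ∧ t.left r = u}.Finite) :
    ∃ p : FieldPt X, Points.mk p = Points.ofPt φ u ∧ Mono p.toHom := by
  let q := FieldPt.ofPt φ u
  let iu : q.pt ⟶ U := Over.homMk (U.left.fromSpecResidueField u) rfl
  have hq : q.toHom = (yon S).map iu ≫ φ := FieldPt.toHom_ofPt φ u
  obtain ⟨W, s', t', sqW, hset⟩ := Groth.Agent.H53.FieldQuot.exists_kernelPair_ofPt φ hφ u
  have hw : (yon S).map (s' ≫ iu) ≫ φ = (yon S).map (t' ≫ iu) ≫ φ := by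
    rw [Functor.map_comp, Functor.map_comp, Category.assoc, Category.assoc, ← hq]; exact sqW.w
  obtain ⟨ρ, hρ⟩ := (yon S).map_surjective (sqR.lift _ _ hw)
  have hρ1 : ρ ≫ t = s' ≫ iu := (yon S).map_injective (by rw [Functor.map_comp, hρ, sqR.lift_fst])
  have hρ2 : ρ ≫ s = t' ≫ iu := (yon S).map_injective (by rw [Functor.map_comp, hρ, sqR.lift_snd])
  have hiu : Mono iu := by
    have : Mono iu.left := by
      change Mono (U.left.fromSpecResidueField u)
      infer_instance
    exact Over.mono_of_mono_left iu
  have hρm : Mono ρ := by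
    constructor
    intro Z α β hαβ
    have h1 : α ≫ s' = β ≫ s' := by
      rw [← cancel_mono iu, Category.assoc, Category.assoc, ← hρ1, ← Category.assoc,
        ← Category.assoc, hαβ]
    have h2 : α ≫ t' = β ≫ t' := by
      rw [← cancel_mono iu, Category.assoc, Category.assoc, ← hρ2, ← Category.assoc,
        ← Category.assoc, hαβ]
    apply (yon S).map_injective
    apply sqW.hom_ext
    · rw [← Functor.map_comp, ← Functor.map_comp, h1]
    · rw [← Functor.map_comp, ← Functor.map_comp, h2]
  have hρl : Mono ρ.left := inferInstance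
  have hmem : ∀ w : ↥W.left, ρ.left w ∈ {r : ↥R.left | s.left r = u ∧ t.left r = u} := by
    intro w
    constructor
    · have := congrArg (fun φ => φ.left w) hρ2
      simp only [Over.comp_left, Scheme.Hom.comp_apply] at this
      rw [this]
      exact Scheme.fromSpecResidueField_apply _ _
    · have := congrArg (fun φ => φ.left w) hρ1
      simp only [Over.comp_left, Scheme.Hom.comp_apply] at this
      rw [this]
      exact Scheme.fromSpecResidueField_apply _ _
  have : Finite {r : ↥R.left | s.left r = u ∧ t.left r = u} := hfin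
  have hWfin : Finite ↥W.left :=
    Finite.of_injective (fun w => (⟨ρ.left w, hmem w⟩ : {r : ↥R.left | s.left r = u ∧ t.left r = u}))
      (fun a b hab => ρ.left.injective (congrArg Subtype.val hab))
  have : CompactSpace ↥W.left := Finite.compactSpace
  have : Etale s'.left := hset
  have hfin' : IsFinite s'.left :=
    Groth.Agent.H53.FieldQuot.isFinite_of_etale_of_compact (k := q.K) s'.left
  obtain ⟨k', fk', str', c, m, -, hmono, hm⟩ :=
    Groth.Agent.H53.FieldQuot.exists_mono_of_kernelPair q.str s' t' _ sqW
  refine ⟨Groth.Agent.H53.FieldQuot.fieldPtOfHom str' m, ?_, ?_⟩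
  · exact Groth.Agent.H53.FieldQuot.points_mk_eq_of_factor _ q c
      (by rw [Groth.Agent.H53.FieldQuot.fieldPtOfHom_toHom]; exact hm)
  · rw [Groth.Agent.H53.FieldQuot.fieldPtOfHom_toHom]; exact hmono

end Groth.Agent.H53.FibrePts
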