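import Groth.Agent.H53.FibrePts3
import Groth.Prelude.Def_W4decUnivBdd

set_option autoImplicit false
set_option backward.isDefEq.respectTransparency false
universe u
open CategoryTheory CategoryTheory.Limits AlgebraicGeometry Opposite
open AlgSp

namespace Groth.Agent.H53.FibrePts

variable {S : Scheme.{u}}

/-- S10430: universally bounded fibres (indeed: finite fibres over some field point) imply decent. -/
theorem isDecent_of_finFib {X : Sp S} (hXalg : IsAlgSpace X)
    (h : ∀ q : FieldPt X, FinFib q) : IsDecent X := by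
  intro x
  induction x using Points.ind with
  | h q =>
    have hq := repWith_quasiCompact_of_finFib hXalg q (h q)
    exact Groth.Agent.H53.FieldQuot.exists_mono_qc_of_qc hXalg q hq

theorem isDecent_of_hasUnivBddFibres {X : Sp S} (hXalg : IsAlgSpace X)
    (h : ∀ (U : Over S) (φ : (yon S).obj U ⟶ X), IsAffine U.left → RepWith @Etale φ →
      W4dec.HasUnivBddFibres φ) : IsDecent X := by
  refine isDecent_of_finFib hXalg (fun q U φ hU hφ T c d sq => ?_)
  obtain ⟨n, hn⟩ := h U φ hU hφ
  exact (hn q T c ((yon S).map d) sq).1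

/-- S10352: the source of an étale morphism to a decent space is decent. -/
theorem isDecent_of_isEtaleMor {X Y : Sp S} (hXalg : IsAlgSpace X) (hYalg : IsAlgSpace Y)
    (f : X ⟶ Y) (hf : IsEtaleMor f) (hY : IsDecent Y) : IsDecent X := by
  intro x
  obtain ⟨pY, hpY, hpYm, hpYq⟩ := hY (Points.map f x)
  have HY := (finite_fibres_iff_exists_mono_qc hYalg (Points.map f x)).2 ⟨pY, hpY, hpYm, hpYq⟩
  refine (finite_fibres_iff_exists_mono_qc hXalg x).1 ?_
  intro U φ hU hφ R s t sqR
  have hψ : RepWith @Etale (φ ≫ f) := hf φ hφ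
  let RY : Over S := hψ.rep.pullback (φ ≫ f)
  let tY : RY ⟶ U := hψ.rep.fst' (φ ≫ f)
  let sY : RY ⟶ U := hψ.rep.snd (φ ≫ f)
  have sqRY : IsPullback ((yon S).map tY) ((yon S).map sY) (φ ≫ f) (φ ≫ f) :=
    hψ.rep.isPullback' (φ ≫ f)
  obtain ⟨h1, h2⟩ := HY U (φ ≫ f) hU hψ RY sY tY sqRY
  constructor
  · refine h1.subset ?_
    intro u hu
    simp only [Set.mem_preimage, Set.mem_singleton_iff] at hu ⊢
    rw [← Points.map_ofPt, hu]
  · have hw : (yon S).map t ≫ φ ≫ f = (yon S).map s ≫ φ ≫ f := by
      rw [← Category.assoc, sqR.w, Category.assoc]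
    obtain ⟨ρ, hρ⟩ := (yon S).map_surjective (sqRY.lift _ _ hw)
    have hρ1 : ρ ≫ tY = t := (yon S).map_injective (by rw [Functor.map_comp, hρ, sqRY.lift_fst])
    have hρ2 : ρ ≫ sY = s := (yon S).map_injective (by rw [Functor.map_comp, hρ, sqRY.lift_snd])
    have hρm : Mono ρ := by
      constructor
      intro Z α β hαβ
      apply (yon S).map_injective
      apply sqR.hom_ext
      · rw [← Functor.map_comp, ← Functor.map_comp, ← hρ1, ← Category.assoc, ← Category.assoc, hαβ]
      · rw [← Functor.map_comp, ← Functor.map_comp, ← hρ2, ← Category.assoc, ← Category.assoc, hαβ]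
    have hρl : Mono ρ.left := inferInstance
    refine Set.Finite.subset (h2.preimage (ρ.left.injective.injOn)) ?_
    intro r hr
    simp only [Set.mem_preimage, Set.mem_singleton_iff] at hr ⊢
    rw [ofPt_yon_map_comp] at hr ⊢
    have : tY.left (ρ.left r) = t.left r := by
      have := congrArg (fun φ => φ.left r) hρ1
      simpa using this
    rw [this, ← Points.map_ofPt, hr]

end Groth.Agent.H53.FibrePts
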