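import Groth.Agent.H53.FibrePts4
import Groth.Agent.H52.QC5

set_option autoImplicit false
set_option backward.isDefEq.respectTransparency false
universe u
open CategoryTheory CategoryTheory.Limits AlgebraicGeometry Opposite
open AlgSp

namespace Groth.Agent.H53.FibrePts

variable {S : Scheme.{u}}

/-- S10384 (étaleness is not needed): the target of a quasi-compact surjective morphism from a decent
space is decent. -/
theorem isDecent_of_qc_surjective {X Y : Sp S} (hXalg : IsAlgSpace X) (hYalg : IsAlgSpace Y)
    (f : X ⟶ Y) (hq : IsQuasiCompactMor f) (hs : IsSurjectiveMor f) (hX : IsDecent X) :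
    IsDecent Y := by
  intro y
  obtain ⟨x, rfl⟩ := hs y
  obtain ⟨p, rfl, -, hpq⟩ := hX x
  have h1 : IsQuasiCompactMor (p.toHom ≫ f) :=
    Groth.Agent.H52.isQuasiCompactMor_comp hXalg hYalg _ _
      (Groth.Agent.H52.isQuasiCompactMor_of_repWith_quasiCompact _ hpq) hq
  have h2 : RepWith @QuasiCompact (p.map f).toHom := by
    rw [FieldPt.toHom_map]
    exact Groth.Agent.H52.repWith_quasiCompact_of_isQuasiCompactMor _
      (hYalg.representable_from_yon _) h1
  obtain ⟨r, hr1, hr2, hr3⟩ := Groth.Agent.H53.FieldQuot.exists_mono_qc_of_qc hYalg (p.map f) h2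
  exact ⟨r, by rw [hr1, Points.map_mk], hr2, hr3⟩

end Groth.Agent.H53.FibrePts
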