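import Mathlib
import Groth.Prelude

set_option autoImplicit false
set_option backward.isDefEq.respectTransparency false
universe u
open CategoryTheory CategoryTheory.Limits AlgebraicGeometry

namespace Groth.Agent.H53.FieldLqf

instance isLocallyArtinian_spec_field (k : Type u) [Field k] :
    IsLocallyArtinian (Spec (CommRingCat.of k)) := by
  rw [Scheme.isLocallyArtinianScheme_Spec]; infer_instance

theorem isLocallyArtinian_of_lqf {k : Type u} [Field k] {U : Scheme.{u}}
    (f : U ⟶ Spec (CommRingCat.of k)) [LocallyQuasiFinite f] : IsLocallyArtinian U :=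
  IsLocallyArtinian.of_locallyQuasiFinite f

theorem isLocalRing_of_primeSpectrum {A : Type u} [CommRing A] [Nonempty (PrimeSpectrum A)]
    [Subsingleton (PrimeSpectrum A)] : IsLocalRing A := by
  have : Nontrivial A := by
    by_contra h
    rw [not_nontrivial_iff_subsingleton] at h
    exact (PrimeSpectrum.isEmpty_iff_subsingleton.2 h).false (Classical.arbitrary _)
  obtain ⟨m, hm⟩ := Ideal.exists_maximal A
  refine IsLocalRing.of_unique_max_ideal ⟨m, hm, fun m' hm' => ?_⟩
  have := Subsingleton.elim (⟨m, hm.isPrime⟩ : PrimeSpectrum A) ⟨m', hm'.isPrime⟩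
  exact (congrArg PrimeSpectrum.asIdeal this).symm

theorem exists_affine_singleton {U : Scheme.{u}} [DiscreteTopology U] (u : U) :
    ∃ V : U.Opens, (V : Set U) = {u} ∧ IsAffineOpen V := by
  obtain ⟨_, ⟨W, hW, rfl⟩, huW, hWsub⟩ := U.isBasis_affineOpens.exists_subset_of_mem_open
    (Set.mem_singleton u) (isOpen_discrete {u})
  refine ⟨W, ?_, hW⟩
  apply Set.Subset.antisymm hWsub
  rintro _ rfl
  exact huW

theorem isLocalRing_of_singleton {U : Scheme.{u}} (V : U.Opens) (hV : IsAffineOpen V) (u : U)
    (h : (V : Set U) = {u}) : IsLocalRing Γ(U, V) := by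
  have e : (V : Set U) ≃ₜ PrimeSpectrum Γ(U, V) := hV.isoSpec.hom.homeomorph
  have : Nonempty (PrimeSpectrum Γ(U, V)) := ⟨e ⟨u, by rw [h]; rfl⟩⟩
  have : Subsingleton (PrimeSpectrum Γ(U, V)) := by
    refine ⟨fun a b => e.symm.injective (Subtype.ext ?_)⟩
    have ha : (e.symm a : U) ∈ ({u} : Set U) := h ▸ (e.symm a).2
    have hb : (e.symm b : U) ∈ ({u} : Set U) := h ▸ (e.symm b).2
    exact ha.trans hb.symm
  exact isLocalRing_of_primeSpectrum

/-- (I1): a scheme locally quasi-finite over a field is a disjoint union of spectra of Artinian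
local rings finite over the field. -/
theorem exists_artinian_local_nhds {k : Type u} [Field k] {U : Scheme.{u}}
    (f : U ⟶ Spec (CommRingCat.of k)) [LocallyQuasiFinite f] (u : U) :
    ∃ V : U.Opens, u ∈ V ∧ IsAffineOpen V ∧ IsArtinianRing Γ(U, V) ∧ IsLocalRing Γ(U, V) ∧
      IsFinite (V.ι ≫ f) := by
  have hU : IsLocallyArtinian U := isLocallyArtinian_of_lqf f
  obtain ⟨V, hVu, hV⟩ := exists_affine_singleton u
  have huV : u ∈ V := by
    change u ∈ (V : Set U)
    rw [hVu]; rfl
  refine ⟨V, huV, hV, IsLocallyArtinian.isArtinianRing_presheaf_obj ⟨V, hV⟩,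
    isLocalRing_of_singleton V hV u hVu, ?_⟩
  have : IsAffine (V : Scheme) := hV
  have : QuasiCompact (V.ι ≫ f) := inferInstance
  exact IsFinite.of_locallyQuasiFinite (V.ι ≫ f)

/-- A monomorphism between schemes locally quasi-finite over a field is a closed immersion. -/
theorem isClosedImmersion_of_mono_of_lqf {k : Type u} [Field k] {R P : Scheme.{u}}
    (j : R ⟶ P) [Mono j] (g : P ⟶ Spec (CommRingCat.of k)) [LocallyQuasiFinite g]
    [LocallyQuasiFinite (j ≫ g)] : IsClosedImmersion j := by
  have hP : IsLocallyArtinian P := isLocallyArtinian_of_lqf g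
  have hR : IsLocallyArtinian R := isLocallyArtinian_of_lqf (j ≫ g)
  have hj : LocallyQuasiFinite j := LocallyQuasiFinite.of_comp j g
  have hinj : Function.Injective j := j.injective
  have hqc : QuasiCompact j := by
    refine ⟨fun W _ hWc => ?_⟩
    have hfin : W.Finite := hWc.finite_of_discrete
    exact ((hfin.preimage hinj.injOn)).isCompact
  have : IsFinite j := IsFinite.of_locallyQuasiFinite j
  exact (IsClosedImmersion.iff_isFinite_and_mono j).2 ⟨this, inferInstance⟩

end Groth.Agent.H53.FieldLqf
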