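import Mathlib

set_option autoImplicit false
set_option backward.isDefEq.respectTransparency false
universe u
open CategoryTheory TensorProduct

namespace Groth.Agent.H53.FieldLqf

/-- An epimorphic algebra over a field is a quotient of the field. -/
theorem surjective_algebraMap_of_isEpi_field (K A : Type*) [Field K] [CommRing A] [Algebra K A]
    [Algebra.IsEpi K A] : Function.Surjective (algebraMap K A) := by
  let R' := (Algebra.linearMap K A).range
  rcases subsingleton_or_nontrivial (A ⧸ R') with h | _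
  · rwa [Submodule.Quotient.subsingleton_iff, LinearMap.range_eq_top] at h
  have : Subsingleton ((A ⧸ R') ⊗[K] (A ⧸ R')) := by
    refine subsingleton_of_forall_eq 0 fun y ↦ ?_
    induction y with
    | zero => rfl
    | add a b e₁ e₂ => rwa [e₁, zero_add]
    | tmul x y =>
      obtain ⟨x, rfl⟩ := R'.mkQ_surjective x
      obtain ⟨y, rfl⟩ := R'.mkQ_surjective y
      obtain ⟨s, hs⟩ : ∃ s, 1 ⊗ₜ[K] s = x ⊗ₜ[K] y := by
        use x * y
        trans x ⊗ₜ 1 * 1 ⊗ₜ y
        · simp [(Algebra.isEpi_iff_forall_one_tmul_eq K A).mp]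
        · simp
      have : R'.mkQ 1 = 0 := (Submodule.Quotient.mk_eq_zero R').mpr ⟨1, map_one (algebraMap K A)⟩
      rw [← map_tmul R'.mkQ R'.mkQ, ← hs, map_tmul, this, zero_tmul]
  have : Nontrivial ((A ⧸ R') ⊗[K] (A ⧸ R')) := by
    obtain ⟨q, hq⟩ := exists_ne (0 : A ⧸ R')
    exact TensorProduct.nontrivial_of_linearMap_injective_of_flat_left K (A ⧸ R') (A ⧸ R')
      (LinearMap.toSpanSingleton K (A ⧸ R') q) (fun a b hab => by
        rw [LinearMap.toSpanSingleton_apply, LinearMap.toSpanSingleton_apply] at hab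
        exact smul_left_injective K hq hab)
  cases false_of_nontrivial_of_subsingleton ((A ⧸ R') ⊗[K] (A ⧸ R'))

theorem sup_pow_smul_top_eq_top {C M : Type*} [CommRing C] [AddCommGroup M] [Module C M]
    (I : Ideal C) (N : Submodule C M) (h : N ⊔ I • (⊤ : Submodule C M) = ⊤) (n : ℕ) :
    N ⊔ I ^ n • (⊤ : Submodule C M) = ⊤ := by
  induction n with
  | zero => simp
  | succ n ih =>
    rw [eq_top_iff]
    calc (⊤ : Submodule C M) = N ⊔ I • (⊤ : Submodule C M) := h.symm
      _ = N ⊔ I • (N ⊔ I ^ n • (⊤ : Submodule C M)) := by rw [ih]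
      _ = N ⊔ (I • N ⊔ I • (I ^ n • (⊤ : Submodule C M))) := by rw [Submodule.smul_sup]
      _ ≤ N ⊔ I ^ (n + 1) • (⊤ : Submodule C M) := by
        rw [← Submodule.mul_smul, ← pow_succ']
        exact sup_le le_sup_left (sup_le (le_sup_of_le_left Submodule.smul_le_right) le_sup_right)

/-- An epimorphism of commutative rings out of a ring with a nilpotent maximal ideal is
surjective. -/
theorem surjective_of_epi_of_isNilpotent {C D : Type u} [CommRing C] [CommRing D] (φ : C →+* D)
    [hepi : Epi (CommRingCat.ofHom φ)] (m : Ideal C) [hmax : m.IsMaximal] (hm : IsNilpotent m) :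
    Function.Surjective φ := by
  let J : Ideal D := m.map φ
  let ψ : C ⧸ m →+* D ⧸ J := Ideal.quotientMap J φ Ideal.le_comap_map
  have hψ : Epi (CommRingCat.ofHom ψ) := by
    refine ⟨fun {T} g h e => ?_⟩
    have hmk : Epi (CommRingCat.ofHom (Ideal.Quotient.mk J)) :=
      ConcreteCategory.epi_of_surjective _ Ideal.Quotient.mk_surjective
    have e1 : CommRingCat.ofHom φ ≫ (CommRingCat.ofHom (Ideal.Quotient.mk J) ≫ g) =
        CommRingCat.ofHom φ ≫ (CommRingCat.ofHom (Ideal.Quotient.mk J) ≫ h) := by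
      have e2 : CommRingCat.ofHom φ ≫ CommRingCat.ofHom (Ideal.Quotient.mk J) =
          CommRingCat.ofHom (Ideal.Quotient.mk m) ≫ CommRingCat.ofHom ψ := by
        ext x
        simp [ψ]
      rw [← Category.assoc, ← Category.assoc, e2, Category.assoc, Category.assoc, e]
    exact (cancel_epi _).1 ((cancel_epi _).1 e1)
  let : Field (C ⧸ m) := Ideal.Quotient.field m
  let : Algebra (C ⧸ m) (D ⧸ J) := ψ.toAlgebra
  have hepi' : Algebra.IsEpi (C ⧸ m) (D ⧸ J) := CommRingCat.epi_iff_epi.mp hψ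
  have hs : Function.Surjective ψ := surjective_algebraMap_of_isEpi_field (C ⧸ m) (D ⧸ J)
  have key : ∀ d : D, ∃ c : C, d - φ c ∈ J := by
    intro d
    obtain ⟨cbar, hc⟩ := hs (Ideal.Quotient.mk J d)
    obtain ⟨c, rfl⟩ := Ideal.Quotient.mk_surjective cbar
    refine ⟨c, ?_⟩
    rw [← Ideal.Quotient.eq_zero_iff_mem, map_sub, ← hc]
    simp [ψ]
  let : Algebra C D := φ.toAlgebra
  let N : Submodule C D := LinearMap.range (Algebra.linearMap C D)
  have h1 : N ⊔ m • (⊤ : Submodule C D) = ⊤ := by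
    rw [eq_top_iff]
    intro d _
    obtain ⟨c, hc⟩ := key d
    have hd : d = φ c + (d - φ c) := by ring
    rw [hd]
    refine Submodule.add_mem_sup ⟨c, rfl⟩ ?_
    rw [Ideal.smul_top_eq_map]
    exact hc
  obtain ⟨n, hn⟩ := hm
  have h2 := sup_pow_smul_top_eq_top m N h1 n
  rw [hn, Ideal.zero_eq_bot, Submodule.bot_smul, sup_bot_eq] at h2
  intro d
  have : d ∈ N := h2 ▸ Submodule.mem_top
  obtain ⟨c, hc⟩ := this
  exact ⟨c, hc⟩

end Groth.Agent.H53.FieldLqf
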