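import Groth.Agent.H53.FieldLqf
import Groth.Agent.H53.FieldLqfAlg

set_option autoImplicit false
set_option backward.isDefEq.respectTransparency false
universe u
open CategoryTheory CategoryTheory.Limits AlgebraicGeometry

namespace Groth.Agent.H53.FieldLqf

theorem epi_of_mono_specMap {C D : CommRingCat.{u}} (φ : C ⟶ D) [Mono (Spec.map φ)] : Epi φ := by
  refine ⟨fun {T} g h e => ?_⟩
  apply Spec.map_injective
  rw [← cancel_mono (Spec.map φ), ← Spec.map_comp, ← Spec.map_comp, e]

/-- (I2') a monomorphism from a scheme into the spectrum of an Artinian local ring is a closed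
immersion. -/
theorem isClosedImmersion_of_mono_of_artinian_local {C : CommRingCat.{u}} [IsArtinianRing C]
    [IsLocalRing C] {Z : Scheme.{u}} (j : Z ⟶ Spec C) [Mono j] : IsClosedImmersion j := by
  have hsub : Subsingleton (Spec C) := inferInstanceAs (Subsingleton (PrimeSpectrum C))
  have hZ : Subsingleton Z := j.injective.subsingleton
  rcases isEmpty_or_nonempty Z with hE | hN
  · infer_instance
  have hA : IsAffine Z := inferInstance
  let φ : C ⟶ Γ(Z, ⊤) := (Scheme.ΓSpecIso C).inv ≫ j.appTop
  have hj : j = Z.isoSpec.hom ≫ Spec.map φ := by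
    simp only [Scheme.isoSpec, asIso_hom, Spec.map_comp, ← Scheme.toSpecΓ_naturality_assoc,
      ← SpecMap_ΓSpecIso_hom, φ]
    simp
  have hmono : Mono (Spec.map φ) := by
    have : Spec.map φ = Z.isoSpec.inv ≫ j := by rw [hj, Iso.inv_hom_id_assoc]
    rw [this]
    infer_instance
  have hepi : Epi φ := epi_of_mono_specMap φ
  have hepi' : Epi (CommRingCat.ofHom φ.hom) := hepi
  have hnil : IsNilpotent (IsLocalRing.maximalIdeal C) := by
    have := IsArtinianRing.isNilpotent_jacobson_bot (R := C)
    rwa [IsLocalRing.jacobson_eq_maximalIdeal ⊥ bot_ne_top] at this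
  have hsurj : Function.Surjective φ.hom :=
    surjective_of_epi_of_isNilpotent φ.hom (IsLocalRing.maximalIdeal C) hnil
  have : IsClosedImmersion (Spec.map φ) := IsClosedImmersion.spec_of_surjective φ hsurj
  rw [hj]
  infer_instance

/-- A monomorphism into a scheme locally quasi-finite over a field is a closed immersion. -/
theorem isClosedImmersion_of_mono_of_lqf' {k : Type u} [Field k] {W V : Scheme.{u}}
    (j : W ⟶ V) [Mono j] (g : V ⟶ Spec (CommRingCat.of k)) [LocallyQuasiFinite g] :
    IsClosedImmersion j := by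
  have hV : IsLocallyArtinian V := isLocallyArtinian_of_lqf g
  choose O hO1 hO2 using fun v : V => exists_affine_singleton v
  have hcov : iSup O = ⊤ := by
    rw [eq_top_iff]
    intro v _
    rw [TopologicalSpace.Opens.mem_iSup]
    refine ⟨v, ?_⟩
    change v ∈ (O v : Set V)
    rw [hO1 v]; rfl
  rw [IsZariskiLocalAtTarget.iff_of_iSup_eq_top (P := @IsClosedImmersion) O hcov]
  intro v
  have hmono : Mono (j ∣_ O v) :=
    (MorphismProperty.monomorphisms Scheme).of_isPullback (isPullback_morphismRestrict j (O v)).flip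
      (MorphismProperty.monomorphisms.infer_property j)
  have hArt : IsArtinianRing Γ(V, O v) :=
    IsLocallyArtinian.isArtinianRing_presheaf_obj ⟨O v, hO2 v⟩
  have hLoc : IsLocalRing Γ(V, O v) := isLocalRing_of_singleton (O v) (hO2 v) v (hO1 v)
  have : IsClosedImmersion ((j ∣_ O v) ≫ (hO2 v).isoSpec.hom) :=
    isClosedImmersion_of_mono_of_artinian_local _
  exact (MorphismProperty.cancel_right_of_respectsIso @IsClosedImmersion _
    (hO2 v).isoSpec.hom).1 this

end Groth.Agent.H53.FieldLqf
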