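import Groth.Agent.H53.Finite

/-!
# Cancellation for finite / integral morphisms over a separated base (helper53)
-/

set_option autoImplicit false
universe u
open CategoryTheory CategoryTheory.Limits AlgebraicGeometry Opposite Topology

namespace Groth.Agent.H53
open AlgSp

variable {S : Scheme.{u}}

/-- A sheaf with a representable morphism with property `P` to `h_W` is `h_{W'}` with `W' ⟶ W`
having `P`. -/
theorem exists_iso_yon_of_repWith (P : MorphismProperty Scheme.{u}) {Q : Sp S} {W : Over S}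
    (m : Q ⟶ (yon S).obj W) (hm : RepWith P m) :
    ∃ (W' : Over S) (c : W' ⟶ W) (e : (yon S).obj W' ⟶ Q), IsIso e ∧ e ≫ m = (yon S).map c ∧
      P c.left := by
  have hr := hm.rep
  have sq := hr.isPullback (𝟙 _)
  refine ⟨hr.pullback (𝟙 _), hr.snd (𝟙 _), hr.fst (𝟙 _), sq.isIso_fst_of_isIso, ?_,
    hm.property_snd _⟩
  rw [sq.w, Category.comp_id]

/-- If `g` is separated, the pullback of `f` along `y` is a closed subscheme of the pullback of
`f ≫ g` along `y ≫ g`, when the latter is a scheme. -/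
theorem exists_closedImmersion_of_comp_separated {X Y Z₀ : Sp S} (f : X ⟶ Y) (g : Y ⟶ Z₀)
    (hg : IsSeparatedMor g) {Z W : Over S} (y : (yon S).obj Z ⟶ Y) (i : W ⟶ Z)
    (fstW : (yon S).obj W ⟶ X) (sq : IsPullback fstW ((yon S).map i) (f ≫ g) (y ≫ g)) :
    ∃ (W' : Over S) (c : W' ⟶ W) (fst' : (yon S).obj W' ⟶ X),
      IsPullback fst' ((yon S).map (c ≫ i)) f y ∧ IsClosedImmersion c.left := by
  have sqΔ := pullback_map_diagonal_isPullback f y g
  have hm : RepWith @IsClosedImmersion
      (pullback.map f y (f ≫ g) (y ≫ g) (𝟙 _) (𝟙 _) g (Category.id_comp _).symm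
        (Category.id_comp _).symm) := MorphismProperty.of_isPullback sqΔ hg
  have sqR := IsPullback.of_hasPullback (f ≫ g) (y ≫ g)
  have he1 : (sqR.isoIsPullback _ _ sq).hom ≫ (yon S).map i = pullback.snd (f ≫ g) (y ≫ g) :=
    sqR.isoIsPullback_hom_snd _ _ sq
  have he2 : (sqR.isoIsPullback _ _ sq).hom ≫ fstW = pullback.fst (f ≫ g) (y ≫ g) :=
    sqR.isoIsPullback_hom_fst _ _ sq
  have hm' : RepWith @IsClosedImmersion
      (pullback.map f y (f ≫ g) (y ≫ g) (𝟙 _) (𝟙 _) g (Category.id_comp _).symm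
        (Category.id_comp _).symm ≫ (sqR.isoIsPullback _ _ sq).hom) :=
    (MorphismProperty.cancel_right_of_respectsIso (RepWith (S := S) @IsClosedImmersion) _ _).2 hm
  obtain ⟨W', c, e, he, hec, hc⟩ := exists_iso_yon_of_repWith _ _ hm'
  refine ⟨W', c, e ≫ pullback.fst f y, ?_, hc⟩
  have hsnd : e ≫ pullback.snd f y = (yon S).map (c ≫ i) := by
    rw [Functor.map_comp, ← hec, Category.assoc, Category.assoc, he1, pullback.lift_snd,
      Category.comp_id]
  have sq1 : IsPullback e (e ≫ pullback.snd f y) (pullback.snd f y) (𝟙 _) :=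
    IsPullback.of_horiz_isIso ⟨by rw [Category.comp_id]⟩
  have := sq1.paste_horiz (IsPullback.of_hasPullback f y)
  rw [Category.id_comp, hsnd] at this
  exact this

end Groth.Agent.H53
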