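import Groth.Agent.H53.FieldLqf2
import Groth.Agent.H52.FreeQuotSep
import Groth.Agent.H52.QS
import Groth.Agent.H52.LqfSource
import Groth.Agent.Lib.Helper54.LqfSepScheme
import Groth.Agent.Lib.Helper54.MonoDiscrete
import Groth.Agent.H53.OpenSub2

set_option autoImplicit false
set_option backward.isDefEq.respectTransparency false
universe u
open CategoryTheory CategoryTheory.Limits AlgebraicGeometry AlgSp

namespace Groth.Agent.H53.FieldLqf

variable {S : Scheme.{u}}

/-- The structure morphism of an etale chart of a space locally quasi-finite over the base. -/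
theorem lqf_hom_of_chart {X : Sp S} (p : X ⟶ (yon S).obj (Over.mk (𝟙 S)))
    (hp : LocP (@LocallyQuasiFinite ⊓ @LocallyOfFiniteType : MorphismProperty Scheme.{u}) p)
    {U : Over S} (a : (yon S).obj U ⟶ X) (ha : RepWith @Etale a) :
    LocallyQuasiFinite U.hom ∧ LocallyOfFiniteType U.hom :=
  hp a (𝟙 _) (Over.homMk U.hom (by simp) : U ⟶ Over.mk (𝟙 S)) ha (H52.repWith_of_isIso _ _)
    ((H52.yonBaseIsTerminal S).hom_ext _ _)

theorem locP_lqf_of_iso {X : Sp S} (p : X ⟶ (yon S).obj (Over.mk (𝟙 S))) {U : Over S}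
    (e : (yon S).obj U ≅ X) (h1 : LocallyQuasiFinite U.hom) (h2 : LocallyOfFiniteType U.hom) :
    LocP (@LocallyQuasiFinite ⊓ @LocallyOfFiniteType : MorphismProperty Scheme.{u}) p :=
  H52.isEtLocal_lqf_lft.locP_of_chart p e.hom (𝟙 _)
    (Over.homMk U.hom (by simp) : U ⟶ Over.mk (𝟙 S)) (H52.repWith_of_isIso _ _)
    (H52.repWith_of_isIso _ _) (H52.repWith_of_isIso _ _)
    ((H52.yonBaseIsTerminal S).hom_ext _ _) ⟨h1, h2⟩

variable {k : Type u} [Field k]

theorem lqf_prod_hom {U : Over (Spec (CommRingCat.of k))} (h : LocallyQuasiFinite U.hom) :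
    LocallyQuasiFinite (U ⨯ U).hom := by
  have e1 : (U ⨯ U).hom = (prod.fst : U ⨯ U ⟶ U).left ≫ U.hom := (Over.w _).symm
  have e2 : (prod.fst : U ⨯ U ⟶ U).left =
      (Over.prodLeftIsoPullback U U).hom ≫ pullback.fst U.hom U.hom :=
    (Over.prodLeftIsoPullback_hom_fst U U).symm
  rw [e1, e2]
  infer_instance

/-- An algebraic space locally quasi-finite over a field is separated over the field. -/
theorem isSeparatedMor_of_lqf {X : Sp (Spec (CommRingCat.of k))} (hX : IsAlgSpace X)
    (p : X ⟶ (yon _).obj (Over.mk (𝟙 _)))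
    (hp : LocP (@LocallyQuasiFinite ⊓ @LocallyOfFiniteType : MorphismProperty Scheme.{u}) p) :
    IsSeparatedMor p := by
  obtain ⟨U, a, hae, has⟩ := hX.atlas
  have hrep := hX.representable_from_yon a
  have sq0 := hrep.isPullback a
  obtain ⟨t, ht⟩ := (yon _).map_surjective (hrep.fst a)
  have sq : IsPullback ((yon _).map t) ((yon _).map (hrep.snd a)) a a := by rw [ht]; exact sq0
  have hpres : IsPresentation (hrep.snd a) t a :=
    ⟨H53.isEtaleEqvRel_of_isPullback _ t a hae sq, hae, has, sq⟩
  have hU := lqf_hom_of_chart p hp a hae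
  have hR := lqf_hom_of_chart p hp ((yon _).map t ≫ a)
    ((RepWith @Etale).comp_mem _ _ ((repWith_yon_map_iff _ _).2 hpres.eqvRel.etale_right) hae)
  have hmono : Mono (prod.lift t (hrep.snd a)) := by
    refine ⟨fun {T} r r' h => hpres.eqvRel.injective T r r' ?_ ?_⟩
    · simpa using congr($h ≫ prod.fst)
    · simpa using congr($h ≫ prod.snd)
  have hmono' : Mono (prod.lift t (hrep.snd a)).left := inferInstance
  have hUU : LocallyQuasiFinite (U ⨯ U).hom := lqf_prod_hom hU.1
  have hcomp : LocallyQuasiFinite ((prod.lift t (hrep.snd a)).left ≫ (U ⨯ U).hom) := by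
    rw [Over.w]; exact hR.1
  have hj : IsClosedImmersion (prod.lift t (hrep.snd a)).left :=
    isClosedImmersion_of_mono_of_lqf' _ (U ⨯ U).hom
  have := Groth.Agent.H52.descendsAlong_isClosedImmersion_fppf.{u}
  have hdiag : RepWith @IsClosedImmersion (Limits.diag X) :=
    H52.FreeQuot.repWith_diag_of_presentation @IsClosedImmersion hX _ t a hpres hj
  have h3 := (H52.repWith_diag_iff_diagonal_from _ X).1 hdiag
  have hpe : p = (H52.yonBaseIsTerminal _).from X := (H52.yonBaseIsTerminal _).hom_ext _ _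
  rw [hpe]
  exact h3

/-- An algebraic space locally quasi-finite over a field is a scheme. -/
theorem isRepresentable_of_lqf {X : Sp (Spec (CommRingCat.of k))} (hX : IsAlgSpace X)
    (p : X ⟶ (yon _).obj (Over.mk (𝟙 _)))
    (hp : LocP (@LocallyQuasiFinite ⊓ @LocallyOfFiniteType : MorphismProperty Scheme.{u}) p) :
    X.obj.IsRepresentable :=
  Lib.Helper54.isRepresentable_of_lqf_separated hX p hp (isSeparatedMor_of_lqf hX p hp)

end Groth.Agent.H53.FieldLqf
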