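import Groth.Agent.H53.FieldLqfSp

set_option autoImplicit false
set_option backward.isDefEq.respectTransparency false
universe u
open CategoryTheory CategoryTheory.Limits AlgebraicGeometry AlgSp

namespace Groth.Agent.H53.FieldLqf

/-- S10483. -/
theorem lqf_iff_artinian_local (k : Type u) [Field k] (X : Space (Spec (CommRingCat.of k)))
    (p : X.obj ⟶ (yon (Spec (CommRingCat.of k))).obj (Over.mk (𝟙 _))) :
    LocP (@LocallyQuasiFinite ⊓ @LocallyOfFiniteType : MorphismProperty Scheme.{u}) p ↔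
      ∃ (U : Over (Spec (CommRingCat.of k))) (_ : (yon (Spec (CommRingCat.of k))).obj U ≅ X.obj),
        ∀ u : ↥U.left, ∃ V : U.left.Opens,
          u ∈ V ∧ IsAffineOpen V ∧ IsArtinianRing ↥Γ(U.left, V) ∧ IsLocalRing ↥Γ(U.left, V) ∧
            IsFinite (V.ι ≫ U.hom) := by
  constructor
  · intro hp
    obtain ⟨⟨W, ⟨r⟩⟩⟩ := isRepresentable_of_lqf X.property p hp
    let e := isoOfRepresentableBy r
    have hW := lqf_hom_of_chart p hp e.hom (H52.repWith_of_isIso _ _)
    have := hW.1
    exact ⟨W, e, fun u => exists_artinian_local_nhds W.hom u⟩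
  · rintro ⟨U, e, h⟩
    choose V hV1 hV2 hV3 hV4 hV5 using h
    have hcov : iSup V = ⊤ := by
      rw [eq_top_iff]
      intro u _
      rw [TopologicalSpace.Opens.mem_iSup]
      exact ⟨u, hV1 u⟩
    refine locP_lqf_of_iso p e ?_ ?_
    · exact IsZariskiLocalAtSource.of_iSup_eq_top V hcov (fun u => by
        have := hV5 u
        infer_instance)
    · exact IsZariskiLocalAtSource.of_iSup_eq_top V hcov (fun u => by
        have := hV5 u
        infer_instance)

/-- S10484. -/
theorem lqf_of_mono (k : Type u) [Field k] {X Y : Space (Spec (CommRingCat.of k))} (f : X ⟶ Y)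
    [Mono f.hom] (q : Y.obj ⟶ (yon (Spec (CommRingCat.of k))).obj (Over.mk (𝟙 _)))
    (hq : LocP (@LocallyQuasiFinite ⊓ @LocallyOfFiniteType : MorphismProperty Scheme.{u}) q) :
    LocP (@LocallyQuasiFinite ⊓ @LocallyOfFiniteType : MorphismProperty Scheme.{u}) (f.hom ≫ q) := by
  obtain ⟨⟨V, ⟨rV⟩⟩⟩ := isRepresentable_of_lqf Y.property q hq
  let eV := isoOfRepresentableBy rV
  have hV := lqf_hom_of_chart q hq eV.hom (H52.repWith_of_isIso _ _)
  have hV1 := hV.1
  have hV2 := hV.2
  have hVart : IsLocallyArtinian V.left := isLocallyArtinian_of_lqf V.hom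
  have hdisc : DiscreteTopology ↥V.left := inferInstance
  have hmono : Mono (f.hom ≫ eV.inv) := mono_comp _ _
  obtain ⟨⟨W, ⟨rW⟩⟩⟩ := Lib.Helper54.isRepresentable_of_mono_discrete X.property (f.hom ≫ eV.inv)
  let eW := isoOfRepresentableBy rW
  obtain ⟨j, hj⟩ := (yon _).map_surjective (eW.hom ≫ f.hom ≫ eV.inv)
  have hjm : Mono ((yon _).map j) := by
    rw [hj]
    exact mono_comp _ _
  have hjm' : Mono j := Functor.mono_of_mono_map (yon _) hjm
  have hjl : Mono j.left := inferInstance
  have hci : IsClosedImmersion j.left := isClosedImmersion_of_mono_of_lqf' j.left V.hom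
  have hW : W.hom = j.left ≫ V.hom := (Over.w j).symm
  refine locP_lqf_of_iso (f.hom ≫ q) eW ?_ ?_
  · rw [hW]; infer_instance
  · rw [hW]; infer_instance

end Groth.Agent.H53.FieldLqf
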