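import Mathlib

set_option autoImplicit false
universe u
open CategoryTheory CategoryTheory.Limits TensorProduct

namespace Groth.Agent.H53.FieldQuot

variable {k A : Type u} [Field k] [CommRing A]

/-- `A` as a `k`-algebra through a given ring map (type synonym). -/
def Via (_f : k →+* A) : Type u := A

instance (f : k →+* A) : CommRing (Via f) := inferInstanceAs (CommRing A)
instance (f : k →+* A) : Algebra k (Via f) := f.toAlgebra

/-- The identity, as a ring isomorphism to the synonym. -/
def Via.mk (f : k →+* A) : A ≃+* Via f := RingEquiv.refl A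

theorem via_smul_def (f : k →+* A) (x : k) (a : Via f) :
    x • a = Via.mk f (f x) * a := rfl

theorem via_algebraMap (f : k →+* A) (x : k) : algebraMap k (Via f) x = Via.mk f (f x) := rfl

/-- The subfield of `k` on which two ring maps to `A` agree. -/
def eqField (s t : k →+* A) : Subfield k where
  carrier := {x | s x = t x}
  mul_mem' := by
    intro a b ha hb
    simp only [Set.mem_ofPred_eq] at *
    rw [map_mul, map_mul, ha, hb]
  one_mem' := by simp
  add_mem' := by
    intro a b ha hb
    simp only [Set.mem_ofPred_eq] at *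
    rw [map_add, map_add, ha, hb]
  zero_mem' := by simp
  neg_mem' := by
    intro a ha
    simp only [Set.mem_ofPred_eq] at *
    rw [map_neg, map_neg, ha]
  inv_mem' := by
    intro x hx
    simp only [Set.mem_ofPred_eq] at *
    by_cases h0 : x = 0
    · simp [h0]
    · have h1 : s x⁻¹ * s x = 1 := by rw [← map_mul, inv_mul_cancel₀ h0, map_one]
      have h2 : t x⁻¹ * t x = 1 := by rw [← map_mul, inv_mul_cancel₀ h0, map_one]
      calc s x⁻¹ = s x⁻¹ * (t x⁻¹ * t x) := by rw [h2, mul_one]
        _ = (s x⁻¹ * s x) * t x⁻¹ := by rw [← hx]; ring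
        _ = t x⁻¹ := by rw [h1, one_mul]

theorem mem_eqField {s t : k →+* A} {x : k} : x ∈ eqField s t ↔ s x = t x := Iff.rfl

variable (s t : k →+* A)

/-- The operator `(λ ⊗ id)` on `A ⊗_{t,k,s} A`. -/
noncomputable def slice (l : Via t →ₗ[k] k) : Via t ⊗[k] Via s →ₗ[k] Via s :=
  (TensorProduct.lid k (Via s)).toLinearMap ∘ₗ LinearMap.rTensor (Via s) l

theorem slice_tmul (l : Via t →ₗ[k] k) (z : Via t) (a : Via s) :
    slice s t l (z ⊗ₜ a) = l z • a := by
  simp [slice]

theorem linearIndepOn_of_linearIndepOn [Nontrivial A]
    (c : A →+* Via t ⊗[k] Via s)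
    (hcs : ∀ x, c (s x) = Via.mk t (s x) ⊗ₜ[k] (1 : Via s))
    (hct : ∀ y, c (t y) = (1 : Via t) ⊗ₜ[k] Via.mk s (t y))
    (F : Finset k) (hF : LinearIndepOn (eqField s t) id (F : Set k)) :
    LinearIndepOn k (fun y : k => Via.mk s (t y)) (F : Set k) := by
  classical
  induction F using Finset.induction_on with
  | empty => simp
  | insert a F haF ih =>
    rw [Finset.coe_insert] at hF ⊢
    rw [linearIndepOn_insert (mt Finset.mem_coe.1 haF)] at hF ⊢
    refine ⟨ih hF.1, fun ha => ?_⟩
    rw [Finsupp.mem_span_image_iff_linearCombination] at ha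
    obtain ⟨l, hl, hla⟩ := ha
    rw [Finsupp.linearCombination_apply_of_mem_supported k hl] at hla
    -- hla : ∑ i ∈ F, l i • t i = t a   (in Via s)
    have hla' : ∑ j ∈ F, s (l j) * t j = t a := by
      have := congrArg (Via.mk s).symm hla
      rw [map_sum] at this
      exact this
    have key : ∀ i ∈ F, l i ∈ eqField s t := by
      intro i hi
      rw [mem_eqField]
      have hz : ∀ φ : Module.Dual k (Via t), φ (Via.mk t (s (l i)) - Via.mk t (t (l i))) = 0 := by
        intro φ
        -- apply c and slice
        have h1 : ∑ j ∈ F, φ (Via.mk t (s (l j))) • Via.mk s (t j) =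
            φ (1 : Via t) • Via.mk s (t a) := by
          have := congrArg (fun x => slice s t φ (c x)) hla'
          simp only [map_sum] at this
          rw [hct, slice_tmul] at this
          rw [← this]
          refine Finset.sum_congr rfl fun j _ => ?_
          rw [map_mul, hcs, hct, Algebra.TensorProduct.tmul_mul_tmul, mul_one, one_mul, slice_tmul]
        have h2 : ∑ j ∈ F, (l j * φ (1 : Via t)) • Via.mk s (t j) =
            φ (1 : Via t) • Via.mk s (t a) := by
          rw [← hla, Finset.smul_sum]
          refine Finset.sum_congr rfl fun j _ => ?_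
          rw [smul_smul, mul_comm]
        have h3 : ∑ j ∈ F, (φ (Via.mk t (s (l j))) - l j * φ (1 : Via t)) • Via.mk s (t j) = 0 := by
          simp only [sub_smul, Finset.sum_sub_distrib, h1, h2, sub_self]
        have h4 := linearIndepOn_finset_iff.1 (ih hF.1) _ h3 i hi
        have h5 : φ (Via.mk t (t (l i))) = l i * φ (1 : Via t) := by
          have : Via.mk t (t (l i)) = l i • (1 : Via t) := by
            rw [via_smul_def]; exact (mul_one _).symm
          rw [this, map_smul, smul_eq_mul]
        rw [map_sub, h5]
        exact h4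
      have := (Module.forall_dual_apply_eq_zero_iff k _).1 hz
      exact (Via.mk t).injective (sub_eq_zero.1 this)
    -- conclude
    apply hF.2
    have hinj : Function.Injective t := t.injective
    have hsum : a = ∑ i ∈ F, l i * i := by
      apply hinj
      rw [map_sum, ← hla']
      refine Finset.sum_congr rfl fun i hi => ?_
      rw [key i hi, map_mul]
    rw [hsum]
    refine Submodule.sum_mem _ fun i hi => ?_
    have : l i * i = (⟨l i, key i hi⟩ : eqField s t) • (id i) := rfl
    rw [this]
    exact Submodule.smul_mem _ _ (Submodule.subset_span ⟨i, hi, rfl⟩)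

end Groth.Agent.H53.FieldQuot
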