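import Groth.Agent.H53.FieldQuotAlg

set_option autoImplicit false
universe u
open CategoryTheory CategoryTheory.Limits TensorProduct

namespace Groth.Agent.H53.FieldQuot

variable {k A : Type u} [Field k] [CommRing A] (s t : k →+* A)

theorem linearIndependent_of_linearIndependent [Nontrivial A]
    (c : A →+* Via t ⊗[k] Via s)
    (hcs : ∀ x, c (s x) = Via.mk t (s x) ⊗ₜ[k] (1 : Via s))
    (hct : ∀ y, c (t y) = (1 : Via t) ⊗ₜ[k] Via.mk s (t y))
    {ι : Type*} [Fintype ι] (v : ι → k) (hv : LinearIndependent (eqField s t) v) :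
    LinearIndependent k (fun i => Via.mk s (t (v i))) := by
  classical
  have h1 : LinearIndepOn (eqField s t) id (Set.range v) := hv.linearIndepOn_id
  have h2 : ((Finset.univ.image v : Finset k) : Set k) = Set.range v := by
    rw [Finset.coe_image, Finset.coe_univ, Set.image_univ]
  rw [← h2] at h1
  have h3 := linearIndepOn_of_linearIndepOn s t c hcs hct _ h1
  rw [h2] at h3
  exact (linearIndepOn_range_iff hv.injective _).1 h3

theorem finiteDimensional_eqField [Nontrivial A] [Module.Finite k (Via s)]
    (c : A →+* Via t ⊗[k] Via s)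
    (hcs : ∀ x, c (s x) = Via.mk t (s x) ⊗ₜ[k] (1 : Via s))
    (hct : ∀ y, c (t y) = (1 : Via t) ⊗ₜ[k] Via.mk s (t y)) :
    FiniteDimensional (eqField s t) k := by
  have h : Module.rank (eqField s t) k ≤ (Module.finrank k (Via s) : ℕ) := by
    refine rank_le fun F hF => ?_
    have h3 := linearIndepOn_of_linearIndepOn s t c hcs hct F hF
    have := LinearIndependent.fintype_card_le_finrank h3
    simpa using this
  exact IsNoetherian.iff_fg.1
    (IsNoetherian.iff_rank_lt_aleph0.2 <| h.trans_lt (Cardinal.natCast_lt_aleph0))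

theorem isPushout_eqField [Nontrivial A] (hfin : s.Finite)
    (c : A →+* Via t ⊗[k] Via s)
    (hcs : ∀ x, c (s x) = Via.mk t (s x) ⊗ₜ[k] (1 : Via s))
    (hct : ∀ y, c (t y) = (1 : Via t) ⊗ₜ[k] Via.mk s (t y))
    (hmono : ∀ (B : CommRingCat.{u}) (g1 g2 : CommRingCat.of A ⟶ B),
      CommRingCat.ofHom s ≫ g1 = CommRingCat.ofHom s ≫ g2 →
      CommRingCat.ofHom t ≫ g1 = CommRingCat.ofHom t ≫ g2 → g1 = g2) :
    FiniteDimensional (eqField s t) k ∧
    IsPushout (CommRingCat.ofHom (algebraMap (eqField s t) k))
      (CommRingCat.ofHom (algebraMap (eqField s t) k)) (CommRingCat.ofHom s)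
      (CommRingCat.ofHom t) := by
  classical
  have : Module.Finite k (Via s) := hfin
  have hfd : FiniteDimensional (eqField s t) k := finiteDimensional_eqField s t c hcs hct
  refine ⟨hfd, ?_⟩
  letI : Algebra (eqField s t) A := (s.comp (algebraMap (eqField s t) k)).toAlgebra
  let sA : k →ₐ[eqField s t] A := { s with commutes' := fun _ => rfl }
  let tA : k →ₐ[eqField s t] A := { t with commutes' := fun x => (mem_eqField.1 x.2).symm }
  let μ : k ⊗[eqField s t] k →ₐ[eqField s t] A := Algebra.TensorProduct.productMap sA tA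
  have hμ : ∀ x y : k, μ (x ⊗ₜ y) = s x * t y := fun x y =>
    Algebra.TensorProduct.productMap_apply_tmul sA tA x y
  -- injectivity
  have hinj : Function.Injective μ := by
    let b := Module.finBasis (eqField s t) k
    let B := Algebra.TensorProduct.basis k b
    have hli := linearIndependent_of_linearIndependent s t c hcs hct b b.linearIndependent
    rw [injective_iff_map_eq_zero]
    intro z hz
    have hz' : ∑ i, B.repr z i • B i = z := B.sum_repr z
    have h0 : ∑ i, (B.repr z i) • Via.mk s (t (b i)) = 0 := by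
      have h1 : μ (∑ i, B.repr z i • B i) = 0 := by rw [hz', hz]
      rw [map_sum] at h1
      apply (Via.mk s).symm.injective
      rw [map_zero, map_sum, ← h1]
      refine Finset.sum_congr rfl fun i _ => ?_
      rw [Algebra.TensorProduct.basis_apply, TensorProduct.smul_tmul', hμ, smul_eq_mul, mul_one]
      rfl
    have h2 := Fintype.linearIndependent_iff.1 hli (fun i => B.repr z i) h0
    rw [← hz']
    exact Finset.sum_eq_zero fun i _ => by rw [h2 i, zero_smul]
  -- surjectivity
  have hsL : CommRingCat.ofHom s =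
      CommRingCat.ofHom (Algebra.TensorProduct.includeLeftRingHom (R := eqField s t) (A := k) (B := k)) ≫
        CommRingCat.ofHom μ.toRingHom := by
    ext x
    change s x = μ (x ⊗ₜ 1)
    rw [hμ, map_one, mul_one]
  have htR : CommRingCat.ofHom t =
      CommRingCat.ofHom (Algebra.TensorProduct.includeRight (R := eqField s t) (A := k) (B := k)).toRingHom ≫
        CommRingCat.ofHom μ.toRingHom := by
    ext x
    change t x = μ (1 ⊗ₜ x)
    rw [hμ, map_one, one_mul]
  have hepi : Epi (CommRingCat.ofHom μ.toRingHom) := by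
    constructor
    intro B g1 g2 h
    refine hmono B g1 g2 ?_ ?_
    · rw [hsL, Category.assoc, Category.assoc, h]
    · rw [htR, Category.assoc, Category.assoc, h]
  have hfinμ : (CommRingCat.ofHom μ.toRingHom).hom.Finite := by
    refine RingHom.Finite.of_comp_finite (f := Algebra.TensorProduct.includeLeftRingHom) ?_
    have : (CommRingCat.ofHom μ.toRingHom).hom.comp Algebra.TensorProduct.includeLeftRingHom = s := by
      ext x
      change μ (x ⊗ₜ 1) = s x
      rw [hμ, map_one, mul_one]
    rw [this]
    exact hfin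
  have hsurj : Function.Surjective μ :=
    RingHom.surjective_of_epi_of_finite (CommRingCat.ofHom μ.toRingHom) hfinμ
  let e : k ⊗[eqField s t] k ≃+* A := RingEquiv.ofBijective μ.toRingHom ⟨hinj, hsurj⟩
  refine IsPushout.of_iso (CommRingCat.isPushout_tensorProduct (eqField s t) k k)
    (Iso.refl _) (Iso.refl _) (Iso.refl _) e.toCommRingCatIso ?_ ?_ ?_ ?_
  · simp
  · simp
  · rw [Iso.refl_hom, Category.id_comp]
    exact hsL.symm
  · rw [Iso.refl_hom, Category.id_comp]
    exact htR.symm

end Groth.Agent.H53.FieldQuot
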