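import Groth.Agent.H53.FieldQuotSch2
import Groth.Agent.H52.QSChart2
import Groth.Agent.Lib.Helper54.FlatPoint

set_option autoImplicit false
set_option backward.isDefEq.respectTransparency false
universe u
open CategoryTheory CategoryTheory.Limits AlgebraicGeometry Opposite
open AlgSp

namespace Groth.Agent.H53.FieldQuot

variable {S : Scheme.{u}} {k : Type u} [Field k] (str : Spec (CommRingCat.of k) ⟶ S)

theorem quasiCompact_str : QuasiCompact str := by
  constructor
  intro U _ _
  have : Finite ↥(Spec (CommRingCat.of k)) := by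
    have : Subsingleton (PrimeSpectrum k) := inferInstance
    exact Finite.of_subsingleton (α := PrimeSpectrum k)
  exact (Set.toFinite _).isCompact

theorem isFinite_of_etale_of_compact {W : Scheme.{u}} (f : W ⟶ Spec (CommRingCat.of k)) [Etale f]
    [CompactSpace ↥W] : IsFinite f := by
  have : LocallyQuasiFinite f := Groth.Agent.Lib.Helper54.locallyQuasiFinite_of_etale f
  have : QuasiCompact f := inferInstance
  exact IsFinite.of_locallyQuasiFinite f

theorem isFinite_of_etale_of_quasiCompact {W : Scheme.{u}} (f : W ⟶ Spec (CommRingCat.of k)) [Etale f]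
    [QuasiCompact f] : IsFinite f := by
  have : LocallyQuasiFinite f := Groth.Agent.Lib.Helper54.locallyQuasiFinite_of_etale f
  exact IsFinite.of_locallyQuasiFinite f

/-- S10205. -/
theorem exists_iso_spec_field_of_quasiSeparated {X : Sp S}
    (hX : IsQuasiSeparatedSp X)
    (p : (yon S).obj (Over.mk str) ⟶ X) (hp : RepWith @Etale p) (hs : RepWith @Surjective p) :
    ∃ (k' : Type u) (_ : Field k') (str' : Spec (CommRingCat.of k') ⟶ S)
      (e : (yon S).obj (Over.mk str') ≅ X) (c : Over.mk str ⟶ Over.mk str'),
      (yon S).map c ≫ e.hom = p ∧ IsFinite c.left ∧ Etale c.left := by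
  have sq := hp.rep.isPullback' p
  have hset : Etale (hp.rep.fst' p).left := hp.2 p _ _ sq.flip
  have hqc : QuasiCompact (prod.lift (hp.rep.fst' p) (hp.rep.snd p)).left :=
    Groth.Agent.H52.prop_prod_lift_of_repWith_diag @QuasiCompact hX p p _ _ sq
  have hqcs : QuasiCompact (Over.mk str).hom := quasiCompact_str str
  have hcK : CompactSpace ↥(Over.mk str).left := by
    change CompactSpace ↥(Spec (CommRingCat.of k))
    infer_instance
  have h1 : CompactSpace ↥(pullback (Over.mk str).hom (Over.mk str).hom) := inferInstance
  have h2 : CompactSpace ↥(Over.mk str ⨯ Over.mk str).left :=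
    (Over.prodLeftIsoPullback (Over.mk str) (Over.mk str)).hom.homeomorph.symm.compactSpace
  have hcW : CompactSpace ↥(hp.rep.pullback p).left :=
    QuasiCompact.compactSpace_of_compactSpace (prod.lift (hp.rep.fst' p) (hp.rep.snd p)).left
  have hfin : IsFinite (hp.rep.fst' p).left := by
    have := isFinite_of_etale_of_compact (k := k) (hp.rep.fst' p).left
    exact this
  have hepi : Epi p := Groth.Agent.H52.epi_of_repWith_etale_surjective p hp hs
  obtain ⟨k', fk', str', c, e, hcf, hce⟩ :=
    exists_iso_of_kernelPair_of_epi str (hp.rep.fst' p) (hp.rep.snd p) p sq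
  refine ⟨k', fk', str', e, c, hce, hcf, ?_⟩
  have hc : (yon S).map c = p ≫ e.inv := by rw [← hce, Category.assoc, e.hom_inv_id, Category.comp_id]
  rw [← repWith_yon_map_iff (S := S) @Etale c, hc]
  exact MorphismProperty.RespectsIso.postcomp _ _ _ hp

end Groth.Agent.H53.FieldQuot
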