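import Groth.Agent.H53.FieldQuotApp
import Groth.Agent.H52.Basic
import Groth.Prelude.Def_AlgSpDec

set_option autoImplicit false
set_option backward.isDefEq.respectTransparency false
universe u
open CategoryTheory CategoryTheory.Limits AlgebraicGeometry Opposite
open AlgSp

namespace Groth.Agent.H53.FieldQuot

variable {S : Scheme.{u}}

/-- The field point defined by a morphism `h_{Spec k} ⟶ X`. -/
noncomputable def fieldPtOfHom {X : Sp S} {k : Type u} [Field k] (str : Spec (CommRingCat.of k) ⟶ S)
    (m : (yon S).obj (Over.mk str) ⟶ X) : FieldPt X :=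
  ⟨k, str, (J S).uliftYonedaEquiv m⟩

theorem fieldPtOfHom_toHom {X : Sp S} {k : Type u} [Field k] (str : Spec (CommRingCat.of k) ⟶ S)
    (m : (yon S).obj (Over.mk str) ⟶ X) : (fieldPtOfHom str m).toHom = m :=
  Equiv.symm_apply_apply _ _

/-- If `q.toHom` factors through `p.toHom` along a morphism of spectra of fields, the two field
points define the same point. -/
theorem points_mk_eq_of_factor {X : Sp S} (p q : FieldPt X) (c : q.pt ⟶ p.pt)
    (h : (yon S).map c ≫ p.toHom = q.toHom) : Points.mk p = Points.mk q := by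
  refine Points.sound ⟨q.K, q.field, q.str, c, 𝟙 _, ?_⟩
  rw [op_id, Functor.map_id_apply, ← FieldPt.toHom_app, ← FieldPt.uliftYonedaEquiv_toHom q, ← h]
  rw [GrothendieckTopology.uliftYonedaEquiv_comp]
  rfl

/-- S10409. -/
theorem exists_mono_iff_exists_etale_qc_kernelPair {X : Sp S} (x : Points X) :
    (∃ p : FieldPt X, Points.mk p = x ∧ Mono p.toHom) ↔
      ∃ q : FieldPt X, Points.mk q = x ∧
        ∀ (P : Sp S) (fst snd : P ⟶ (yon S).obj q.pt), IsPullback fst snd q.toHom q.toHom →
          RepWith @Etale fst ∧ RepWith @QuasiCompact fst := by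
  constructor
  · rintro ⟨p, hp, hm⟩
    refine ⟨p, hp, fun P fst snd sq => ?_⟩
    have hk : IsKernelPair p.toHom fst snd := sq
    have : IsIso fst := hk.isIso_of_mono
    exact ⟨Groth.Agent.H52.repWith_of_isIso _ _, Groth.Agent.H52.repWith_of_isIso _ _⟩
  · rintro ⟨q, hq, h⟩
    obtain ⟨hE, hQ⟩ := h _ _ _ (IsPullback.of_hasPullback q.toHom q.toHom)
    have sqW := hE.rep.isPullback (𝟙 ((yon S).obj q.pt))
    have hj : IsIso (hE.rep.fst (𝟙 ((yon S).obj q.pt))) := sqW.isIso_fst_of_isIso
    let j := asIso (hE.rep.fst (𝟙 ((yon S).obj q.pt)))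
    let s := hE.rep.snd (𝟙 ((yon S).obj q.pt))
    obtain ⟨t, ht⟩ := (yon S).map_surjective (j.hom ≫ pullback.snd q.toHom q.toHom)
    have hs : (yon S).map s = j.hom ≫ pullback.fst q.toHom q.toHom := by
      have := sqW.w
      rw [Category.comp_id] at this
      exact this.symm
    have sq : IsPullback ((yon S).map s) ((yon S).map t) q.toHom q.toHom := by
      refine IsPullback.of_iso (IsPullback.of_hasPullback q.toHom q.toHom) j.symm (Iso.refl _)
        (Iso.refl _) (Iso.refl _) ?_ ?_ ?_ ?_
      · rw [Iso.refl_hom, Category.comp_id, hs, Iso.symm_hom, Iso.inv_hom_id_assoc]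
      · rw [Iso.refl_hom, Category.comp_id, ht, Iso.symm_hom, Iso.inv_hom_id_assoc]
      · simp
      · simp
    have hset : Etale s.left := hE.property_snd (𝟙 _)
    have hsqc : QuasiCompact s.left := hQ.2 _ _ _ sqW
    have hfin : IsFinite s.left := isFinite_of_etale_of_quasiCompact (k := q.K) s.left
    obtain ⟨k', fk', str', c, m, -, hmono, hm⟩ := exists_mono_of_kernelPair q.str s t q.toHom sq
    refine ⟨fieldPtOfHom str' m, ?_, ?_⟩
    · rw [← hq]
      exact points_mk_eq_of_factor _ q c (by rw [fieldPtOfHom_toHom]; exact hm)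
    · rw [fieldPtOfHom_toHom]; exact hmono

end Groth.Agent.H53.FieldQuot
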