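import Groth.Agent.H53.QSDecent

set_option autoImplicit false
set_option backward.isDefEq.respectTransparency false
universe u
open CategoryTheory CategoryTheory.Limits AlgebraicGeometry Opposite
open AlgSp

namespace Groth.Agent.H53.FieldQuot

variable {S : Scheme.{u}}

/-- The fibre product of the field point `Spec κ(u) ⟶ U ⟶ X` of an étale chart with an arbitrary
field point `q` is a scheme étale over `Spec q.K`. -/
theorem exists_pullback_ofPt_fieldPt {X : Sp S} {U : Over S} (a : (yon S).obj U ⟶ X)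
    (hae : RepWith @Etale a) (u : ↥U.left) (q : FieldPt X) :
    ∃ (Z : Over S) (z1 : Z ⟶ (FieldPt.ofPt a u).pt) (z2 : Z ⟶ q.pt),
      IsPullback ((yon S).map z1) ((yon S).map z2) (FieldPt.ofPt a u).toHom q.toHom ∧
      Etale z2.left := by
  let qu := FieldPt.ofPt a u
  let iu : qu.pt ⟶ U := Over.homMk (U.left.fromSpecResidueField u) rfl
  have hq : qu.toHom = (yon S).map iu ≫ a := FieldPt.toHom_ofPt a u
  have sqG := hae.rep.isPullback' q.toHom
  have hg2 : Etale (hae.rep.snd q.toHom).left := hae.property_snd q.toHom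
  have sqF : IsPullback (pullback.fst (hae.rep.fst' q.toHom) iu) (pullback.snd _ _)
      (hae.rep.fst' q.toHom) iu := IsPullback.of_hasPullback _ _
  have sq1 := ((sqF.map (yon S)).flip).paste_vert sqG
  have sq : IsPullback ((yon S).map (pullback.snd (hae.rep.fst' q.toHom) iu))
      ((yon S).map (pullback.fst (hae.rep.fst' q.toHom) iu ≫ hae.rep.snd q.toHom))
      qu.toHom q.toHom := by
    rw [← hq, ← Functor.map_comp] at sq1
    exact sq1
  refine ⟨_, _, _, sq, ?_⟩
  have hmono_iu : Mono iu := by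
    have : Mono iu.left := by
      change Mono (U.left.fromSpecResidueField u)
      infer_instance
    exact Over.mono_of_mono_left iu
  have hmono1 : Mono (pullback.fst (hae.rep.fst' q.toHom) iu) := inferInstance
  have hmono2 : Mono (pullback.fst (hae.rep.fst' q.toHom) iu).left := inferInstance
  obtain ⟨hd, hr⟩ := discrete_reduced_of_etale_over_field (k := q.K) (hae.rep.snd q.toHom).left
  have hoi : IsOpenImmersion (pullback.fst (hae.rep.fst' q.toHom) iu).left :=
    Groth.Agent.H53.MonoDisc.isOpenImmersion_of_mono_of_discrete_reduced _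
  rw [Over.comp_left]
  infer_instance

theorem quasiCompact_of_comp_surjective {A B C : Scheme.{u}} (f : A ⟶ B) (g : B ⟶ C)
    [Surjective f] [QuasiCompact (f ≫ g)] : QuasiCompact g := by
  constructor
  intro V hV hVc
  have h1 : IsCompact ((f ≫ g) ⁻¹' V) := QuasiCompact.isCompact_preimage (f := f ≫ g) V hV hVc
  have h2 : g ⁻¹' V = f '' ((f ≫ g) ⁻¹' V) := by
    ext b
    constructor
    · intro hb
      obtain ⟨a, rfl⟩ := f.surjective b
      exact ⟨a, by simpa using hb, rfl⟩
    · rintro ⟨a, ha, rfl⟩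
      simpa using ha
  rw [h2]
  exact h1.image f.continuous

theorem surjective_to_spec_field {k : Type u} [Field k] {Z : Scheme.{u}}
    (f : Z ⟶ Spec (CommRingCat.of k)) [Nonempty ↥Z] : Surjective f := by
  constructor
  intro x
  obtain ⟨z⟩ := ‹Nonempty ↥Z›
  have : Subsingleton (PrimeSpectrum k) := inferInstance
  exact ⟨z, Subsingleton.elim (α := PrimeSpectrum k) _ _⟩

theorem compactSpace_fieldPt_pt {X : Sp S} (q : FieldPt X) : CompactSpace ↥q.pt.left := by
  change CompactSpace ↥(Spec (CommRingCat.of q.K))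
  infer_instance

theorem points_ofPt_comp_toHom {X : Sp S} (q : FieldPt X) {W : Over S} (t : W ⟶ q.pt) (w : ↥W.left) :
    Points.ofPt ((yon S).map t ≫ q.toHom) w = Points.mk q := by
  rw [← Points.map_ofPt, Points.ofPt_eq_map_ofScheme, Groth.Agent.H52.points_map_ofScheme,
    ← Points.ofPt_eq_map_ofScheme, Points.ofPt_toHom]

/-- If `q` is a quasi-compact field point representing the same point as `Spec κ(u) ⟶ U ⟶ X`, then
the kernel pair of the latter is quasi-compact. -/
theorem compactSpace_kernelPair_of_qc {X : Sp S} {U : Over S} (a : (yon S).obj U ⟶ X)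
    (hae : RepWith @Etale a) (u : ↥U.left) (q : FieldPt X) (hq : RepWith @QuasiCompact q.toHom)
    (hx : Points.ofPt a u = Points.mk q) {W : Over S} (s t : W ⟶ (FieldPt.ofPt a u).pt)
    (sqW : IsPullback ((yon S).map s) ((yon S).map t) (FieldPt.ofPt a u).toHom
      (FieldPt.ofPt a u).toHom) : CompactSpace ↥W.left := by
  obtain ⟨Z, z1, z2, sqZ, hz2⟩ := exists_pullback_ofPt_fieldPt a hae u q
  have hz1 : QuasiCompact z1.left := hq.2 _ _ _ sqZ.flip
  have hK := compactSpace_fieldPt_pt (FieldPt.ofPt a u)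
  have hZc : CompactSpace ↥Z.left := QuasiCompact.compactSpace_of_compactSpace z1.left
  have hL : QuasiSeparatedSpace ↥q.pt.left := by
    change QuasiSeparatedSpace ↥(Spec (CommRingCat.of q.K))
    infer_instance
  have hz2qc : QuasiCompact z2.left := inferInstance
  -- ZZ
  have sqZZ : IsPullback (pullback.fst z2 z2) (pullback.snd z2 z2) z2 z2 :=
    IsPullback.of_hasPullback _ _
  have sqZZ' := sqZZ.map (Over.forget S)
  have hπ2 : QuasiCompact (pullback.snd z2 z2).left :=
    MorphismProperty.of_isPullback (P := @QuasiCompact) sqZZ' hz2qc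
  have hZZc : CompactSpace ↥(pullback z2 z2).left :=
    QuasiCompact.compactSpace_of_compactSpace (pullback.snd z2 z2).left
  -- φ : ZZ ⟶ W
  have hφw : (yon S).map (pullback.fst z2 z2 ≫ z1) ≫ (FieldPt.ofPt a u).toHom =
      (yon S).map (pullback.snd z2 z2 ≫ z1) ≫ (FieldPt.ofPt a u).toHom := by
    rw [Functor.map_comp, Functor.map_comp, Category.assoc, Category.assoc, sqZ.w,
      ← Category.assoc, ← Category.assoc, ← Functor.map_comp, ← Functor.map_comp,
      pullback.condition]
  obtain ⟨φ, hφ⟩ := (yon S).map_surjective (sqW.lift _ _ hφw)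
  have hφ1 : φ ≫ s = pullback.fst z2 z2 ≫ z1 := (yon S).map_injective (by
    rw [Functor.map_comp, hφ, sqW.lift_fst])
  have hφ2 : φ ≫ t = pullback.snd z2 z2 ≫ z1 := (yon S).map_injective (by
    rw [Functor.map_comp, hφ, sqW.lift_snd])
  -- T
  have sqT := hq.rep.isPullback' ((yon S).map t ≫ (FieldPt.ofPt a u).toHom)
  have hsurjT : Function.Surjective (hq.rep.snd ((yon S).map t ≫ (FieldPt.ofPt a u).toHom)).left := by
    intro w
    have s0 : ↥q.pt.left := IsLocalRing.closedPoint q.K
    have h' : Points.map q.toHom (Points.ofScheme q.pt s0) =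
        Points.ofPt ((yon S).map t ≫ (FieldPt.ofPt a u).toHom) w := by
      rw [points_ofPt_comp_toHom, ← Points.ofPt_eq_map_ofScheme, Points.ofPt_toHom]
      exact hx.symm
    obtain ⟨v, -, hv⟩ := Groth.Agent.Lib.Helper54.exists_pt_of_isPullback_yon sqT _ w h'
    exact ⟨v, hv⟩
  -- θ : T ⟶ ZZ
  have hθ1w : (yon S).map (hq.rep.snd ((yon S).map t ≫ (FieldPt.ofPt a u).toHom) ≫ s) ≫
      (FieldPt.ofPt a u).toHom =
      (yon S).map (hq.rep.fst' ((yon S).map t ≫ (FieldPt.ofPt a u).toHom)) ≫ q.toHom := by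
    rw [sqT.w, Functor.map_comp, Category.assoc, sqW.w]
  have hθ2w : (yon S).map (hq.rep.snd ((yon S).map t ≫ (FieldPt.ofPt a u).toHom) ≫ t) ≫
      (FieldPt.ofPt a u).toHom =
      (yon S).map (hq.rep.fst' ((yon S).map t ≫ (FieldPt.ofPt a u).toHom)) ≫ q.toHom := by
    rw [sqT.w, Functor.map_comp, Category.assoc]
  obtain ⟨θ1, hθ1⟩ := (yon S).map_surjective (sqZ.lift _ _ hθ1w)
  obtain ⟨θ2, hθ2⟩ := (yon S).map_surjective (sqZ.lift _ _ hθ2w)
  have hθ1a : θ1 ≫ z1 = hq.rep.snd ((yon S).map t ≫ (FieldPt.ofPt a u).toHom) ≫ s :=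
    (yon S).map_injective (by rw [Functor.map_comp, hθ1, sqZ.lift_fst])
  have hθ1b : θ1 ≫ z2 = hq.rep.fst' ((yon S).map t ≫ (FieldPt.ofPt a u).toHom) :=
    (yon S).map_injective (by rw [Functor.map_comp, hθ1, sqZ.lift_snd])
  have hθ2a : θ2 ≫ z1 = hq.rep.snd ((yon S).map t ≫ (FieldPt.ofPt a u).toHom) ≫ t :=
    (yon S).map_injective (by rw [Functor.map_comp, hθ2, sqZ.lift_fst])
  have hθ2b : θ2 ≫ z2 = hq.rep.fst' ((yon S).map t ≫ (FieldPt.ofPt a u).toHom) :=
    (yon S).map_injective (by rw [Functor.map_comp, hθ2, sqZ.lift_snd])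
  let θ := pullback.lift θ1 θ2 (hθ1b.trans hθ2b.symm)
  have hθφ : θ ≫ φ = hq.rep.snd ((yon S).map t ≫ (FieldPt.ofPt a u).toHom) := by
    apply (yon S).map_injective
    apply sqW.hom_ext
    · rw [← Functor.map_comp, ← Functor.map_comp, Category.assoc, hφ1, ← Category.assoc,
        pullback.lift_fst, hθ1a]
    · rw [← Functor.map_comp, ← Functor.map_comp, Category.assoc, hφ2, ← Category.assoc,
        pullback.lift_snd, hθ2a]
  have hφsurj : Function.Surjective φ.left := by
    intro w
    obtain ⟨v, hv⟩ := hsurjT w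
    refine ⟨θ.left v, ?_⟩
    rw [← hv, ← hθφ]
    rfl
  exact hφsurj.compactSpace φ.left.continuous

/-- If a field point `q` factors through `m : h_{Spec k'} ⟶ X` and `q` is quasi-compact, then so
is `m`. -/
theorem repWith_quasiCompact_of_factor {X : Sp S} (hXalg : IsAlgSpace X) (q : FieldPt X)
    (hq : RepWith @QuasiCompact q.toHom) {k' : Type u} [Field k']
    (str' : Spec (CommRingCat.of k') ⟶ S) (m : (yon S).obj (Over.mk str') ⟶ X)
    (d : q.pt ⟶ Over.mk str') (hd : (yon S).map d ≫ m = q.toHom) : RepWith @QuasiCompact m := by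
  refine ⟨hXalg.representable_from_yon m, fun A B g fst snd sq => ?_⟩
  obtain ⟨fst0, rfl⟩ := (yon S).map_surjective fst
  have sqB : IsPullback (pullback.fst fst0 d) (pullback.snd fst0 d) fst0 d :=
    IsPullback.of_hasPullback _ _
  have sq1 := ((sqB.map (yon S)).flip).paste_vert sq
  rw [hd, ← Functor.map_comp] at sq1
  have h1 : QuasiCompact (pullback.fst fst0 d ≫ snd).left := hq.2 _ _ _ sq1
  have hne : Nonempty ↥q.pt.left := ⟨IsLocalRing.closedPoint q.K⟩
  have hds : Surjective d.left := surjective_to_spec_field (k := k') d.left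
  have h2 : Surjective (pullback.fst fst0 d).left :=
    MorphismProperty.of_isPullback (P := @Surjective) (sqB.map (Over.forget S)).flip hds
  rw [Over.comp_left] at h1
  exact quasiCompact_of_comp_surjective (pullback.fst fst0 d).left snd.left

/-- S10361. -/
theorem exists_mono_qc_of_qc {X : Sp S} (hXalg : IsAlgSpace X) (q : FieldPt X)
    (hq : RepWith @QuasiCompact q.toHom) :
    ∃ p : FieldPt X, Points.mk p = Points.mk q ∧ Mono p.toHom ∧
      RepWith @QuasiCompact p.toHom := by
  obtain ⟨U, a, hae, has⟩ := hXalg.atlas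
  obtain ⟨w, hw⟩ := Groth.Agent.H52.surjective_points_of_repWith_surjective a has (Points.mk q)
  obtain ⟨u, hu⟩ := Groth.Agent.Lib.Helper54.exists_ofScheme_eq U w
  have hx : Points.ofPt a u = Points.mk q := by rw [Points.ofPt_eq_map_ofScheme, hu, hw]
  obtain ⟨W, s, t, sqW, hset⟩ := exists_kernelPair_ofPt a hae u
  have hcW := compactSpace_kernelPair_of_qc a hae u q hq hx s t sqW
  have hfin : IsFinite s.left := isFinite_of_etale_of_compact (k := (FieldPt.ofPt a u).K) s.left
  obtain ⟨k', fk', str', c, m, -, hmono, hm⟩ :=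
    exists_mono_of_kernelPair (FieldPt.ofPt a u).str s t _ sqW
  -- factor `q` through `m`
  obtain ⟨Z, z1, z2, sqZ, hz2⟩ := exists_pullback_ofPt_fieldPt a hae u q
  have hZne : Nonempty ↥Z.left := by
    have s0 : ↥q.pt.left := IsLocalRing.closedPoint q.K
    have s1 : ↥(FieldPt.ofPt a u).pt.left := IsLocalRing.closedPoint (FieldPt.ofPt a u).K
    have h' : Points.map q.toHom (Points.ofScheme q.pt s0) =
        Points.ofPt (FieldPt.ofPt a u).toHom s1 := by
      rw [← Points.ofPt_eq_map_ofScheme, Points.ofPt_toHom, Points.ofPt_toHom]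
      exact hx.symm
    obtain ⟨v, -, -⟩ := Groth.Agent.Lib.Helper54.exists_pt_of_isPullback_yon sqZ.flip _ s1 h'
    exact ⟨v⟩
  have hz2s : Surjective z2.left := surjective_to_spec_field (k := q.K) z2.left
  have hepi : Epi ((yon S).map z2) := Groth.Agent.H52.epi_yon_map_of_fppf z2
  have sqZZ := (IsPullback.of_hasPullback z2 z2).map (yon S)
  have hcoeq : (yon S).map (pullback.fst z2 z2) ≫ (yon S).map (z1 ≫ c) =
      (yon S).map (pullback.snd z2 z2) ≫ (yon S).map (z1 ≫ c) := by
    rw [← cancel_mono m]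
    simp only [Functor.map_comp, Category.assoc]
    rw [hm, sqZ.w, ← Category.assoc, ← Category.assoc, ← Functor.map_comp, ← Functor.map_comp,
      pullback.condition]
  obtain ⟨d', hd'⟩ := Groth.Agent.H53.HomAff.exists_desc_of_epi ((yon S).map z2) _ _ sqZZ
    ((yon S).map (z1 ≫ c)) hcoeq
  have hqd : d' ≫ m = q.toHom := by
    rw [← cancel_epi ((yon S).map z2), ← Category.assoc, hd', Functor.map_comp, Category.assoc, hm,
      sqZ.w]
  obtain ⟨d, rfl⟩ := (yon S).map_surjective d'
  refine ⟨fieldPtOfHom str' m, ?_, ?_, ?_⟩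
  · rw [← hx]
    exact points_mk_eq_of_factor _ (FieldPt.ofPt a u) c (by rw [fieldPtOfHom_toHom]; exact hm)
  · rw [fieldPtOfHom_toHom]; exact hmono
  · rw [fieldPtOfHom_toHom]
    exact repWith_quasiCompact_of_factor hXalg q hq str' m d hqd

end Groth.Agent.H53.FieldQuot
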