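import Groth.Agent.H53.FieldQuotAlg2
import Groth.Agent.H53.HomAff
import Groth.Agent.H52.Epi
import Groth.Agent.Lib.Helper51.QuotSpEff

set_option autoImplicit false
set_option backward.isDefEq.respectTransparency false
universe u
open CategoryTheory CategoryTheory.Limits AlgebraicGeometry Opposite TensorProduct
open AlgSp

namespace Groth.Agent.H53.FieldQuot

variable {S : Scheme.{u}} {k : Type u} [Field k] (str : Spec (CommRingCat.of k) ⟶ S)
  {A : Type u} [CommRing A] (σ τ : k →+* A)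

/-- left inclusion `A → A ⊗_{τ,k,σ} A`. -/
noncomputable def inclL : A →+* Via τ ⊗[k] Via σ :=
  (Algebra.TensorProduct.includeLeftRingHom).comp (Via.mk τ : A →+* Via τ)

/-- right inclusion `A → A ⊗_{τ,k,σ} A`. -/
noncomputable def inclR : A →+* Via τ ⊗[k] Via σ :=
  (Algebra.TensorProduct.includeRight (R := k) (A := Via τ) (B := Via σ)).toRingHom.comp
    (Via.mk σ : A →+* Via σ)

theorem inclL_apply (a : A) : inclL σ τ a = Via.mk τ a ⊗ₜ[k] (1 : Via σ) := rfl
theorem inclR_apply (a : A) : inclR σ τ a = (1 : Via τ) ⊗ₜ[k] Via.mk σ a := rfl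

theorem inclL_comp_eq : (inclL σ τ).comp τ = (inclR σ τ).comp σ := by
  ext x
  change Via.mk τ (τ x) ⊗ₜ[k] (1 : Via σ) = (1 : Via τ) ⊗ₜ[k] Via.mk σ (σ x)
  rw [← via_algebraMap, ← via_algebraMap, Algebra.algebraMap_eq_smul_one,
    Algebra.algebraMap_eq_smul_one, TensorProduct.smul_tmul]

section SpecForm

variable (hστ : Spec.map (CommRingCat.ofHom σ) ≫ str = Spec.map (CommRingCat.ofHom τ) ≫ str)

/-- `Spec A` over `S`. -/
noncomputable abbrev WW : Over S := Over.mk (Spec.map (CommRingCat.ofHom σ) ≫ str)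

noncomputable abbrev sS : WW str σ ⟶ Over.mk str := Over.homMk (Spec.map (CommRingCat.ofHom σ)) rfl

noncomputable abbrev tS : WW str σ ⟶ Over.mk str := Over.homMk (Spec.map (CommRingCat.ofHom τ)) hστ.symm

variable {X : Sp S} (q : (yon S).obj (Over.mk str) ⟶ X)
  (sq : IsPullback ((yon S).map (sS str σ)) ((yon S).map (tS str σ τ hστ)) q q)

include sq in
theorem nontrivial_of_kernelPair : Nontrivial A := by
  obtain ⟨d, hd⟩ := (yon S).map_surjective (sq.lift (𝟙 _) (𝟙 _) rfl)
  have h1 : d ≫ sS str σ = 𝟙 _ := (yon S).map_injective (by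
    rw [Functor.map_comp, hd, sq.lift_fst, CategoryTheory.Functor.map_id])
  have h2 : d.left ≫ Spec.map (CommRingCat.ofHom σ) = 𝟙 _ := congrArg CommaMorphism.left h1
  obtain ⟨δ, hδ⟩ := Spec.map_surjective d.left
  exact RingHom.domain_nontrivial δ.hom

include sq in
theorem hmono_of_kernelPair (B : CommRingCat.{u}) (g1 g2 : CommRingCat.of A ⟶ B)
    (h1 : CommRingCat.ofHom σ ≫ g1 = CommRingCat.ofHom σ ≫ g2)
    (h2 : CommRingCat.ofHom τ ≫ g1 = CommRingCat.ofHom τ ≫ g2) : g1 = g2 := by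
  let T : Over S := Over.mk (Spec.map g1 ≫ (WW str σ).hom)
  let a1 : T ⟶ WW str σ := Over.homMk (Spec.map g1) rfl
  let a2 : T ⟶ WW str σ := Over.homMk (Spec.map g2) (by
    change Spec.map g2 ≫ Spec.map (CommRingCat.ofHom σ) ≫ str =
      Spec.map g1 ≫ Spec.map (CommRingCat.ofHom σ) ≫ str
    rw [← Category.assoc, ← Category.assoc, ← Spec.map_comp, ← Spec.map_comp, h1])
  have e1 : a1 ≫ sS str σ = a2 ≫ sS str σ := by
    ext
    change Spec.map g1 ≫ Spec.map (CommRingCat.ofHom σ) = Spec.map g2 ≫ Spec.map (CommRingCat.ofHom σ)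
    rw [← Spec.map_comp, ← Spec.map_comp, h1]
  have e2 : a1 ≫ tS str σ τ hστ = a2 ≫ tS str σ τ hστ := by
    ext
    change Spec.map g1 ≫ Spec.map (CommRingCat.ofHom τ) = Spec.map g2 ≫ Spec.map (CommRingCat.ofHom τ)
    rw [← Spec.map_comp, ← Spec.map_comp, h2]
  have e3 : (yon S).map a1 = (yon S).map a2 := by
    apply sq.hom_ext
    · rw [← Functor.map_comp, ← Functor.map_comp, e1]
    · rw [← Functor.map_comp, ← Functor.map_comp, e2]
  have e4 : a1 = a2 := (yon S).map_injective e3
  have e5 : Spec.map g1 = Spec.map g2 := congrArg CommaMorphism.left e4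
  exact Spec.map_injective e5

include sq in
theorem exists_comp : ∃ c : A →+* Via τ ⊗[k] Via σ,
    (∀ x, c (σ x) = Via.mk τ (σ x) ⊗ₜ[k] (1 : Via σ)) ∧
    (∀ y, c (τ y) = (1 : Via τ) ⊗ₜ[k] Via.mk σ (τ y)) := by
  let P : Over S := Over.mk (Spec.map (CommRingCat.ofHom (inclL σ τ)) ≫ (WW str σ).hom)
  let f1 : P ⟶ WW str σ := Over.homMk (Spec.map (CommRingCat.ofHom (inclL σ τ))) rfl
  have hcond : Spec.map (CommRingCat.ofHom (inclL σ τ)) ≫ Spec.map (CommRingCat.ofHom τ) =
      Spec.map (CommRingCat.ofHom (inclR σ τ)) ≫ Spec.map (CommRingCat.ofHom σ) := by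
    rw [← Spec.map_comp, ← Spec.map_comp, ← CommRingCat.ofHom_comp, ← CommRingCat.ofHom_comp,
      inclL_comp_eq]
  let f2 : P ⟶ WW str σ := Over.homMk (Spec.map (CommRingCat.ofHom (inclR σ τ))) (by
    change Spec.map (CommRingCat.ofHom (inclR σ τ)) ≫ Spec.map (CommRingCat.ofHom σ) ≫ str =
      Spec.map (CommRingCat.ofHom (inclL σ τ)) ≫ Spec.map (CommRingCat.ofHom σ) ≫ str
    rw [← Category.assoc, ← hcond, Category.assoc, ← hστ])
  have h12 : f1 ≫ tS str σ τ hστ = f2 ≫ sS str σ := by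
    ext
    exact hcond
  have hw : (yon S).map (f1 ≫ sS str σ) ≫ q = (yon S).map (f2 ≫ tS str σ τ hστ) ≫ q := by
    calc (yon S).map (f1 ≫ sS str σ) ≫ q
        = (yon S).map f1 ≫ (yon S).map (sS str σ) ≫ q := by rw [Functor.map_comp, Category.assoc]
      _ = (yon S).map f1 ≫ (yon S).map (tS str σ τ hστ) ≫ q := by rw [sq.w]
      _ = (yon S).map (f1 ≫ tS str σ τ hστ) ≫ q := by rw [Functor.map_comp, Category.assoc]
      _ = (yon S).map (f2 ≫ sS str σ) ≫ q := by rw [h12]
      _ = (yon S).map f2 ≫ (yon S).map (sS str σ) ≫ q := by rw [Functor.map_comp, Category.assoc]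
      _ = (yon S).map f2 ≫ (yon S).map (tS str σ τ hστ) ≫ q := by rw [sq.w]
      _ = (yon S).map (f2 ≫ tS str σ τ hστ) ≫ q := by rw [Functor.map_comp, Category.assoc]
  obtain ⟨comp, hcomp⟩ := (yon S).map_surjective (sq.lift _ _ hw)
  have hc1 : comp ≫ sS str σ = f1 ≫ sS str σ := (yon S).map_injective (by
    rw [Functor.map_comp, hcomp, sq.lift_fst])
  have hc2 : comp ≫ tS str σ τ hστ = f2 ≫ tS str σ τ hστ := (yon S).map_injective (by
    rw [Functor.map_comp, hcomp, sq.lift_snd])
  obtain ⟨c, hc⟩ := Spec.map_surjective comp.left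
  have hc1' : CommRingCat.ofHom σ ≫ c = CommRingCat.ofHom σ ≫ CommRingCat.ofHom (inclL σ τ) := by
    apply Spec.map_injective
    rw [Spec.map_comp, Spec.map_comp, hc]
    exact congrArg CommaMorphism.left hc1
  have hc2' : CommRingCat.ofHom τ ≫ c = CommRingCat.ofHom τ ≫ CommRingCat.ofHom (inclR σ τ) := by
    apply Spec.map_injective
    rw [Spec.map_comp, Spec.map_comp, hc]
    exact congrArg CommaMorphism.left hc2
  refine ⟨c.hom, fun x => ?_, fun y => ?_⟩
  · have := congrArg (fun f => f.hom x) hc1'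
    exact this
  · have := congrArg (fun f => f.hom y) hc2'
    exact this

include hστ in
theorem exists_str_eqField : ∃ str' : Spec (CommRingCat.of (eqField σ τ)) ⟶ S,
    Spec.map (CommRingCat.ofHom (algebraMap (eqField σ τ) k)) ≫ str' = str := by
  let xρ := Scheme.SpecToEquivOfField k S str
  have hstr : str = Spec.map xρ.2 ≫ S.fromSpecResidueField xρ.1 :=
    ((Scheme.SpecToEquivOfField k S).symm_apply_apply str).symm
  have hρ : xρ.2 ≫ CommRingCat.ofHom σ = xρ.2 ≫ CommRingCat.ofHom τ := by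
    apply Spec.map_injective
    rw [Spec.map_comp, Spec.map_comp, ← cancel_mono (S.fromSpecResidueField xρ.1),
      Category.assoc, Category.assoc, ← hstr]
    exact hστ
  let ρ' : S.residueField xρ.1 ⟶ CommRingCat.of (eqField σ τ) :=
    CommRingCat.ofHom (RingHom.codRestrict xρ.2.hom (eqField σ τ) (fun y => by
      rw [mem_eqField]
      exact congrArg (fun f => f.hom y) hρ))
  refine ⟨Spec.map ρ' ≫ S.fromSpecResidueField xρ.1, ?_⟩
  rw [← Category.assoc, ← Spec.map_comp]
  conv_rhs => rw [hstr]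
  congr 2

include sq in
theorem specForm (hfin : σ.Finite) :
    ∃ (k' : Type u) (_ : Field k') (str' : Spec (CommRingCat.of k') ⟶ S)
      (c : Over.mk str ⟶ Over.mk str'),
      IsFinite c.left ∧ Flat c.left ∧ Surjective c.left ∧ LocallyOfFinitePresentation c.left ∧
      IsPullback ((yon S).map (sS str σ)) ((yon S).map (tS str σ τ hστ))
        ((yon S).map c) ((yon S).map c) := by
  have := nontrivial_of_kernelPair str σ τ hστ q sq
  obtain ⟨c, hcs, hct⟩ := exists_comp str σ τ hστ q sq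
  obtain ⟨hfd, hpo⟩ := isPushout_eqField σ τ hfin c hcs hct (hmono_of_kernelPair str σ τ hστ q sq)
  obtain ⟨str', hstr'⟩ := exists_str_eqField str σ τ hστ
  let cc : Over.mk str ⟶ Over.mk str' :=
    Over.homMk (Spec.map (CommRingCat.ofHom (algebraMap (eqField σ τ) k))) hstr'
  have hpb := isPullback_SpecMap_of_isPushout _ _ _ _ hpo
  have hpbO : IsPullback (sS str σ) (tS str σ τ hστ) cc cc := by
    refine IsPullback.of_map (Over.forget S) ?_ hpb
    ext
    exact hpb.w
  refine ⟨eqField σ τ, inferInstance, str', cc, ?_, ?_, ?_, ?_, hpbO.map (yon S)⟩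
  · change IsFinite (Spec.map _)
    rw [IsFinite.SpecMap_iff]
    exact RingHom.finite_algebraMap.2 hfd
  · change Flat (Spec.map _)
    rw [Flat.SpecMap_iff]
    exact RingHom.flat_algebraMap_iff.2 inferInstance
  · change Surjective (Spec.map _)
    constructor
    intro x
    have : Subsingleton (PrimeSpectrum (eqField σ τ)) := inferInstance
    exact ⟨default, Subsingleton.elim (α := PrimeSpectrum (eqField σ τ)) _ _⟩
  · change LocallyOfFinitePresentation (Spec.map _)
    rw [LocallyOfFinitePresentation.SpecMap_iff]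
    have h1 : Algebra.FiniteType (eqField σ τ) k := inferInstance
    exact RingHom.finitePresentation_algebraMap.2 (Algebra.FinitePresentation.of_finiteType.1 h1)

end SpecForm

end Groth.Agent.H53.FieldQuot
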