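import Groth.Agent.H53.FieldQuotSch

set_option autoImplicit false
set_option backward.isDefEq.respectTransparency false
universe u
open CategoryTheory CategoryTheory.Limits AlgebraicGeometry Opposite TensorProduct
open AlgSp

namespace Groth.Agent.H53.FieldQuot

variable {S : Scheme.{u}} {k : Type u} [Field k] (str : Spec (CommRingCat.of k) ⟶ S)

/-- Quotient of `Spec k` by a finite equivalence relation given as a kernel pair: general `W`. -/
theorem exists_fppf_kernelPair {W : Over S} (s t : W ⟶ Over.mk str) [IsFinite s.left]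
    {X : Sp S} (q : (yon S).obj (Over.mk str) ⟶ X)
    (sq : IsPullback ((yon S).map s) ((yon S).map t) q q) :
    ∃ (k' : Type u) (_ : Field k') (str' : Spec (CommRingCat.of k') ⟶ S)
      (c : Over.mk str ⟶ Over.mk str'),
      IsFinite c.left ∧ Flat c.left ∧ Surjective c.left ∧ LocallyOfFinitePresentation c.left ∧
      IsPullback ((yon S).map s) ((yon S).map t) ((yon S).map c) ((yon S).map c) := by
  have hsaff : IsAffineHom s.left := inferInstance
  have hK : IsAffine (Over.mk str).left := by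
    change IsAffine (Spec (CommRingCat.of k))
    infer_instance
  have haff : IsAffine W.left := isAffine_of_isAffineHom s.left
  let e : W.left ≅ Spec Γ(W.left, ⊤) := W.left.isoSpec
  obtain ⟨σc, hσc⟩ := Spec.map_surjective (e.inv ≫ s.left)
  obtain ⟨τc, hτc⟩ := Spec.map_surjective (e.inv ≫ t.left)
  have hσ' : Spec.map (CommRingCat.ofHom σc.hom) = e.inv ≫ s.left := hσc
  have hτ' : Spec.map (CommRingCat.ofHom τc.hom) = e.inv ≫ t.left := hτc
  have hστ : Spec.map (CommRingCat.ofHom σc.hom) ≫ str = Spec.map (CommRingCat.ofHom τc.hom) ≫ str := by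
    rw [hσ', hτ', Category.assoc, Category.assoc]
    have h1 : s.left ≫ str = W.hom := Over.w s
    have h2 : t.left ≫ str = W.hom := Over.w t
    rw [h1, h2]
  let eO : W ≅ WW str σc.hom := Over.isoMk e (by
    change e.hom ≫ Spec.map (CommRingCat.ofHom σc.hom) ≫ str = W.hom
    rw [hσ', ← Category.assoc, ← Category.assoc, e.hom_inv_id, Category.id_comp]
    exact Over.w s)
  have hs : eO.hom ≫ sS str σc.hom = s := by
    ext
    change e.hom ≫ Spec.map (CommRingCat.ofHom σc.hom) = s.left
    rw [hσ', ← Category.assoc, e.hom_inv_id, Category.id_comp]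
  have ht : eO.hom ≫ tS str σc.hom τc.hom hστ = t := by
    ext
    change e.hom ≫ Spec.map (CommRingCat.ofHom τc.hom) = t.left
    rw [hτ', ← Category.assoc, e.hom_inv_id, Category.id_comp]
  have sq' : IsPullback ((yon S).map (sS str σc.hom)) ((yon S).map (tS str σc.hom τc.hom hστ)) q q := by
    refine IsPullback.of_iso sq ((yon S).mapIso eO) (Iso.refl _) (Iso.refl _) (Iso.refl _) ?_ ?_ ?_ ?_
    · rw [Iso.refl_hom, Category.comp_id, Functor.mapIso_hom, ← Functor.map_comp, hs]
    · rw [Iso.refl_hom, Category.comp_id, Functor.mapIso_hom, ← Functor.map_comp, ht]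
    · simp
    · simp
  have hfin : σc.hom.Finite := by
    have h1 : IsFinite (Spec.map (CommRingCat.ofHom σc.hom)) := by rw [hσ']; infer_instance
    exact (IsFinite.SpecMap_iff _).1 h1
  obtain ⟨k', fk', str', c, h1, h2, h3, h4, hpb⟩ := specForm str σc.hom τc.hom hστ q sq' hfin
  refine ⟨k', fk', str', c, h1, h2, h3, h4, ?_⟩
  refine IsPullback.of_iso hpb ((yon S).mapIso eO.symm) (Iso.refl _) (Iso.refl _) (Iso.refl _) ?_ ?_ ?_ ?_
  · rw [Iso.refl_hom, Category.comp_id, Functor.mapIso_hom, ← Functor.map_comp, ← hs]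
    simp
  · rw [Iso.refl_hom, Category.comp_id, Functor.mapIso_hom, ← Functor.map_comp, ← ht]
    simp
  · simp
  · simp

/-- If two morphisms out of `A` have the same kernel pair and the first is an epimorphism, the
induced morphism is a monomorphism. -/
theorem mono_of_same_kernelPair {A R B X : Sp S} (e : A ⟶ B) [Epi e] (q : A ⟶ X) (s t : R ⟶ A)
    (he : IsPullback s t e e) (hq : IsPullback s t q q) (m : B ⟶ X) (hm : e ≫ m = q) : Mono m := by
  apply Groth.Agent.Lib.Helper51.mono_of_forall_yon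
  intro T x y hxy
  obtain ⟨Sv, hSv, hlift⟩ := Groth.Agent.Lib.Helper51.exists_cover_lift_of_epi e x
  refine Groth.Agent.Lib.Helper51.yon_hom_ext_of_cover x y Sv hSv fun Y f hf => ?_
  obtain ⟨a, ha⟩ := hlift f hf
  obtain ⟨Sv', hSv', hlift'⟩ := Groth.Agent.Lib.Helper51.exists_cover_lift_of_epi e ((yon S).map f ≫ y)
  refine Groth.Agent.Lib.Helper51.yon_hom_ext_of_cover _ _ Sv' hSv' fun Z g hg => ?_
  obtain ⟨b, hb⟩ := hlift' g hg
  have hw : ((yon S).map g ≫ a) ≫ q = b ≫ q := by
    rw [← hm, Category.assoc, ← Category.assoc a, ha, ← Category.assoc b, hb]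
    simp only [Category.assoc]
    rw [hxy]
  have h1 := hq.lift_fst _ _ hw
  have h2 := hq.lift_snd _ _ hw
  calc (yon S).map g ≫ (yon S).map f ≫ x = ((yon S).map g ≫ a) ≫ e := by
        rw [Category.assoc, ha]
    _ = (hq.lift _ _ hw ≫ s) ≫ e := by rw [h1]
    _ = (hq.lift _ _ hw ≫ t) ≫ e := by rw [Category.assoc, he.w, ← Category.assoc]
    _ = b ≫ e := by rw [h2]
    _ = (yon S).map g ≫ (yon S).map f ≫ y := hb

theorem exists_mono_of_kernelPair {W : Over S} (s t : W ⟶ Over.mk str) [IsFinite s.left]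
    {X : Sp S} (q : (yon S).obj (Over.mk str) ⟶ X)
    (sq : IsPullback ((yon S).map s) ((yon S).map t) q q) :
    ∃ (k' : Type u) (_ : Field k') (str' : Spec (CommRingCat.of k') ⟶ S)
      (c : Over.mk str ⟶ Over.mk str') (m : (yon S).obj (Over.mk str') ⟶ X),
      IsFinite c.left ∧ Mono m ∧ (yon S).map c ≫ m = q := by
  obtain ⟨k', fk', str', c, h1, h2, h3, h4, hpb⟩ := exists_fppf_kernelPair str s t q sq
  have hepi : Epi ((yon S).map c) := Groth.Agent.H52.epi_yon_map_of_fppf c
  obtain ⟨m, hm⟩ := Groth.Agent.H53.HomAff.exists_desc_of_epi ((yon S).map c) _ _ hpb q sq.w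
  exact ⟨k', fk', str', c, m, h1, mono_of_same_kernelPair _ q _ _ hpb sq m hm, hm⟩

theorem exists_iso_of_kernelPair_of_epi {W : Over S} (s t : W ⟶ Over.mk str) [IsFinite s.left]
    {X : Sp S} (q : (yon S).obj (Over.mk str) ⟶ X) [Epi q]
    (sq : IsPullback ((yon S).map s) ((yon S).map t) q q) :
    ∃ (k' : Type u) (_ : Field k') (str' : Spec (CommRingCat.of k') ⟶ S)
      (c : Over.mk str ⟶ Over.mk str') (e : (yon S).obj (Over.mk str') ≅ X),
      IsFinite c.left ∧ (yon S).map c ≫ e.hom = q := by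
  obtain ⟨k', fk', str', c, m, h1, hmono, hm⟩ := exists_mono_of_kernelPair str s t q sq
  have hepi : Epi m := by
    have : Epi ((yon S).map c ≫ m) := by rw [hm]; infer_instance
    exact epi_of_epi ((yon S).map c) m
  have hiso : IsIso m := Groth.Agent.Lib.Helper51.isIso_of_mono_of_epi_sp m
  exact ⟨k', fk', str', c, asIso m, h1, hm⟩

end Groth.Agent.H53.FieldQuot
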