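import Groth.Agent.Lib.Helper71.FppfDescent
import Mathlib.AlgebraicGeometry.Morphisms.UniversallyOpen
import Mathlib.AlgebraicGeometry.Morphisms.FinitePresentation
import Mathlib.AlgebraicGeometry.Morphisms.Flat

set_option autoImplicit false
set_option backward.isDefEq.respectTransparency false
universe u
open CategoryTheory CategoryTheory.Limits AlgebraicGeometry Opposite Topology

namespace Groth.Agent.H53.FppfSource

/-! ### Ring level -/

theorem finiteType_of_comp {R A B : Type u} [CommRing R] [CommRing A] [CommRing B] (f : R →+* A)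
    (g : A →+* B) (hg : g.Flat) (hgfp : g.FinitePresentation)
    (hgs : Function.Surjective (PrimeSpectrum.comap g)) (h : (g.comp f).FiniteType) :
    f.FiniteType := by
  letI := f.toAlgebra
  letI := g.toAlgebra
  letI := (g.comp f).toAlgebra
  have : IsScalarTower R A B := IsScalarTower.of_algebraMap_eq (fun _ => rfl)
  have : Module.Flat A B := hg
  have : Module.FaithfullyFlat A B := Module.FaithfullyFlat.of_comap_surjective hgs
  have : Algebra.FinitePresentation A B := hgfp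
  have : Algebra.FiniteType R B := h
  exact Lib.Helper71.FppfDescent.finiteType_of_faithfullyFlat (R := R) (A := A) (B := B)

theorem finitePresentation_of_comp {R A B : Type u} [CommRing R] [CommRing A] [CommRing B]
    (f : R →+* A) (g : A →+* B) (hg : g.Flat) (hgfp : g.FinitePresentation)
    (hgs : Function.Surjective (PrimeSpectrum.comap g)) (h : (g.comp f).FinitePresentation) :
    f.FinitePresentation := by
  letI := f.toAlgebra
  letI := g.toAlgebra
  letI := (g.comp f).toAlgebra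
  have : IsScalarTower R A B := IsScalarTower.of_algebraMap_eq (fun _ => rfl)
  have : Module.Flat A B := hg
  have : Module.FaithfullyFlat A B := Module.FaithfullyFlat.of_comap_surjective hgs
  have : Algebra.FinitePresentation A B := hgfp
  have : Algebra.FinitePresentation R B := h
  exact Lib.Helper71.FppfDescent.finitePresentation_of_faithfullyFlat (R := R) (A := A) (B := B)

/-! ### Scheme level -/

/-- Descent of a ring-hom property along a jointly surjective family of flat morphisms locally of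
finite presentation on the source. -/
theorem of_fppf_family {P : MorphismProperty Scheme.{u}}
    {Q : ∀ {R S : Type u} [CommRing R] [CommRing S], (R →+* S) → Prop} [HasRingHomProperty P Q]
    (hQs : RingHom.StableUnderCompositionWithLocalizationAwaySource Q)
    (hdesc : ∀ {R A B : Type u} [CommRing R] [CommRing A] [CommRing B] (f : R →+* A)
      (g : A →+* B), g.Flat → g.FinitePresentation →
      Function.Surjective (PrimeSpectrum.comap g) → Q (g.comp f) → Q f)
    {ι : Type*} {U V : Scheme.{u}} (Ui : ι → Scheme.{u}) (k : ∀ i, Ui i ⟶ U) (h : U ⟶ V)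
    (hk : ∀ i, Flat (k i) ∧ LocallyOfFinitePresentation (k i))
    (hsurj : ∀ u : ↥U, ∃ i, u ∈ Set.range (k i)) (hkh : ∀ i, P (k i ≫ h)) : P h := by
  rw [HasRingHomProperty.iff_exists_appLE (P := P) hQs]
  intro u
  obtain ⟨i, x, rfl⟩ := hsurj u
  have hfl : Flat (k i) := (hk i).1
  have hfp : LocallyOfFinitePresentation (k i) := (hk i).2
  obtain ⟨_, ⟨V₀ : V.Opens, hV₀, rfl⟩, hxV₀, -⟩ :=
    V.isBasis_affineOpens.exists_subset_of_mem_open (Set.mem_univ (h (k i x))) isOpen_univ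
  obtain ⟨_, ⟨U₀ : U.Opens, hU₀, rfl⟩, hxU₀, hU₀V₀⟩ :=
    U.isBasis_affineOpens.exists_subset_of_mem_open
      (show k i x ∈ ((h ⁻¹ᵁ V₀ : U.Opens) : Set U) from hxV₀) (h ⁻¹ᵁ V₀).2
  obtain ⟨_, ⟨W₀ : (Ui i).Opens, hW₀, rfl⟩, hxW₀, hW₀U₀⟩ :=
    (Ui i).isBasis_affineOpens.exists_subset_of_mem_open
      (show x ∈ ((k i ⁻¹ᵁ U₀ : (Ui i).Opens) : Set (Ui i)) from hxU₀) (k i ⁻¹ᵁ U₀).2
  -- the image of `W₀` is open
  have himg : IsOpen (k i '' (W₀ : Set (Ui i))) := (k i).isOpenMap _ W₀.2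
  let Oimg : U.Opens := ⟨k i '' (W₀ : Set (Ui i)), himg⟩
  obtain ⟨a, haO, hxa⟩ := hU₀.exists_basicOpen_le (V := Oimg) ⟨k i x, ⟨x, hxW₀, rfl⟩⟩ hxU₀
  -- the affine opens
  have hO : IsAffineOpen (U.basicOpen a) := hU₀.basicOpen a
  let φ := (k i).appLE U₀ W₀ hW₀U₀
  have hW : IsAffineOpen ((Ui i).basicOpen (φ a)) := hW₀.basicOpen _
  have hWeq : (Ui i).basicOpen (φ a) = W₀ ⊓ k i ⁻¹ᵁ (U.basicOpen a) :=
    Scheme.basicOpen_appLE (k i) W₀ U₀ hW₀U₀ a
  have hWO : (Ui i).basicOpen (φ a) ≤ k i ⁻¹ᵁ (U.basicOpen a) := by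
    rw [hWeq]; exact inf_le_right
  have hOV : U.basicOpen a ≤ h ⁻¹ᵁ V₀ := (U.basicOpen_le a).trans hU₀V₀
  refine ⟨⟨V₀, hV₀⟩, ⟨U.basicOpen a, hO⟩, hxa, hOV, ?_⟩
  have hcomp : (h.appLE V₀ (U.basicOpen a) hOV) ≫ ((k i).appLE (U.basicOpen a) _ hWO) =
      (k i ≫ h).appLE V₀ ((Ui i).basicOpen (φ a)) _ := Scheme.Hom.appLE_comp_appLE _ _ _ _ _ _ _
  refine hdesc (h.appLE V₀ (U.basicOpen a) hOV).hom ((k i).appLE (U.basicOpen a) _ hWO).hom
    ?_ ?_ ?_ ?_
  · exact HasRingHomProperty.appLE @Flat (k i) hfl ⟨_, hO⟩ ⟨_, hW⟩ hWO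
  · exact HasRingHomProperty.appLE @LocallyOfFinitePresentation (k i) hfp ⟨_, hO⟩ ⟨_, hW⟩ hWO
  · intro p
    obtain ⟨y, rfl⟩ : ∃ y : U.basicOpen a, hO.primeIdealOf y = p :=
      (hO.isoSpec.hom.homeomorph.surjective p)
    obtain ⟨x', hx'W₀, hx'y⟩ := haO y.2
    have hx'W : x' ∈ (Ui i).basicOpen (φ a) := by
      rw [hWeq]
      refine ⟨hx'W₀, ?_⟩
      change k i x' ∈ U.basicOpen a
      rw [hx'y]; exact y.2
    refine ⟨hW.primeIdealOf ⟨x', hx'W⟩, ?_⟩
    have := IsAffineOpen.comap_primeIdealOf_appLE (f := k i) (x := x') (U.basicOpen a) hO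
      ((Ui i).basicOpen (φ a)) hW hWO hx'W
    rw [this]
    congr 1
    exact Subtype.ext hx'y
  · rw [← CommRingCat.hom_comp, hcomp]
    exact HasRingHomProperty.appLE P (k i ≫ h) (hkh i) ⟨_, hV₀⟩ ⟨_, hW⟩ _

theorem lft_of_fppf_family {ι : Type*} {U V : Scheme.{u}} (Ui : ι → Scheme.{u})
    (k : ∀ i, Ui i ⟶ U) (h : U ⟶ V)
    (hk : ∀ i, Flat (k i) ∧ LocallyOfFinitePresentation (k i))
    (hsurj : ∀ u : ↥U, ∃ i, u ∈ Set.range (k i)) (hkh : ∀ i, LocallyOfFiniteType (k i ≫ h)) :
    LocallyOfFiniteType h :=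
  of_fppf_family (P := @LocallyOfFiniteType)
    (RingHom.finiteType_stableUnderComposition.stableUnderCompositionWithLocalizationAway
      RingHom.finiteType_holdsForLocalizationAway).left
    (fun f g hg hgfp hgs hc => finiteType_of_comp f g hg hgfp hgs hc) Ui k h hk hsurj hkh

theorem lfp_of_fppf_family {ι : Type*} {U V : Scheme.{u}} (Ui : ι → Scheme.{u})
    (k : ∀ i, Ui i ⟶ U) (h : U ⟶ V)
    (hk : ∀ i, Flat (k i) ∧ LocallyOfFinitePresentation (k i))
    (hsurj : ∀ u : ↥U, ∃ i, u ∈ Set.range (k i))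
    (hkh : ∀ i, LocallyOfFinitePresentation (k i ≫ h)) :
    LocallyOfFinitePresentation h :=
  of_fppf_family (P := @LocallyOfFinitePresentation)
    (RingHom.finitePresentation_stableUnderComposition.stableUnderCompositionWithLocalizationAway
      RingHom.finitePresentation_holdsForLocalizationAway).left
    (fun f g hg hgfp hgs hc => finitePresentation_of_comp f g hg hgfp hgs hc) Ui k h hk hsurj hkh

end Groth.Agent.H53.FppfSource
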