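import Groth.Agent.H53.FppfSource
import Groth.Agent.Lib.Helper54.SourceLocal2
import Groth.Agent.Lib.Helper54.EtLocalBridge
import Groth.Agent.Lib.Helper54.EtLocalInst

set_option autoImplicit false
set_option backward.isDefEq.respectTransparency false
universe u
open CategoryTheory CategoryTheory.Limits AlgebraicGeometry Opposite Topology
open AlgSp

namespace Groth.Agent.H53.FppfSource

variable {S : Scheme.{u}}

/-- The scheme-level property "flat and locally of finite presentation". -/
def Fppf : MorphismProperty Scheme.{u} := fun _ _ f => Flat f ∧ LocallyOfFinitePresentation f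

theorem locP_fppf {X Y : Sp S} {g : X ⟶ Y} (h1 : LocP @Flat g)
    (h2 : LocP @LocallyOfFinitePresentation g) : LocP Fppf g :=
  fun _ _ a b h ha hb comm => ⟨h1 a b h ha hb comm, h2 a b h ha hb comm⟩

theorem isLocalOnSource_lfp :
    AlgSp.IsLocalOnSource (AlgSp.IsFppfCover (S := S)) (AlgSp.LocP @LocallyOfFinitePresentation) := by
  intro ι X Xi g hX hXi hcov Y f hY
  constructor
  · intro hf i
    obtain ⟨U, p, hpe, hps⟩ := hX.atlas
    exact Groth.Agent.Lib.Helper54.locP_comp Groth.Agent.Lib.Helper54.etLocal_lfp (g i) f p hpe hps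
      (hcov.1 i).2 hf
  · intro hf
    refine Groth.Agent.Lib.Helper54.locP_of_source_cover' (Q := Fppf)
      Groth.Agent.Lib.Helper54.etLocal_lfp ?_ hX hY hXi g
      (fun i => locP_fppf (hcov.1 i).1 (hcov.1 i).2) hcov.2 f hf
    intro ι' U V Ui k h hk hsurj hkh
    exact lfp_of_fppf_family Ui k h hk hsurj hkh

theorem isLocalOnSource_lft :
    AlgSp.IsLocalOnSource (AlgSp.IsFppfCover (S := S)) (AlgSp.LocP @LocallyOfFiniteType) := by
  intro ι X Xi g hX hXi hcov Y f hY
  constructor
  · intro hf i
    obtain ⟨U, p, hpe, hps⟩ := hX.atlas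
    have h1 : LocP @LocallyOfFiniteType (g i) :=
      Groth.Agent.Lib.Helper54.locP_mono (fun A B φ hφ => by
        have : LocallyOfFinitePresentation φ := hφ
        infer_instance) (hcov.1 i).2
    exact Groth.Agent.Lib.Helper54.locP_comp Groth.Agent.Lib.Helper54.etLocal_lft (g i) f p hpe hps
      h1 hf
  · intro hf
    refine Groth.Agent.Lib.Helper54.locP_of_source_cover' (Q := Fppf)
      Groth.Agent.Lib.Helper54.etLocal_lft ?_ hX hY hXi g
      (fun i => locP_fppf (hcov.1 i).1 (hcov.1 i).2) hcov.2 f hf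
    intro ι' U V Ui k h hk hsurj hkh
    exact lft_of_fppf_family Ui k h hk hsurj hkh

end Groth.Agent.H53.FppfSource
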