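import Groth.Agent.H53.FppfSource2
import Groth.Agent.Lib.Helper71.SmoothDescent

set_option autoImplicit false
set_option backward.isDefEq.respectTransparency false
universe u
open CategoryTheory CategoryTheory.Limits AlgebraicGeometry Opposite Topology TensorProduct
open AlgSp

namespace Groth.Agent.H53.FppfSource

/-! ### Ring level: étale -/

theorem formallyUnramified_of_comp {R A B : Type u} [CommRing R] [CommRing A] [CommRing B]
    (f : R →+* A) (g : A →+* B) (hg : g.Flat) (hgfp : g.FinitePresentation)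
    (hgs : Function.Surjective (PrimeSpectrum.comap g)) (h : (g.comp f).FormallyUnramified) :
    f.FormallyUnramified := by
  letI := f.toAlgebra
  letI := g.toAlgebra
  letI := (g.comp f).toAlgebra
  have : IsScalarTower R A B := IsScalarTower.of_algebraMap_eq (fun _ => rfl)
  have : Module.Flat A B := hg
  have : Module.FaithfullyFlat A B := Module.FaithfullyFlat.of_comap_surjective hgs
  have : Algebra.FinitePresentation A B := hgfp
  have hRB : Algebra.FormallyUnramified R B := h
  have hAB : Algebra.FormallyUnramified A B := Algebra.FormallyUnramified.of_restrictScalars R A B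
  have : Algebra.Etale A B := Algebra.Etale.of_formallyUnramified_of_flat
  have h1 : Subsingleton (B ⊗[A] Ω[A⁄R]) :=
    (KaehlerDifferential.tensorKaehlerEquivOfFormallyEtale R A B).toEquiv.subsingleton
  have h2 : Subsingleton Ω[A⁄R] := Module.FaithfullyFlat.lTensor_reflects_triviality A B _
  exact (⟨h2⟩ : Algebra.FormallyUnramified R A)

theorem etale_of_comp {R A B : Type u} [CommRing R] [CommRing A] [CommRing B]
    (f : R →+* A) (g : A →+* B) (hg : g.Flat) (hgfp : g.FinitePresentation)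
    (hgs : Function.Surjective (PrimeSpectrum.comap g)) (h : (g.comp f).Etale) :
    f.Etale := by
  rw [RingHom.Etale.eq_formallyUnramified_and_smooth] at h ⊢
  exact ⟨formallyUnramified_of_comp f g hg hgfp hgs h.1,
    Lib.Helper71.SmoothDescent.smooth_of_comp_fppf f g hg hgfp hgs h.2⟩

end Groth.Agent.H53.FppfSource

namespace Groth.Agent.H53.FppfSource

theorem smooth_of_fppf_family {ι : Type*} {U V : Scheme.{u}} (Ui : ι → Scheme.{u})
    (k : ∀ i, Ui i ⟶ U) (h : U ⟶ V)
    (hk : ∀ i, Flat (k i) ∧ LocallyOfFinitePresentation (k i))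
    (hsurj : ∀ u : ↥U, ∃ i, u ∈ Set.range (k i)) (hkh : ∀ i, Smooth (k i ≫ h)) :
    Smooth h :=
  of_fppf_family (P := @Smooth)
    (RingHom.Smooth.stableUnderComposition.stableUnderCompositionWithLocalizationAway
      RingHom.Smooth.holdsForLocalizationAway).left
    (fun f g hg hgfp hgs hc => Lib.Helper71.SmoothDescent.smooth_of_comp_fppf f g hg hgfp hgs hc)
    Ui k h hk hsurj hkh

theorem etale_holdsForLocalizationAway :
    RingHom.HoldsForLocalizationAway.{u} RingHom.Etale := by
  intro R S _ _ _ r _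
  rw [RingHom.etale_algebraMap]
  exact Algebra.Etale.of_isLocalizationAway r

theorem etale_of_fppf_family {ι : Type*} {U V : Scheme.{u}} (Ui : ι → Scheme.{u})
    (k : ∀ i, Ui i ⟶ U) (h : U ⟶ V)
    (hk : ∀ i, Flat (k i) ∧ LocallyOfFinitePresentation (k i))
    (hsurj : ∀ u : ↥U, ∃ i, u ∈ Set.range (k i)) (hkh : ∀ i, Etale (k i ≫ h)) :
    Etale h :=
  of_fppf_family (P := @Etale)
    (RingHom.Etale.stableUnderComposition.stableUnderCompositionWithLocalizationAway
      etale_holdsForLocalizationAway).left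
    (fun f g hg hgfp hgs hc => etale_of_comp f g hg hgfp hgs hc)
    Ui k h hk hsurj hkh

variable {S : Scheme.{u}}

/-- Generic single-morphism fppf descent on the source for `LocP P`. -/
theorem locP_of_fppf_comp {P : MorphismProperty Scheme.{u}} (hP : Lib.Helper54.EtLocal P)
    (hdesc : ∀ {ι : Type u} {U V : Scheme.{u}} (Ui : ι → Scheme.{u}) (k : ∀ i, Ui i ⟶ U)
      (h : U ⟶ V), (∀ i, Fppf (k i)) → (∀ u : ↥U, ∃ i, u ∈ Set.range (k i)) →
      (∀ i, P (k i ≫ h)) → P h)
    {X Y B : Sp S} (hX : IsAlgSpace X) (hY : IsAlgSpace Y) (hB : IsAlgSpace B)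
    (f : X ⟶ Y) (q : Y ⟶ B) (hs : IsSurjectiveMor f) (hfl : LocP @Flat f)
    (hfp : LocP @LocallyOfFinitePresentation f) (h : LocP P (f ≫ q)) : LocP P q :=
  Lib.Helper54.locP_of_source_cover' (Q := Fppf) (ι := PUnit.{u + 1}) hP hdesc hY hB
    (Xi := fun _ => X) (fun _ => hX) (fun _ => f) (fun _ => locP_fppf hfl hfp)
    (fun y => ⟨PUnit.unit, hs y⟩) q (fun _ => h)

theorem lfp_of_fppf_comp {X Y B : Sp S} (hX : IsAlgSpace X) (hY : IsAlgSpace Y)
    (hB : IsAlgSpace B) (f : X ⟶ Y) (q : Y ⟶ B) (hs : IsSurjectiveMor f) (hfl : LocP @Flat f)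
    (hfp : LocP @LocallyOfFinitePresentation f)
    (h : LocP @LocallyOfFinitePresentation (f ≫ q)) : LocP @LocallyOfFinitePresentation q :=
  locP_of_fppf_comp Lib.Helper54.etLocal_lfp
    (fun Ui k h hk hsurj hkh => lfp_of_fppf_family Ui k h hk hsurj hkh) hX hY hB f q hs hfl hfp h

theorem lft_of_fppf_comp {X Y B : Sp S} (hX : IsAlgSpace X) (hY : IsAlgSpace Y)
    (hB : IsAlgSpace B) (f : X ⟶ Y) (q : Y ⟶ B) (hs : IsSurjectiveMor f) (hfl : LocP @Flat f)
    (hfp : LocP @LocallyOfFinitePresentation f)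
    (h : LocP @LocallyOfFiniteType (f ≫ q)) : LocP @LocallyOfFiniteType q :=
  locP_of_fppf_comp Lib.Helper54.etLocal_lft
    (fun Ui k h hk hsurj hkh => lft_of_fppf_family Ui k h hk hsurj hkh) hX hY hB f q hs hfl hfp h

theorem smooth_of_fppf_comp {X Y B : Sp S} (hX : IsAlgSpace X) (hY : IsAlgSpace Y)
    (hB : IsAlgSpace B) (f : X ⟶ Y) (q : Y ⟶ B) (hs : IsSurjectiveMor f) (hfl : LocP @Flat f)
    (hfp : LocP @LocallyOfFinitePresentation f)
    (h : LocP @Smooth (f ≫ q)) : LocP @Smooth q :=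
  locP_of_fppf_comp Lib.Helper54.etLocal_smooth
    (fun Ui k h hk hsurj hkh => smooth_of_fppf_family Ui k h hk hsurj hkh) hX hY hB f q hs hfl hfp h

theorem isEtaleMor_of_fppf_comp {X Y B : Sp S} (hX : IsAlgSpace X) (hY : IsAlgSpace Y)
    (hB : IsAlgSpace B) (f : X ⟶ Y) (q : Y ⟶ B) (hs : IsSurjectiveMor f) (hfl : LocP @Flat f)
    (hfp : LocP @LocallyOfFinitePresentation f)
    (h : IsEtaleMor (f ≫ q)) : IsEtaleMor q :=
  Lib.Helper54.isEtaleMor_of_locP_etale hY hB
    (locP_of_fppf_comp Lib.Helper54.etLocal_etale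
      (fun Ui k h hk hsurj hkh => etale_of_fppf_family Ui k h hk hsurj hkh) hX hY hB f q hs hfl hfp
      (Lib.Helper54.locP_etale_of_isEtaleMor h))

end Groth.Agent.H53.FppfSource
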