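import Groth.Agent.H53.FppfSource
import Mathlib.AlgebraicGeometry.Sites.Fpqc

set_option autoImplicit false
set_option backward.isDefEq.respectTransparency false
universe u
open CategoryTheory CategoryTheory.Limits AlgebraicGeometry Opposite Topology

namespace Groth.Agent.H53.FppfSource

/-- A property which is stable under precomposition with flat lfp morphisms and descends along
jointly surjective flat lfp families on the source is local at the source for the fppf
precoverage. -/
theorem isLocalAtSource_fppf_of {P : MorphismProperty Scheme.{u}} [P.RespectsIso]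
    (hcomp : ∀ {X Y Z : Scheme.{u}} (g : X ⟶ Y) (f : Y ⟶ Z), Flat g →
      LocallyOfFinitePresentation g → P f → P (g ≫ f))
    (hdesc : ∀ {ι : Type (u + 1)} {U V : Scheme.{u}} (Ui : ι → Scheme.{u}) (k : ∀ i, Ui i ⟶ U)
      (h : U ⟶ V), (∀ i, Flat (k i) ∧ LocallyOfFinitePresentation (k i)) →
      (∀ u : ↥U, ∃ i, u ∈ Set.range (k i)) → (∀ i, P (k i ≫ h)) → P h) :
    P.IsLocalAtSource Scheme.fppfPrecoverage.{u} where
  comp {X Y f R} hR U g hg hf := by
    have h2 : Flat g ∧ LocallyOfFinitePresentation g := hR.2 hg
    exact hcomp g f h2.1 h2.2 hf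
  of_forall_comp {X Y f R} hR h := by
    have hR1 : ∀ v : ↥X, ∃ (T : Scheme.{u}) (t : T ⟶ X), R t ∧ v ∈ Set.range t :=
      (Presieve.mem_comap_jointlySurjectivePrecoverage_iff Scheme.forget).1 hR.1
    let ι := Σ (T : Scheme.{u}), {t : T ⟶ X // R t}
    refine hdesc (ι := ι) (fun j => j.1) (fun j => j.2.1) f (fun j => hR.2 j.2.2) ?_
      (fun j => h j.2.2)
    intro v
    obtain ⟨T, t, hRt, hv⟩ := hR1 v
    exact ⟨⟨T, t, hRt⟩, hv⟩

theorem isLocalAtSource_fppf_lft :
    MorphismProperty.IsLocalAtSource (@LocallyOfFiniteType : MorphismProperty Scheme.{u})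
      Scheme.fppfPrecoverage :=
  isLocalAtSource_fppf_of
    (fun g f hg hgp hf => by
      have : LocallyOfFiniteType f := hf
      have : LocallyOfFinitePresentation g := hgp
      infer_instance)
    (fun Ui k h hk hs hkh => lft_of_fppf_family Ui k h hk hs hkh)

theorem isLocalAtSource_fppf_lfp :
    MorphismProperty.IsLocalAtSource (@LocallyOfFinitePresentation : MorphismProperty Scheme.{u})
      Scheme.fppfPrecoverage :=
  isLocalAtSource_fppf_of
    (fun g f hg hgp hf => by
      have : LocallyOfFinitePresentation f := hf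
      have : LocallyOfFinitePresentation g := hgp
      infer_instance)
    (fun Ui k h hk hs hkh => lfp_of_fppf_family Ui k h hk hs hkh)

end Groth.Agent.H53.FppfSource
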