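import Groth.Agent.H53.FppfSource

set_option autoImplicit false
set_option backward.isDefEq.respectTransparency false
universe u
open CategoryTheory CategoryTheory.Limits AlgebraicGeometry Opposite Topology TensorProduct

namespace Groth.Agent.H53.FppfSurj

open Groth.Agent.H53.FppfSource

/-! ### Ring level -/

theorem finiteType_of_factor {C B A B' : Type u} [CommRing C] [CommRing B] [CommRing A]
    [CommRing B'] (f : C →+* B) (r : B →+* A) (m : A →+* B')
    (hfl : (m.comp r).Flat) (hfp : (m.comp r).FinitePresentation)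
    (hs : Function.Surjective (PrimeSpectrum.comap (m.comp r)))
    (h : (r.comp f).FiniteType) : f.FiniteType := by
  have hm : m.FiniteType := RingHom.FiniteType.of_comp_finiteType (f := r) (RingHom.FiniteType.of_finitePresentation hfp)
  have : ((m.comp r).comp f).FiniteType := by
    rw [RingHom.comp_assoc]; exact hm.comp h
  exact finiteType_of_comp f (m.comp r) hfl hfp hs this

theorem finitePresentation_of_factor {C B A B' : Type u} [CommRing C] [CommRing B] [CommRing A]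
    [CommRing B'] (f : C →+* B) (r : B →+* A) (m : A →+* B')
    (hfl : (m.comp r).Flat) (hfp : (m.comp r).FinitePresentation)
    (hs : Function.Surjective (PrimeSpectrum.comap (m.comp r)))
    (h : (r.comp f).FinitePresentation) : f.FinitePresentation := by
  have hr : r.FiniteType := RingHom.FiniteType.of_comp_finiteType (f := f) (RingHom.FiniteType.of_finitePresentation h)
  have hm : m.FinitePresentation := RingHom.FinitePresentation.of_comp_finiteType r hfp hr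
  have : ((m.comp r).comp f).FinitePresentation := by
    rw [RingHom.comp_assoc]; exact hm.comp h
  exact finitePresentation_of_comp f (m.comp r) hfl hfp hs this

theorem flat_of_factor {C B A B' : Type u} [CommRing C] [CommRing B] [CommRing A]
    [CommRing B'] (f : C →+* B) (r : B →+* A) (m : A →+* B')
    (hfl : (m.comp r).Flat)
    (hs : Function.Surjective (PrimeSpectrum.comap (m.comp r)))
    (h : (r.comp f).Flat) : f.Flat := by
  letI := f.toAlgebra
  letI := (r.comp f).toAlgebra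
  letI := ((m.comp r).comp f).toAlgebra
  letI := (m.comp r).toAlgebra
  have : IsScalarTower C B B' := IsScalarTower.of_algebraMap_eq (fun _ => rfl)
  have : Module.Flat C A := h
  have : Module.Flat B B' := hfl
  have : Module.FaithfullyFlat B B' := Module.FaithfullyFlat.of_comap_surjective hs
  change Module.Flat C B
  rw [Module.Flat.iff_lTensor_preserves_injective_linearMap]
  intro N N' _ _ _ _ φ hφ
  -- the linear maps
  let ρ : B →ₗ[C] A :=
    { toFun := r, map_add' := map_add r, map_smul' := fun c b => by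
        simp only [Algebra.smul_def, map_mul, RingHom.id_apply]; rfl }
  let μ : A →ₗ[C] B' :=
    { toFun := m, map_add' := map_add m, map_smul' := fun c b => by
        simp only [Algebra.smul_def, map_mul, RingHom.id_apply]; rfl }
  let ψ : B →ₗ[C] B' := μ ∘ₗ ρ
  -- (a) `ψ.rTensor N` is injective
  have ha : Function.Injective (ψ.rTensor N) := by
    have h1 := Module.FaithfullyFlat.tensorProduct_mk_injective (A := B) (B := B') (B ⊗[C] N)
    have h2 : ⇑(ψ.rTensor N) =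
        ⇑(TensorProduct.AlgebraTensorModule.cancelBaseChange C B B' B' N) ∘
          ⇑(TensorProduct.mk B B' (B ⊗[C] N) 1) := by
      funext x
      induction x using TensorProduct.induction_on with
      | zero => simp
      | tmul b n =>
        simp only [LinearMap.rTensor_tmul, Function.comp_apply, TensorProduct.mk_apply,
          TensorProduct.AlgebraTensorModule.cancelBaseChange_tmul]
        congr 1
        change m (r b) = b • (1 : B')
        rw [Algebra.smul_def, mul_one]; rfl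
      | add x y hx hy => simp only [map_add, Function.comp_apply] at hx hy ⊢; rw [hx, hy]
    rw [h2]
    exact (LinearEquiv.injective _).comp h1
  have hb : Function.Injective (φ.lTensor A) :=
    Module.Flat.lTensor_preserves_injective_linearMap φ hφ
  rw [injective_iff_map_eq_zero]
  intro x hx
  apply ha
  rw [map_zero]
  have h3 : ρ.rTensor N x = 0 := by
    apply hb
    rw [map_zero, ← LinearMap.comp_apply, LinearMap.lTensor_comp_rTensor,
      ← LinearMap.rTensor_comp_lTensor, LinearMap.comp_apply, hx, map_zero]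
  change (μ ∘ₗ ρ).rTensor N x = 0
  rw [LinearMap.rTensor_comp, LinearMap.comp_apply, h3, map_zero]

/-! ### Scheme level -/

/-- Descent of a ring-hom property of `k : V ⟶ W` along `r : U ⟶ V` which can be refined by a
jointly surjective family of flat morphisms locally of finite presentation `T i ⟶ U ⟶ V`. -/
theorem of_fppf_refinement {P : MorphismProperty Scheme.{u}}
    {Q : ∀ {R S : Type u} [CommRing R] [CommRing S], (R →+* S) → Prop} [HasRingHomProperty P Q]
    (hQs : RingHom.StableUnderCompositionWithLocalizationAwaySource Q)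
    (hdesc : ∀ {C B A B' : Type u} [CommRing C] [CommRing B] [CommRing A] [CommRing B']
      (f : C →+* B) (r : B →+* A) (m : A →+* B'), (m.comp r).Flat →
      (m.comp r).FinitePresentation →
      Function.Surjective (PrimeSpectrum.comap (m.comp r)) → Q (r.comp f) → Q f)
    {ι : Type*} {U V W : Scheme.{u}} (k : V ⟶ W) (r : U ⟶ V) (hrk : P (r ≫ k))
    (Ti : ι → Scheme.{u}) (m : ∀ i, Ti i ⟶ U)
    (hm : ∀ i, Flat (m i ≫ r) ∧ LocallyOfFinitePresentation (m i ≫ r))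
    (hsurj : ∀ v : ↥V, ∃ i, v ∈ Set.range (m i ≫ r)) : P k := by
  rw [HasRingHomProperty.iff_exists_appLE (P := P) hQs]
  intro v
  obtain ⟨i, t, rfl⟩ := hsurj v
  have hfl : Flat (m i ≫ r) := (hm i).1
  have hfp : LocallyOfFinitePresentation (m i ≫ r) := (hm i).2
  obtain ⟨_, ⟨W₀ : W.Opens, hW₀, rfl⟩, hxW₀, -⟩ :=
    W.isBasis_affineOpens.exists_subset_of_mem_open (Set.mem_univ (k ((m i ≫ r) t))) isOpen_univ
  obtain ⟨_, ⟨V₀ : V.Opens, hV₀, rfl⟩, hxV₀, hV₀W₀⟩ :=
    V.isBasis_affineOpens.exists_subset_of_mem_open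
      (show (m i ≫ r) t ∈ ((k ⁻¹ᵁ W₀ : V.Opens) : Set V) from hxW₀) (k ⁻¹ᵁ W₀).2
  obtain ⟨_, ⟨U₀ : U.Opens, hU₀, rfl⟩, hxU₀, hU₀V₀⟩ :=
    U.isBasis_affineOpens.exists_subset_of_mem_open
      (show m i t ∈ ((r ⁻¹ᵁ V₀ : U.Opens) : Set U) from hxV₀) (r ⁻¹ᵁ V₀).2
  obtain ⟨_, ⟨T₀ : (Ti i).Opens, hT₀, rfl⟩, hxT₀, hT₀U₀⟩ :=
    (Ti i).isBasis_affineOpens.exists_subset_of_mem_open
      (show t ∈ ((m i ⁻¹ᵁ U₀ : (Ti i).Opens) : Set (Ti i)) from hxU₀) (m i ⁻¹ᵁ U₀).2
  have himg : IsOpen ((m i ≫ r) '' (T₀ : Set (Ti i))) := (m i ≫ r).isOpenMap _ T₀.2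
  let Oimg : V.Opens := ⟨(m i ≫ r) '' (T₀ : Set (Ti i)), himg⟩
  obtain ⟨a, haO, hxa⟩ :=
    hV₀.exists_basicOpen_le (V := Oimg) ⟨(m i ≫ r) t, ⟨t, hxT₀, rfl⟩⟩ hxV₀
  have hV₁ : IsAffineOpen (V.basicOpen a) := hV₀.basicOpen a
  let ρ := r.appLE V₀ U₀ hU₀V₀
  have hU₁ : IsAffineOpen (U.basicOpen (ρ a)) := hU₀.basicOpen _
  have hU₁eq : U.basicOpen (ρ a) = U₀ ⊓ r ⁻¹ᵁ (V.basicOpen a) :=
    Scheme.basicOpen_appLE r U₀ V₀ hU₀V₀ a
  let μ := (m i).appLE U₀ T₀ hT₀U₀
  have hT₁ : IsAffineOpen ((Ti i).basicOpen (μ (ρ a))) := hT₀.basicOpen _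
  have hT₁eq : (Ti i).basicOpen (μ (ρ a)) = T₀ ⊓ m i ⁻¹ᵁ (U.basicOpen (ρ a)) :=
    Scheme.basicOpen_appLE (m i) T₀ U₀ hT₀U₀ (ρ a)
  have hU₁V₁ : U.basicOpen (ρ a) ≤ r ⁻¹ᵁ (V.basicOpen a) := by rw [hU₁eq]; exact inf_le_right
  have hT₁U₁ : (Ti i).basicOpen (μ (ρ a)) ≤ m i ⁻¹ᵁ (U.basicOpen (ρ a)) := by
    rw [hT₁eq]; exact inf_le_right
  have hV₁W₀ : V.basicOpen a ≤ k ⁻¹ᵁ W₀ := (V.basicOpen_le a).trans hV₀W₀
  have hT₁V₁ : (Ti i).basicOpen (μ (ρ a)) ≤ (m i ≫ r) ⁻¹ᵁ (V.basicOpen a) :=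
    fun x hx => hU₁V₁ (hT₁U₁ hx)
  have hU₁W₀ : U.basicOpen (ρ a) ≤ (r ≫ k) ⁻¹ᵁ W₀ := fun x hx => hV₁W₀ (hU₁V₁ hx)
  refine ⟨⟨W₀, hW₀⟩, ⟨V.basicOpen a, hV₁⟩, hxa, hV₁W₀, ?_⟩
  have hcomp1 : (r.appLE (V.basicOpen a) _ hU₁V₁) ≫ ((m i).appLE _ _ hT₁U₁) =
      (m i ≫ r).appLE (V.basicOpen a) ((Ti i).basicOpen (μ (ρ a))) hT₁V₁ :=
    Scheme.Hom.appLE_comp_appLE _ _ _ _ _ _ _
  have hcomp2 : (k.appLE W₀ (V.basicOpen a) hV₁W₀) ≫ (r.appLE (V.basicOpen a) _ hU₁V₁) =
      (r ≫ k).appLE W₀ (U.basicOpen (ρ a)) hU₁W₀ :=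
    Scheme.Hom.appLE_comp_appLE _ _ _ _ _ _ _
  refine hdesc (k.appLE W₀ (V.basicOpen a) hV₁W₀).hom (r.appLE (V.basicOpen a) _ hU₁V₁).hom
    ((m i).appLE _ _ hT₁U₁).hom ?_ ?_ ?_ ?_
  · rw [← CommRingCat.hom_comp, hcomp1]
    exact HasRingHomProperty.appLE @Flat (m i ≫ r) hfl ⟨_, hV₁⟩ ⟨_, hT₁⟩ hT₁V₁
  · rw [← CommRingCat.hom_comp, hcomp1]
    exact HasRingHomProperty.appLE @LocallyOfFinitePresentation (m i ≫ r) hfp ⟨_, hV₁⟩ ⟨_, hT₁⟩
      hT₁V₁
  · rw [← CommRingCat.hom_comp, hcomp1]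
    intro p
    obtain ⟨y, rfl⟩ : ∃ y : V.basicOpen a, hV₁.primeIdealOf y = p :=
      (hV₁.isoSpec.hom.homeomorph.surjective p)
    obtain ⟨x', hx'T₀, hx'y⟩ := haO y.2
    have hx'T₁ : x' ∈ (Ti i).basicOpen (μ (ρ a)) := by
      rw [hT₁eq]
      refine ⟨hx'T₀, ?_⟩
      change m i x' ∈ U.basicOpen (ρ a)
      rw [hU₁eq]
      refine ⟨hT₀U₀ hx'T₀, ?_⟩
      change (m i ≫ r) x' ∈ V.basicOpen a
      rw [hx'y]; exact y.2
    refine ⟨hT₁.primeIdealOf ⟨x', hx'T₁⟩, ?_⟩
    have := IsAffineOpen.comap_primeIdealOf_appLE (f := m i ≫ r) (x := x') (V.basicOpen a) hV₁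
      ((Ti i).basicOpen (μ (ρ a))) hT₁ hT₁V₁ hx'T₁
    rw [this]
    congr 1
    exact Subtype.ext hx'y
  · rw [← CommRingCat.hom_comp, hcomp2]
    exact HasRingHomProperty.appLE P (r ≫ k) hrk ⟨_, hW₀⟩ ⟨_, hU₁⟩ _

theorem flat_of_fppf_refinement {ι : Type*} {U V W : Scheme.{u}} (k : V ⟶ W) (r : U ⟶ V)
    (hrk : Flat (r ≫ k)) (Ti : ι → Scheme.{u}) (m : ∀ i, Ti i ⟶ U)
    (hm : ∀ i, Flat (m i ≫ r) ∧ LocallyOfFinitePresentation (m i ≫ r))
    (hsurj : ∀ v : ↥V, ∃ i, v ∈ Set.range (m i ≫ r)) : Flat k :=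
  of_fppf_refinement (P := @Flat)
    (RingHom.Flat.stableUnderComposition.stableUnderCompositionWithLocalizationAway
      RingHom.Flat.holdsForLocalizationAway).left
    (fun f r m hfl _ hs h => flat_of_factor f r m hfl hs h) k r hrk Ti m hm hsurj

theorem lft_of_fppf_refinement {ι : Type*} {U V W : Scheme.{u}} (k : V ⟶ W) (r : U ⟶ V)
    (hrk : LocallyOfFiniteType (r ≫ k)) (Ti : ι → Scheme.{u}) (m : ∀ i, Ti i ⟶ U)
    (hm : ∀ i, Flat (m i ≫ r) ∧ LocallyOfFinitePresentation (m i ≫ r))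
    (hsurj : ∀ v : ↥V, ∃ i, v ∈ Set.range (m i ≫ r)) : LocallyOfFiniteType k :=
  of_fppf_refinement (P := @LocallyOfFiniteType)
    (RingHom.finiteType_stableUnderComposition.stableUnderCompositionWithLocalizationAway
      RingHom.finiteType_holdsForLocalizationAway).left
    (fun f r m hfl hfp hs h => finiteType_of_factor f r m hfl hfp hs h) k r hrk Ti m hm hsurj

theorem lfp_of_fppf_refinement {ι : Type*} {U V W : Scheme.{u}} (k : V ⟶ W) (r : U ⟶ V)
    (hrk : LocallyOfFinitePresentation (r ≫ k)) (Ti : ι → Scheme.{u}) (m : ∀ i, Ti i ⟶ U)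
    (hm : ∀ i, Flat (m i ≫ r) ∧ LocallyOfFinitePresentation (m i ≫ r))
    (hsurj : ∀ v : ↥V, ∃ i, v ∈ Set.range (m i ≫ r)) : LocallyOfFinitePresentation k :=
  of_fppf_refinement (P := @LocallyOfFinitePresentation)
    (RingHom.finitePresentation_stableUnderComposition.stableUnderCompositionWithLocalizationAway
      RingHom.finitePresentation_holdsForLocalizationAway).left
    (fun f r m hfl hfp hs h => finitePresentation_of_factor f r m hfl hfp hs h) k r hrk Ti m hm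
    hsurj

end Groth.Agent.H53.FppfSurj
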