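import Groth.Agent.H53.FppfSurj
import Groth.Agent.Lib.Helper51.QuotSpEff
import Groth.Agent.H52.FibreProd

set_option autoImplicit false
set_option backward.isDefEq.respectTransparency false
universe u
open CategoryTheory CategoryTheory.Limits AlgebraicGeometry Opposite Topology
open AlgSp

namespace Groth.Agent.H53.FppfSurj

variable {S : Scheme.{u}}

/-- Descent of `LocP P` along a surjection of fppf sheaves on the source. -/
theorem locP_of_locallySurjective {P : MorphismProperty Scheme.{u}}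
    (hdesc : ∀ {ι : Type (u + 1)} {U V W : Scheme.{u}} (k : V ⟶ W) (r : U ⟶ V), P (r ≫ k) →
      ∀ (Ti : ι → Scheme.{u}) (m : ∀ i, Ti i ⟶ U),
      (∀ i, Flat (m i ≫ r) ∧ LocallyOfFinitePresentation (m i ≫ r)) →
      (∀ v : ↥V, ∃ i, v ∈ Set.range (m i ≫ r)) → P k)
    {X Y Z : Sp S} (hX : IsAlgSpace X) (hY : IsAlgSpace Y) (g : X ⟶ Y) (h : Y ⟶ Z)
    (hg : Sheaf.IsLocallySurjective g) (hgh : LocP P (g ≫ h)) : LocP P h := by
  have : (RepWith (S := S) @Etale).IsMultiplicative := repWith_isMultiplicative _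
  have : (RepWith (S := S) @Etale).IsStableUnderBaseChange := repWith_isStableUnderBaseChange _
  have : Epi g := (Sheaf.isLocallySurjective_iff_epi g).1 hg
  intro V W a b k ha hb comm
  have sqA := IsPullback.of_hasPullback g a
  have hX' : IsAlgSpace (pullback g a) :=
    Groth.Agent.H52.isAlgSpace_of_isPullback sqA hX hY (IsAlgSpace.yon_obj V)
  have hfst : RepWith @Etale (pullback.fst g a) := MorphismProperty.of_isPullback sqA.flip ha
  obtain ⟨U, p', hp'e, hp's⟩ := hX'.atlas
  obtain ⟨r, hr⟩ := (yon S).map_surjective (p' ≫ pullback.snd g a)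
  have ha' : RepWith @Etale (p' ≫ pullback.fst g a) := MorphismProperty.comp_mem _ _ _ hp'e hfst
  have hPrk : P (r ≫ k).left := hgh (p' ≫ pullback.fst g a) b (r ≫ k) ha' hb (by
    rw [Functor.map_comp, hr, Category.assoc, Category.assoc, ← Category.assoc (pullback.fst g a),
      pullback.condition, Category.assoc, comm, Category.assoc])
  obtain ⟨Sv, hSv, hlift⟩ := Groth.Agent.Lib.Helper51.exists_cover_lift_of_epi g a
  rw [AlgSp.J_eq, GrothendieckTopology.mem_over_iff] at hSv
  have := Groth.Agent.Lib.Helper51.fppfPrecoverage_hasIsos.{u}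
  obtain ⟨R', hR', hle⟩ :=
    (Precoverage.mem_toGrothendieck_iff_of_isStableUnderComposition).1 hSv
  have hR'1 : ∀ v : ↥V.left, ∃ (T : Scheme.{u}) (t : T ⟶ V.left), R' t ∧ v ∈ Set.range t :=
    (Presieve.mem_comap_jointlySurjectivePrecoverage_iff Scheme.forget).1 hR'.1
  have hR'2 : ∀ {T : Scheme.{u}} (t : T ⟶ V.left), R' t →
      Flat t ∧ LocallyOfFinitePresentation t := fun t ht => hR'.2 ht
  let ι := Σ (T : Scheme.{u}), {t : T ⟶ V.left // R' t}
  have key : ∀ j : ι, ∃ (T' : Over S) (mm : T' ⟶ U), Flat (mm ≫ r).left ∧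
      LocallyOfFinitePresentation (mm ≫ r).left ∧
      Set.range j.2.1 ⊆ Set.range (mm ≫ r).left := by
    rintro ⟨T, t, hRt⟩
    have hSt := hle _ _ hRt
    rw [Sieve.overEquiv_iff] at hSt
    obtain ⟨l, hl⟩ := hlift _ hSt
    let lam := sqA.lift l _ hl
    have hlam1 : lam ≫ pullback.fst g a = l := sqA.lift_fst _ _ _
    have hlam2 : lam ≫ pullback.snd g a = _ := sqA.lift_snd _ _ _
    have sq := hp'e.rep.isPullback' lam
    have hsnd_et : Etale (hp'e.rep.snd lam).left := hp'e.property lam _ _ sq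
    have hsnd_surj : Surjective (hp'e.rep.snd lam).left := hp's.property lam _ _ sq
    have heq : hp'e.rep.fst' lam ≫ r = hp'e.rep.snd lam ≫ Over.homMk t := by
      apply (yon S).map_injective
      rw [Functor.map_comp, Functor.map_comp, hr, ← Category.assoc, sq.w, Category.assoc, hlam2]
    have hleft : (hp'e.rep.fst' lam ≫ r).left = (hp'e.rep.snd lam).left ≫ t := by
      rw [heq]; rfl
    have hft : Flat t ∧ LocallyOfFinitePresentation t := hR'2 t hRt
    have := hft.1
    have := hft.2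
    refine ⟨_, hp'e.rep.fst' lam, ?_, ?_, ?_⟩
    · rw [hleft]; infer_instance
    · rw [hleft]; infer_instance
    · rw [hleft]
      rintro _ ⟨x, rfl⟩
      obtain ⟨x', rfl⟩ := hsnd_surj.surj x
      exact ⟨x', rfl⟩
  choose T' mm h1 h2 h3 using key
  refine hdesc (ι := ι) k.left r.left hPrk (fun j => (T' j).left) (fun j => (mm j).left)
    (fun j => ⟨h1 j, h2 j⟩) ?_
  intro v
  obtain ⟨T, t, hRt, hv⟩ := hR'1 v
  exact ⟨⟨T, t, hRt⟩, h3 ⟨T, t, hRt⟩ hv⟩

theorem main {X Y Z : Sp S} (hX : IsAlgSpace X) (hY : IsAlgSpace Y) (g : X ⟶ Y) (h : Y ⟶ Z)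
    (hg : Sheaf.IsLocallySurjective g) :
    (LocP @Flat (g ≫ h) → LocP @Flat h) ∧
    (LocP @LocallyOfFiniteType (g ≫ h) → LocP @LocallyOfFiniteType h) ∧
    (LocP @LocallyOfFinitePresentation (g ≫ h) → LocP @LocallyOfFinitePresentation h) :=
  ⟨locP_of_locallySurjective
      (fun k r hrk Ti m hm hs => flat_of_fppf_refinement k r hrk Ti m hm hs) hX hY g h hg,
    locP_of_locallySurjective
      (fun k r hrk Ti m hm hs => lft_of_fppf_refinement k r hrk Ti m hm hs) hX hY g h hg,
    locP_of_locallySurjective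
      (fun k r hrk Ti m hm hs => lfp_of_fppf_refinement k r hrk Ti m hm hs) hX hY g h hg⟩

end Groth.Agent.H53.FppfSurj
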