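import Groth.Prelude.Def_AlgSpGpd

/-!
# T-point calculus for groupoid schemes (helper37)

`gcomp G α β h` is the composite `α ∘ β` of two `T`-points of `R` with `s α = t β`.
All groupoid axioms are restated for `gcomp` with arbitrary proofs of composability, so that
they can be used by `rw`.
-/

set_option autoImplicit false

universe u

namespace Groth.Agent.H53.GpdSp

open CategoryTheory CategoryTheory.Limits AlgebraicGeometry AlgSp

variable {S : Scheme.{u}} {B : Sp S} (G : GroupoidSp B) {T : Sp S}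

/-- The composite `α ∘ β` of two composable `T`-points of `R`. -/
noncomputable def gcomp (α β : T ⟶ G.R) (h : α ≫ G.s = β ≫ G.t) : T ⟶ G.R :=
  pullback.lift α β h ≫ G.c

lemma lift_c (α β : T ⟶ G.R) (h : α ≫ G.s = β ≫ G.t) :
    pullback.lift α β h ≫ G.c = gcomp G α β h := rfl

lemma gcomp_congr {α α' β β' : T ⟶ G.R} (hα : α = α') (hβ : β = β')
    (h : α ≫ G.s = β ≫ G.t) (h' : α' ≫ G.s = β' ≫ G.t) :
    gcomp G α β h = gcomp G α' β' h' := by
  subst hα hβ
  rfl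

lemma precomp_gcomp {T' : Sp S} (f : T' ⟶ T) (α β : T ⟶ G.R) (h : α ≫ G.s = β ≫ G.t) :
    f ≫ gcomp G α β h = gcomp G (f ≫ α) (f ≫ β)
      (by rw [Category.assoc, Category.assoc, h]) := by
  unfold gcomp
  rw [← Category.assoc]
  congr 1
  apply pullback.hom_ext <;>
    simp only [pullback.lift_fst, pullback.lift_snd, Category.assoc]

lemma c_eq_gcomp : G.c = gcomp G (pullback.fst G.s G.t) (pullback.snd G.s G.t)
    pullback.condition := by
  unfold gcomp
  have : pullback.lift (pullback.fst G.s G.t) (pullback.snd G.s G.t) pullback.condition = 𝟙 _ := by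
    apply pullback.hom_ext <;>
      simp only [pullback.lift_fst, pullback.lift_snd, Category.id_comp]
  rw [this, Category.id_comp]

lemma comp_c {T : Sp S} (m : T ⟶ pullback G.s G.t) :
    m ≫ G.c = gcomp G (m ≫ pullback.fst _ _) (m ≫ pullback.snd _ _)
      (by rw [Category.assoc, Category.assoc, pullback.condition]) := by
  conv_lhs => rw [c_eq_gcomp G]
  exact precomp_gcomp G m _ _ _

@[simp]
lemma gcomp_s (α β : T ⟶ G.R) (h : α ≫ G.s = β ≫ G.t) : gcomp G α β h ≫ G.s = β ≫ G.s :=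
  G.comp_s α β h

@[simp]
lemma gcomp_t (α β : T ⟶ G.R) (h : α ≫ G.s = β ≫ G.t) : gcomp G α β h ≫ G.t = α ≫ G.t :=
  G.comp_t α β h

lemma gcomp_assoc (α β γ : T ⟶ G.R) (h₁ : α ≫ G.s = β ≫ G.t) (h₂ : β ≫ G.s = γ ≫ G.t)
    (h : gcomp G α β h₁ ≫ G.s = γ ≫ G.t) (h' : α ≫ G.s = gcomp G β γ h₂ ≫ G.t) :
    gcomp G (gcomp G α β h₁) γ h = gcomp G α (gcomp G β γ h₂) h' :=
  G.assoc α β γ h₁ h₂

lemma gcomp_e (α ε : T ⟶ G.R) (hε : ε = α ≫ G.s ≫ G.e) (h : α ≫ G.s = ε ≫ G.t) :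
    gcomp G α ε h = α := by
  subst hε
  exact G.comp_e α

lemma e_gcomp (α ε : T ⟶ G.R) (hε : ε = α ≫ G.t ≫ G.e) (h : ε ≫ G.s = α ≫ G.t) :
    gcomp G ε α h = α := by
  subst hε
  exact G.e_comp α

lemma gcomp_i (α ι : T ⟶ G.R) (hι : ι = α ≫ G.i) (h : α ≫ G.s = ι ≫ G.t) :
    gcomp G α ι h = α ≫ G.t ≫ G.e := by
  subst hι
  exact G.comp_i α

lemma i_gcomp (α ι : T ⟶ G.R) (hι : ι = α ≫ G.i) (h : ι ≫ G.s = α ≫ G.t) :
    gcomp G ι α h = α ≫ G.s ≫ G.e := by
  subst hι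
  exact G.i_comp α

/-- `a ∘ (a⁻¹ ∘ b) = b` when `t a = t b`. -/
lemma gcomp_i_gcomp (a b : T ⟶ G.R) (hab : a ≫ G.t = b ≫ G.t)
    (h₁ : (a ≫ G.i) ≫ G.s = b ≫ G.t) (h₂ : a ≫ G.s = gcomp G (a ≫ G.i) b h₁ ≫ G.t) :
    gcomp G a (gcomp G (a ≫ G.i) b h₁) h₂ = b := by
  have h₀ : a ≫ G.s = (a ≫ G.i) ≫ G.t := by rw [Category.assoc, G.i_t]
  rw [← gcomp_assoc G a (a ≫ G.i) b h₀ h₁ (by rw [gcomp_s, h₁])]
  have : gcomp G a (a ≫ G.i) h₀ = b ≫ G.t ≫ G.e := by
    rw [gcomp_i G a _ rfl, ← Category.assoc, hab, Category.assoc]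
  rw [gcomp_congr G this rfl _ (by rw [Category.assoc, Category.assoc, G.e_s, Category.comp_id])]
  exact e_gcomp G b _ rfl _

/-- `a⁻¹ ∘ (a ∘ b) = b` when `s a = t b`. -/
lemma i_gcomp_gcomp (a b : T ⟶ G.R) (hab : a ≫ G.s = b ≫ G.t)
    (h₂ : (a ≫ G.i) ≫ G.s = gcomp G a b hab ≫ G.t) :
    gcomp G (a ≫ G.i) (gcomp G a b hab) h₂ = b := by
  have h₀ : (a ≫ G.i) ≫ G.s = a ≫ G.t := by rw [Category.assoc, G.i_s]
  rw [← gcomp_assoc G (a ≫ G.i) a b h₀ hab (by rw [gcomp_s, hab])]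
  have : gcomp G (a ≫ G.i) a h₀ = b ≫ G.t ≫ G.e := by
    rw [i_gcomp G a _ rfl, ← Category.assoc, hab, Category.assoc]
  rw [gcomp_congr G this rfl _ (by rw [Category.assoc, Category.assoc, G.e_s, Category.comp_id])]
  exact e_gcomp G b _ rfl _

/-- `(a ∘ b) ∘ b⁻¹ = a` when `s a = t b`. -/
lemma gcomp_gcomp_i (a b : T ⟶ G.R) (hab : a ≫ G.s = b ≫ G.t)
    (h₂ : gcomp G a b hab ≫ G.s = (b ≫ G.i) ≫ G.t) :
    gcomp G (gcomp G a b hab) (b ≫ G.i) h₂ = a := by
  have h₀ : b ≫ G.s = (b ≫ G.i) ≫ G.t := by rw [Category.assoc, G.i_t]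
  rw [gcomp_assoc G a b (b ≫ G.i) hab h₀ _ (by rw [gcomp_t, hab])]
  have : gcomp G b (b ≫ G.i) h₀ = a ≫ G.s ≫ G.e := by
    rw [gcomp_i G b _ rfl, ← Category.assoc, ← hab, Category.assoc]
  rw [gcomp_congr G rfl this _ (by rw [Category.assoc, Category.assoc, G.e_t, Category.comp_id])]
  exact gcomp_e G a _ rfl _

/-- `(a ∘ b⁻¹) ∘ b = a` when `s a = s b`. -/
lemma gcomp_i_gcomp' (a b : T ⟶ G.R) (hab : a ≫ G.s = b ≫ G.s)
    (h₁ : a ≫ G.s = (b ≫ G.i) ≫ G.t) (h₂ : gcomp G a (b ≫ G.i) h₁ ≫ G.s = b ≫ G.t) :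
    gcomp G (gcomp G a (b ≫ G.i) h₁) b h₂ = a := by
  have h₀ : (b ≫ G.i) ≫ G.s = b ≫ G.t := by rw [Category.assoc, G.i_s]
  rw [gcomp_assoc G a (b ≫ G.i) b h₁ h₀ _ (by rw [gcomp_t, h₁])]
  have : gcomp G (b ≫ G.i) b h₀ = a ≫ G.s ≫ G.e := by
    rw [i_gcomp G b _ rfl, ← Category.assoc, ← hab, Category.assoc]
  rw [gcomp_congr G rfl this _ (by rw [Category.assoc, Category.assoc, G.e_t, Category.comp_id])]
  exact gcomp_e G a _ rfl _

end Groth.Agent.H53.GpdSp

namespace Groth.Agent.H53.GpdSp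

open CategoryTheory CategoryTheory.Limits AlgebraicGeometry AlgSp

variable {S : Scheme.{u}} {B : Sp S} (G : GroupoidSp B)

theorem shear_isIso_and_isPullback :
    IsPullback G.c (pullback.snd G.s G.t) G.s G.s ∧
      ∀ φ : pullback G.t G.t ⟶ pullback G.s G.t,
        φ ≫ pullback.fst G.s G.t = pullback.fst G.t G.t →
        φ ≫ pullback.snd G.s G.t =
          pullback.lift (pullback.fst G.t G.t ≫ G.i) (pullback.snd G.t G.t)
            ((Category.assoc _ _ _).trans ((congrArg (pullback.fst G.t G.t ≫ ·) G.i_s).trans pullback.condition)) ≫ G.c →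
        IsIso φ ∧ φ ≫ G.c = pullback.snd G.t G.t := by
  refine ⟨?_, ?_⟩
  · have hcs : G.c ≫ G.s = pullback.snd G.s G.t ≫ G.s := by
      rw [c_eq_gcomp G, gcomp_s]
    refine ⟨⟨hcs⟩, ⟨PullbackCone.IsLimit.mk _ (fun s => ?_) (fun s => ?_) (fun s => ?_)
      (fun s m hm1 hm2 => ?_)⟩⟩
    · have h₁ : s.fst ≫ G.s = (s.snd ≫ G.i) ≫ G.t := by
        rw [Category.assoc, G.i_t, s.condition]
      exact pullback.lift (gcomp G s.fst (s.snd ≫ G.i) h₁) s.snd
        (by rw [gcomp_s, Category.assoc, G.i_s])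
    · rw [comp_c]
      have h₁ : s.fst ≫ G.s = (s.snd ≫ G.i) ≫ G.t := by
        rw [Category.assoc, G.i_t, s.condition]
      rw [gcomp_congr G (pullback.lift_fst _ _ _) (pullback.lift_snd _ _ _) _
        (by rw [gcomp_s, Category.assoc, G.i_s])]
      exact gcomp_i_gcomp' G _ _ s.condition h₁ _
    · exact pullback.lift_snd _ _ _
    · apply pullback.hom_ext
      · rw [pullback.lift_fst]
        have hms : (m ≫ pullback.fst G.s G.t) ≫ G.s = s.snd ≫ G.t := by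
          rw [← hm2, Category.assoc, Category.assoc, pullback.condition]
        have e1 : s.fst = gcomp G (m ≫ pullback.fst G.s G.t) s.snd hms := by
          rw [← hm1, comp_c]
          exact gcomp_congr G rfl hm2 _ _
        rw [gcomp_congr G e1 rfl _ (by rw [gcomp_s, Category.assoc, G.i_t])]
        exact (gcomp_gcomp_i G _ _ hms _).symm
      · rw [pullback.lift_snd]
        exact hm2
  · intro φ h1 h2
    rw [lift_c] at h2
    have hc : φ ≫ G.c = pullback.snd G.t G.t := by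
      rw [comp_c]
      have h₁ : (pullback.fst G.t G.t ≫ G.i) ≫ G.s = pullback.snd G.t G.t ≫ G.t := by
        rw [Category.assoc, G.i_s, pullback.condition]
      rw [gcomp_congr G h1 h2 _ (by rw [gcomp_t, Category.assoc, G.i_t])]
      exact gcomp_i_gcomp G _ _ pullback.condition h₁ _
    refine ⟨?_, hc⟩
    have hct : pullback.fst G.s G.t ≫ G.t = G.c ≫ G.t := by
      rw [c_eq_gcomp G, gcomp_t]
    refine ⟨pullback.lift (pullback.fst G.s G.t) G.c hct, ?_, ?_⟩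
    · apply pullback.hom_ext
      · rw [Category.assoc, pullback.lift_fst, h1, Category.id_comp]
      · rw [Category.assoc, pullback.lift_snd, hc, Category.id_comp]
    · apply pullback.hom_ext
      · rw [Category.assoc, h1, pullback.lift_fst, Category.id_comp]
      · rw [Category.assoc, h2, precomp_gcomp, Category.id_comp]
        have e1 : pullback.lift (pullback.fst G.s G.t) G.c hct ≫ pullback.fst G.t G.t ≫ G.i =
            pullback.fst G.s G.t ≫ G.i := by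
          rw [← Category.assoc, pullback.lift_fst]
        have e2 : pullback.lift (pullback.fst G.s G.t) G.c hct ≫ pullback.snd G.t G.t =
            gcomp G (pullback.fst G.s G.t) (pullback.snd G.s G.t) pullback.condition := by
          rw [pullback.lift_snd, ← c_eq_gcomp G]
        rw [gcomp_congr G e1 e2 _ (by rw [gcomp_t, Category.assoc, G.i_s])]
        exact i_gcomp_gcomp G _ _ pullback.condition _

end Groth.Agent.H53.GpdSp
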