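import Groth.Agent.H53.QcIdeal7
import Groth.Agent.H53.Proper
import Groth.Agent.H52.ThickLift2
import Groth.Prelude.Def_AlgSpInf

set_option autoImplicit false
set_option backward.isDefEq.respectTransparency false
universe u
open CategoryTheory CategoryTheory.Limits AlgebraicGeometry Opposite Topology TopologicalSpace
open AlgSp

namespace Groth.Agent.H53.InfNbhd

open Groth.Agent.H53.LocPrinc Groth.Agent.H53.QcImage Groth.Agent.H52 Groth.Agent.H53.QcIdeal

variable {S : Scheme.{u}} {Y Z Z₁ : Sp S} {c : Z ⟶ Y} {j : Z ⟶ Z₁} {k : Z₁ ⟶ Y}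

/-- The product of two quasi-coherent families of ideals is quasi-coherent. -/
theorem isQCoh_mul {X : Sp S} {I J : IdealEt X} (hI : I.IsQCoh) (hJ : J.IsQCoh) :
    (I * J).IsQCoh := by
  intro E E' g hE hE'
  rw [IdealEt.mul_ideal, IdealEt.mul_ideal, Ideal.map_mul]
  exact Ideal.mul_mono (hI g hE hE') (hJ g hE hE')

/-- The ideal of the first order infinitesimal neighbourhood is the square of the ideal. -/
theorem idealOfRep_eq_mul (hN : IsInfNbhd 1 c j k) :
    idealOfRep hN.2.2.1.1 = idealOfRep hN.2.1.1 * idealOfRep hN.2.1.1 := by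
  apply IdealEt.ext
  funext E hE
  rw [IdealEt.mul_ideal, idealOfRep_ideal, idealOfRep_ideal]
  have h := hN.2.2.2 E.obj.hom _ (EtOver.bcπ hN.2.1.1 E) _ (EtOver.bcπ hN.2.2.1.1 E) hE E.property
    (EtOver.isPullback_bcObj hN.2.1.1 E) (EtOver.isPullback_bcObj hN.2.2.1.1 E)
  rw [h, pow_two, Scheme.IdealSheafData.ideal_mul, Pi.mul_apply]

/-- On every étale chart, the kernel of the infinitesimal neighbourhood is the square of the
kernel. -/
theorem ker_chart (hN : IsInfNbhd 1 c j k) {V C₀ C₁ : Over S} (φ : (yon S).obj V ⟶ Y)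
    (hφ : RepWith @Etale φ) (c₀ : C₀ ⟶ V) (c₁ : C₁ ⟶ V) [IsClosedImmersion c₀.left]
    [IsClosedImmersion c₁.left] (f₀ : (yon S).obj C₀ ⟶ Z)
    (sq₀ : IsPullback f₀ ((yon S).map c₀) c φ)
    (f₁ : (yon S).obj C₁ ⟶ Z₁) (sq₁ : IsPullback f₁ ((yon S).map c₁) k φ) :
    c₁.left.ker = c₀.left.ker * c₀.left.ker :=
  ker_eq_mul_of_isCutOutBy (idealOfRep hN.2.1.1) (idealOfRep hN.2.1.1) ⟨hN.2.1, rfl⟩ ⟨hN.2.1, rfl⟩
    ⟨hN.2.2.1, idealOfRep_eq_mul hN⟩ φ hφ c₀ c₀ c₁ f₀ sq₀ f₀ sq₀ f₁ sq₁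

/-- The ideal of the pullback of a closed subspace to a scheme `T`, on an étale affine chart of
`T` mapping to a chart of `Y`. -/
theorem idealOfRep_pullback_ideal (hc : RepWith @IsClosedImmersion c) {T T₀ : Over S}
    (t : (yon S).obj T ⟶ Y) (fst₀ : (yon S).obj T₀ ⟶ Z) (snd₀ : T₀ ⟶ T)
    (sq₀ : IsPullback fst₀ ((yon S).map snd₀) c t) {V : Over S} (φ : (yon S).obj V ⟶ Y)
    (E : EtOver ((yon S).obj T)) (hE : IsAffine E.obj.left.left) (h : E.obj.left ⟶ V)
    (hh : (yon S).map h ≫ φ = E.obj.hom ≫ t) :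
    (idealOfRep (representable_yon_map snd₀)).ideal E hE =
      ((hc.rep.snd φ).left.ker.comap h.left).ideal ⟨⊤, isAffineOpen_top _⟩ := by
  have hcl : IsClosedImmersion (hc.rep.snd φ).left := hc.property_snd φ
  obtain ⟨fstD, sqD⟩ := exists_isPullback_subOver_of_ker_eq φ (hc.rep.snd φ) (hc.rep.fst φ)
    (hc.rep.isPullback φ) _ rfl
  obtain ⟨fst', sq'⟩ := exists_isPullback_comap_chart c φ _ fstD sqD h
  rw [hh] at sq'
  let l := sq₀.lift fst' ((yon S).map (subOverι E.obj.left _) ≫ E.obj.hom) (by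
    rw [sq'.w, Category.assoc])
  have hl1 : l ≫ fst₀ = fst' := sq₀.lift_fst _ _ _
  have hl2 : l ≫ (yon S).map snd₀ = (yon S).map (subOverι E.obj.left _) ≫ E.obj.hom :=
    sq₀.lift_snd _ _ _
  have sqf : IsPullback l ((yon S).map (subOverι E.obj.left
      ((hc.rep.snd φ).left.ker.comap h.left))) ((yon S).map snd₀) E.obj.hom := by
    refine IsPullback.of_right ?_ hl2 sq₀
    rw [hl1]
    exact sq'
  rw [idealOfRep_ideal_of_isPullback (representable_yon_map snd₀) E hE l _ sqf]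
  change (Scheme.IdealSheafData.subschemeι _).ker.ideal _ = _
  rw [Scheme.IdealSheafData.ker_subschemeι]

end Groth.Agent.H53.InfNbhd
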