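import Groth.Agent.H53.InfNbhd

set_option autoImplicit false
set_option backward.isDefEq.respectTransparency false
universe u
open CategoryTheory CategoryTheory.Limits AlgebraicGeometry Opposite Topology TopologicalSpace
open AlgSp

namespace Groth.Agent.H53.InfNbhd

open Groth.Agent.H53.LocPrinc Groth.Agent.H53.QcImage Groth.Agent.H52 Groth.Agent.H53.QcIdeal

variable {S : Scheme.{u}} {Y Z Z₁ : Sp S} {c : Z ⟶ Y} {j : Z ⟶ Z₁} {k : Z₁ ⟶ Y}

theorem isQuasiCompactMor_yon_of_isClosedImmersion {T T₀ : Over S} (snd₀ : T₀ ⟶ T)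
    (h : IsClosedImmersion snd₀.left) : IsQuasiCompactMor ((yon S).map snd₀) :=
  (Groth.Agent.H53.isProperMor_of_repWith_isClosedImmersion _
    ((repWith_yon_map_iff _ _).2 h)).2.1.2

/-- The relation between the kernels of a closed subspace and of its first order infinitesimal
neighbourhood holds on every affine scheme mapping to the ambient space. -/
theorem ker_eq_mul_of_isAffine (hY : IsAlgSpace Y) (hN : IsInfNbhd 1 c j k) {T T₀ T₁ : Over S}
    (hT : IsAffine T.left)
    (t : (yon S).obj T ⟶ Y) (fst₀ : (yon S).obj T₀ ⟶ Z) (snd₀ : T₀ ⟶ T)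
    (sq₀ : IsPullback fst₀ ((yon S).map snd₀) c t)
    (fst₁ : (yon S).obj T₁ ⟶ Z₁) (snd₁ : T₁ ⟶ T)
    (sq₁ : IsPullback fst₁ ((yon S).map snd₁) k t) :
    snd₁.left.ker = snd₀.left.ker * snd₀.left.ker := by
  have hc := hN.2.1
  have hk := hN.2.2.1
  have hcl₀ : IsClosedImmersion snd₀.left := hc.property t fst₀ snd₀ sq₀
  have hcl₁ : IsClosedImmersion snd₁.left := hk.property t fst₁ snd₁ sq₁
  obtain ⟨V, φ, hφe, hφs⟩ := hY.atlas
  have rep := hφe.rep
  have sqP := rep.isPullback t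
  obtain ⟨h₀, hh₀⟩ := (yon S).map_surjective (rep.fst t)
  have hae : RepWith @Etale ((yon S).map (rep.snd t)) :=
    (repWith_yon_map_iff _ _).2 (hφe.property_snd t)
  have has : RepWith @Surjective ((yon S).map (rep.snd t)) :=
    (repWith_yon_map_iff _ _).2 (hφs.property_snd t)
  have hI : (idealOfRep (representable_yon_map snd₁)).IsQCoh :=
    isQCoh_idealOfRep _ (isQuasiCompactMor_yon_of_isClosedImmersion snd₁ hcl₁)
  have hJ : (idealOfRep (representable_yon_map snd₀)).IsQCoh :=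
    isQCoh_idealOfRep _ (isQuasiCompactMor_yon_of_isClosedImmersion snd₀ hcl₀)
  have hcl₀' : IsClosedImmersion (hc.rep.snd φ).left := hc.property_snd φ
  have hcl₁' : IsClosedImmersion (hk.rep.snd φ).left := hk.property_snd φ
  have hker := ker_chart hN φ hφe (hc.rep.snd φ) (hk.rep.snd φ) (hc.rep.fst φ)
    (hc.rep.isPullback φ) (hk.rep.fst φ) (hk.rep.isPullback φ)
  have key : idealOfRep (representable_yon_map snd₁) =
      idealOfRep (representable_yon_map snd₀) * idealOfRep (representable_yon_map snd₀) := by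
    refine idealEt_ext_of_atlas ((yon S).map (rep.snd t)) hae has _ _ hI (isQCoh_mul hJ hJ) ?_
    intro E hE kE hkE
    have hh : (yon S).map (kE ≫ h₀) ≫ φ = E.obj.hom ≫ t := by
      rw [Functor.map_comp, Category.assoc, hh₀, sqP.w, ← Category.assoc, hkE]
    rw [IdealEt.mul_ideal, idealOfRep_pullback_ideal hk t fst₁ snd₁ sq₁ φ E hE (kE ≫ h₀) hh,
      idealOfRep_pullback_ideal hc t fst₀ snd₀ sq₀ φ E hE (kE ≫ h₀) hh, hker,
      Groth.Agent.Lib.Helper18.comap_mul, Scheme.IdealSheafData.ideal_mul, Pi.mul_apply]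
  have hid : RepWith @Etale (𝟙 ((yon S).obj T)) := repWith_id _ T
  let E₀ : EtOver ((yon S).obj T) := EtOver.mk (𝟙 ((yon S).obj T)) hid
  have hE₀ : IsAffine E₀.obj.left.left := hT
  have hiso : IsIso E₀.obj.hom := by
    change IsIso (𝟙 ((yon S).obj T))
    infer_instance
  have e₁ := idealOfRep_ideal_of_isPullback (representable_yon_map snd₁) E₀ hE₀
    (𝟙 ((yon S).obj T₁)) snd₁ (IsPullback.of_horiz_isIso ⟨by simp [E₀]⟩)
  have e₀ := idealOfRep_ideal_of_isPullback (representable_yon_map snd₀) E₀ hE₀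
    (𝟙 ((yon S).obj T₀)) snd₀ (IsPullback.of_horiz_isIso ⟨by simp [E₀]⟩)
  have e := congrArg (fun I => I.ideal E₀ hE₀) key
  simp only [IdealEt.mul_ideal] at e
  rw [e₁, e₀] at e
  have : IsAffine T.left := hT
  apply Scheme.IdealSheafData.ext_of_isAffine
  rw [Scheme.IdealSheafData.ideal_mul, Pi.mul_apply]
  exact e

end Groth.Agent.H53.InfNbhd
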