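import Groth.Agent.H53.InfNbhd2
import Groth.Agent.H53.OpenSub2

set_option autoImplicit false
set_option backward.isDefEq.respectTransparency false
universe u
open CategoryTheory CategoryTheory.Limits AlgebraicGeometry Opposite Topology TopologicalSpace
open AlgSp

namespace Groth.Agent.H53.InfNbhd

open Groth.Agent.H53.LocPrinc Groth.Agent.H53.QcImage Groth.Agent.H52 Groth.Agent.H53.QcIdeal

theorem isPullback_comp_mono {C : Type*} [Category C] {W X Y Z Z' : C} {fst : W ⟶ X}
    {snd : W ⟶ Y} {f : X ⟶ Z} {g : Y ⟶ Z} (i : Z ⟶ Z') [Mono i]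
    (sq : IsPullback fst snd f g) : IsPullback fst snd (f ≫ i) (g ≫ i) :=
  ⟨⟨by rw [← Category.assoc, sq.w, Category.assoc]⟩,
   ⟨PullbackCone.IsLimit.mk _
     (fun s => sq.lift s.fst s.snd (by
        rw [← cancel_mono i, Category.assoc, Category.assoc]; exact s.condition))
     (fun s => sq.lift_fst _ _ _) (fun s => sq.lift_snd _ _ _)
     (fun s m h1 h2 => sq.hom_ext (by simpa using h1) (by simpa using h2))⟩⟩

theorem isPullback_self_of_mono {C : Type*} [Category C] {Y Z Z' : C} (t : Y ⟶ Z) (i : Z ⟶ Z')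
    [Mono i] : IsPullback t (𝟙 Y) i (t ≫ i) :=
  ⟨⟨by simp⟩,
   ⟨PullbackCone.IsLimit.mk _ (fun s => s.snd)
     (fun s => by
        rw [← cancel_mono i, Category.assoc]; exact s.condition.symm)
     (fun s => by simp)
     (fun s m h1 h2 => by simpa using h2)⟩⟩

/-- A closed immersion whose kernel has square zero is surjective. -/
theorem surjective_of_ker_mul_self_eq_bot {X Y : Scheme.{u}} (f : X ⟶ Y) [IsClosedImmersion f]
    (h : f.ker * f.ker = ⊥) : Surjective f := by
  have h1 : (f.ker * f.ker).support = f.ker.support := by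
    rw [Scheme.IdealSheafData.support_mul, sup_idem]
  rw [h] at h1
  have h2 : (f.ker.support : Set Y) = Set.univ := by
    rw [← h1]
    simp
  rw [Scheme.Hom.support_ker, f.isClosedEmbedding.isClosed_range.closure_eq] at h2
  exact ⟨Set.range_eq_univ.1 h2⟩

variable {S : Scheme.{u}} {Y Z Z₁ : Sp S} {c : Z ⟶ Y} {j : Z ⟶ Z₁} {k : Z₁ ⟶ Y}

theorem mono_of_isInfNbhd (hN : IsInfNbhd 1 c j k) : Mono k :=
  Groth.Agent.H53.SchImageRed.mono_of_repWith_isClosedImmersion k hN.2.2.1

/-- The pullback of `Z ⟶ Z₁` to an affine scheme has kernel of square zero. -/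
theorem ker_mul_self_eq_bot (hY : IsAlgSpace Y) (hN : IsInfNbhd 1 c j k) {T W : Over S}
    (hT : IsAffine T.left) (t : (yon S).obj T ⟶ Z₁) (fst : (yon S).obj W ⟶ Z) (snd : W ⟶ T)
    (sq : IsPullback fst ((yon S).map snd) j t) : snd.left.ker * snd.left.ker = ⊥ := by
  have : Mono k := mono_of_isInfNbhd hN
  have sq₀ : IsPullback fst ((yon S).map snd) c (t ≫ k) := by
    rw [← hN.1]
    exact isPullback_comp_mono k sq
  have sq₁ : IsPullback t ((yon S).map (𝟙 T)) k (t ≫ k) := by
    rw [(yon S).map_id]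
    exact isPullback_self_of_mono t k
  have h := ker_eq_mul_of_isAffine hY hN hT (t ≫ k) fst snd sq₀ t (𝟙 T) sq₁
  rw [← h]
  have : IsIso (𝟙 T : T ⟶ T).left := by
    rw [Over.id_left]
    infer_instance
  exact Scheme.Hom.ker_eq_bot_of_isIso _

theorem repWith_isClosedImmersion_of_isInfNbhd (hN : IsInfNbhd 1 c j k) :
    RepWith @IsClosedImmersion j := by
  have : Mono k := mono_of_isInfNbhd hN
  exact Groth.Agent.H53.repWith_of_comp_mono @IsClosedImmersion j k (by rw [hN.1]; exact hN.2.1)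

/-- `Z ⟶ Z₁` is a first order thickening. -/
theorem isFOThickMor_of_isInfNbhd (hY : IsAlgSpace Y) (hN : IsInfNbhd 1 c j k) :
    IsFOThickMor j := by
  have hjc := repWith_isClosedImmersion_of_isInfNbhd hN
  refine ⟨⟨hjc.rep, fun T W t fst snd sq => ⟨hjc.property t fst snd sq, ⟨fun x => ?_⟩⟩⟩,
    fun V W b fst snd hV _ sq => ker_mul_self_eq_bot hY hN hV b fst snd sq⟩
  change ∃ y, snd.left y = x
  obtain ⟨_, ⟨A, hA, rfl⟩, hxA, -⟩ :=
    (T.left.isBasis_affineOpens).exists_subset_of_mem_open (Set.mem_univ x) isOpen_univ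
  have rep := hjc.rep
  have sqA := rep.isPullback ((yon S).map (overOpenι T A) ≫ t)
  have hAff : IsAffine (overOpen T A).left := hA
  have hker := ker_mul_self_eq_bot hY hN hAff _ _ _ sqA
  have hcl : IsClosedImmersion (rep.snd ((yon S).map (overOpenι T A) ≫ t)).left :=
    hjc.property_snd _
  have hs := surjective_of_ker_mul_self_eq_bot _ hker
  obtain ⟨y, hy⟩ := hs.surj ⟨x, hxA⟩
  obtain ⟨l₀, hl₀⟩ := (yon S).map_surjective (sq.lift (rep.fst _)
    ((yon S).map (rep.snd ((yon S).map (overOpenι T A) ≫ t)) ≫ (yon S).map (overOpenι T A))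
    (by rw [sqA.w, Category.assoc]))
  have hl : l₀ ≫ snd = rep.snd ((yon S).map (overOpenι T A) ≫ t) ≫ overOpenι T A := by
    apply (yon S).map_injective
    rw [Functor.map_comp, hl₀, sq.lift_snd, Functor.map_comp]
  refine ⟨l₀.left y, ?_⟩
  have h2 := congrArg (fun m => m.left y) hl
  simp only [Over.comp_left, Scheme.Hom.comp_apply] at h2
  rw [h2, hy]
  rfl

end Groth.Agent.H53.InfNbhd
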