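import Groth.Agent.H53.InfNbhd3

set_option autoImplicit false
set_option backward.isDefEq.respectTransparency false
universe u
open CategoryTheory CategoryTheory.Limits AlgebraicGeometry Opposite Topology TopologicalSpace
open AlgSp

namespace Groth.Agent.H53.InfNbhd

open Groth.Agent.H53.LocPrinc Groth.Agent.H53.QcImage Groth.Agent.H52 Groth.Agent.H53.QcIdeal

variable {S : Scheme.{u}} {Y Z Z₁ : Sp S} {c : Z ⟶ Y} {j : Z ⟶ Z₁} {k : Z₁ ⟶ Y}

/-- Lifting along a first order thickening of affine schemes into the first order infinitesimal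
neighbourhood. -/
theorem exists_lift_of_affine (hY : IsAlgSpace Y) (hN : IsInfNbhd 1 c j k) {T T' : Over S}
    (jT : T ⟶ T') (hT' : IsAffine T'.left) (hjT : IsFOThickMor ((yon S).map jT))
    (a : (yon S).obj T ⟶ Z) (b' : (yon S).obj T' ⟶ Y) (w : (yon S).map jT ≫ b' = a ≫ c) :
    ∃ a' : (yon S).obj T' ⟶ Z₁, a' ≫ k = b' := by
  have hc := hN.2.1
  have hk := hN.2.2.1
  have sq₀ := hc.rep.isPullback b'
  have sq₁ := hk.rep.isPullback b'
  have hker := ker_eq_mul_of_isAffine hY hN hT' b' _ _ sq₀ _ _ sq₁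
  obtain ⟨l₀, hl₀⟩ := (yon S).map_surjective (sq₀.lift a ((yon S).map jT) w.symm)
  have hl : l₀ ≫ hc.rep.snd b' = jT := by
    apply (yon S).map_injective
    rw [Functor.map_comp, hl₀, sq₀.lift_snd]
  have hle : (hc.rep.snd b').left.ker ≤ jT.left.ker := by
    rw [← hl, Over.comp_left]
    exact Scheme.Hom.le_ker_comp _ _
  have hsq : jT.left.ker * jT.left.ker = ⊥ := AffLocT.yon_map hT' hjT.2
  have hbot : (hk.rep.snd b').left.ker ≤ ⊥ := by
    rw [hker, ← hsq]
    intro A
    rw [Scheme.IdealSheafData.ideal_mul, Scheme.IdealSheafData.ideal_mul, Pi.mul_apply,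
      Pi.mul_apply]
    exact Ideal.mul_mono (hle A) (hle A)
  have hcl : IsClosedImmersion (hk.rep.snd b').left := hk.property_snd b'
  let s₀ : T'.left ⟶ (hk.rep.pullback b').left :=
    IsClosedImmersion.lift (hk.rep.snd b').left (𝟙 T'.left) (hbot.trans bot_le)
  have hs₀ : s₀ ≫ (hk.rep.snd b').left = 𝟙 T'.left := IsClosedImmersion.lift_fac _ _ _
  let s : T' ⟶ hk.rep.pullback b' := Over.homMk s₀ (by
    rw [← Over.w (hk.rep.snd b'), ← Category.assoc, hs₀, Category.id_comp])
  have hs : s ≫ hk.rep.snd b' = 𝟙 T' := by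
    ext
    exact hs₀
  refine ⟨(yon S).map s ≫ hk.rep.fst b', ?_⟩
  rw [Category.assoc, sq₁.w, ← Category.assoc, ← Functor.map_comp, hs, (yon S).map_id,
    Category.id_comp]

/-- The first order infinitesimal neighbourhood of a closed subspace of an open subspace is a
universal first order thickening. -/
theorem isUnivFOThick_infNbhd_one {Z U X Z₁ : Sp S} (hU : IsAlgSpace U) (c : Z ⟶ U)
    (u : U ⟶ X) (hu : RepWith @IsOpenImmersion u) (j : Z ⟶ Z₁) (k : Z₁ ⟶ U)
    (hN : IsInfNbhd 1 c j k) : IsUnivFOThick (c ≫ u) j (k ≫ u) := by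
  have hmu : Mono u := H52.mono_of_repWith u @IsOpenImmersion
    (fun _ _ g hg => by have := hg; infer_instance) hu
  have hmk : Mono k := mono_of_isInfNbhd hN
  refine Groth.Agent.H52.isUnivFOThick_of_affine (c ≫ u) j (k ≫ u)
    (isFOThickMor_of_isInfNbhd hU hN) (by rw [← Category.assoc, hN.1]) ?_
  intro T T' jT hT' hjT a b w
  have hsurj : Surjective jT.left := ((repWith_yon_map_iff _ _).1 hjT.1).2
  obtain ⟨b', hb'⟩ := Groth.Agent.H53.exists_factor_of_range_subset u hu b (by
    rintro _ ⟨ξ, rfl⟩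
    obtain ⟨t', rfl⟩ := (Points.schemeEquiv T').surjective ξ
    obtain ⟨t₀, rfl⟩ := hsurj.surj t'
    have h1 : Points.schemeEquiv T' (jT.left t₀) =
        Points.map ((yon S).map jT) (Points.ofScheme T t₀) := (points_map_ofScheme jT t₀).symm
    rw [h1, ← Points.map_comp, w, ← Category.assoc, Points.map_comp]
    exact ⟨_, rfl⟩)
  have w' : (yon S).map jT ≫ b' = a ≫ c := by
    rw [← cancel_mono u, Category.assoc, hb', w, Category.assoc]
  obtain ⟨a', ha'⟩ := exists_lift_of_affine hU hN jT hT' hjT a b' w'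
  refine ⟨a', ⟨?_, ?_⟩, fun a'' h'' => ?_⟩
  · rw [← cancel_mono k, Category.assoc, ha', w', Category.assoc, hN.1]
  · rw [← Category.assoc, ha', hb']
  · have : Mono (k ≫ u) := mono_comp k u
    rw [← cancel_mono (k ≫ u), h''.2, ← Category.assoc, ha', hb']

end Groth.Agent.H53.InfNbhd
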