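import Groth.Agent.S10547
import Groth.Agent.S10534
import Groth.Agent.S10531
import Groth.Agent.S10505
import Groth.Agent.H53.RedInduced
import Groth.Agent.Lib.Helper54.UnivBddCompSp

set_option autoImplicit false
set_option backward.isDefEq.respectTransparency false
universe u
open CategoryTheory CategoryTheory.Limits AlgebraicGeometry Opposite Topology TopologicalSpace
open AlgSp

namespace Groth.Agent.H53.InvImm

variable {S : Scheme.{u}}

/-- An étale surjective chart is an fppf covering. -/
theorem isFppfCover_of_chart {X : Sp S} {U : Over S} (p : (yon S).obj U ⟶ X)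
    (hpe : RepWith @Etale p) (hps : RepWith @Surjective p) :
    IsFppfCover (fun _ : PUnit.{u + 1} => (yon S).obj U) (fun _ => p) := by
  refine ⟨fun _ => ⟨?_, ?_⟩, fun x =>
    ⟨PUnit.unit, Groth.Agent.H52.surjective_points_of_repWith_surjective p hps x⟩⟩
  · refine Groth.Agent.H52.locP_of_repWith _ @Flat
      (fun A B φ hφ => inferInstance) ⟨hpe.rep, fun T V g fst snd sq => ?_⟩
    have : Etale snd.left := hpe.property _ _ _ sq
    change Flat snd.left
    infer_instance
  · refine Groth.Agent.H52.locP_of_repWith _ @LocallyOfFinitePresentation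
      (fun A B φ hφ => inferInstance) ⟨hpe.rep, fun T V g fst snd sq => ?_⟩
    have : Etale snd.left := hpe.property _ _ _ sq
    change LocallyOfFinitePresentation snd.left
    infer_instance

/-- A property which is fppf local on the base descends along an étale surjective chart. -/
theorem of_chart_of_isLocalOnBase {P : MorphismProperty (Sp S)}
    (hP : IsLocalOnBase (IsFppfCover (S := S)) P) {X Y : Sp S} (hX : IsAlgSpace X)
    (hY : IsAlgSpace Y) (f : X ⟶ Y) {U : Over S} (p : (yon S).obj U ⟶ Y)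
    (hpe : RepWith @Etale p) (hps : RepWith @Surjective p) {W : Sp S} (hW : IsAlgSpace W)
    (fst : W ⟶ X) (snd : W ⟶ (yon S).obj U) (sq : IsPullback fst snd f p) (h : P snd) : P f :=
  (hP (fun _ : PUnit.{u + 1} => (yon S).obj U) (fun _ => p) hY (fun _ => IsAlgSpace.yon_obj U)
    (isFppfCover_of_chart p hpe hps) f hX (fun _ => W) (fun _ => snd) (fun _ => fst)
    (fun _ => hW) (fun _ => sq)).2 (fun _ => h)

theorem isLocalOnBase_fppf_closed :
    IsLocalOnBase (IsFppfCover (S := S)) (RepWith @IsClosedImmersion) := by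
  intro ι Y Yi g hY hYi hcov X f hX Xi p q hXi sq
  have hfpqc : AlgSp.IsFpqcCover Yi g :=
    Groth.Agent.S10505.result (S := S) ⟨Y, hY⟩ (fun i => ⟨Yi i, hYi i⟩)
      (fun i => ObjectProperty.homMk (g i)) hcov
  exact Groth.Agent.S10534.result S Yi g hY hYi hfpqc f hX Xi p q hXi sq

theorem isLocalOnBase_fppf_open :
    IsLocalOnBase (IsFppfCover (S := S)) (RepWith @IsOpenImmersion) := by
  intro ι Y Yi g hY hYi hcov X f hX Xi p q hXi sq
  have hfpqc : AlgSp.IsFpqcCover Yi g :=
    Groth.Agent.S10505.result (S := S) ⟨Y, hY⟩ (fun i => ⟨Yi i, hYi i⟩)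
      (fun i => ObjectProperty.homMk (g i)) hcov
  exact Groth.Agent.S10531.result S Yi g hY hYi hfpqc f hX Xi p q hXi sq

/-- An invariant immersion into the chart of a presentation descends to a subspace. -/
theorem exists_subspace_of_invariant_immersion {X : Sp S} (hX : IsAlgSpace X) {R U : Over S}
    (s t : R ⟶ U) (p : (yon S).obj U ⟶ X) (hp : IsPresentation s t p)
    {Z' R' : Scheme.{u}} (i' : Z' ⟶ U.left) [IsImmersion i'] (k : R' ⟶ R.left) (s' t' : R' ⟶ Z')
    (hs : IsPullback k s' s.left i') (ht : IsPullback k t' t.left i') :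
    ∃ (Z : Sp S) (i : Z ⟶ X) (q : (yon S).obj (Over.mk (i' ≫ U.hom)) ⟶ Z), IsAlgSpace Z ∧
      RepWith @IsImmersion i ∧
      IsPullback q ((yon S).map (Over.homMk i' rfl : Over.mk (i' ≫ U.hom) ⟶ U)) i p ∧
      (IsClosedImmersion i' → RepWith @IsClosedImmersion i) ∧
      (IsOpenImmersion i' → RepWith @IsOpenImmersion i) := by
  let ZO : Over S := Over.mk (i' ≫ U.hom)
  let jZ : ZO ⟶ U := Over.homMk i' rfl
  let RO : Over S := Over.mk (k ≫ R.hom)
  let kO : RO ⟶ R := Over.homMk k rfl
  let sO : RO ⟶ ZO := Over.homMk s' (by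
    change s' ≫ i' ≫ U.hom = k ≫ R.hom
    rw [← Category.assoc, ← hs.w, Category.assoc, Over.w s])
  let tO : RO ⟶ ZO := Over.homMk t' (by
    change t' ≫ i' ≫ U.hom = k ≫ R.hom
    rw [← Category.assoc, ← ht.w, Category.assoc, Over.w t])
  have es : kO ≫ s = sO ≫ jZ := by ext; exact hs.w
  have et : kO ≫ t = tO ≫ jZ := by ext; exact ht.w
  have sqs : IsPullback ((yon S).map kO) ((yon S).map sO) ((yon S).map s) ((yon S).map jZ) :=
    Groth.Agent.Lib.Helper54.isPullback_yon_of_isPullback_left es hs
  have sqt : IsPullback ((yon S).map kO) ((yon S).map tO) ((yon S).map t) ((yon S).map jZ) :=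
    Groth.Agent.Lib.Helper54.isPullback_yon_of_isPullback_left et ht
  have hjZmono : Mono ((yon S).map jZ) := by
    have : Mono jZ.left := by change Mono i'; infer_instance
    have : Mono jZ := Groth.Agent.H52.mono_over_of_mono_left jZ
    exact Groth.Agent.H52.mono_yon_map jZ
  have hπι : Sheaf.toImage ((yon S).map jZ ≫ p) ≫ Sheaf.imageι ((yon S).map jZ ≫ p) =
      (yon S).map jZ ≫ p := Sheaf.toImage_ι _
  have hmono : Mono (Sheaf.imageι ((yon S).map jZ ≫ p)) := inferInstance
  have hepi : Epi (Sheaf.toImage ((yon S).map jZ ≫ p)) := inferInstance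
  generalize Sheaf.toImage ((yon S).map jZ ≫ p) = e at hπι hepi
  generalize Sheaf.imageι ((yon S).map jZ ≫ p) = i at hπι hmono
  generalize Sheaf.image ((yon S).map jZ ≫ p) = Z at e i
  have sq : IsPullback e ((yon S).map jZ) i p := by
    refine Groth.Agent.Lib.Helper51.isPullback_of_forall_yon _ _ _ _ hπι (fun V z v hzv => ?_)
    have hfac : ∃ w : (yon S).obj V ⟶ (yon S).obj ZO, w ≫ (yon S).map jZ = v := by
      apply Groth.Agent.Lib.Helper51.exists_factor_of_factorSieve_mem
      obtain ⟨Sv, hSv, hlift⟩ := Groth.Agent.Lib.Helper51.exists_cover_lift_of_epi e z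
      refine (J S).superset_covering ?_ hSv
      intro Y f hf
      obtain ⟨w₁, hw₁⟩ := hlift f hf
      have hcomm : ((yon S).map f ≫ v) ≫ p = (w₁ ≫ (yon S).map jZ) ≫ p := by
        rw [Category.assoc, ← hzv, ← Category.assoc, ← hw₁, Category.assoc, hπι, Category.assoc]
      have hl₁ := hp.isPullback.lift_fst _ _ hcomm
      have hl₂ := hp.isPullback.lift_snd _ _ hcomm
      generalize hp.isPullback.lift _ _ hcomm = l at hl₁ hl₂
      have hl'₁ := sqs.lift_fst l w₁ hl₂
      have hl'₂ := sqs.lift_snd l w₁ hl₂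
      generalize sqs.lift l w₁ hl₂ = l' at hl'₁ hl'₂
      refine ⟨l' ≫ (yon S).map tO, ?_⟩
      rw [Category.assoc, ← sqt.w, ← Category.assoc, hl'₁, hl₁]
    obtain ⟨w, hw⟩ := hfac
    refine ⟨w, ⟨?_, hw⟩, fun w' hw' => ?_⟩
    · rw [← cancel_mono i, Category.assoc, hπι, ← Category.assoc, hw, hzv]
    · rw [← cancel_mono ((yon S).map jZ), hw'.2, hw]
  have hee : RepWith @Etale e := MorphismProperty.of_isPullback sq.flip hp.etale
  have hes : RepWith @Surjective e := MorphismProperty.of_isPullback sq.flip hp.surjective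
  have hZ : IsAlgSpace Z :=
    ⟨Groth.Agent.H52.representable_diag_of_mono i hX.diag, ZO, e, hee, hes⟩
  refine ⟨Z, i, e, hZ, ?_, sq, fun hc => ?_, fun ho => ?_⟩
  · exact of_chart_of_isLocalOnBase (Groth.Agent.S10547.result S) hZ hX i p hp.etale hp.surjective
      (IsAlgSpace.yon_obj ZO) e _ sq (by
        rw [repWith_yon_map_iff]
        change IsImmersion i'
        infer_instance)
  · exact of_chart_of_isLocalOnBase isLocalOnBase_fppf_closed hZ hX i p hp.etale hp.surjective
      (IsAlgSpace.yon_obj ZO) e _ sq (by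
        rw [repWith_yon_map_iff]
        exact hc)
  · exact of_chart_of_isLocalOnBase isLocalOnBase_fppf_open hZ hX i p hp.etale hp.surjective
      (IsAlgSpace.yon_obj ZO) e _ sq (by
        rw [repWith_yon_map_iff]
        exact ho)

end Groth.Agent.H53.InvImm
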