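import Groth.Agent.H53.CodimQF
import Groth.Agent.H53.Codim2
import Mathlib.Topology.Sober
import Mathlib.AlgebraicGeometry.Noetherian

set_option autoImplicit false
set_option backward.isDefEq.respectTransparency false
universe u
open CategoryTheory CategoryTheory.Limits AlgebraicGeometry Opposite Topology

namespace Groth.Agent.H53.IrrFinite

/-! ### Maximal points -/

section Top
variable {α β : Type*} [TopologicalSpace α] [TopologicalSpace β]

/-- The points without proper generalizations. -/
def maxPts (α : Type*) [TopologicalSpace α] : Set α := {x | ∀ y, y ⤳ x → y = x}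

theorem genericPoints_eq_maxPts [QuasiSober α] [T0Space α] : genericPoints α = maxPts α := by
  ext x
  constructor
  · intro hx y hy
    have hx' : Maximal IsIrreducible (closure {x}) := hx
    have h1 : closure {x} ⊆ closure {y} := specializes_iff_closure_subset.1 hy
    have h2 : closure {y} ⊆ closure {x} := hx'.2 isIrreducible_singleton.closure h1
    have h3 : x ⤳ y := specializes_iff_closure_subset.2 h2
    exact (hy.antisymm h3).eq
  · intro hx
    change Maximal IsIrreducible (closure {x})
    refine ⟨isIrreducible_singleton.closure, fun s hs hle => ?_⟩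
    obtain ⟨η, hη⟩ := QuasiSober.sober hs.closure isClosed_closure
    have hxs : x ∈ s := hle (subset_closure rfl)
    have h1 : η ⤳ x := by
      rw [specializes_iff_mem_closure, hη.def]
      exact subset_closure hxs
    have h2 : η = x := hx η h1
    rw [← h2, hη.def]
    exact subset_closure

theorem finite_irreducibleComponents_iff [QuasiSober α] [T0Space α] :
    (irreducibleComponents α).Finite ↔ (maxPts α).Finite := by
  rw [← genericPoints_eq_maxPts]
  exact ⟨fun h => genericPoints.finite h, fun h =>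
    @Finite.of_injective _ _ h _ genericPoints.equiv.symm.injective⟩

theorem maxPts_of_isOpenEmbedding {j : β → α} (hj : IsOpenEmbedding j) (b : β) :
    j b ∈ maxPts α ↔ b ∈ maxPts β := by
  constructor
  · intro h y hy
    exact hj.injective (h _ (hy.map hj.continuous))
  · intro h y hy
    have hyr : y ∈ Set.range j := hy.mem_open hj.isOpen_range ⟨b, rfl⟩
    obtain ⟨b', rfl⟩ := hyr
    rw [h b' (hj.isInducing.specializes_iff.1 hy)]

/-- Finiteness of the set of maximal points can be checked on a finite open cover. -/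
theorem finite_maxPts_of_cover {ι : Type*} [Finite ι] (β : ι → Type*)
    [∀ i, TopologicalSpace (β i)] (j : ∀ i, β i → α) (hj : ∀ i, IsOpenEmbedding (j i))
    (hcov : ∀ x : α, ∃ i, x ∈ Set.range (j i)) (h : ∀ i, (maxPts (β i)).Finite) :
    (maxPts α).Finite := by
  have : maxPts α ⊆ ⋃ i, j i '' maxPts (β i) := by
    intro x hx
    obtain ⟨i, b, rfl⟩ := hcov x
    exact Set.mem_iUnion.2 ⟨i, b, (maxPts_of_isOpenEmbedding (hj i) b).1 hx, rfl⟩
  exact (Set.finite_iUnion fun i => (h i).image _).subset this

/-- Finiteness of irreducible components passes to the image of a continuous surjection. -/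
theorem finite_irreducibleComponents_of_surjective {f : α → β} (hf : Continuous f)
    (hs : Function.Surjective f) (h : (irreducibleComponents α).Finite) :
    (irreducibleComponents β).Finite := by
  have hsub : irreducibleComponents β ⊆ (fun s => closure (f '' s)) '' irreducibleComponents α := by
    intro T hT
    have hTirr : IsIrreducible T := hT.1
    have hTcl : IsClosed T := isClosed_of_mem_irreducibleComponents T hT
    -- `T` is covered by the closures of the images of the components
    have hcov : T ⊆ ⋃ s ∈ irreducibleComponents α, closure (f '' s) := by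
      intro t _
      obtain ⟨a, rfl⟩ := hs t
      refine Set.mem_iUnion₂.2 ⟨irreducibleComponent a, irreducibleComponent_mem_irreducibleComponents a,
        subset_closure ⟨a, mem_irreducibleComponent, rfl⟩⟩
    obtain ⟨s, hs', hTs⟩ := (isIrreducible_iff_sUnion_isClosed.1 hTirr)
      (h.toFinset.image fun s => closure (f '' s)) (by
        intro Z hZ
        simp only [Finset.mem_image, Set.Finite.mem_toFinset] at hZ
        obtain ⟨s, -, rfl⟩ := hZ
        exact isClosed_closure) (by
        intro t ht
        obtain ⟨s, hs1, hs2⟩ := Set.mem_iUnion₂.1 (hcov ht)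
        refine Set.mem_sUnion.2 ⟨closure (f '' s), ?_, hs2⟩
        simp only [Finset.coe_image, Set.Finite.coe_toFinset, Set.mem_image]
        exact ⟨s, hs1, rfl⟩)
    simp only [Finset.mem_image, Set.Finite.mem_toFinset] at hs'
    obtain ⟨s₀, hs₀, rfl⟩ := hs'
    refine ⟨s₀, hs₀, ?_⟩
    have hirr : IsIrreducible (closure (f '' s₀)) := (hs₀.1.image f hf.continuousOn).closure
    exact (hT.2 hirr hTs).antisymm hTs |>.symm ▸ rfl
  exact (h.image _).subset hsub

end Top

/-! ### Schemes -/

section Sch

theorem mem_maxPts_iff (X : Scheme.{u}) (x : X) :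
    x ∈ maxPts X ↔ ringKrullDim (X.presheaf.stalk x) = 0 := (stalk_dim_zero_iff X x).symm

theorem finite_maxPts_of_isNoetherian (F : Scheme.{u}) [IsNoetherian F] : (maxPts F).Finite := by
  rw [← finite_irreducibleComponents_iff]
  exact finite_irreducibleComponents_of_isNoetherian

theorem exists_generalization_maxPts (U : Scheme.{u}) (u₀ : U) : ∃ y ∈ maxPts U, y ⤳ u₀ := by
  obtain ⟨y, hy, hdim⟩ := exists_generalization_dim_zero U u₀
  exact ⟨y, (mem_maxPts_iff U y).2 hdim, hy⟩

/-- A flat quasi-compact morphism locally of finite type to a scheme with finitely many maximal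
points has a source with finitely many maximal points. -/
theorem finite_maxPts_of_flat {U V : Scheme.{u}} (h : U ⟶ V) [Flat h] [LocallyOfFiniteType h]
    [QuasiCompact h] (hV : (maxPts V).Finite) : (maxPts U).Finite := by
  have hsub : maxPts U ⊆ ⋃ v ∈ maxPts V, h.fiberι v '' maxPts (h.fiber v) := by
    intro u hu
    have hv : h u ∈ maxPts V := by
      intro y hy
      obtain ⟨x', hx', rfl⟩ := Flat.generalizingMap h hy
      rw [hu x' hx']
    refine Set.mem_iUnion₂.2 ⟨h u, hv, h.asFiber u, ?_, h.fiberι_asFiber u⟩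
    intro y hy
    apply (h.fiberι (h u)).isEmbedding.injective
    rw [Scheme.Hom.fiberι_asFiber]
    have := hy.map (h.fiberι (h u)).continuous
    rw [Scheme.Hom.fiberι_asFiber] at this
    exact hu _ this
  refine (hV.biUnion fun v _ => ?_).subset hsub
  have : IsLocallyNoetherian (h.fiber v) := by
    unfold Scheme.Hom.fiber
    infer_instance
  have : IsNoetherian (h.fiber v) := {}
  exact (finite_maxPts_of_isNoetherian _).image _

/-- The property: quasi-compact opens have finitely many irreducible components. -/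
abbrev Q (U : Scheme.{u}) : Prop :=
  ∀ W : U.Opens, IsCompact (W : Set ↥U) → (irreducibleComponents ↥W).Finite

instance quasiSober_opens (U : Scheme.{u}) (W : U.Opens) : QuasiSober ↥W :=
  W.2.isOpenEmbedding_subtypeVal.quasiSober

theorem q_iff (U : Scheme.{u}) :
    Q U ↔ ∀ W : U.Opens, IsCompact (W : Set ↥U) → (maxPts ↥W).Finite := by
  constructor
  · intro h W hW
    exact finite_irreducibleComponents_iff.1 (h W hW)
  · intro h W hW
    exact finite_irreducibleComponents_iff.2 (h W hW)

theorem isOpenEmbedding_inclusion {α : Type*} [TopologicalSpace α] {A B : Set α} (hA : IsOpen A)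
    (hAB : A ⊆ B) : IsOpenEmbedding (Set.inclusion hAB) := by
  have h1 : IsOpenEmbedding ((Subtype.val : B → α) ∘ Set.inclusion hAB) :=
    hA.isOpenEmbedding_subtypeVal
  exact IsOpenEmbedding.of_continuous_injective_isOpenMap (continuous_inclusion hAB)
    (Set.inclusion_injective hAB) (fun s hs => by
      have := h1.isOpenMap s hs
      rw [Set.image_comp] at this
      exact (Topology.IsInducing.subtypeVal.isOpen_iff).2 ⟨_, this, by
        rw [Set.preimage_image_eq _ Subtype.val_injective]⟩)

/-- Flat morphisms locally of finite type preserve "locally finitely many irreducible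
components". -/
theorem q_of_flat {U V : Scheme.{u}} (h : U ⟶ V) [Flat h] [LocallyOfFiniteType h] (hV : Q V) :
    Q U := by
  rw [q_iff] at hV ⊢
  intro W hW
  have key : ∀ w : W, ∃ O : U.Opens, w.1 ∈ O ∧ O ≤ W ∧ (maxPts ↥O).Finite := by
    intro w
    obtain ⟨_, ⟨V₀ : V.Opens, hV₀, rfl⟩, hwV₀, -⟩ :=
      V.isBasis_affineOpens.exists_subset_of_mem_open (Set.mem_univ (h w.1)) isOpen_univ
    obtain ⟨_, ⟨O : U.Opens, hO, rfl⟩, hwO, hOsub⟩ :=
      U.isBasis_affineOpens.exists_subset_of_mem_open
        (show w.1 ∈ ((W ⊓ h ⁻¹ᵁ V₀ : U.Opens) : Set U) from ⟨w.2, hwV₀⟩) (W ⊓ h ⁻¹ᵁ V₀).2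
    refine ⟨O, hwO, fun x hx => (hOsub hx).1, ?_⟩
    have hle : O ≤ h ⁻¹ᵁ V₀ := fun x hx => (hOsub hx).2
    have : IsAffine (V₀ : Scheme.{u}) := hV₀
    have : IsAffine (O : Scheme.{u}) := hO
    have : IsAffineHom (h.resLE V₀ O hle) := isAffineHom_of_isAffine _
    exact finite_maxPts_of_flat (h.resLE V₀ O hle) (hV V₀ hV₀.isCompact)
  choose O hwO hOW hOfin using key
  obtain ⟨t, ht⟩ := hW.elim_finite_subcover (fun w : W => ((O w : U.Opens) : Set U))
    (fun w => (O w).2) (fun x hx => Set.mem_iUnion.2 ⟨⟨x, hx⟩, hwO _⟩)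
  refine finite_maxPts_of_cover (ι := t) (fun i => ↥(O i.1))
    (fun i => Set.inclusion (hOW i.1)) (fun i => isOpenEmbedding_inclusion (O i.1).2 (hOW i.1))
    ?_ (fun i => hOfin i.1)
  intro x
  obtain ⟨i, hi, hx⟩ := Set.mem_iUnion₂.1 (ht x.2)
  exact ⟨⟨i, hi⟩, ⟨x.1, hx⟩, rfl⟩

/-- Descent of the property along étale surjections. -/
theorem q_of_etale_surjective {P U : Scheme.{u}} (e : P ⟶ U) [Etale e] [Surjective e]
    (hP : Q P) : Q U := by
  rw [q_iff] at hP ⊢
  intro W hW
  have key : ∀ w : W, ∃ O : P.Opens, IsAffineOpen O ∧ w.1 ∈ e '' (O : Set P) ∧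
      (∀ p ∈ O, e p ∈ W) := by
    intro w
    obtain ⟨p, hp⟩ := e.surjective w.1
    obtain ⟨_, ⟨O : P.Opens, hO, rfl⟩, hpO, hOsub⟩ :=
      P.isBasis_affineOpens.exists_subset_of_mem_open
        (show p ∈ ((e ⁻¹ᵁ W : P.Opens) : Set P) from by
          change e p ∈ W
          rw [hp]; exact w.2) (e ⁻¹ᵁ W).2
    exact ⟨O, hO, ⟨p, hpO, hp⟩, fun p hp => hOsub hp⟩
  choose O hOaff hwO hOW using key
  obtain ⟨t, ht⟩ := hW.elim_finite_subcover (fun w : W => e '' ((O w : P.Opens) : Set P))
    (fun w => e.isOpenMap _ (O w).2) (fun x hx => Set.mem_iUnion.2 ⟨⟨x, hx⟩, hwO _⟩)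
  let φ : ∀ w : W, ↥(O w) → ↥W := fun w p => ⟨e p.1, hOW w p.1 p.2⟩
  have hφc : ∀ w, Continuous (φ w) := fun w =>
    Continuous.subtype_mk (e.continuous.comp continuous_subtype_val) _
  have hsub : maxPts ↥W ⊆ ⋃ w ∈ t, φ w '' maxPts ↥(O w) := by
    intro x hx
    obtain ⟨w, hwt, p, hpO, hpx⟩ := Set.mem_iUnion₂.1 (ht x.2)
    obtain ⟨y, hy, hyp⟩ := exists_generalization_maxPts (O w : Scheme.{u}) ⟨p, hpO⟩
    refine Set.mem_iUnion₂.2 ⟨w, hwt, y, hy, ?_⟩
    have h1 : φ w y ⤳ φ w ⟨p, hpO⟩ := hyp.map (hφc w)
    have h2 : φ w ⟨p, hpO⟩ = x := Subtype.ext hpx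
    rw [h2] at h1
    exact hx _ h1
  refine (t.finite_toSet.biUnion fun w _ => ?_).subset hsub
  exact (hP (O w) (hOaff w).isCompact).image _

end Sch

end Groth.Agent.H53.IrrFinite
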