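import Groth.Agent.H53.IrrFinite
import Groth.Agent.Lib.Helper54.Transfer

set_option autoImplicit false
set_option backward.isDefEq.respectTransparency false
universe u
open CategoryTheory CategoryTheory.Limits AlgebraicGeometry Opposite Topology
open AlgSp

namespace Groth.Agent.H53.IrrFinite

variable {S : Scheme.{u}}

/-- Flat morphisms locally of finite type preserve "étale locally, quasi-compact opens have
finitely many irreducible components". -/
theorem etaleLocally_q_of_flat {X Y : Sp S} (hX : IsAlgSpace X) (f : X ⟶ Y)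
    (hfl : LocP @Flat f) (hlft : LocP @LocallyOfFiniteType f) (hY : EtaleLocally Q Y) :
    EtaleLocally Q X := by
  obtain ⟨V, b, hbe, hbs, hQV⟩ := hY
  obtain ⟨U₀, a₀, ha₀e, ha₀s⟩ := hX.atlas
  obtain ⟨U₁, a₁, k, ha₁, sq, hrep⟩ := Lib.Helper54.exists_chart_square f a₀ ha₀e b hbe
  have hs : RepWith @Surjective ((yon S).map a₁ ≫ a₀) :=
    Lib.Helper54.repWith_surjective_of_chart_square ha₀s hbs sq
  have h1 : Flat k.left := Lib.Helper54.locP_of_chart_square hfl hbe sq hrep
  have h2 : LocallyOfFiniteType k.left := Lib.Helper54.locP_of_chart_square hlft hbe sq hrep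
  exact ⟨U₁, (yon S).map a₁ ≫ a₀, hrep, hs, q_of_flat k.left hQV⟩

end Groth.Agent.H53.IrrFinite
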