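import Groth.Agent.H53.IrrFinite2
import Groth.Agent.H53.CodimQF2
import Groth.Agent.H53.SpTop
import Groth.Agent.H52.QC

set_option autoImplicit false
set_option backward.isDefEq.respectTransparency false
universe u
open CategoryTheory CategoryTheory.Limits AlgebraicGeometry Opposite Topology
open AlgSp

namespace Groth.Agent.H53.IrrFinite

variable {S : Scheme.{u}}

/-- If one étale surjective chart has the property, every étale chart has it. -/
theorem q_of_etaleLocally {X : Sp S} (hX : EtaleLocally Q X) {U : Over S}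
    (a : (yon S).obj U ⟶ X) (ha : RepWith @Etale a) : Q U.left := by
  obtain ⟨V, b, hbe, hbs, hQV⟩ := hX
  obtain ⟨W, p, p', sq, hp⟩ := CodimQF.exists_pullback_charts a b hbe
  have hp' : Etale p'.left := ha.property b _ _ sq
  have hps : Surjective p.left := hbs.property a _ _ sq.flip
  have hQW : Q W.left := q_of_flat p'.left hQV
  exact q_of_etale_surjective p.left hQW

theorem finite_irreducibleComponents_of_q {T : Scheme.{u}} [CompactSpace T] (hT : Q T) :
    (irreducibleComponents T).Finite := by
  have h1 := hT ⊤ isCompact_univ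
  exact finite_irreducibleComponents_of_surjective (f := (Subtype.val : (⊤ : T.Opens) → T))
    continuous_subtype_val (fun t => ⟨⟨t, trivial⟩, rfl⟩) h1

theorem finite_maxPts_of_q {T : Scheme.{u}} [CompactSpace T] (hT : Q T) : (maxPts T).Finite :=
  finite_irreducibleComponents_iff.1 (finite_irreducibleComponents_of_q hT)

/-- The étale morphism from a quasi-compact open of a chart. -/
theorem isEtaleMor_overOpen {X : Sp S} {U : Over S} (a : (yon S).obj U ⟶ X)
    (ha : RepWith @Etale a) (W : U.left.Opens) :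
    IsEtaleMor ((yon S).map (H52.overOpenι U W) ≫ a) := by
  intro T φ hφ
  have : (RepWith (S := S) @Etale).IsMultiplicative := repWith_isMultiplicative _
  rw [← Category.assoc]
  exact MorphismProperty.comp_mem _ _ _
    (MorphismProperty.comp_mem _ _ _ hφ (H52.repWith_etale_overOpenι U W)) ha

theorem ofPt_id {T : Over S} (t : ↥T.left) :
    Points.ofPt (𝟙 ((yon S).obj T)) t = Points.ofScheme T t := by
  rw [Points.ofPt_eq_map_ofScheme, Points.map_id]

/-- The three characterizations. -/
theorem main {X : Sp S} (hX : IsAlgSpace X) :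
    (EtaleLocally Q X ↔ ∀ (U : Over S) (a : (yon S).obj U ⟶ X), RepWith @Etale a → Q U.left) ∧
    (EtaleLocally Q X ↔ ∀ (Y : Sp S) (g : Y ⟶ X), IsAlgSpace Y → IsEtaleMor g →
      IsQuasiCompactSp Y →
        {y : Points Y | HasAt (fun U u => ringKrullDim ↥(U.presheaf.stalk u) = 0) Y y}.Finite) ∧
    (EtaleLocally Q X ↔ ∀ (Y : Sp S) (g : Y ⟶ X), IsAlgSpace Y → IsEtaleMor g →
      IsQuasiCompactSp Y → (irreducibleComponents (Points Y)).Finite) := by
  obtain ⟨U₀, a₀, ha₀e, ha₀s⟩ := hX.atlas
  -- reduction of the converse directions to quasi-compact opens of the atlas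
  have conv : (∀ W : U₀.left.Opens, IsCompact (W : Set ↥U₀.left) → (maxPts ↥W).Finite) →
      EtaleLocally Q X := fun h => ⟨U₀, a₀, ha₀e, ha₀s, (q_iff U₀.left).2 h⟩
  refine ⟨⟨fun h U a ha => q_of_etaleLocally h a ha, fun h => ⟨U₀, a₀, ha₀e, ha₀s, h U₀ a₀ ha₀e⟩⟩,
    ⟨fun h Y g hY hg hYqc => ?_, fun h => conv fun W hW => ?_⟩,
    ⟨fun h Y g hY hg hYqc => ?_, fun h => conv fun W hW => ?_⟩⟩
  · obtain ⟨T, t, hte, hts, hTc⟩ := hYqc
    have : CompactSpace ↥T.left := hTc
    have hQT : Q T.left := q_of_etaleLocally h (t ≫ g) (hg t hte)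
    have hfin := finite_maxPts_of_q hQT
    refine (hfin.image (Points.ofPt t)).subset ?_
    intro y hy
    obtain ⟨u, rfl⟩ := surjective_ofPt_of_surjective t hts y
    exact ⟨u, (mem_maxPts_iff T.left u).2 (CodimQF.stalk_dim_zero_of_hasAt t hte u hy), rfl⟩
  · have : CompactSpace ↥(H52.overOpen U₀ W).left := isCompact_iff_compactSpace.1 hW
    have hfin := h ((yon S).obj (H52.overOpen U₀ W)) _ (IsAlgSpace.yon_obj _)
      (isEtaleMor_overOpen a₀ ha₀e W) (H52.isQuasiCompactSp_yon _)
    have hfin' : (maxPts ↥(H52.overOpen U₀ W).left).Finite := by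
      have hinj : Set.InjOn (Points.ofScheme (H52.overOpen U₀ W))
          (maxPts ↥(H52.overOpen U₀ W).left) :=
        fun x _ y _ hxy => (Points.schemeEquiv _).injective hxy
      refine Set.Finite.of_finite_image (hfin.subset ?_) hinj
      rintro _ ⟨w, hw, rfl⟩
      exact ⟨H52.overOpen U₀ W, 𝟙 _, w, repWith_id (@Etale : MorphismProperty Scheme.{u}) _,
        ofPt_id w, (mem_maxPts_iff (H52.overOpen U₀ W).left w).1 hw⟩
    exact hfin'
  · obtain ⟨T, t, hte, hts, hTc⟩ := hYqc
    have : CompactSpace ↥T.left := hTc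
    have hQT : Q T.left := q_of_etaleLocally h (t ≫ g) (hg t hte)
    exact finite_irreducibleComponents_of_surjective (Points.continuous_ofPt t)
      (surjective_ofPt_of_surjective t hts) (finite_irreducibleComponents_of_q hQT)
  · have : CompactSpace ↥(H52.overOpen U₀ W).left := isCompact_iff_compactSpace.1 hW
    have hfin := h ((yon S).obj (H52.overOpen U₀ W)) _ (IsAlgSpace.yon_obj _)
      (isEtaleMor_overOpen a₀ ha₀e W) (H52.isQuasiCompactSp_yon _)
    have h2 : (irreducibleComponents ↥W).Finite :=
      finite_irreducibleComponents_of_surjective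
        (f := (Points.schemeHomeo (H52.overOpen U₀ W)).symm)
        (Points.schemeHomeo (H52.overOpen U₀ W)).symm.continuous
        (Points.schemeHomeo (H52.overOpen U₀ W)).symm.surjective hfin
    exact finite_irreducibleComponents_iff.1 h2

end Groth.Agent.H53.IrrFinite
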