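import Groth.Agent.H53.LinTopBasic

set_option autoImplicit false
universe u v w

namespace Groth.Agent.H53

open Topology

section WeaklyPreadic
variable {A : Type u} [CommRing A] [TopologicalSpace A] [IsTopologicalRing A]

/-- witness form of "weakly preadic with respect to I" -/
def IsWPWitness (I : Ideal A) : Prop :=
  (∀ n : ℕ, IsOpen (closure ((I ^ n : Ideal A) : Set A))) ∧
      ∀ U ∈ nhds (0 : A), ∃ n : ℕ, closure ((I ^ n : Ideal A) : Set A) ⊆ U

theorem IsWPWitness.isIdealOfDefinition_closure {I : Ideal A} (h : IsWPWitness I) :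
    LinTop.IsIdealOfDefinition A I.closure := by
  obtain ⟨hIo, hIn⟩ := h
  refine ⟨by simpa using hIo 1, fun U hU => ?_⟩
  obtain ⟨n, hn⟩ := hIn U hU
  refine ⟨n + 1, Nat.succ_pos n, subset_trans ?_ hn⟩
  have h1 : I.closure ^ (n + 1) ≤ (I ^ (n + 1)).closure := closure_pow_le _ _
  have h2 : (I ^ (n + 1)).closure ≤ (I ^ n).closure :=
    ideal_closure_mono (Ideal.pow_le_pow_right (Nat.le_succ n))
  exact fun x hx => h2 (h1 hx)

/-- If `A` is weakly preadic with witness `I`, then for every ideal of definition `J`, the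
closures of the powers of `J` are open. -/
theorem IsWPWitness.isOpen_closure_pow {I : Ideal A} (h : IsWPWitness I) (J : Ideal A)
    (hJ : LinTop.IsIdealOfDefinition A J) (n : ℕ) :
    IsOpen (closure ((J ^ n : Ideal A) : Set A)) := by
  obtain ⟨hIo, hIn⟩ := h
  obtain ⟨k, hk⟩ := hIn J (hJ.1.mem_nhds J.zero_mem)
  have h1 : I ^ k ≤ J := fun x hx => hk (subset_closure hx)
  have h2 : (I ^ (k * n)).closure ≤ (J ^ n).closure := by
    apply ideal_closure_mono
    rw [pow_mul]
    exact Ideal.pow_right_mono h1 n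
  exact ideal_isOpen_mono h2 (hIo _)

/-- An ideal of definition whose powers have open closures is a witness of weak preadicness
(in a linearly topologized ring). -/
theorem isWPWitness_of_isIdealOfDefinition [IsLinearTopology A A] {I : Ideal A}
    (hI : LinTop.IsIdealOfDefinition A I)
    (ho : ∀ n : ℕ, 0 < n → IsOpen (closure ((I ^ n : Ideal A) : Set A))) : IsWPWitness I := by
  refine ⟨fun n => ?_, fun U hU => ?_⟩
  · rcases Nat.eq_zero_or_pos n with rfl | hn
    · simp
    · exact ho n hn
  · obtain ⟨K, hK, hKU⟩ := (IsLinearTopology.hasBasis_open_ideal (R := A)).mem_iff.mp hU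
    obtain ⟨n, -, hn⟩ := hI.2 K (hK.mem_nhds K.zero_mem)
    refine ⟨n, subset_trans ?_ hKU⟩
    have h1 : (I ^ n).closure ≤ K.closure := ideal_closure_mono hn
    rwa [ideal_closure_eq_of_isOpen K hK] at h1

end WeaklyPreadic

section TautAdic
variable {A' : Type u} [CommRing A'] [TopologicalSpace A'] [IsTopologicalRing A']
variable {A : Type v} [CommRing A] [TopologicalSpace A] [IsTopologicalRing A]

/-- If `A'` is `J`-adic and `φ : A' → A` is a ring hom such that `J.map φ` is a witness of weak
preadicness of `A`, then `φ` is taut. -/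
theorem isTaut_of_isAdic_of_isWPWitness (φ : A' →+* A) (J : Ideal A') (hJ : IsAdic J)
    (h : IsWPWitness (J.map φ)) : LinTop.IsTaut φ := by
  obtain ⟨hIo, hIn⟩ := h
  have hJ' := isAdic_iff.mp hJ
  refine ⟨?_, fun I' hI' => ?_, fun U hU => ?_⟩
  · apply continuous_of_continuousAt_zero φ
    rw [ContinuousAt, map_zero]
    intro U hU
    obtain ⟨n, hn⟩ := hIn U hU
    rw [Filter.mem_map]
    refine Filter.mem_of_superset ((hJ'.1 n).mem_nhds (J ^ n).zero_mem) ?_
    intro x hx
    apply hn
    apply subset_closure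
    rw [← Ideal.map_pow]
    exact Ideal.mem_map_of_mem φ hx
  · obtain ⟨n, hn⟩ := hJ'.2 I' (hI'.mem_nhds I'.zero_mem)
    have h1 : ((J.map φ) ^ n).closure ≤ (I'.map φ).closure := by
      apply ideal_closure_mono
      rw [← Ideal.map_pow]
      exact Ideal.map_mono hn
    exact ideal_isOpen_mono h1 (hIo n)
  · obtain ⟨n, hn⟩ := hIn U hU
    refine ⟨J ^ n, hJ'.1 n, ?_⟩
    rw [Ideal.map_pow]
    exact hn

end TautAdic

section PreadicWP
variable {A : Type u} [CommRing A] [TopologicalSpace A] [IsTopologicalRing A]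

omit [IsTopologicalRing A] in
theorem isLinearTopology_of_isAdic {J : Ideal A} (hJ : IsAdic J) : IsLinearTopology A A :=
  IsLinearTopology.mk_of_hasBasis _ hJ.hasBasis_nhds_zero

theorem isWPWitness_of_isAdic {J : Ideal A} (hJ : IsAdic J) : IsWPWitness J := by
  have hJ' := isAdic_iff.mp hJ
  refine ⟨fun n => ?_, fun U hU => ?_⟩
  · rw [← Ideal.coe_closure, ideal_closure_eq_of_isOpen _ (hJ'.1 n)]
    exact hJ'.1 n
  · obtain ⟨n, hn⟩ := hJ'.2 U hU
    refine ⟨n, ?_⟩
    rw [← Ideal.coe_closure, ideal_closure_eq_of_isOpen _ (hJ'.1 n)]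
    exact hn

end PreadicWP

section MapWitness
variable {A : Type u} [CommRing A] [TopologicalSpace A] [IsTopologicalRing A]
variable {B : Type v} [CommRing B] [TopologicalSpace B] [IsTopologicalRing B]

/-- A taut map sends a witness of weak preadicness to a witness. -/
theorem IsWPWitness.map_of_isTaut {I : Ideal A} (h : IsWPWitness I) (φ : A →+* B)
    (hφ : LinTop.IsTaut φ) : IsWPWitness (I.map φ) := by
  obtain ⟨hIo, hIn⟩ := h
  obtain ⟨hc, h2, h3⟩ := hφ
  have key : ∀ n : ℕ, (((I.map φ) ^ n : Ideal B).closure) = (((I ^ n).closure.map φ).closure) := by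
    intro n
    rw [closure_map_closure φ hc, Ideal.map_pow]
  refine ⟨fun n => ?_, fun U hU => ?_⟩
  · have := h2 (I ^ n).closure (hIo n)
    rw [← Ideal.coe_closure, ← key n] at this
    exact this
  · obtain ⟨I', hI'o, hI'U⟩ := h3 U hU
    obtain ⟨n, hn⟩ := hIn I' (hI'o.mem_nhds I'.zero_mem)
    refine ⟨n, subset_trans ?_ hI'U⟩
    have h5 : ((I.map φ) ^ n).closure ≤ (I'.map φ).closure := by
      rw [key n]
      apply ideal_closure_mono
      exact Ideal.map_mono hn
    exact h5

/-- In a preadic ring, any ideal of definition is a witness of weak preadicness. -/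
theorem isWPWitness_of_isPreadic_of_isIdealOfDefinition (hA : LinTop.IsPreadic A) {I : Ideal A}
    (hI : LinTop.IsIdealOfDefinition A I) : IsWPWitness I := by
  have ho : ∀ n, IsOpen ((I ^ n : Ideal A) : Set A) := isOpen_pow_of_isPreadic hA I hI.1
  refine ⟨fun n => ?_, fun U hU => ?_⟩
  · rw [← Ideal.coe_closure, ideal_closure_eq_of_isOpen _ (ho n)]
    exact ho n
  · obtain ⟨n, -, hn⟩ := hI.2 U hU
    refine ⟨n, ?_⟩
    rw [← Ideal.coe_closure, ideal_closure_eq_of_isOpen _ (ho n)]
    exact hn

end MapWitness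

end Groth.Agent.H53
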