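import Groth.Prelude.Def_W4stk3formalspacesTaut

set_option autoImplicit false
universe u v w

namespace Groth.Agent.H53

open Topology

section
variable {A : Type u} [CommRing A] [TopologicalSpace A] [IsTopologicalRing A]

/-- An ideal containing an open ideal is open. -/
theorem ideal_isOpen_mono {I J : Ideal A} (h : I ≤ J) (hI : IsOpen (I : Set A)) :
    IsOpen (J : Set A) :=
  Submodule.isOpen_mono h hI

/-- An open ideal is closed. -/
theorem ideal_isClosed_of_isOpen (I : Ideal A) (hI : IsOpen (I : Set A)) :
    IsClosed (I : Set A) :=
  I.toAddSubgroup.isClosed_of_isOpen hI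

theorem ideal_closure_eq_of_isOpen (I : Ideal A) (hI : IsOpen (I : Set A)) :
    I.closure = I :=
  I.closure_eq_of_isClosed (ideal_isClosed_of_isOpen I hI)

theorem ideal_le_closure (I : Ideal A) : I ≤ I.closure := fun _ hx => subset_closure hx

theorem ideal_closure_mono {I J : Ideal A} (h : I ≤ J) : I.closure ≤ J.closure :=
  fun _ hx => closure_mono (show (I : Set A) ⊆ J from h) hx

omit [IsTopologicalRing A] in
/-- The preimage of an open ideal under a continuous ring hom is open. -/
theorem isOpen_comap {B : Type v} [CommRing B] [TopologicalSpace B]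
    (φ : A →+* B) (hφ : Continuous φ) (J : Ideal B) (hJ : IsOpen (J : Set B)) :
    IsOpen ((J.comap φ : Ideal A) : Set A) :=
  hJ.preimage hφ

end

section Nilp
variable {B : Type v} [CommRing B] [TopologicalSpace B] [IsTopologicalRing B] [IsLinearTopology B B]

/-- In a linearly topologized ring, `g` is topologically nilpotent iff it lies in the radical of
every open ideal. -/
theorem isTopologicallyNilpotent_iff_forall_radical (g : B) :
    IsTopologicallyNilpotent g ↔ ∀ K : Ideal B, IsOpen (K : Set B) → g ∈ K.radical := by
  constructor
  · intro hg K hK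
    exact hg.exists_pow_mem_of_mem_nhds (hK.mem_nhds K.zero_mem)
  · intro h
    unfold IsTopologicallyNilpotent
    rw [Filter.atTop_basis.tendsto_iff IsLinearTopology.hasBasis_open_ideal]
    intro K hK
    obtain ⟨m, hm⟩ := h K hK
    refine ⟨m, trivial, fun n hn => ?_⟩
    have hn' : m ≤ n := hn
    show g ^ n ∈ K
    rw [← Nat.sub_add_cancel hn', pow_add]
    exact K.mul_mem_left _ hm

theorem topologicalNilradical_eq_iInter :
    ((topologicalNilradical B : Ideal B) : Set B) =
      ⋂ (K : Ideal B) (_ : IsOpen (K : Set B)), (K.radical : Set B) := by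
  ext g
  simp only [Set.mem_iInter, SetLike.mem_coe,
    IsTopologicallyNilpotent.mem_topologicalNilradical_iff]
  exact isTopologicallyNilpotent_iff_forall_radical g

theorem isClosed_topologicalNilradical :
    IsClosed ((topologicalNilradical B : Ideal B) : Set B) := by
  rw [topologicalNilradical_eq_iInter]
  refine isClosed_iInter fun K => isClosed_iInter fun hK => ?_
  exact ideal_isClosed_of_isOpen _ (ideal_isOpen_mono Ideal.le_radical hK)

theorem closure_map_le_topologicalNilradical
    {A : Type u} [CommRing A] [TopologicalSpace A]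
    (φ : A →+* B) (hφ : Continuous φ) (I : Ideal A)
    (hI : ∀ f ∈ I, IsTopologicallyNilpotent f) :
    (I.map φ).closure ≤ topologicalNilradical B := by
  have h1 : I.map φ ≤ topologicalNilradical B := by
    rw [Ideal.map_le_iff_le_comap]
    intro f hf
    rw [Ideal.mem_comap, IsTopologicallyNilpotent.mem_topologicalNilradical_iff]
    exact (hI f hf).map hφ
  have h2 := ideal_closure_mono h1
  rwa [Ideal.closure_eq_of_isClosed _ isClosed_topologicalNilradical] at h2

end Nilp

section Closure
variable {A : Type u} [CommRing A] [TopologicalSpace A] [IsTopologicalRing A]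

theorem closure_mul_closure_le (I J : Ideal A) : I.closure * J.closure ≤ (I * J).closure := by
  rw [Ideal.mul_le]
  intro x hx y hy
  exact map_mem_closure₂ continuous_mul hx hy (fun a ha b hb => Ideal.mul_mem_mul ha hb)

theorem closure_pow_le (I : Ideal A) (n : ℕ) : I.closure ^ n ≤ (I ^ n).closure := by
  induction n with
  | zero => simp only [pow_zero, Ideal.one_eq_top]; exact ideal_le_closure _
  | succ n ih =>
    rw [pow_succ, pow_succ]
    exact (Ideal.mul_mono_left ih).trans (closure_mul_closure_le _ _)

theorem closure_closure (I : Ideal A) : I.closure.closure = I.closure :=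
  I.closure.closure_eq_of_isClosed isClosed_closure

/-- `closure((closure I).map φ) = closure(I.map φ)` for continuous `φ`. -/
theorem closure_map_closure {B : Type v} [CommRing B] [TopologicalSpace B] [IsTopologicalRing B]
    (φ : A →+* B) (hφ : Continuous φ) (I : Ideal A) :
    (I.closure.map φ).closure = (I.map φ).closure := by
  apply le_antisymm
  · have h1 : I.closure.map φ ≤ (I.map φ).closure := by
      rw [Ideal.map_le_iff_le_comap]
      intro x hx
      rw [Ideal.mem_comap]
      exact map_mem_closure hφ hx (fun a ha => Ideal.mem_map_of_mem φ ha)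
    have h2 := ideal_closure_mono h1
    rwa [closure_closure] at h2
  · exact ideal_closure_mono (Ideal.map_mono (ideal_le_closure I))

end Closure

section Adic
variable {A : Type u} [CommRing A] [TopologicalSpace A] [IsTopologicalRing A]

/-- In a preadic ring, all powers of an open ideal are open. -/
theorem isOpen_pow_of_isPreadic (hA : LinTop.IsPreadic A) (I : Ideal A)
    (hI : IsOpen (I : Set A)) (n : ℕ) : IsOpen ((I ^ n : Ideal A) : Set A) := by
  obtain ⟨I0, hI0⟩ := hA
  rw [isAdic_iff] at hI0
  obtain ⟨k, hk⟩ := hI0.2 I (hI.mem_nhds I.zero_mem)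
  have h1 : I0 ^ (k * n) ≤ I ^ n := by
    rw [pow_mul]
    exact Ideal.pow_right_mono hk n
  exact ideal_isOpen_mono h1 (hI0.1 _)

end Adic

section FFlat
variable {A : Type u} [CommRing A] [TopologicalSpace A]
variable {B : Type v} [CommRing B] [TopologicalSpace B] [IsTopologicalRing B]

/-- In the taut faithfully flat situation, `φ⁻¹(closure(φ(I)B)) = I` for every open ideal `I`. -/
theorem comap_closure_map_eq_of_isTautFFlat {φ : A →+* B} (hφ : LinTop.IsTautFFlat φ)
    (I : Ideal A) (hI : IsOpen (I : Set A)) : (I.map φ).closure.comap φ = I := by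
  apply le_antisymm
  · intro x hx
    have hinj := (hφ.2 I hI).injective
    have h1 : LinTop.descentMap φ I (Ideal.Quotient.mk I x) = 0 := by
      unfold LinTop.descentMap
      rw [Ideal.quotientMap_mk]
      exact Ideal.Quotient.eq_zero_iff_mem.mpr hx
    have h2 : Ideal.Quotient.mk I x = 0 := hinj (by rw [h1, map_zero])
    exact Ideal.Quotient.eq_zero_iff_mem.mp h2
  · exact Ideal.le_comap_map.trans (Ideal.comap_mono fun _ hx => subset_closure hx)

end FFlat

end Groth.Agent.H53
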