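import Groth.Agent.H53.LinTopAdic
import Mathlib.Topology.Algebra.UniformRing

set_option autoImplicit false
universe u v w

namespace Groth.Agent.H53

open Topology UniformSpace

section Completion
variable {A : Type u} [CommRing A] [UniformSpace A] [IsUniformAddGroup A] [IsTopologicalRing A]

/-- The closure in the completion of the image of an ideal, as an ideal of the completion. -/
def closureImageIdeal (I : Ideal A) : Ideal (Completion A) where
  carrier := closure ((fun a : A => (a : Completion A)) '' (I : Set A))
  add_mem' := by
    intro x y hx hy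
    refine map_mem_closure₂ continuous_add hx hy ?_
    rintro _ ⟨a, ha, rfl⟩ _ ⟨b, hb, rfl⟩
    exact ⟨a + b, I.add_mem ha hb, Completion.coe_add a b⟩
  zero_mem' := subset_closure ⟨0, I.zero_mem, Completion.coe_zero⟩
  smul_mem' := by
    intro c x hx
    have hc : c ∈ closure (Set.range (fun a : A => (a : Completion A))) :=
      Completion.denseRange_coe c
    refine map_mem_closure₂ continuous_mul hc hx ?_
    rintro _ ⟨a, rfl⟩ _ ⟨b, hb, rfl⟩
    exact ⟨a * b, I.mul_mem_left a hb, Completion.coe_mul a b⟩

theorem coe_closureImageIdeal (I : Ideal A) :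
    (closureImageIdeal I : Set (Completion A)) =
      closure ((fun a : A => (a : Completion A)) '' (I : Set A)) := rfl

theorem closure_map_coeRingHom (I : Ideal A) :
    (I.map (Completion.coeRingHom : A →+* Completion A)).closure = closureImageIdeal I := by
  apply le_antisymm
  · have h1 : I.map (Completion.coeRingHom : A →+* Completion A) ≤ closureImageIdeal I := by
      rw [Ideal.map_le_iff_le_comap]
      intro a ha
      exact subset_closure ⟨a, ha, rfl⟩
    have h2 := ideal_closure_mono h1
    have h3 : (closureImageIdeal I).closure = closureImageIdeal I :=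
      Ideal.closure_eq_of_isClosed _ (by rw [coe_closureImageIdeal]; exact isClosed_closure)
    rwa [h3] at h2
  · intro x hx
    refine closure_mono ?_ hx
    rintro _ ⟨a, ha, rfl⟩
    exact Ideal.mem_map_of_mem _ ha

theorem closureImageIdeal_mem_nhds (I : Ideal A) (hI : IsOpen (I : Set A)) :
    (closureImageIdeal I : Set (Completion A)) ∈ 𝓝 (0 : Completion A) := by
  have := Completion.isDenseInducing_coe.closure_image_mem_nhds (hI.mem_nhds I.zero_mem)
  rwa [Completion.coe_zero] at this

theorem isOpen_closureImageIdeal (I : Ideal A) (hI : IsOpen (I : Set A)) :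
    IsOpen (closureImageIdeal I : Set (Completion A)) :=
  (closureImageIdeal I).toAddSubgroup.isOpen_of_mem_nhds (closureImageIdeal_mem_nhds I hI)

theorem exists_closureImageIdeal_subset [IsLinearTopology A A] (U : Set (Completion A))
    (hU : U ∈ 𝓝 (0 : Completion A)) :
    ∃ I : Ideal A, IsOpen (I : Set A) ∧ (closureImageIdeal I : Set (Completion A)) ⊆ U := by
  obtain ⟨V, ⟨hV, hVc⟩, hVU⟩ := (closed_nhds_basis (0 : Completion A)).mem_iff.mp hU
  have h1 : (fun a : A => (a : Completion A)) ⁻¹' V ∈ 𝓝 (0 : A) := by
    apply (Completion.continuous_coe A).continuousAt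
    rwa [Completion.coe_zero]
  obtain ⟨I, hI, hIV⟩ := (IsLinearTopology.hasBasis_open_ideal (R := A)).mem_iff.mp h1
  refine ⟨I, hI, subset_trans ?_ hVU⟩
  rw [coe_closureImageIdeal]
  apply closure_minimal _ hVc
  rintro _ ⟨a, ha, rfl⟩
  exact hIV ha

instance isLinearTopology_completion [IsLinearTopology A A] :
    IsLinearTopology (Completion A) (Completion A) := by
  have hb : (𝓝 (0 : Completion A)).HasBasis (fun I : Ideal A => IsOpen (I : Set A))
      (fun I => (closureImageIdeal I : Set (Completion A))) := by
    constructor
    intro U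
    constructor
    · intro hU
      obtain ⟨I, hI, hIU⟩ := exists_closureImageIdeal_subset U hU
      exact ⟨I, hI, hIU⟩
    · rintro ⟨I, hI, hIU⟩
      exact Filter.mem_of_superset (closureImageIdeal_mem_nhds I hI) hIU
  exact IsLinearTopology.mk_of_hasBasis _ hb

theorem isTaut_coeRingHom [IsLinearTopology A A] :
    LinTop.IsTaut (Completion.coeRingHom : A →+* Completion A) := by
  refine ⟨Completion.continuous_coeRingHom, fun I hI => ?_, fun U hU => ?_⟩
  · rw [← Ideal.coe_closure, closure_map_coeRingHom]
    exact isOpen_closureImageIdeal I hI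
  · obtain ⟨I, hI, hIU⟩ := exists_closureImageIdeal_subset U hU
    refine ⟨I, hI, ?_⟩
    rw [← Ideal.coe_closure, closure_map_coeRingHom]
    exact hIU

end Completion

end Groth.Agent.H53
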