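import Groth.Agent.H53.LinTopCompletion
import Groth.Agent.H53.Approx

set_option autoImplicit false
universe u v w

namespace Groth.Agent.H53

open Topology Filter

section DenseIdeal
variable {A : Type u} [CommRing A]
variable {B : Type v} [CommRing B] [TopologicalSpace B] [IsTopologicalRing B]

/-- For a ring hom with dense range, the closure of the image of an ideal is an ideal. -/
def closureImageIdealOf (φ : A →+* B) (hd : DenseRange φ) (I : Ideal A) : Ideal B where
  carrier := closure (φ '' (I : Set A))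
  add_mem' := by
    intro x y hx hy
    refine map_mem_closure₂ continuous_add hx hy ?_
    rintro _ ⟨a, ha, rfl⟩ _ ⟨b, hb, rfl⟩
    exact ⟨a + b, I.add_mem ha hb, map_add φ a b⟩
  zero_mem' := subset_closure ⟨0, I.zero_mem, map_zero φ⟩
  smul_mem' := by
    intro c x hx
    have hc : c ∈ closure (Set.range φ) := hd c
    refine map_mem_closure₂ continuous_mul hc hx ?_
    rintro _ ⟨a, rfl⟩ _ ⟨b, hb, rfl⟩
    exact ⟨a * b, I.mul_mem_left a hb, map_mul φ a b⟩

theorem closure_map_eq_of_denseRange (φ : A →+* B) (hd : DenseRange φ) (I : Ideal A) :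
    ((I.map φ).closure : Set B) = closure (φ '' (I : Set A)) := by
  apply Set.Subset.antisymm
  · have h1 : I.map φ ≤ closureImageIdealOf φ hd I := by
      rw [Ideal.map_le_iff_le_comap]
      intro a ha
      exact subset_closure ⟨a, ha, rfl⟩
    have h2 := ideal_closure_mono h1
    have h3 : (closureImageIdealOf φ hd I).closure = closureImageIdealOf φ hd I :=
      Ideal.closure_eq_of_isClosed _ (by show IsClosed (closure _); exact isClosed_closure)
    rw [h3] at h2
    exact h2
  · refine closure_mono ?_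
    rintro _ ⟨a, ha, rfl⟩
    exact Ideal.mem_map_of_mem _ ha

end DenseIdeal

section TautComp
variable {A : Type u} [CommRing A] [TopologicalSpace A] [IsTopologicalRing A]
variable {B : Type v} [CommRing B] [TopologicalSpace B] [IsTopologicalRing B]
variable {C : Type w} [CommRing C] [TopologicalSpace C] [IsTopologicalRing C]

omit [IsTopologicalRing A] in
/-- The composition of taut maps is taut. -/
theorem isTaut_comp {φ : A →+* B} {ψ : B →+* C} (hφ : LinTop.IsTaut φ) (hψ : LinTop.IsTaut ψ) :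
    LinTop.IsTaut (ψ.comp φ) := by
  have key : ∀ I : Ideal A, (I.map (ψ.comp φ)).closure = ((I.map φ).closure.map ψ).closure := by
    intro I
    rw [closure_map_closure ψ hψ.1, Ideal.map_map]
  refine ⟨hψ.1.comp hφ.1, fun I hI => ?_, fun U hU => ?_⟩
  · rw [← Ideal.coe_closure, key]
    exact hψ.2.1 _ (hφ.2.1 I hI)
  · obtain ⟨J, hJ, hJU⟩ := hψ.2.2 U hU
    obtain ⟨I, hI, hIJ⟩ := hφ.2.2 J (hJ.mem_nhds J.zero_mem)
    refine ⟨I, hI, subset_trans ?_ hJU⟩
    rw [← Ideal.coe_closure, key]
    exact ideal_closure_mono (Ideal.map_mono hIJ)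

end TautComp

section Surj
variable {A : Type u} [CommRing A] [UniformSpace A] [IsUniformAddGroup A] [IsTopologicalRing A]
  [IsLinearTopology A A] [CompleteSpace A]
variable {B : Type v} [CommRing B] [TopologicalSpace B] [IsTopologicalRing B] [T2Space B]

/-- Key consequence of successive approximation: for a taut map with dense image from a complete
first countable linearly topologized ring to a Hausdorff ring, the image of an open ideal `I` is
the closure of `φ(I)B`. -/
theorem exists_preimage_of_mem_closure_map (hA : (𝓝 (0 : A)).IsCountablyGenerated)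
    (φ : A →+* B) (hφ : LinTop.IsTaut φ) (hd : DenseRange φ)
    (I : Ideal A) (hI : IsOpen (I : Set A)) (y : B) (hy : y ∈ (I.map φ).closure) :
    ∃ a ∈ I, φ a = y := by
  have : NonarchimedeanRing A := nonarchimedeanRing_of_isLinearTopology
  obtain ⟨x, hx⟩ := (𝓝 (0 : A)).exists_antitone_basis
  have hx' : ∀ n, ∃ I' : Ideal A, IsOpen (I' : Set A) ∧ (I' : Set A) ⊆ x n := fun n =>
    (IsLinearTopology.hasBasis_open_ideal (R := A)).mem_iff.mp (hx.mem n)
  choose I' hI'o hI'x using hx'
  let Ik : ℕ → Ideal A := fun k => Nat.rec (motive := fun _ => Ideal A) I (fun n J => J ⊓ I' n) k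
  have Ik_zero : Ik 0 = I := rfl
  have Ik_succ : ∀ n, Ik (n + 1) = Ik n ⊓ I' n := fun n => rfl
  have hIk_anti : Antitone Ik := antitone_nat_of_succ_le (fun n => by rw [Ik_succ]; exact inf_le_left)
  have hIk_open : ∀ n, IsOpen (Ik n : Set A) := by
    intro n
    induction n with
    | zero => exact hI
    | succ n ih => rw [Ik_succ]; exact ih.inter (hI'o n)
  have hIk_x : ∀ n, (Ik (n + 1) : Set A) ⊆ x n := fun n a ha => hI'x n (by
    rw [Ik_succ] at ha; exact ha.2)
  let Mk : ℕ → AddSubgroup A := fun k => (Ik k).toAddSubgroup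
  let Nk : ℕ → AddSubgroup B := fun k => ((Ik k).map φ).closure.toAddSubgroup
  have hMk : Antitone Mk := fun k k' h a ha => hIk_anti h ha
  have hM : ∀ U ∈ 𝓝 (0 : A), ∃ k, (Mk k : Set A) ⊆ U := by
    intro U hU
    obtain ⟨n, -, hn⟩ := hx.1.mem_iff.mp hU
    exact ⟨n + 1, subset_trans (hIk_x n) hn⟩
  have hN : ∀ U ∈ 𝓝 (0 : B), ∃ k, ∀ i, k ≤ i → (Nk i : Set B) ⊆ U := by
    intro U hU
    obtain ⟨I'', hI''o, hI''U⟩ := hφ.2.2 U hU
    obtain ⟨n, -, hn⟩ := hx.1.mem_iff.mp (hI''o.mem_nhds I''.zero_mem)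
    refine ⟨n + 1, fun i hi => subset_trans ?_ hI''U⟩
    have h1 : Ik i ≤ I'' := fun a ha => hn (hIk_x n (hIk_anti hi ha))
    exact ideal_closure_mono (Ideal.map_mono h1)
  have happrox : ∀ k, ∀ y ∈ Nk k, ∃ m ∈ Mk k, y - (φ : A →+ B) m ∈ Nk (k + 1) := by
    intro k y hy
    have hy' : y ∈ closure (φ '' (Ik k : Set A)) := by
      rw [← closure_map_eq_of_denseRange φ hd]
      exact hy
    have hopen : IsOpen ((((Ik (k + 1)).map φ).closure : Ideal B) : Set B) :=
      hφ.2.1 _ (hIk_open (k + 1))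
    have hV : (fun z => y - z) ⁻¹' ((((Ik (k + 1)).map φ).closure : Ideal B) : Set B) ∈ 𝓝 y := by
      have hc : Continuous (fun z : B => y - z) := continuous_const.sub continuous_id
      apply hc.continuousAt
      simp only [sub_self]
      exact hopen.mem_nhds (Ideal.zero_mem _)
    obtain ⟨z, hz1, ⟨a, ha, rfl⟩⟩ := mem_closure_iff_nhds.mp hy' _ hV
    exact ⟨a, ha, hz1⟩
  obtain ⟨m, hm, hmy⟩ := exists_preimage_of_approx (φ : A →+ B) hφ.1 Mk Nk hMk hM hN happrox 0 y hy
  refine ⟨m, ?_, hmy⟩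
  have h1 : closure (Mk 0 : Set A) = (I : Set A) := (ideal_isClosed_of_isOpen I hI).closure_eq
  rw [h1] at hm
  exact hm

theorem surjective_of_isTaut_of_denseRange (hA : (𝓝 (0 : A)).IsCountablyGenerated)
    (φ : A →+* B) (hφ : LinTop.IsTaut φ) (hd : DenseRange φ) : Function.Surjective φ := by
  intro y
  obtain ⟨a, -, ha⟩ := exists_preimage_of_mem_closure_map hA φ hφ hd ⊤ isOpen_univ y
    (by rw [Ideal.map_top]; exact subset_closure trivial)
  exact ⟨a, ha⟩

theorem isOpenMap_of_isTaut_of_denseRange (hA : (𝓝 (0 : A)).IsCountablyGenerated)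
    (φ : A →+* B) (hφ : LinTop.IsTaut φ) (hd : DenseRange φ) : IsOpenMap φ := by
  rw [IsTopologicalAddGroup.isOpenMap_iff_nhds_zero]
  intro s hs
  rw [Filter.mem_map] at hs
  obtain ⟨I, hI, hIs⟩ := (IsLinearTopology.hasBasis_open_ideal (R := A)).mem_iff.mp hs
  refine Filter.mem_of_superset ((hφ.2.1 I hI).mem_nhds (subset_closure (Ideal.zero_mem _))) ?_
  intro y hy
  obtain ⟨a, ha, rfl⟩ := exists_preimage_of_mem_closure_map hA φ hφ hd I hI y hy
  exact hIs ha

end Surj

end Groth.Agent.H53
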