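import Groth.Agent.H53.LinTopAdic
import Groth.Agent.S10147
import Groth.Agent.S10168

set_option autoImplicit false
universe u v w

namespace Groth.Agent.H53

open Topology Filter

section A
variable {A : Type u} [CommRing A] [TopologicalSpace A] [IsTopologicalRing A]
variable {B : Type v} [CommRing B] [TopologicalSpace B] [IsTopologicalRing B] [IsLinearTopology B B]

/-- A taut map sends an ideal of definition `K` to an ideal of definition `closure (K B)`. -/
theorem isIdealOfDefinition_closure_map {φ : A →+* B} (hφ : LinTop.IsTaut φ) {K : Ideal A}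
    (hK : LinTop.IsIdealOfDefinition A K) : LinTop.IsIdealOfDefinition B (K.map φ).closure := by
  obtain ⟨hIo, hIn⟩ := hK
  obtain ⟨hc, h2, h3⟩ := hφ
  refine ⟨h2 K hIo, fun U hU => ?_⟩
  obtain ⟨L, hL, hLU⟩ := (IsLinearTopology.hasBasis_open_ideal (R := B)).mem_iff.mp hU
  obtain ⟨I', hI'o, hI'K⟩ := h3 L (hL.mem_nhds L.zero_mem)
  obtain ⟨n, hn0, hn⟩ := hIn I' (hI'o.mem_nhds I'.zero_mem)
  refine ⟨n, hn0, subset_trans ?_ hLU⟩
  have h4 : (K.map φ).closure ^ n ≤ ((K.map φ) ^ n).closure := closure_pow_le _ _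
  have h5 : ((K.map φ) ^ n).closure ≤ (I'.map φ).closure := by
    apply ideal_closure_mono
    rw [← Ideal.map_pow]
    exact Ideal.map_mono hn
  exact fun x hx => hI'K (h5 (h4 hx))

theorem closure_closure_pow (I : Ideal A) (n : ℕ) : (I.closure ^ n).closure = (I ^ n).closure := by
  apply le_antisymm
  · have := ideal_closure_mono (closure_pow_le I n)
    rwa [closure_closure] at this
  · exact ideal_closure_mono (Ideal.pow_right_mono (ideal_le_closure I) n)

end A

section B
variable {A : Type u} [CommRing A] [TopologicalSpace A] [IsTopologicalRing A] [IsLinearTopology A A]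

/-- In a linearly topologized ring, the closure of an ideal is the intersection of its sums with
open ideals. -/
theorem le_closure_of_forall_open_le_sup (L N : Ideal A)
    (h : ∀ L' : Ideal A, IsOpen (L' : Set A) → L ≤ N ⊔ L') : L ≤ N.closure := by
  intro x hx
  have hb : (𝓝 (0 : A)).HasBasis (fun _ : {L' : Ideal A // IsOpen (L' : Set A)} => True)
      (fun L' => ((L'.1 : Ideal A) : Set A)) := by
    constructor
    intro U
    constructor
    · intro hU
      obtain ⟨L', hL', hL'U⟩ := (IsLinearTopology.hasBasis_open_ideal (R := A)).mem_iff.mp hU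
      exact ⟨⟨L', hL'⟩, trivial, hL'U⟩
    · rintro ⟨L', -, hL'U⟩
      exact Filter.mem_of_superset (L'.2.mem_nhds L'.1.zero_mem) hL'U
  have hcl := Groth.Agent.S10147.result (R := A) (M := A)
    (fun L' : {L' : Ideal A // IsOpen (L' : Set A)} => (L'.1 : Ideal A)) hb N
  show x ∈ closure ((N : Ideal A) : Set A)
  rw [hcl]
  simp only [Set.mem_iInter, SetLike.mem_coe]
  intro L'
  exact h L'.1 L'.2 hx

end B

section C
variable {A : Type u} [CommRing A] [TopologicalSpace A] [IsTopologicalRing A] [IsLinearTopology A A]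
variable {B : Type v} [CommRing B] [TopologicalSpace B] [IsTopologicalRing B] [IsLinearTopology B B]

/-- Descent of openness of `closure (K^n)` along a taut faithfully flat map. -/
theorem isOpen_closure_of_isOpen_closure_map {φ : A →+* B} (hφ : LinTop.IsTautFFlat φ)
    (N : Ideal A) (hN : IsOpen (((N.map φ).closure : Ideal B) : Set B)) :
    IsOpen ((N.closure : Ideal A) : Set A) := by
  obtain ⟨L, hL, hLN⟩ := hφ.1.2.2 _ (hN.mem_nhds (Ideal.zero_mem _))
  have hLN' : (L.map φ).closure ≤ (N.map φ).closure := hLN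
  refine ideal_isOpen_mono ?_ hL
  apply le_closure_of_forall_open_le_sup
  intro L' hL'
  have hP : IsOpen ((N ⊔ L' : Ideal A) : Set A) := ideal_isOpen_mono le_sup_right hL'
  rw [← comap_closure_map_eq_of_isTautFFlat hφ (N ⊔ L') hP]
  intro a ha
  rw [Ideal.mem_comap]
  have h1 : φ a ∈ (L.map φ).closure := subset_closure (Ideal.mem_map_of_mem φ ha)
  exact ideal_closure_mono (Ideal.map_mono le_sup_left) (hLN' h1)

theorem isWeaklyPreadic_of_isTautFFlat {φ : A →+* B} (hφ : LinTop.IsTautFFlat φ)
    (hB : LinTop.IsWeaklyPreadic B) : LinTop.IsWeaklyPreadic A := by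
  obtain ⟨-, J0, hJ0⟩ := hB
  have hW0 : IsWPWitness J0 := hJ0
  have hBpre : LinTop.IsPreadmissible B := ⟨inferInstance, J0.closure, hW0.isIdealOfDefinition_closure⟩
  obtain ⟨-, K, hK⟩ := Groth.Agent.S10168.result A B φ hφ hBpre
  have hKB := isIdealOfDefinition_closure_map hφ.1 hK
  refine ⟨inferInstance, K, isWPWitness_of_isIdealOfDefinition hK (fun n _ => ?_)⟩
  have h1 := hW0.isOpen_closure_pow _ hKB n
  rw [← Ideal.coe_closure, closure_closure_pow, ← Ideal.map_pow] at h1
  have h2 := isOpen_closure_of_isOpen_closure_map hφ (K ^ n) h1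
  exact h2

end C

end Groth.Agent.H53
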