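import Groth.Agent.H53.LinTopKey
import Groth.Agent.S10147

set_option autoImplicit false
universe u v w

namespace Groth.Agent.H53

open Topology Filter

section LiftFG
variable {A : Type u} [CommRing A]

/-- If the image of `I` in `A/K` is finitely generated, there is a finitely generated `J ≤ I` with
`I ≤ J ⊔ K`. -/
theorem exists_fg_le_sup_of_fg_map_mk (I K : Ideal A) (hfg : (I.map (Ideal.Quotient.mk K)).FG) :
    ∃ J : Ideal A, J.FG ∧ J ≤ I ∧ I ≤ J ⊔ K := by
  classical
  have h1 : (Submodule.span (A ⧸ K) ((Ideal.Quotient.mk K) '' (I : Set A))).FG := hfg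
  obtain ⟨T, hT, hspan⟩ := (Submodule.fg_span_iff_fg_span_finset_subset _).mp h1
  -- choose preimages
  have h2 : ∀ t : T, ∃ a : A, a ∈ I ∧ Ideal.Quotient.mk K a = t.1 := by
    intro t
    obtain ⟨a, ha, hat⟩ := hT t.2
    exact ⟨a, ha, hat⟩
  choose a haI hat using h2
  refine ⟨Ideal.span (Set.range a), ?_, ?_, ?_⟩
  · exact Submodule.fg_span (Set.finite_range a)
  · rw [Ideal.span_le]
    rintro _ ⟨t, rfl⟩
    exact haI t
  · have h3 : (Ideal.span (Set.range a)).map (Ideal.Quotient.mk K) = I.map (Ideal.Quotient.mk K) := by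
      rw [Ideal.map_span]
      have : (Ideal.Quotient.mk K) '' (Set.range a) = (T : Set (A ⧸ K)) := by
        ext x
        constructor
        · rintro ⟨_, ⟨t, rfl⟩, rfl⟩
          rw [hat t]
          exact t.2
        · intro hx
          exact ⟨a ⟨x, hx⟩, ⟨⟨x, hx⟩, rfl⟩, hat ⟨x, hx⟩⟩
      rw [this]
      exact hspan.symm
    calc I ≤ (I.map (Ideal.Quotient.mk K)).comap (Ideal.Quotient.mk K) := Ideal.le_comap_map
      _ = ((Ideal.span (Set.range a)).map (Ideal.Quotient.mk K)).comap (Ideal.Quotient.mk K) := by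
          rw [h3]
      _ = Ideal.span (Set.range a) ⊔ K := by
          rw [Ideal.comap_map_of_surjective _ Ideal.Quotient.mk_surjective, ← RingHom.ker_eq_comap_bot,
            Ideal.mk_ker]

end LiftFG

section WA
variable {A : Type u} [CommRing A] [TopologicalSpace A] [IsTopologicalRing A]

theorem IsWPWitness.hasBasis {I : Ideal A} (h : IsWPWitness I) :
    (𝓝 (0 : A)).HasBasis (fun _ : ℕ => True) (fun n => (((I ^ n).closure : Ideal A) : Set A)) := by
  constructor
  intro U
  constructor
  · intro hU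
    obtain ⟨n, hn⟩ := h.2 U hU
    exact ⟨n, trivial, hn⟩
  · rintro ⟨n, -, hn⟩
    exact Filter.mem_of_superset ((h.1 n).mem_nhds (subset_closure (I ^ n).zero_mem)) hn

/-- If `J ≤ I`, `I ≤ J ⊔ closure(I^2)` and `I` is a witness, then `closure (J^n) = closure (I^n)`
for all `n`; in particular `J` is a witness. -/
theorem IsWPWitness.closure_pow_eq_of_le_sup {I J : Ideal A} (h : IsWPWitness I) (hJI : J ≤ I)
    (hIJ : I ≤ J ⊔ (I ^ 2).closure) (n : ℕ) : (J ^ n).closure = (I ^ n).closure := by
  -- Step 1: `I^n ≤ J^n ⊔ closure(I^(n+1))`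
  have step1 : ∀ n : ℕ, I ^ n ≤ J ^ n ⊔ (I ^ (n + 1)).closure := by
    intro n
    induction n with
    | zero => simp
    | succ n ih =>
      have hc : ∀ a b : ℕ, (I ^ a).closure * (I ^ b).closure ≤ (I ^ (a + b)).closure := by
        intro a b
        rw [pow_add]
        exact closure_mul_closure_le _ _
      have hmono : ∀ a b : ℕ, a ≤ b → (I ^ b).closure ≤ (I ^ a).closure := fun a b hab =>
        ideal_closure_mono (Ideal.pow_le_pow_right hab)
      calc I ^ (n + 1) = I ^ n * I := pow_succ I n
        _ ≤ (J ^ n ⊔ (I ^ (n + 1)).closure) * (J ⊔ (I ^ 2).closure) := Ideal.mul_mono ih hIJ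
        _ ≤ J ^ (n + 1) ⊔ (I ^ (n + 1 + 1)).closure := by
          rw [Ideal.sup_mul, Ideal.mul_sup, Ideal.mul_sup]
          refine sup_le (sup_le ?_ ?_) (sup_le ?_ ?_)
          · rw [← pow_succ]; exact le_sup_left
          · refine le_trans ?_ le_sup_right
            calc J ^ n * (I ^ 2).closure ≤ (I ^ n).closure * (I ^ 2).closure :=
                  Ideal.mul_mono_left ((Ideal.pow_right_mono hJI n).trans (ideal_le_closure _))
              _ ≤ (I ^ (n + 2)).closure := hc n 2
          · refine le_trans ?_ le_sup_right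
            calc (I ^ (n + 1)).closure * J ≤ (I ^ (n + 1)).closure * (I ^ 1).closure := by
                  apply Ideal.mul_mono_right
                  rw [pow_one]
                  exact hJI.trans (ideal_le_closure _)
              _ ≤ (I ^ (n + 1 + 1)).closure := hc (n + 1) 1
          · refine le_trans ?_ le_sup_right
            calc (I ^ (n + 1)).closure * (I ^ 2).closure ≤ (I ^ (n + 1 + 2)).closure := hc (n + 1) 2
              _ ≤ (I ^ (n + 1 + 1)).closure := hmono _ _ (by omega)
  -- Step 2: `I^n ≤ J^n ⊔ closure(I^(n+d))`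
  have step2 : ∀ n d : ℕ, I ^ n ≤ J ^ n ⊔ (I ^ (n + d)).closure := by
    intro n d
    induction d with
    | zero => exact (ideal_le_closure _).trans le_sup_right
    | succ d ih =>
      have hopen : IsOpen ((J ^ n ⊔ (I ^ (n + (d + 1))).closure : Ideal A) : Set A) :=
        ideal_isOpen_mono le_sup_right (h.1 _)
      have h1 : I ^ (n + d) ≤ J ^ n ⊔ (I ^ (n + (d + 1))).closure := by
        refine (step1 (n + d)).trans (sup_le_sup_right ?_ _)
        exact Ideal.pow_le_pow_right (Nat.le_add_right n d)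
      have h2 : (I ^ (n + d)).closure ≤ J ^ n ⊔ (I ^ (n + (d + 1))).closure := by
        have := ideal_closure_mono h1
        rwa [ideal_closure_eq_of_isOpen _ hopen] at this
      exact ih.trans (sup_le le_sup_left h2)
  -- Step 3
  apply le_antisymm
  · exact ideal_closure_mono (Ideal.pow_right_mono hJI n)
  · have h3 : I ^ n ≤ (J ^ n).closure := by
      intro x hx
      have hcl := Groth.Agent.S10147.result (R := A) (M := A)
        (fun m : ℕ => ((I ^ m).closure : Ideal A)) h.hasBasis (J ^ n)
      show x ∈ closure ((J ^ n : Ideal A) : Set A)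
      rw [hcl]
      simp only [Set.mem_iInter, SetLike.mem_coe]
      intro m
      have h4 : (I ^ (n + m)).closure ≤ (I ^ m).closure :=
        ideal_closure_mono (Ideal.pow_le_pow_right (Nat.le_add_left m n))
      exact (sup_le_sup_left h4 _) (step2 n m hx)
    have := ideal_closure_mono h3
    rwa [closure_closure] at this

theorem IsWPWitness.of_le_sup {I J : Ideal A} (h : IsWPWitness I) (hJI : J ≤ I)
    (hIJ : I ≤ J ⊔ (I ^ 2).closure) : IsWPWitness J := by
  refine ⟨fun n => ?_, fun U hU => ?_⟩
  · rw [← Ideal.coe_closure, h.closure_pow_eq_of_le_sup hJI hIJ n]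
    exact h.1 n
  · obtain ⟨n, hn⟩ := h.2 U hU
    refine ⟨n, ?_⟩
    rw [← Ideal.coe_closure, h.closure_pow_eq_of_le_sup hJI hIJ n]
    exact hn

theorem isIdealOfDefinition_of_isAdic {J : Ideal A} (hJ : IsAdic J) :
    LinTop.IsIdealOfDefinition A J := by
  have hJ' := isAdic_iff.mp hJ
  refine ⟨by simpa using hJ'.1 1, fun U hU => ?_⟩
  obtain ⟨n, hn⟩ := hJ'.2 U hU
  exact ⟨n + 1, Nat.succ_pos n, subset_trans (Ideal.pow_le_pow_right (Nat.le_succ n)) hn⟩

end WA

end Groth.Agent.H53
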