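import Groth.Agent.H53.LinTopBasic
import Groth.Agent.H53.Approx
import Mathlib.RingTheory.Jacobson.Ideal
import Mathlib.RingTheory.Nakayama

set_option autoImplicit false
universe u v w

namespace Groth.Agent.H53

open Topology Filter

section Units
variable {A : Type u} [CommRing A] [UniformSpace A] [IsUniformAddGroup A] [IsTopologicalRing A]
  [IsLinearTopology A A] [T2Space A] [CompleteSpace A]

omit [T2Space A] in
theorem summable_pow_of_isTopologicallyNilpotent {x : A} (hx : IsTopologicallyNilpotent x) :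
    Summable (x ^ ·) := by
  have : NonarchimedeanRing A := nonarchimedeanRing_of_isLinearTopology
  apply NonarchimedeanAddGroup.summable_of_tendsto_cofinite_zero
  rw [Nat.cofinite_eq_atTop]
  exact hx

theorem isUnit_one_sub_of_isTopologicallyNilpotent {x : A} (hx : IsTopologicallyNilpotent x) :
    IsUnit (1 - x) :=
  IsUnit.of_mul_eq_one _ (summable_pow_of_isTopologicallyNilpotent hx).one_sub_mul_tsum_pow

theorem le_jacobson_bot_of_forall_isTopologicallyNilpotent (I : Ideal A)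
    (h : ∀ x ∈ I, IsTopologicallyNilpotent x) : I ≤ Ideal.jacobson ⊥ := by
  intro x hx
  rw [Ideal.mem_jacobson_bot]
  intro y
  have h1 : -(x * y) ∈ I := I.neg_mem (I.mul_mem_right y hx)
  have h2 := isUnit_one_sub_of_isTopologicallyNilpotent (h _ h1)
  have h3 : (1 : A) - -(x * y) = x * y + 1 := by ring
  rwa [h3] at h2

end Units

section FGsub
variable {A : Type u} [CommRing A] {B : Type v} [CommRing B]

/-- Every element of `I B` lies in `I' B` for some finitely generated `I' ≤ I`. -/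
theorem exists_fg_le_mem_map (φ : A →+* B) (I : Ideal A) (x : B) (hx : x ∈ I.map φ) :
    ∃ I' : Ideal A, I'.FG ∧ I' ≤ I ∧ x ∈ I'.map φ := by
  have hx' : x ∈ Submodule.span B (φ '' (I : Set A)) := hx
  clear hx
  induction hx' using Submodule.span_induction with
  | mem x hx =>
    obtain ⟨a, ha, rfl⟩ := hx
    refine ⟨Ideal.span {a}, ⟨{a}, by simp⟩, ?_, ?_⟩
    · rw [Ideal.span_le]
      intro b hb
      rw [Set.mem_singleton_iff.mp hb]
      exact ha
    · exact Ideal.mem_map_of_mem φ (Ideal.subset_span (Set.mem_singleton a))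
  | zero => exact ⟨⊥, Submodule.fg_bot, bot_le, Ideal.zero_mem _⟩
  | add x y _ _ hx hy =>
    obtain ⟨I1, h1, h1', h1''⟩ := hx
    obtain ⟨I2, h2, h2', h2''⟩ := hy
    refine ⟨I1 ⊔ I2, Submodule.FG.sup h1 h2, sup_le h1' h2', ?_⟩
    exact Ideal.add_mem _ (Ideal.map_mono le_sup_left h1'') (Ideal.map_mono le_sup_right h2'')
  | smul b x _ hx =>
    obtain ⟨I1, h1, h1', h1''⟩ := hx
    exact ⟨I1, h1, h1', Ideal.mul_mem_left _ b h1''⟩

/-- If `K` is finitely generated and `K ≤ I B ⊔ L`, then `K ≤ I' B ⊔ L` for some f.g. `I' ≤ I`. -/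
theorem exists_fg_le_map_sup (φ : A →+* B) (I : Ideal A) (K L : Ideal B) (hK : K.FG)
    (hKI : K ≤ I.map φ ⊔ L) : ∃ I' : Ideal A, I'.FG ∧ I' ≤ I ∧ K ≤ I'.map φ ⊔ L := by
  obtain ⟨s, g, hg⟩ := Submodule.fg_iff_exists_fin_generating_family.mp hK
  have h1 : ∀ i : Fin s, ∃ I' : Ideal A, I'.FG ∧ I' ≤ I ∧ g i ∈ I'.map φ ⊔ L := by
    intro i
    have hgi : g i ∈ K := by rw [← hg]; exact Submodule.subset_span (Set.mem_range_self i)
    obtain ⟨u, hu, l, hl, hul⟩ := Submodule.mem_sup.mp (hKI hgi)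
    obtain ⟨I', hI', hI'I, hu'⟩ := exists_fg_le_mem_map φ I u hu
    refine ⟨I', hI', hI'I, ?_⟩
    rw [← hul]
    exact Submodule.add_mem_sup hu' hl
  choose I' hI'fg hI'I hI'g using h1
  refine ⟨⨆ i, I' i, Submodule.fg_iSup _ hI'fg, iSup_le hI'I, ?_⟩
  rw [← hg, Submodule.span_le]
  rintro _ ⟨i, rfl⟩
  exact (sup_le_sup_right (Ideal.map_mono (le_iSup I' i)) L) (hI'g i)

end FGsub

end Groth.Agent.H53
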