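import Mathlib
import Groth.Prelude.Def_CurvBase

set_option autoImplicit false
set_option backward.isDefEq.respectTransparency false
universe u
open CategoryTheory CategoryTheory.Limits AlgebraicGeometry Opposite Topology TopologicalSpace

namespace Groth.Agent.H53.LocPrinc

/-- On an affine open where the ideal is principal, the complement of the support is a basic open. -/
theorem compl_support_inf_eq_basicOpen {V : Scheme.{u}} (I : V.IdealSheafData) (U : V.affineOpens)
    (s : Γ(V, U.1)) (hs : I.ideal U = Ideal.span {s}) (W : V.Opens)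
    (hW : (W : Set V) = (I.support : Set V)ᶜ) : W ⊓ U.1 = V.basicOpen s := by
  apply Opens.ext
  ext x
  simp only [Opens.coe_inf, Set.mem_inter_iff, SetLike.mem_coe]
  constructor
  · rintro ⟨hxW, hxU⟩
    have h1 : x ∉ I.support := by
      have : x ∈ (W : Set V) := hxW
      rw [hW] at this
      exact this
    rw [Scheme.IdealSheafData.mem_support_iff_of_mem hxU, hs, Scheme.zeroLocus_span,
      Scheme.zeroLocus_singleton] at h1
    simpa using h1
  · intro hx
    have hxU : x ∈ U.1 := V.basicOpen_le s hx
    refine ⟨?_, hxU⟩
    change x ∈ (W : Set V)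
    rw [hW]
    change x ∉ I.support
    rw [Scheme.IdealSheafData.mem_support_iff_of_mem hxU, hs, Scheme.zeroLocus_span,
      Scheme.zeroLocus_singleton]
    simpa using hx

/-- The open complement of a locally principal closed subscheme is affine over the ambient scheme. -/
theorem isAffineHom_of_range_eq_compl_support {P V : Scheme.{u}} (o : P ⟶ V) [IsOpenImmersion o]
    (I : V.IdealSheafData) (hI : Curv2.IsLocPrincipal I)
    (ho : Set.range o = (I.support : Set V)ᶜ) : IsAffineHom o := by
  have hW : (o.opensRange : Set V) = (I.support : Set V)ᶜ := ho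
  refine isAffineHom_of_forall_exists_isAffineOpen (f := o) (fun x => ?_)
  by_cases hx : x ∈ I.support
  · obtain ⟨U, hxU, s, hs⟩ := hI x hx
    refine ⟨U.1, hxU, U.2, ?_⟩
    rw [← o.isAffineOpen_iff_of_isOpenImmersion, o.image_preimage_eq_opensRange_inf,
      compl_support_inf_eq_basicOpen I U s hs o.opensRange hW]
    exact U.2.basicOpen s
  · have hxW : x ∈ o.opensRange := by
      change x ∈ (o.opensRange : Set V)
      rw [hW]
      exact hx
    obtain ⟨_, ⟨A, hA : IsAffineOpen A, rfl⟩, hxA, hAW⟩ :=
      V.isBasis_affineOpens.exists_subset_of_mem_open hxW o.opensRange.isOpen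
    refine ⟨A, hxA, hA, ?_⟩
    have hAW' : A ≤ o.opensRange := hAW
    rw [← o.isAffineOpen_iff_of_isOpenImmersion, o.image_preimage_eq_opensRange_inf,
      inf_eq_right.2 hAW']
    exact hA

end Groth.Agent.H53.LocPrinc
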