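import Groth.Agent.H53.LocPrinc
import Groth.Agent.H53.ChartDescent
import Groth.Agent.H53.ResidualClosed
import Groth.Agent.H52.AffineMor
import Groth.Agent.S10533
import Groth.Prelude.Def_W4stk3spdivLocPr

set_option autoImplicit false
set_option backward.isDefEq.respectTransparency false
universe u
open CategoryTheory CategoryTheory.Limits AlgebraicGeometry Opposite Topology TopologicalSpace
open AlgSp

namespace Groth.Agent.H53.LocPrinc

variable {S : Scheme.{u}}

/-- In a chart where the closed subspace `Z` is cut out by `I`, the pullback of the complementary open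
subspace is the complement of the support of `I`. -/
theorem range_snd_eq_compl_support {X Z U : Sp S} (i : Z ⟶ X) (j : U ⟶ X)
    (hj : RepWith @IsOpenImmersion j)
    (hUr : Set.range (Points.map j) = (Set.range (Points.map i))ᶜ)
    {V : Over S} (φ : (yon S).obj V ⟶ X) (I : V.left.IdealSheafData)
    (fst : (yon S).obj (Over.mk (I.subschemeι ≫ V.hom)) ⟶ Z)
    (sq : IsPullback fst ((yon S).map (Over.homMk I.subschemeι rfl :
      Over.mk (I.subschemeι ≫ V.hom) ⟶ V)) i φ) :
    Set.range (hj.rep.snd φ).left = (I.support : Set V.left)ᶜ := by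
  have sqj := hj.rep.isPullback φ
  rw [Groth.Agent.H53.ResidualClosed.range_eq_preimage_range j φ _ _ sqj, hUr, Set.preimage_compl,
    ← Groth.Agent.H53.ResidualClosed.range_eq_preimage_range i φ fst _ sq]
  congr 1
  exact I.range_subschemeι

/-- The complement of a locally principal closed subspace is affine over the ambient space. -/
theorem isAffineMor_compl {X Z U : Sp S} (hX : IsAlgSpace X) (hU : IsAlgSpace U) (i : Z ⟶ X)
    (hZ : IsLocPrincipalSub i) (j : U ⟶ X) (hj : RepWith @IsOpenImmersion j)
    (hUr : Set.range (Points.map j) = (Set.range (Points.map i))ᶜ) : IsAffineMor j := by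
  obtain ⟨hi, V, φ, I, fst, hφe, hφs, sq, hI⟩ := hZ
  have sqj := hj.rep.isPullback φ
  have ho : IsOpenImmersion (hj.rep.snd φ).left := hj.property_snd φ
  have hrange := range_snd_eq_compl_support i j hj hUr φ I fst sq
  have haff : IsAffineHom (hj.rep.snd φ).left :=
    isAffineHom_of_range_eq_compl_support _ I hI hrange
  have h1 : IsAffineMor ((yon S).map (hj.rep.snd φ)) :=
    Groth.Agent.H52.isAffineMor_of_repWith_isAffineHom _ ((repWith_yon_map_iff _ _).2 haff)
  exact Groth.Agent.H53.ChartDescent.of_chart_of_isLocalOnBase_fpqc (Groth.Agent.S10533.result S)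
    hU hX j φ hφe hφs _ _ sqj h1

end Groth.Agent.H53.LocPrinc
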