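import Groth.Agent.H53.QcIdeal3
import Groth.Prelude.Def_AlgSpOX2

set_option autoImplicit false
set_option backward.isDefEq.respectTransparency false
universe u
open CategoryTheory CategoryTheory.Limits AlgebraicGeometry Opposite Topology TopologicalSpace
open AlgSp

namespace Groth.Agent.H53.LocSurj

open Groth.Agent.H52 Groth.Agent.H53.QcIdeal

variable {S : Scheme.{u}} {Z X : Sp S}

theorem isLocallySurjective_bcRingHom (i : Z ⟶ X) (hi : RepWith @IsClosedImmersion i) :
    Presheaf.IsLocallySurjective (etTop X) (bcRingHom hi.1).hom := by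
  constructor
  intro E s
  let EA : E.obj.left.left.affineOpens → EtOver X := fun A =>
    EtOver.mk ((yon S).map (overOpenι E.obj.left A.1) ≫ E.obj.hom)
      (repWith_etale_overOpenι_comp E.obj.hom E.property A.1)
  let g : ∀ A, EA A ⟶ E := fun A => EtOver.homMk (overOpenι E.obj.left A.1) rfl
  have hcov : Sieve.ofArrows EA g ∈ etTop X E := by
    refine ofArrows_mem_etTop EA g (fun x => ?_)
    obtain ⟨_, ⟨A, hA, rfl⟩, hxA, -⟩ :=
      (E.obj.left.left.isBasis_affineOpens).exists_subset_of_mem_open (Set.mem_univ x) isOpen_univ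
    exact ⟨⟨A, hA⟩, ⟨x, hxA⟩, rfl⟩
  refine (etTop X).superset_covering ?_ hcov
  rw [Sieve.ofArrows, Sieve.generate_le_iff]
  rintro _ _ ⟨A⟩
  have hA : IsAffine (EA A).obj.left.left := A.2
  have hc : IsClosedImmersion (EtOver.bcπ hi.1 (EA A)).left := hi.property_snd (EA A).obj.hom
  obtain ⟨-, hsurj⟩ := IsClosedImmersion.isAffine_surjective_of_isAffine
    (EtOver.bcπ hi.1 (EA A)).left
  obtain ⟨s₀, hs₀⟩ := hsurj
    (ULift.down ((((EtOver.bc hi.1).sheafPushforwardContinuous RingCat.{u + 1} (etTop X)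
      (etTop Z)).obj (OEtRing Z)).obj.map (g A).op s))
  refine ⟨ULift.up s₀, ?_⟩
  apply ULift.ext
  exact hs₀

end Groth.Agent.H53.LocSurj
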