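import Groth.Agent.H53.FibrePreimm

set_option autoImplicit false
set_option backward.isDefEq.respectTransparency false
universe u
open CategoryTheory CategoryTheory.Limits AlgebraicGeometry Opposite Topology
open AlgSp

namespace Groth.Agent.H53.FibrePts

variable {S : Scheme.{u}}

/-- Pointwise local charts: a morphism from a scheme to an algebraic space factors, étale locally
around any point, through an affine étale chart. -/
theorem exists_local_chart {X : Sp S} (hXalg : IsAlgSpace X) {A : Over S} (y : (yon S).obj A ⟶ X)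
    (v : ↥A.left) :
    ∃ (W : Over S) (c : W ⟶ A) (U : Over S) (φ : (yon S).obj U ⟶ X) (g : W ⟶ U),
      IsAffine W.left ∧ Etale c.left ∧ v ∈ Set.range c.left ∧ IsAffine U.left ∧
        RepWith @Etale φ ∧ (yon S).map c ≫ y = (yon S).map g ≫ φ := by
  obtain ⟨U0, a, hae, has⟩ := hXalg.atlas
  let A' : Over S := hae.rep.pullback y
  let g' : A' ⟶ U0 := hae.rep.fst' y
  let π : A' ⟶ A := hae.rep.snd y
  have sqA : IsPullback ((yon S).map g') ((yon S).map π) a y := hae.rep.isPullback' y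
  have hπs : Surjective π.left := has.property_snd y
  have hπe : Etale π.left := hae.property_snd y
  obtain ⟨v', hv'⟩ := hπs.surj v
  obtain ⟨_, ⟨U1', hU1, rfl⟩, hgU1, -⟩ :=
    (U0.left.isBasis_affineOpens).exists_subset_of_mem_open (Set.mem_univ (g'.left v')) isOpen_univ
  let U1 : U0.left.Opens := U1'
  obtain ⟨_, ⟨N', hN, rfl⟩, hvN, hNsub⟩ :=
    (A'.left.isBasis_affineOpens).exists_subset_of_mem_open
      (show v' ∈ ((g'.left ⁻¹ᵁ U1 : A'.left.Opens) : Set ↥A'.left) from hgU1)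
      (g'.left ⁻¹ᵁ U1).isOpen
  let N : A'.left.Opens := N'
  let NN : Over S := Groth.Agent.H52.overOpen A' N
  let UU : Over S := Groth.Agent.H52.overOpen U0 U1
  let ιN : NN ⟶ A' := Groth.Agent.H52.overOpenι A' N
  let ιU : UU ⟶ U0 := Groth.Agent.H52.overOpenι U0 U1
  have hrange : Set.range (N.ι ≫ g'.left) ⊆ Set.range U1.ι := by
    rintro _ ⟨n, rfl⟩
    rw [Scheme.Opens.range_ι]
    exact hNsub n.2
  let gN0 : (N : Scheme.{u}) ⟶ (U1 : Scheme.{u}) := IsOpenImmersion.lift U1.ι (N.ι ≫ g'.left) hrange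
  have hgN0 : gN0 ≫ U1.ι = N.ι ≫ g'.left := IsOpenImmersion.lift_fac _ _ _
  let gN : NN ⟶ UU := Over.homMk gN0 (by
    change gN0 ≫ U1.ι ≫ U0.hom = N.ι ≫ A'.hom
    rw [← Category.assoc, hgN0, Category.assoc, Over.w g'])
  have hgN : gN ≫ ιU = ιN ≫ g' := by
    apply Over.OverMorphism.ext
    exact hgN0
  refine ⟨NN, ιN ≫ π, UU, (yon S).map ιU ≫ a, gN, hN, ?_, ⟨⟨v', hvN⟩, hv'⟩, hU1, ?_, ?_⟩
  · change Etale (N.ι ≫ π.left)
    infer_instance
  · exact MorphismProperty.comp_mem _ _ _ (Groth.Agent.H52.repWith_etale_overOpenι U0 U1) hae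
  · rw [← Category.assoc, ← Functor.map_comp, hgN, Functor.map_comp, Functor.map_comp,
      Category.assoc, Category.assoc, sqA.w]

/-- Finite families of local charts over an affine scheme. -/
theorem exists_local_charts {X : Sp S} (hXalg : IsAlgSpace X) {A : Over S} (hA : IsAffine A.left)
    (y : (yon S).obj A ⟶ X) :
    ∃ (m : ℕ) (W : Fin m → Over S) (c : ∀ j, W j ⟶ A) (U : Fin m → Over S)
      (φ : ∀ j, (yon S).obj (U j) ⟶ X) (g : ∀ j, W j ⟶ U j),
      (∀ j, IsAffine (W j).left) ∧ (∀ j, Etale (c j).left) ∧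
        (∀ a : ↥A.left, ∃ j, a ∈ Set.range (c j).left) ∧ (∀ j, IsAffine (U j).left) ∧
        (∀ j, RepWith @Etale (φ j)) ∧ ∀ j, (yon S).map (c j) ≫ y = (yon S).map (g j) ≫ φ j := by
  have key := exists_local_chart hXalg y
  choose W c U φ g h1 h2 h3 h4 h5 h6 using key
  have : CompactSpace ↥A.left := by have := hA; infer_instance
  have hopen : ∀ v, IsOpen (Set.range (c v).left) := fun v => by
    have := h2 v
    exact (c v).left.isOpenMap.isOpen_range
  obtain ⟨t, ht⟩ := CompactSpace.elim_nhds_subcover (fun v => Set.range (c v).left)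
    (fun v => (hopen v).mem_nhds (h3 v))
  let e := t.equivFin
  refine ⟨t.card, fun j => W (e.symm j), fun j => c (e.symm j), fun j => U (e.symm j),
    fun j => φ (e.symm j), fun j => g (e.symm j), fun j => h1 _, fun j => h2 _, ?_, fun j => h4 _,
    fun j => h5 _, fun j => h6 _⟩
  intro a
  have : a ∈ ⋃ v ∈ t, Set.range (c v).left := by rw [ht]; trivial
  simp only [Set.mem_iUnion] at this
  obtain ⟨v, hv, hav⟩ := this
  refine ⟨e ⟨v, hv⟩, ?_⟩
  change a ∈ Set.range (c (e.symm (e ⟨v, hv⟩) : ↥A.left)).left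
  rw [Equiv.symm_apply_apply]
  exact hav

end Groth.Agent.H53.FibrePts
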