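import Groth.Agent.H53.NoSpecFib

set_option autoImplicit false
set_option backward.isDefEq.respectTransparency false
universe u
open CategoryTheory CategoryTheory.Limits AlgebraicGeometry Opposite TensorProduct

namespace Groth.Agent.H53.MonoPreimm

/-- An epimorphism of fields (in the sense of `Algebra.IsEpi`) is surjective. -/
theorem surjective_of_isEpi_field (K L : Type u) [Field K] [Field L] [Algebra K L]
    [Algebra.IsEpi K L] : Function.Surjective (algebraMap K L) := by
  intro a
  obtain ⟨π, hπ⟩ := LinearMap.exists_leftInverse_of_injective (Algebra.linearMap K L)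
    (LinearMap.ker_eq_bot.2 (algebraMap K L).injective)
  let T : L ⊗[K] L →ₗ[K] L := TensorProduct.lift ((LinearMap.lsmul K L).comp π)
  have h1 : T (1 ⊗ₜ[K] a) = a := by
    simp only [T, TensorProduct.lift.tmul, LinearMap.comp_apply, LinearMap.lsmul_apply]
    have : π 1 = 1 := by
      have := LinearMap.congr_fun hπ (1 : K)
      simpa using this
    rw [this, one_smul]
  have h2 : T (a ⊗ₜ[K] 1) = algebraMap K L (π a) := by
    simp only [T, TensorProduct.lift.tmul, LinearMap.comp_apply, LinearMap.lsmul_apply]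
    rw [Algebra.smul_def, mul_one]
  have h3 : (1 : L) ⊗ₜ[K] a = a ⊗ₜ[K] 1 :=
    (Algebra.isEpi_iff_forall_one_tmul_eq K L).1 inferInstance a
  exact ⟨π a, by rw [← h2, ← h3, h1]⟩

/-- A ring epimorphism between fields is bijective. -/
theorem bijective_of_epi_field {K L : Type u} [Field K] [Field L]
    (φ : CommRingCat.of K ⟶ CommRingCat.of L) [Epi φ] : Function.Bijective φ.hom := by
  algebraize [φ.hom]
  have : Algebra.IsEpi K L := CommRingCat.epi_iff_epi.mp (inferInstanceAs (Epi φ))
  exact ⟨φ.hom.injective, surjective_of_isEpi_field K L⟩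

/-- A monomorphism from the spectrum of a field is surjective on stalks. -/
theorem surjectiveOnStalks_of_mono_spec_field {L : Type u} [Field L] {V : Scheme.{u}}
    (g : Spec (CommRingCat.of L) ⟶ V) [Mono g] : SurjectiveOnStalks g := by
  obtain ⟨⟨v, φ⟩, rfl⟩ := (Scheme.SpecToEquivOfField L V).symm.surjective g
  change SurjectiveOnStalks (Spec.map φ ≫ V.fromSpecResidueField v)
  have hm : Mono (Spec.map φ ≫ V.fromSpecResidueField v) := ‹_›
  have h1 : Mono (Spec.map φ) := mono_of_mono _ (V.fromSpecResidueField v)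
  have h2 : Epi φ := by
    have : Mono φ.op := Scheme.Spec.mono_of_mono_map h1
    exact unop_epi_of_mono φ.op
  have h3 : Function.Bijective φ.hom :=
    bijective_of_epi_field (K := V.residueField v) (L := L) φ
  have h4 : IsIso φ := by
    rw [ConcreteCategory.isIso_iff_bijective]; exact h3
  infer_instance

/-- A monomorphism from a discrete reduced scheme is surjective on stalks. -/
theorem surjectiveOnStalks_of_mono_of_discrete {T V : Scheme.{u}} (j : T ⟶ V) [Mono j]
    [DiscreteTopology ↥T] [IsReduced T] : SurjectiveOnStalks j := by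
  let 𝒰 : T.OpenCover := T.openCoverOfIsOpenCover
    (fun x : T ↦ ⟨{x}, isOpen_discrete _⟩) (.mk (by ext; simp))
  rw [IsZariskiLocalAtSource.iff_of_openCover (P := @SurjectiveOnStalks) 𝒰]
  intro t
  have hsub : Subsingleton ↥(𝒰.X t) := inferInstanceAs (Subsingleton ({t} : Set T))
  have hne : Nonempty ↥(𝒰.X t) := ⟨⟨t, rfl⟩⟩
  have hred : IsReduced (𝒰.X t) := isReduced_of_isOpenImmersion (𝒰.f t)
  have hirr : IrreducibleSpace ↥(𝒰.X t) := ⟨inferInstance⟩
  have hint : IsIntegral (𝒰.X t) :=
    (isIntegral_iff_irreducibleSpace_and_isReduced _).mpr ⟨hirr, hred⟩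
  letI := (isField_of_isIntegral_of_subsingleton (𝒰.X t)).toField
  have hm : Mono ((𝒰.X t).isoSpec.inv ≫ 𝒰.f t ≫ j) := by
    have : Mono (𝒰.f t ≫ j) := mono_comp _ _
    exact mono_comp _ _
  have h1 : SurjectiveOnStalks ((𝒰.X t).isoSpec.inv ≫ 𝒰.f t ≫ j) :=
    surjectiveOnStalks_of_mono_spec_field (L := Γ(𝒰.X t, ⊤)) _
  have h2 : 𝒰.f t ≫ j = (𝒰.X t).isoSpec.hom ≫ ((𝒰.X t).isoSpec.inv ≫ 𝒰.f t ≫ j) := by
    rw [Iso.hom_inv_id_assoc]
  rw [h2]
  infer_instance

end Groth.Agent.H53.MonoPreimm
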