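import Groth.Agent.H53.FibrePts3

set_option autoImplicit false
set_option backward.isDefEq.respectTransparency false
universe u
open CategoryTheory CategoryTheory.Limits AlgebraicGeometry Opposite
open AlgSp

namespace Groth.Agent.H53.FibrePts

variable {S : Scheme.{u}}

/-- Two points of an étale chart with the same image come from a point of `R = V ×_Y V`. -/
theorem exists_mem_kernelPair {Y : Sp S} {V R : Over S} (b : (yon S).obj V ⟶ Y) (s t : R ⟶ V)
    (sqR : IsPullback ((yon S).map t) ((yon S).map s) b b) (v v' : ↥V.left)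
    (h : Points.ofPt b v = Points.ofPt b v') : ∃ r : ↥R.left, t.left r = v ∧ s.left r = v' := by
  have h' : Points.map b (Points.ofScheme V v) = Points.ofPt b v' := by
    rw [← Points.ofPt_eq_map_ofScheme]; exact h
  obtain ⟨r, hr1, hr2⟩ := Groth.Agent.Lib.Helper54.exists_pt_of_isPullback_yon sqR _ v' h'
  refine ⟨r, ?_, hr2⟩
  rw [ofPt_yon_map] at hr1
  have := congrArg (Points.toScheme V) hr1
  rwa [Points.toScheme_ofScheme, Points.toScheme_ofScheme] at this

/-- One step of the chain argument. -/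
theorem exists_strict_generization {Y : Sp S} {V R : Over S} (b : (yon S).obj V ⟶ Y)
    (hb : RepWith @Etale b) (s t : R ⟶ V)
    (sqR : IsPullback ((yon S).map t) ((yon S).map s) b b) (v₁ v₂ : ↥V.left)
    (h : Points.ofPt b v₁ = Points.ofPt b v₂) (hs : v₁ ⤳ v₂) (hne : v₁ ≠ v₂) :
    ∃ v₀ : ↥V.left, Points.ofPt b v₀ = Points.ofPt b v₁ ∧ v₀ ⤳ v₁ ∧ v₀ ≠ v₁ := by
  obtain ⟨r, hr1, hr2⟩ := exists_mem_kernelPair b s t sqR v₂ v₁ h.symm
  have hte : Etale t.left := (repWith_yon_map_iff _ _).1 (MorphismProperty.of_isPullback sqR.flip hb)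
  have hse : Etale s.left := (repWith_yon_map_iff _ _).1 (MorphismProperty.of_isPullback sqR hb)
  have hgen : GeneralizingMap t.left := Flat.generalizingMap t.left
  obtain ⟨r₁, hr₁, hr₁t⟩ := hgen (a := r) (b := v₁) (by rw [hr1]; exact hs)
  refine ⟨s.left r₁, ?_, ?_, ?_⟩
  · rw [← ofPt_yon_map_comp, ← sqR.w, ofPt_yon_map_comp, hr₁t]
  · rw [← hr2]; exact hr₁.map s.left.continuous
  · intro heq
    have hlqf : LocallyQuasiFinite s.left := Groth.Agent.Lib.Helper54.locallyQuasiFinite_of_etale _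
    have hdisc : _root_.IsDiscrete (s.left ⁻¹' {v₁}) := s.left.isDiscrete_preimage_singleton v₁
    have : DiscreteTopology ↥(s.left ⁻¹' {v₁}) := hdisc.to_subtype
    let a₁ : ↥(s.left ⁻¹' {v₁}) := ⟨r₁, heq⟩
    let a : ↥(s.left ⁻¹' {v₁}) := ⟨r, hr2⟩
    have hsp : a₁ ⤳ a := Topology.IsInducing.subtypeVal.specializes_iff.1 hr₁
    have : a₁ = a := hsp.eq
    have hrr : r₁ = r := congrArg Subtype.val this
    apply hne
    rw [← hr₁t, hrr, hr1]

/-- There are no nontrivial specializations among the points of a finite fibre of an étale chart. -/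
theorem eq_of_specializes_of_finite_fibre {Y : Sp S} {V R : Over S} (b : (yon S).obj V ⟶ Y)
    (hb : RepWith @Etale b) (s t : R ⟶ V)
    (sqR : IsPullback ((yon S).map t) ((yon S).map s) b b) (y : Points Y)
    (hfin : (Points.ofPt b ⁻¹' {y}).Finite) (v₁ v₂ : ↥V.left)
    (h₁ : Points.ofPt b v₁ = y) (h₂ : Points.ofPt b v₂ = y) (hs : v₁ ⤳ v₂) : v₁ = v₂ := by
  classical
  by_contra hne
  -- the finite set of generizations inside the fibre
  let G : ↥V.left → Set ↥V.left := fun v => {z | Points.ofPt b z = y ∧ z ⤳ v}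
  have hGfin : ∀ v, (G v).Finite := fun v => hfin.subset (fun z hz => hz.1)
  have key : ∀ n : ℕ, ∀ v₁ v₂ : ↥V.left, Points.ofPt b v₁ = y → Points.ofPt b v₂ = y → v₁ ⤳ v₂ →
      v₁ ≠ v₂ → (hGfin v₁).toFinset.card = n → False := by
    intro n
    induction n using Nat.strong_induction_on with
    | _ n ih =>
      intro v₁ v₂ h₁ h₂ hs hne hn
      obtain ⟨v₀, h₀, hs₀, hne₀⟩ :=
        exists_strict_generization b hb s t sqR v₁ v₂ (h₁.trans h₂.symm) hs hne
      have hsub : (hGfin v₀).toFinset ⊂ (hGfin v₁).toFinset := by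
        rw [Set.Finite.toFinset_ssubset_toFinset]
        refine ⟨fun z hz => ⟨hz.1, hz.2.trans hs₀⟩, ?_⟩
        intro hsub
        have : v₁ ∈ G v₀ := hsub ⟨h₁, specializes_rfl⟩
        exact hne₀ (hs₀.antisymm this.2).eq
      exact ih _ (hn ▸ Finset.card_lt_card hsub) v₀ v₁ (h₀.trans h₁) h₁ hs₀ hne₀ rfl
  exact key _ v₁ v₂ h₁ h₂ hs hne rfl

end Groth.Agent.H53.FibrePts
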