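import Groth.Agent.H53.NoSpec
import Mathlib.RingTheory.Ideal.KrullsHeightTheorem
import Mathlib.AlgebraicGeometry.Noetherian

set_option autoImplicit false
set_option backward.isDefEq.respectTransparency false
universe u
open CategoryTheory CategoryTheory.Limits AlgebraicGeometry Opposite Topology
open AlgSp

namespace Groth.Agent.H53.NoethSpec

variable {S : Scheme.{u}}

/-- In a locally Noetherian scheme, strict generalization is a well-founded relation. -/
theorem wellFounded_strictGeneralization (U : Scheme.{u}) [IsLocallyNoetherian U] :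
    WellFounded (fun y' y : ↥U => y' ⤳ y ∧ y' ≠ y) := by
  constructor
  intro y
  obtain ⟨_, ⟨W, hW, rfl⟩, hyW, -⟩ :=
    (U.isBasis_affineOpens).exists_subset_of_mem_open (Set.mem_univ y) isOpen_univ
  have hN : IsNoetherianRing Γ(U, W) := IsLocallyNoetherian.component_noetherian ⟨W, hW⟩
  let μ : ∀ z : ↥U, z ∈ W → ℕ := fun z hz => (hW.primeIdealOf ⟨z, hz⟩).asIdeal.height.toNat
  have key : ∀ (z' z : ↥U) (hz' : z' ∈ W) (hz : z ∈ W), z' ⤳ z → z' ≠ z → μ z' hz' < μ z hz := by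
    intro z' z hz' hz hs hne
    have h1 : hW.fromSpec (hW.primeIdealOf ⟨z', hz'⟩) ⤳ hW.fromSpec (hW.primeIdealOf ⟨z, hz⟩) := by
      rw [hW.fromSpec_primeIdealOf, hW.fromSpec_primeIdealOf]; exact hs
    have h2 : hW.primeIdealOf ⟨z', hz'⟩ ⤳ hW.primeIdealOf ⟨z, hz⟩ :=
      hW.fromSpec.isOpenEmbedding.isInducing.specializes_iff.1 h1
    have h3 : hW.primeIdealOf ⟨z', hz'⟩ ≤ hW.primeIdealOf ⟨z, hz⟩ :=
      (PrimeSpectrum.le_iff_specializes _ _).2 h2
    have h4 : hW.primeIdealOf ⟨z', hz'⟩ ≠ hW.primeIdealOf ⟨z, hz⟩ := by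
      intro h
      apply hne
      have := congrArg (fun p => hW.fromSpec p) h
      simpa only [hW.fromSpec_primeIdealOf] using this
    have h5 : (hW.primeIdealOf ⟨z', hz'⟩).asIdeal < (hW.primeIdealOf ⟨z, hz⟩).asIdeal :=
      lt_of_le_of_ne h3 (fun h => h4 (PrimeSpectrum.ext h))
    have h6 := Ideal.height_strict_mono_of_isPrime h5
    have h7 : (hW.primeIdealOf ⟨z', hz'⟩).asIdeal.height ≠ ⊤ :=
      Ideal.height_ne_top (Ideal.IsPrime.ne_top')
    have h8 : (hW.primeIdealOf ⟨z, hz⟩).asIdeal.height ≠ ⊤ :=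
      Ideal.height_ne_top (Ideal.IsPrime.ne_top')
    rw [← ENat.natCast_toNat h7, ← ENat.natCast_toNat h8, Nat.cast_lt] at h6
    exact h6
  have main : ∀ n : ℕ, ∀ (z : ↥U) (hz : z ∈ W), μ z hz = n → Acc (fun y' y : ↥U => y' ⤳ y ∧ y' ≠ y) z := by
    intro n
    induction n using Nat.strong_induction_on with
    | _ n ih =>
      intro z hz hn
      refine Acc.intro _ fun z' ⟨hs, hne⟩ => ?_
      have hz' : z' ∈ W := hs.mem_open W.2 hz
      exact ih (μ z' hz') (hn ▸ key z' z hz' hz hs hne) z' hz' rfl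
  exact main _ y hyW rfl

/-- In the fibres of an étale chart from a locally Noetherian scheme there are no nontrivial
specializations. -/
theorem eq_of_specializes_of_isLocallyNoetherian {F : Sp S} {U : Over S} [IsLocallyNoetherian U.left]
    (a : (yon S).obj U ⟶ F) (ha : RepWith @Etale a) {u u' : ↥U.left} (hs : u' ⤳ u)
    (he : Points.ofPt a u' = Points.ofPt a u) : u' = u := by
  by_contra hne
  have wf := wellFounded_strictGeneralization U.left
  let G : Set ↥U.left := {y | ∃ z, Points.ofPt a y = Points.ofPt a z ∧ y ⤳ z ∧ y ≠ z}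
  have hGne : G.Nonempty := ⟨u', u, he, hs, hne⟩
  obtain ⟨y₀, ⟨z, hy₀z, hs₀, hne₀⟩, hmin⟩ := wf.has_min G hGne
  obtain ⟨y'', h1, h2, h3⟩ := exists_strict_generalization_in_fibre a ha hs₀ hne₀ hy₀z
  exact hmin y'' ⟨y₀, h3, h1, h2⟩ ⟨h1, h2⟩

end Groth.Agent.H53.NoethSpec
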