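import Groth.Agent.H53.Proper
import Groth.Agent.H52.DescInst

/-!
# Proper morphisms: affine-local and etale-local characterisations (helper53)
-/

set_option autoImplicit false
universe u
open CategoryTheory CategoryTheory.Limits AlgebraicGeometry Opposite Topology

namespace Groth.Agent.H53
open AlgSp

variable {S : Scheme.{u}}

/-- `LocP P f` can be checked after base change to affine schemes, for `P` Zariski local at the
target. -/
theorem locP_of_forall_affine {P : MorphismProperty Scheme.{u}} [IsZariskiLocalAtTarget P]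
    {X Y : Sp S} (hX : IsAlgSpace X) (hY : IsAlgSpace Y) (f : X ⟶ Y)
    (H : ∀ (Z : Over S), IsAffine Z.left → ∀ (g : (yon S).obj Z ⟶ Y) (Q : Sp S) (p₁ : Q ⟶ X)
      (p₂ : Q ⟶ (yon S).obj Z), IsPullback p₁ p₂ f g → LocP P p₂) : LocP P f := by
  intro U' V' a' b' h' ha' hb' w'
  refine IsZariskiLocalAtTarget.of_iSup_eq_top (fun i : V'.left.affineOpens => (i : V'.left.Opens))
    (iSup_affineOpens_eq_top _) fun i => ?_
  have hpb := isPullback_morphismRestrict h'.left (i : V'.left.Opens)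
  have sq1 := H52.isPullback_over_of_left h' _ _ _ hpb
  have hιV : RepWith @Etale ((yon S).map (Over.homMk (i : V'.left.Opens).ι rfl :
      Over.mk ((i : V'.left.Opens).ι ≫ V'.hom) ⟶ V')) :=
    (repWith_yon_map_iff _ _).2 (inferInstanceAs (Etale (i : V'.left.Opens).ι))
  have hιU : RepWith @Etale ((yon S).map (Over.homMk (h'.left ⁻¹ᵁ (i : V'.left.Opens)).ι rfl :
      Over.mk ((h'.left ⁻¹ᵁ (i : V'.left.Opens)).ι ≫ U'.hom) ⟶ U')) :=
    (repWith_yon_map_iff _ _).2 (inferInstanceAs (Etale (h'.left ⁻¹ᵁ (i : V'.left.Opens)).ι))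
  have hb_i := (RepWith (S := S) @Etale).comp_mem _ _ hιV hb'
  have ha_i := (RepWith (S := S) @Etale).comp_mem _ _ hιU ha'
  have sqQ := IsPullback.of_hasPullback f ((yon S).map (Over.homMk (i : V'.left.Opens).ι rfl :
      Over.mk ((i : V'.left.Opens).ι ≫ V'.hom) ⟶ V') ≫ b')
  have hQ := H52.isAlgSpace_of_isPullback sqQ hX hY (IsAlgSpace.yon_obj _)
  have hp₁ : RepWith @Etale (pullback.fst f ((yon S).map (Over.homMk (i : V'.left.Opens).ι rfl :
      Over.mk ((i : V'.left.Opens).ι ≫ V'.hom) ⟶ V') ≫ b')) :=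
    MorphismProperty.of_isPullback sqQ.flip hb_i
  have hp₁' : IsEtaleMor (pullback.fst f ((yon S).map (Over.homMk (i : V'.left.Opens).ι rfl :
      Over.mk ((i : V'.left.Opens).ι ≫ V'.hom) ⟶ V') ≫ b')) :=
    fun W φ hφ => (RepWith (S := S) @Etale).comp_mem _ _ hφ hp₁
  have wi := congrArg (yon S).map sq1.w
  rw [Functor.map_comp, Functor.map_comp] at wi
  have wi' : ((yon S).map (Over.homMk (h'.left ⁻¹ᵁ (i : V'.left.Opens)).ι rfl :
      Over.mk ((h'.left ⁻¹ᵁ (i : V'.left.Opens)).ι ≫ U'.hom) ⟶ U') ≫ a') ≫ f =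
      (yon S).map (Over.homMk (h'.left ∣_ (i : V'.left.Opens))
        (H52.over_w_of_isPullback_left h' _ _ _ hpb)) ≫
      ((yon S).map (Over.homMk (i : V'.left.Opens).ι rfl :
        Over.mk ((i : V'.left.Opens).ι ≫ V'.hom) ⟶ V') ≫ b') := by
    rw [Category.assoc, w', ← Category.assoc, ← wi, Category.assoc]
  have hψ : RepWith @Etale (pullback.lift _ _ wi') :=
    repWith_etale_of_comp_isEtaleMor hQ _ _ hp₁' (by rw [pullback.lift_fst]; exact ha_i)
  have haff : IsAffine (Over.mk ((i : V'.left.Opens).ι ≫ V'.hom)).left := i.2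
  exact H (Over.mk ((i : V'.left.Opens).ι ≫ V'.hom)) haff _ _ _ _ sqQ _ (𝟙 _) _ hψ (repWith_id _ _)
    (by rw [pullback.lift_snd, Category.comp_id])

/-- Properness can be checked after base change to affine schemes. -/
theorem isProperMor_of_forall_affine {X Y : Sp S} (hX : IsAlgSpace X) (hY : IsAlgSpace Y)
    (f : X ⟶ Y)
    (H : ∀ (Z : Over S), IsAffine Z.left → ∀ (g : (yon S).obj Z ⟶ Y) (Q : Sp S) (p₁ : Q ⟶ X)
      (p₂ : Q ⟶ (yon S).obj Z), IsPullback p₁ p₂ f g → IsProperMor p₂) : IsProperMor f := by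
  refine ⟨?_, ⟨?_, ?_⟩, ?_⟩
  · exact H52.repWith_diagonal_of_affine_base_change @IsClosedImmersion hX f
      (fun Z hZ g Q p₁ p₂ sq => (H Z hZ g Q p₁ p₂ sq).1)
  · exact locP_of_forall_affine hX hY f (fun Z hZ g Q p₁ p₂ sq => (H Z hZ g Q p₁ p₂ sq).2.1.1)
  · refine H52.isQuasiCompactMor_of_affine hX hY f (fun Z hZ g Q p₁ p₂ sq => ?_)
    have : IsAffine Z.left := hZ
    exact (H Z hZ g Q p₁ p₂ sq).2.1.2 (IsAlgSpace.yon_obj Z) (H52.isQuasiCompactSp_yon Z) (𝟙 _)
      (𝟙 _) p₂ (IsPullback.id_horiz p₂)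
  · refine H52.univSp_of_affine IsClosedMor
      (fun hZ snd h => H52.isClosedMap_points_of_affine_charts hZ snd h) f
      (fun Z hZ g Q p₁ p₂ sq => ?_)
    exact univSp_self _ (IsAlgSpace.yon_obj Z) (H Z hZ g Q p₁ p₂ sq).2.2

/-- `LocP P` descends along an etale surjective base change from an algebraic space. -/
theorem locP_of_etale_surjective_base_change {P : MorphismProperty Scheme.{u}} (hP : LocPCalc P)
    {X Y : Sp S} (hX : IsAlgSpace X) (hY : IsAlgSpace Y) (f : X ⟶ Y) {V : Over S}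
    (p : (yon S).obj V ⟶ Y) (hpe : RepWith @Etale p) (hps : RepWith @Surjective p) {Q : Sp S}
    (fst : Q ⟶ X) (snd : Q ⟶ (yon S).obj V) (sq : IsPullback fst snd f p) (h : LocP P snd) :
    LocP P f := by
  have hQ : IsAlgSpace Q := H52.isAlgSpace_of_isPullback sq hX hY (IsAlgSpace.yon_obj V)
  obtain ⟨A, α, hαe, hαs⟩ := hQ.atlas
  obtain ⟨kA, hkA⟩ := (yon S).map_surjective (α ≫ snd)
  have hPkA : P kA.left := h α (𝟙 _) kA hαe (repWith_id _ _) (by rw [Category.comp_id, hkA])
  have hfe : RepWith @Etale fst := MorphismProperty.of_isPullback sq.flip hpe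
  have hfs : RepWith @Surjective fst := MorphismProperty.of_isPullback sq.flip hps
  refine locP_of_chart hP f (α ≫ fst) p kA ((RepWith (S := S) @Etale).comp_mem _ _ hαe hfe)
    ((RepWith (S := S) @Surjective).comp_mem _ _ hαs hfs) hpe ?_ hPkA
  rw [Category.assoc, sq.w, ← Category.assoc, hkA]

/-- Properness descends along an etale surjective base change from a scheme. -/
theorem isProperMor_of_etale_surjective_base_change {X Y : Sp S} (hX : IsAlgSpace X)
    (hY : IsAlgSpace Y) (f : X ⟶ Y) {V : Over S} (p : (yon S).obj V ⟶ Y)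
    (hpe : RepWith @Etale p) (hps : RepWith @Surjective p) {Q : Sp S} (fst : Q ⟶ X)
    (snd : Q ⟶ (yon S).obj V) (sq : IsPullback fst snd f p) (h : IsProperMor snd) :
    IsProperMor f := by
  have hV := IsAlgSpace.yon_obj (S := S) V
  have := H52.descendsAlong_isClosedImmersion_fppf.{u}
  refine ⟨?_, ⟨?_, ?_⟩, ?_⟩
  · exact H52.repWith_diagonal_of_etale_surjective_base_change @IsClosedImmersion hX f p hpe hps
      fst snd sq h.1
  · exact locP_of_etale_surjective_base_change locPCalc_locallyOfFiniteType hX hY f p hpe hps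
      fst snd sq h.2.1.1
  · refine H52.isQuasiCompactMor_of_etale_surjective_base_change hX hY hV f p fst snd sq
      (fun W φ hφ => (RepWith (S := S) @Etale).comp_mem _ _ hφ hpe)
      (H52.surjective_points_of_repWith_surjective p hps) h.2.1.2
  · exact H52.univSp_of_etale_cover IsClosedMor
      (fun sq' hq h' => H52.isClosedMap_points_of_isPullback_of_isQuotientMap sq' hq h')
      hY f hV p hpe hps fst snd sq h.2.2

end Groth.Agent.H53
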