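import Groth.Agent.H53.SchImageRed
import Groth.Agent.H53.ProperSep
import Groth.Agent.H53.UnivHomeo
import Groth.Agent.H52.QC2

set_option autoImplicit false
set_option backward.isDefEq.respectTransparency false
universe u
open CategoryTheory CategoryTheory.Limits AlgebraicGeometry Opposite Topology TopologicalSpace
open AlgSp

namespace Groth.Agent.H53.ProperImage

variable {S : Scheme.{u}}

/-- The target of a surjective morphism from a space proper over `B` is proper over `B` if it is
separated and locally of finite type over `B`. -/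
theorem isProperMor_of_surjective_triangle {X Y B : Sp S} (hY : IsAlgSpace Y) (hB : IsAlgSpace B)
    (k : X ⟶ Y) (q : Y ⟶ B) (hk : Function.Surjective (Points.map k)) (hs : IsSeparatedMor q)
    (hl : LocP @LocallyOfFiniteType q) (hp : IsProperMor (k ≫ q)) : IsProperMor q :=
  ⟨hs, ⟨hl, Groth.Agent.H52.isQuasiCompactMor_of_surjective_triangle hY hB k q hk hp.2.1.2⟩,
    Groth.Agent.H53.isUnivClosedMor_of_surjective_triangle k q hk hp.2.2⟩

/-- The reduction of an algebraic space. -/
theorem exists_reduction {Z : Sp S} (hZ : IsAlgSpace Z) :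
    ∃ (Zr : Sp S) (r : Zr ⟶ Z), IsAlgSpace Zr ∧ RepWith @IsClosedImmersion r ∧
      Function.Surjective (Points.map r) ∧ IsReducedSp Zr := by
  obtain ⟨Zr, r, hZr, -, hci, hr, hred⟩ :=
    Groth.Agent.H53.RedInduced.exists_isRedInduced hZ Set.univ isClosed_univ
  exact ⟨Zr, r, hZr, hci, Set.range_eq_univ.1 hr, hred⟩

theorem injective_points_of_repWith_isClosedImmersion {Z Y : Sp S} (i : Z ⟶ Y)
    (hi : RepWith @IsClosedImmersion i) : Function.Injective (Points.map i) :=
  Groth.Agent.H53.injective_points_of_repWith i @IsClosedImmersion (fun A B φ hφ => by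
    have : IsClosedImmersion φ := hφ
    exact φ.isEmbedding.injective) hi

theorem locP_lft_of_repWith_isClosedImmersion {Z Y : Sp S} (i : Z ⟶ Y)
    (hi : RepWith @IsClosedImmersion i) : LocP @LocallyOfFiniteType i :=
  (Groth.Agent.H53.isProperMor_of_repWith_isClosedImmersion i hi).2.1.1

/-- The image of a closed subspace proper over the base is a closed subset carrying a closed
subspace structure proper over the base. -/
theorem exists_proper_image {X Y B Z : Sp S} (hY : IsAlgSpace Y)
    (hB : IsAlgSpace B) (hZ : IsAlgSpace Z) (a : X ⟶ B) (b : Y ⟶ B) (f : X ⟶ Y)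
    (hcomm : f ≫ b = a) (hb : LocP @LocallyOfFiniteType b) (hbs : IsSeparatedMor b)
    (i : Z ⟶ X) (hZp : IsProperMor (i ≫ a)) :
    IsClosed (Points.map f '' Set.range (Points.map i)) ∧
      ∃ (Z' : Sp S) (i' : Z' ⟶ Y), IsAlgSpace Z' ∧ RepWith @IsClosedImmersion i' ∧
        Set.range (Points.map i') = Points.map f '' Set.range (Points.map i) ∧
        IsProperMor (i' ≫ b) := by
  have hhb : (i ≫ f) ≫ b = i ≫ a := by rw [Category.assoc, hcomm]
  have hh : IsProperMor (i ≫ f) :=
    Groth.Agent.H53.isProperMor_of_comp_separated hZ hY hB (i ≫ f) b hbs (by rw [hhb]; exact hZp)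
  have hcl : IsClosedMap (Points.map (i ≫ f)) := Groth.Agent.H53.univSp_self IsClosedMor hY hh.2.2
  have himg : Points.map f '' Set.range (Points.map i) = Set.range (Points.map (i ≫ f)) := by
    rw [← Set.range_comp]
    congr 1
    funext z
    exact (Points.map_comp i f z).symm
  have hT : IsClosed (Set.range (Points.map (i ≫ f))) := hcl.isClosed_range
  rw [himg]
  refine ⟨hT, ?_⟩
  obtain ⟨Z', i', hZ', hmono', hci', hr', hred'⟩ :=
    Groth.Agent.H53.RedInduced.exists_isRedInduced hY _ hT
  obtain ⟨Zr, r, hZr, hcir, hrs, hredr⟩ := exists_reduction hZ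
  obtain ⟨k, hk⟩ := Groth.Agent.H53.SchImageRed.exists_factor_of_isReducedSp hredr (r ≫ i ≫ f) i'
    hci' (by
      rw [hr']
      rintro _ ⟨z, rfl⟩
      exact ⟨Points.map r z, (Points.map_comp r (i ≫ f) z).symm⟩)
  have hks : Function.Surjective (Points.map k) := by
    intro z'
    have hz' : Points.map i' z' ∈ Set.range (Points.map (i ≫ f)) := by
      rw [← hr']; exact ⟨z', rfl⟩
    obtain ⟨z, hz⟩ := hz'
    obtain ⟨zr, rfl⟩ := hrs z
    refine ⟨zr, injective_points_of_repWith_isClosedImmersion i' hci' ?_⟩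
    rw [← Points.map_comp, hk, Points.map_comp, hz]
  have hkb : k ≫ i' ≫ b = r ≫ i ≫ a := by
    rw [← Category.assoc, hk, Category.assoc, hhb]
  have hp : IsProperMor (k ≫ i' ≫ b) := by
    rw [hkb]
    exact Groth.Agent.H53.isProperMor_comp hZr hZ hB r (i ≫ a)
      (Groth.Agent.H53.isProperMor_of_repWith_isClosedImmersion r hcir) hZp
  refine ⟨Z', i', hZ', hci', hr', isProperMor_of_surjective_triangle hZ' hB k (i' ≫ b) hks ?_ ?_ hp⟩
  · exact Groth.Agent.H52.repWith_diagonal_comp _ i' b
      (Groth.Agent.H52.isSeparatedMor_of_repWith_mono i') hbs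
  · exact Groth.Agent.H53.locP_comp Groth.Agent.H53.locPCalc_locallyOfFiniteType hZ' hY hB i' b
      (locP_lft_of_repWith_isClosedImmersion i' hci') hb

end Groth.Agent.H53.ProperImage
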