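import Groth.Agent.H53.SepDescend

set_option autoImplicit false
set_option backward.isDefEq.respectTransparency false
universe u
open CategoryTheory CategoryTheory.Limits AlgebraicGeometry Opposite Topology TopologicalSpace
open AlgSp

namespace Groth.Agent.H53.ProperImageUC

variable {S : Scheme.{u}}

/-- Cancellation for universally closed morphisms along a monomorphism. -/
theorem isUnivClosedMor_of_comp_mono {A B C : Sp S} (k : A ⟶ B) (i : B ⟶ C) [Mono i]
    (h : IsUnivClosedMor (k ≫ i)) : IsUnivClosedMor k := by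
  have sq : IsPullback (𝟙 A) k (k ≫ i) i :=
    ⟨⟨by rw [Category.id_comp]⟩,
      ⟨PullbackCone.IsLimit.mk _ (fun c => c.fst) (fun c => Category.comp_id _)
        (fun c => by rw [← cancel_mono i, Category.assoc]; exact c.condition)
        (fun c m h1 _ => by rw [← h1, Category.comp_id])⟩⟩
  exact Groth.Agent.H53.univSp_of_isPullback _ sq h

/-- The image of a closed subspace proper over the base under a universally closed morphism is a
closed subset carrying a closed subspace structure proper over the base. -/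
theorem exists_proper_image {X Y B Z : Sp S} (hX : IsAlgSpace X) (hY : IsAlgSpace Y)
    (hB : IsAlgSpace B) (hZ : IsAlgSpace Z) (a : X ⟶ B) (b : Y ⟶ B) (f : X ⟶ Y)
    (hcomm : f ≫ b = a) (hb : LocP @LocallyOfFiniteType b) (hf : IsUnivClosedMor f)
    (i : Z ⟶ X) (hi : RepWith @IsClosedImmersion i) (hZp : IsProperMor (i ≫ a)) :
    IsClosed (Points.map f '' Set.range (Points.map i)) ∧
      ∃ (Z' : Sp S) (i' : Z' ⟶ Y), IsAlgSpace Z' ∧ RepWith @IsClosedImmersion i' ∧
        Set.range (Points.map i') = Points.map f '' Set.range (Points.map i) ∧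
        IsProperMor (i' ≫ b) := by
  have hhb : (i ≫ f) ≫ b = i ≫ a := by rw [Category.assoc, hcomm]
  have hh : IsUnivClosedMor (i ≫ f) :=
    Groth.Agent.H53.isUnivClosedMor_comp hX hY i f
      (Groth.Agent.H53.isUnivClosedMor_of_repWith_isClosedImmersion i hi) hf
  have hcl : IsClosedMap (Points.map (i ≫ f)) := Groth.Agent.H53.univSp_self IsClosedMor hY hh
  have himg : Points.map f '' Set.range (Points.map i) = Set.range (Points.map (i ≫ f)) := by
    rw [← Set.range_comp]
    congr 1
    funext z
    exact (Points.map_comp i f z).symm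
  have hT : IsClosed (Set.range (Points.map (i ≫ f))) := hcl.isClosed_range
  rw [himg]
  refine ⟨hT, ?_⟩
  obtain ⟨Z', i', hZ', hmono', hci', hr', hred'⟩ :=
    Groth.Agent.H53.RedInduced.exists_isRedInduced hY _ hT
  obtain ⟨Zr, r, hZr, hcir, hrs, hredr⟩ := Groth.Agent.H53.ProperImage.exists_reduction hZ
  obtain ⟨k, hk⟩ := Groth.Agent.H53.SchImageRed.exists_factor_of_isReducedSp hredr (r ≫ i ≫ f) i'
    hci' (by
      rw [hr']
      rintro _ ⟨z, rfl⟩
      exact ⟨Points.map r z, (Points.map_comp r (i ≫ f) z).symm⟩)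
  have hks : Function.Surjective (Points.map k) := by
    intro z'
    have hz' : Points.map i' z' ∈ Set.range (Points.map (i ≫ f)) := by
      rw [← hr']; exact ⟨z', rfl⟩
    obtain ⟨z, hz⟩ := hz'
    obtain ⟨zr, rfl⟩ := hrs z
    refine ⟨zr, Groth.Agent.H53.ProperImage.injective_points_of_repWith_isClosedImmersion i' hci' ?_⟩
    rw [← Points.map_comp, hk, Points.map_comp, hz]
  have hkb : k ≫ i' ≫ b = r ≫ i ≫ a := by
    rw [← Category.assoc, hk, Category.assoc, hhb]
  have hp : IsProperMor (k ≫ i' ≫ b) := by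
    rw [hkb]
    exact Groth.Agent.H53.isProperMor_comp hZr hZ hB r (i ≫ a)
      (Groth.Agent.H53.isProperMor_of_repWith_isClosedImmersion r hcir) hZp
  have hkuc : IsUnivClosedMor k := by
    apply isUnivClosedMor_of_comp_mono k i'
    rw [hk]
    exact Groth.Agent.H53.isUnivClosedMor_comp hZ hY r (i ≫ f)
      (Groth.Agent.H53.isUnivClosedMor_of_repWith_isClosedImmersion r hcir) hh
  refine ⟨Z', i', hZ', hci', hr',
    Groth.Agent.H53.ProperImage.isProperMor_of_surjective_triangle hZ' hB k (i' ≫ b) hks ?_ ?_ hp⟩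
  · exact Groth.Agent.H53.SepDescend.isSeparatedMor_of_surjective_univClosed hZr hZ' hB k (i' ≫ b)
      hkuc hks hp.1
  · exact Groth.Agent.H53.locP_comp Groth.Agent.H53.locPCalc_locallyOfFiniteType hZ' hY hB i' b
      (Groth.Agent.H53.ProperImage.locP_lft_of_repWith_isClosedImmersion i' hci') hb

end Groth.Agent.H53.ProperImageUC
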