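import Groth.Agent.H53.ProperImage

set_option autoImplicit false
set_option backward.isDefEq.respectTransparency false
universe u
open CategoryTheory CategoryTheory.Limits AlgebraicGeometry Opposite Topology TopologicalSpace
open AlgSp

namespace Groth.Agent.H53.ProperSupport

variable {S : Scheme.{u}}

/-- Cancellation for closed immersions. -/
theorem repWith_isClosedImmersion_of_comp {A B C : Sp S} (k : A ⟶ B) (i : B ⟶ C) [Mono i]
    (h : RepWith @IsClosedImmersion (k ≫ i)) : RepWith @IsClosedImmersion k := by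
  have sq : IsPullback (𝟙 A) k (k ≫ i) i :=
    ⟨⟨by rw [Category.id_comp]⟩,
      ⟨PullbackCone.IsLimit.mk _ (fun c => c.fst) (fun c => Category.comp_id _)
        (fun c => by rw [← cancel_mono i, Category.assoc]; exact c.condition)
        (fun c m h1 _ => by rw [← h1, Category.comp_id])⟩⟩
  exact MorphismProperty.of_isPullback sq h

/-- If `k : A ⟶ B` is a surjective closed immersion and `A ⟶ Y` is separated, then `B ⟶ Y` is
separated. -/
theorem isSeparatedMor_of_surjective_closedImmersion {A B Y : Sp S} (hB : IsAlgSpace B)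
    (k : A ⟶ B) (q : B ⟶ Y) (hk : RepWith @IsClosedImmersion k)
    (hks : Function.Surjective (Points.map k)) (hs : IsSeparatedMor (k ≫ q)) :
    IsSeparatedMor q := by
  rw [Groth.Agent.H53.isSeparatedMor_iff_isUnivClosedMor_diagonal hB q]
  -- the two partial products
  let l₁ : pullback (k ≫ q) (k ≫ q) ⟶ pullback q (k ≫ q) :=
    pullback.map (k ≫ q) (k ≫ q) q (k ≫ q) k (𝟙 A) (𝟙 Y) (by simp) (by simp)
  let l₂ : pullback q (k ≫ q) ⟶ pullback q q :=
    pullback.map q (k ≫ q) q q (𝟙 B) k (𝟙 Y) (by simp) (by simp)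
  have sq₁ : IsPullback l₁ (pullback.fst (k ≫ q) (k ≫ q)) (pullback.fst q (k ≫ q)) k := by
    refine IsPullback.of_right (h₁₂ := pullback.snd q (k ≫ q)) (h₂₂ := q) (v₁₃ := k ≫ q) ?_
      (by simp [l₁]) (IsPullback.of_hasPullback q (k ≫ q)).flip
    have : l₁ ≫ pullback.snd q (k ≫ q) = pullback.snd (k ≫ q) (k ≫ q) := by simp [l₁]
    rw [this]
    exact (IsPullback.of_hasPullback (k ≫ q) (k ≫ q)).flip
  have sq₂ : IsPullback l₂ (pullback.snd q (k ≫ q)) (pullback.snd q q) k := by
    refine IsPullback.of_right (h₁₂ := pullback.fst q q) (h₂₂ := q) (v₁₃ := q) ?_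
      (by simp [l₂]) (IsPullback.of_hasPullback q q)
    have : l₂ ≫ pullback.fst q q = pullback.fst q (k ≫ q) := by simp [l₂]
    rw [this]
    exact IsPullback.of_hasPullback q (k ≫ q)
  have h1 : RepWith @IsClosedImmersion l₁ := MorphismProperty.of_isPullback sq₁.flip hk
  have h2 : RepWith @IsClosedImmersion l₂ := MorphismProperty.of_isPullback sq₂.flip hk
  have h3 : RepWith @IsClosedImmersion (pullback.diagonal (k ≫ q) ≫ l₁ ≫ l₂) :=
    MorphismProperty.comp_mem _ _ _ hs (MorphismProperty.comp_mem _ _ _ h1 h2)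
  have heq : k ≫ pullback.diagonal q = pullback.diagonal (k ≫ q) ≫ l₁ ≫ l₂ := by
    apply pullback.hom_ext <;> simp [l₁, l₂]
  apply Groth.Agent.H53.isUnivClosedMor_of_surjective_triangle k _ hks
  rw [heq]
  exact Groth.Agent.H53.isUnivClosedMor_of_repWith_isClosedImmersion _ h3

/-- Properness over `Y` of a closed subspace of `X` depends only on its support. -/
theorem isProperMor_of_range_eq {X Y Z Z' : Sp S} (hX : IsAlgSpace X) (hY : IsAlgSpace Y)
    (hZ : IsAlgSpace Z) (hZ' : IsAlgSpace Z') (f : X ⟶ Y) (hf : LocP @LocallyOfFiniteType f)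
    (i : Z ⟶ X) (i' : Z' ⟶ X) (hi : RepWith @IsClosedImmersion i)
    (hi' : RepWith @IsClosedImmersion i')
    (heq : Set.range (Points.map i) = Set.range (Points.map i'))
    (hp : IsProperMor (i ≫ f)) : IsProperMor (i' ≫ f) := by
  obtain ⟨Zr, r, hZr, hcir, hrs, hredr⟩ := Groth.Agent.H53.ProperImage.exists_reduction hZ
  have : Mono i' := Groth.Agent.H53.SchImageRed.mono_of_repWith_isClosedImmersion i' hi'
  obtain ⟨k, hk⟩ := Groth.Agent.H53.SchImageRed.exists_factor_of_isReducedSp hredr (r ≫ i) i' hi'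
    (by
      rw [← heq]
      rintro _ ⟨z, rfl⟩
      exact ⟨Points.map r z, (Points.map_comp r i z).symm⟩)
  have hks : Function.Surjective (Points.map k) := by
    intro z'
    have hz' : Points.map i' z' ∈ Set.range (Points.map i) := by
      rw [heq]; exact ⟨z', rfl⟩
    obtain ⟨z, hz⟩ := hz'
    obtain ⟨zr, rfl⟩ := hrs z
    refine ⟨zr, Groth.Agent.H53.ProperImage.injective_points_of_repWith_isClosedImmersion i' hi' ?_⟩
    rw [← Points.map_comp, hk, Points.map_comp, hz]
  have hkci : RepWith @IsClosedImmersion k :=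
    repWith_isClosedImmersion_of_comp k i' (by
      rw [hk]
      exact MorphismProperty.comp_mem _ _ _ hcir hi)
  have hkq : k ≫ i' ≫ f = r ≫ i ≫ f := by rw [← Category.assoc, hk, Category.assoc]
  have hpk : IsProperMor (k ≫ i' ≫ f) := by
    rw [hkq]
    exact Groth.Agent.H53.isProperMor_comp hZr hZ hY r (i ≫ f)
      (Groth.Agent.H53.isProperMor_of_repWith_isClosedImmersion r hcir) hp
  refine Groth.Agent.H53.ProperImage.isProperMor_of_surjective_triangle hZ' hY k (i' ≫ f) hks
    ?_ ?_ hpk
  · exact isSeparatedMor_of_surjective_closedImmersion hZ' k (i' ≫ f) hkci hks hpk.1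
  · exact Groth.Agent.H53.locP_comp Groth.Agent.H53.locPCalc_locallyOfFiniteType hZ' hX hY i' f
      (Groth.Agent.H53.ProperImage.locP_lft_of_repWith_isClosedImmersion i' hi') hf

end Groth.Agent.H53.ProperSupport
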