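import Groth.Agent.H53.ProperImage

set_option autoImplicit false
set_option backward.isDefEq.respectTransparency false
universe u
open CategoryTheory CategoryTheory.Limits AlgebraicGeometry Opposite Topology TopologicalSpace
open AlgSp

namespace Groth.Agent.H53.ProperUnion

open Groth.Agent.H52

variable {S : Scheme.{u}}

/-- If finitely many jointly surjective maps into `F` become universally closed after composing
with `f`, then `f` is universally closed. -/
theorem isUnivClosedMor_of_finite_surjective_family {ι : Type*} [Finite ι] {F G : Sp S}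
    (Fk : ι → Sp S) (m : ∀ k, Fk k ⟶ F) (f : F ⟶ G)
    (hsurj : ∀ x : Points F, ∃ k, x ∈ Set.range (Points.map (m k)))
    (h : ∀ k, IsUnivClosedMor (m k ≫ f)) : IsUnivClosedMor f := by
  intro Z Z' hZ g fst snd sq
  have sq2 := fun k => IsPullback.of_hasPullback (m k) fst
  have big := fun k => (sq2 k).paste_vert sq
  have hcl : ∀ k, IsClosedMap (Points.map (pullback.snd (m k) fst ≫ snd)) :=
    fun k => h k hZ g _ _ (big k)
  intro C hC
  have : Points.map snd '' C = ⋃ k, Points.map (pullback.snd (m k) fst ≫ snd) ''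
      (Points.map (pullback.snd (m k) fst) ⁻¹' C) := by
    ext z
    simp only [Set.mem_image, Set.mem_iUnion, Set.mem_preimage]
    constructor
    · rintro ⟨c, hc, rfl⟩
      obtain ⟨k, x, hx⟩ := hsurj (Points.map fst c)
      obtain ⟨p, -, hp⟩ := exists_point_of_isPullback (sq2 k) x c hx
      exact ⟨k, p, by rw [hp]; exact hc, by rw [Points.map_comp, hp]⟩
    · rintro ⟨k, c', hc', rfl⟩
      exact ⟨_, hc', (Points.map_comp _ _ _).symm⟩
  rw [this]
  exact isClosed_iUnion_of_finite fun k => hcl k _ (hC.preimage (Points.continuous_map _))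

/-- If finitely many jointly surjective maps into `F` become quasi-compact after composing
with `f`, then `f` is quasi-compact. -/
theorem isQuasiCompactMor_of_finite_surjective_family {ι : Type*} [Finite ι] {F G : Sp S}
    (hF : IsAlgSpace F) (hG : IsAlgSpace G)
    (Fk : ι → Sp S) (m : ∀ k, Fk k ⟶ F) (f : F ⟶ G)
    (hsurj : ∀ x : Points F, ∃ k, x ∈ Set.range (Points.map (m k)))
    (h : ∀ k, IsQuasiCompactMor (m k ≫ f)) : IsQuasiCompactMor f := by
  intro Z' P hZ' hZ'qc g fst snd sq
  have hP : IsAlgSpace P := isAlgSpace_of_isPullback sq hF hG hZ'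
  have sq2 := fun k => IsPullback.of_hasPullback (m k) fst
  have big := fun k => (sq2 k).paste_vert sq
  have hqc : ∀ k, IsQuasiCompactSp (pullback (m k) fst) := fun k => h k hZ' hZ'qc g _ _ (big k)
  choose U p hpe hps hU using hqc
  have : ∀ k, CompactSpace ↥(U k).left := hU
  refine isQuasiCompactSp_of_finite_family hP U (fun k => p k ≫ pullback.snd (m k) fst) ?_
  intro y
  obtain ⟨k, x, hx⟩ := hsurj (Points.map fst y)
  obtain ⟨q, -, hq⟩ := exists_point_of_isPullback (sq2 k) x y hx
  obtain ⟨u', rfl⟩ := surjective_points_of_repWith_surjective (p k) (hps k) q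
  obtain ⟨u, rfl⟩ := (Points.schemeEquiv (U k)).surjective u'
  refine ⟨k, u, ?_⟩
  rw [Points.ofPt_eq_map_ofScheme, Points.map_comp]
  exact hq

end Groth.Agent.H53.ProperUnion
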