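import Groth.Agent.H53.ProperUnion

set_option autoImplicit false
set_option backward.isDefEq.respectTransparency false
universe u
open CategoryTheory CategoryTheory.Limits AlgebraicGeometry Opposite Topology TopologicalSpace
open AlgSp

namespace Groth.Agent.H53.ProperUnion

open Groth.Agent.H52 Groth.Agent.H53.ProperImage

variable {S : Scheme.{u}}

/-- If finitely many jointly surjective closed subspaces of `W` are separated over `Y`, then `W` is
separated over `Y`. -/
theorem isSeparatedMor_of_finite_surjective_family {ι : Type*} [Finite ι] {W Y : Sp S}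
    (hW : IsAlgSpace W) (hY : IsAlgSpace Y)
    (Fk : ι → Sp S) (hFk : ∀ k, IsAlgSpace (Fk k)) (m : ∀ k, Fk k ⟶ W)
    (hm : ∀ k, RepWith @IsClosedImmersion (m k)) (q : W ⟶ Y)
    (hsurj : ∀ x : Points W, ∃ k, x ∈ Set.range (Points.map (m k)))
    (h : ∀ k, IsSeparatedMor (m k ≫ q)) : IsSeparatedMor q := by
  rw [isSeparatedMor_iff_isUnivClosedMor_diagonal hW]
  refine isUnivClosedMor_of_finite_surjective_family Fk m _ hsurj (fun k => ?_)
  have hPk : IsAlgSpace (pullback (m k ≫ q) (m k ≫ q)) :=
    isAlgSpace_of_isPullback (IsPullback.of_hasPullback _ _) (hFk k) hY (hFk k)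
  have hG : IsAlgSpace (pullback q q) :=
    isAlgSpace_of_isPullback (IsPullback.of_hasPullback _ _) hW hY hW
  have e : m k ≫ pullback.diagonal q = pullback.diagonal (m k ≫ q) ≫
      pullback.map (m k ≫ q) (m k ≫ q) q q (m k) (m k) (𝟙 Y)
        ((Category.comp_id _).trans rfl) ((Category.comp_id _).trans rfl) := by
    apply pullback.hom_ext <;> simp
  rw [e]
  refine isUnivClosedMor_comp hPk hG _ _
    ((isSeparatedMor_iff_isUnivClosedMor_diagonal (hFk k) _).1 (h k)) ?_
  apply Groth.Agent.H53.isUnivClosedMor_of_repWith_isClosedImmersion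
  exact MorphismProperty.pullbackMap (P := RepWith (S := S) @IsClosedImmersion) (hm k) (hm k) rfl rfl

/-- A finite union of closed subspaces proper over `Y` carries a closed subspace structure
proper over `Y`. -/
theorem exists_proper_union {X Y : Sp S} (hX : IsAlgSpace X) (hY : IsAlgSpace Y) (f : X ⟶ Y)
    (hf : LocP @LocallyOfFiniteType f) {n : ℕ} (Z : Fin n → Sp S) (hZ : ∀ k, IsAlgSpace (Z k))
    (i : ∀ k, Z k ⟶ X) (hi : ∀ k, RepWith @IsClosedImmersion (i k))
    (hp : ∀ k, IsProperMor (i k ≫ f)) :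
    ∃ (W : Sp S) (j : W ⟶ X), IsAlgSpace W ∧ RepWith @IsClosedImmersion j ∧
      Set.range (Points.map j) = ⋃ k, Set.range (Points.map (i k)) ∧ IsProperMor (j ≫ f) := by
  have hT : IsClosed (⋃ k, Set.range (Points.map (i k))) := by
    refine isClosed_iUnion_of_finite fun k => ?_
    have hcl : IsClosedMap (Points.map (i k)) := Groth.Agent.H53.univSp_self IsClosedMor hX
      (Groth.Agent.H53.isUnivClosedMor_of_repWith_isClosedImmersion _ (hi k))
    exact hcl.isClosed_range
  obtain ⟨W, j, hW, hmono, hci, hr, hred⟩ :=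
    Groth.Agent.H53.RedInduced.exists_isRedInduced hX _ hT
  refine ⟨W, j, hW, hci, hr, ?_⟩
  have hred' := fun k => exists_reduction (hZ k)
  choose Zr r hZr hcir hrs hredr using hred'
  have hfac : ∀ k, ∃ m : Zr k ⟶ W, m ≫ j = r k ≫ i k := fun k =>
    Groth.Agent.H53.SchImageRed.exists_factor_of_isReducedSp (hredr k) (r k ≫ i k) j hci (by
      rw [hr]
      rintro _ ⟨z, rfl⟩
      exact Set.mem_iUnion.2 ⟨k, Points.map (r k) z, (Points.map_comp (r k) (i k) z).symm⟩)
  choose m hm using hfac
  have : Mono j := hmono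
  have hmc : ∀ k, RepWith @IsClosedImmersion (m k) := fun k =>
    Groth.Agent.H53.repWith_of_comp_mono @IsClosedImmersion (m k) j (by
      rw [hm k]
      exact (RepWith (S := S) @IsClosedImmersion).comp_mem _ _ (hcir k) (hi k))
  have hprop : ∀ k, IsProperMor (m k ≫ j ≫ f) := fun k => by
    rw [← Category.assoc, hm k, Category.assoc]
    exact Groth.Agent.H53.isProperMor_comp (hZr k) (hZ k) hY (r k) (i k ≫ f)
      (Groth.Agent.H53.isProperMor_of_repWith_isClosedImmersion _ (hcir k)) (hp k)
  have hsurj : ∀ x : Points W, ∃ k, x ∈ Set.range (Points.map (m k)) := by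
    intro w
    have hw : Points.map j w ∈ ⋃ k, Set.range (Points.map (i k)) := by
      rw [← hr]; exact ⟨w, rfl⟩
    obtain ⟨k, z, hz⟩ := Set.mem_iUnion.1 hw
    obtain ⟨zr, rfl⟩ := hrs k z
    refine ⟨k, zr, injective_points_of_repWith_isClosedImmersion j hci ?_⟩
    rw [← Points.map_comp, hm k, Points.map_comp, hz]
  refine ⟨isSeparatedMor_of_finite_surjective_family hW hY Zr hZr m hmc (j ≫ f) hsurj
      (fun k => (hprop k).1),
    ⟨Groth.Agent.H53.locP_comp Groth.Agent.H53.locPCalc_locallyOfFiniteType hW hX hY j f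
        (locP_lft_of_repWith_isClosedImmersion j hci) hf,
      isQuasiCompactMor_of_finite_surjective_family hW hY Zr m (j ≫ f) hsurj
        (fun k => (hprop k).2.1.2)⟩,
    isUnivClosedMor_of_finite_surjective_family Zr m (j ≫ f) hsurj (fun k => (hprop k).2.2)⟩

end Groth.Agent.H53.ProperUnion
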