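import Groth.Agent.H53.ZarGlueMax
import Groth.Agent.Lib.Helper51.YonCoprod

set_option autoImplicit false
set_option backward.isDefEq.respectTransparency false
universe u
open CategoryTheory CategoryTheory.Limits AlgebraicGeometry Opposite

namespace Groth.Agent.H53.ZarGlue

open AlgSp Groth.Agent.Lib.Helper51 Groth.Agent.Lib.Helper54

variable {S : Scheme.{u}}

/-- A morphism of sheaves whose points land in `W` factors through the subsheaf `openSub G W`. -/
theorem exists_factor_openSubι {F G : Sp S} (φ : F ⟶ G) (W : Set (Points G))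
    (h : Set.range (Points.map φ) ⊆ W) : ∃ r : F ⟶ openSub G W, r ≫ openSubι G W = φ := by
  have hr : Subfunctor.range φ.hom ≤ openSubfunctor G W := by
    rintro ⟨T⟩ _ ⟨s, rfl⟩
    have h1 : φ.hom.app (op T) s = yonEquiv (yonEquiv.symm s ≫ φ) := by
      rw [yonEquiv_comp, Equiv.apply_symm_apply]
    rw [h1, mem_openSubfunctor_iff]
    intro t
    rw [← Points.map_ofPt]
    exact h ⟨_, rfl⟩
  exact ⟨ObjectProperty.homMk (Subfunctor.lift φ.hom hr), rfl⟩

/-- If the `f i` are jointly locally surjective then every point of `F` comes from some `Fi i`. -/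
theorem iUnion_range_points_eq_univ {F : Sp S} {ι : Type u} (Fi : ι → Sp S) (f : ∀ i, Fi i ⟶ F)
    (c : Cofan Fi) (hc : IsColimit c)
    (hsurj : Sheaf.IsLocallySurjective (Cofan.IsColimit.desc hc f)) :
    (⋃ i, Set.range (Points.map (f i))) = Set.univ := by
  set W : Set (Points F) := ⋃ i, Set.range (Points.map (f i)) with hW
  choose r hr using fun i => exists_factor_openSubι (f i) W
    (fun x hx => Set.mem_iUnion.2 ⟨i, hx⟩)
  have hfac : Cofan.IsColimit.desc hc r ≫ openSubι F W = Cofan.IsColimit.desc hc f := by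
    apply Cofan.IsColimit.hom_ext hc
    intro i
    rw [← Category.assoc, Cofan.IsColimit.fac, hr, Cofan.IsColimit.fac]
  have hepi : Epi (Cofan.IsColimit.desc hc f) := Sheaf.epi_of_isLocallySurjective' _
  have : Epi (openSubι F W) := by
    rw [← hfac] at hepi
    exact epi_of_epi (Cofan.IsColimit.desc hc r) (openSubι F W)
  have hiso : IsIso (openSubι F W) := isIso_of_mono_of_epi _
  rw [← range_points_map_openSubι F W]
  rw [Set.eq_univ_iff_forall]
  intro x
  exact ⟨Points.map (inv (openSubι F W)) x, by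
    rw [← Points.map_comp, IsIso.inv_hom_id, Points.map_id]⟩


section OpenCover

variable {F : Sp S} {ι : Type u} {Fi : ι → Sp S} {f : ∀ i, Fi i ⟶ F}
  (hopen : ∀ i, RepWith @IsOpenImmersion (f i))
  (hcov : (⋃ i, Set.range (Points.map (f i))) = Set.univ)

include hcov in
/-- The open subschemes `b⁻¹(Fi i)` cover `T`. -/
theorem exists_mem_range_snd {T : Over S} (b : (yon S).obj T ⟶ F) (t : ↥T.left) :
    ∃ i, t ∈ Set.range ((hopen i).rep.snd b).left := by
  have hx : Points.ofPt b t ∈ ⋃ i, Set.range (Points.map (f i)) := by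
    rw [hcov]; trivial
  obtain ⟨i, xi, hxi⟩ := Set.mem_iUnion.1 hx
  obtain ⟨t', -, ht'⟩ := exists_pt_of_isPullback_yon ((hopen i).rep.isPullback b) xi t hxi
  exact ⟨i, t', ht'⟩

include hopen hcov in
/-- Every map from a scheme to `F` is representable. -/
theorem representable_from_yon_of_openCover (halg : ∀ i, IsAlgSpace (Fi i)) {T : Over S}
    (a : (yon S).obj T ⟶ F) : Representable a := by
  refine representable_of_localRepAt (P := ⊤) fun T' b t' => ?_
  obtain ⟨i, hi⟩ := exists_mem_range_snd hopen hcov b t'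
  have hai : Representable ((hopen i).rep.fst a) := (halg i).representable_from_yon _
  have sq1 := (hai.isPullback ((hopen i).rep.fst b)).flip
  have sq2 := (hopen i).rep.isPullback a
  have sq := (sq1.paste_vert sq2).flip
  rw [(hopen i).rep.w b] at sq
  exact ⟨(hopen i).rep.pullback b, (hopen i).rep.snd b, hai.pullback ((hopen i).rep.fst b),
    hai.snd ((hopen i).rep.fst b), hai.fst ((hopen i).rep.fst b) ≫ (yon S).map ((hopen i).rep.snd a),
    (hopen i).property_snd b, hi, sq, trivial⟩

end OpenCover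


/-- `RepWith Q` of a map out of a disjoint union of schemes can be checked on the summands, for `Q` Zariski local at
the source. -/
theorem repWith_of_source_sigma (Q : MorphismProperty Scheme.{u}) [IsZariskiLocalAtSource Q]
    {G : Sp S} {ι : Type u} (Y : ι → Scheme.{u}) (g : ∀ i, Y i ⟶ S)
    (P : (yon S).obj (sigmaOver Y g) ⟶ G) (hP : Representable P)
    (h : ∀ i, RepWith Q ((yon S).map (sigmaOverι Y g i) ≫ P)) : RepWith Q P := by
  refine ⟨hP, fun T W b fstW sndW sq => ?_⟩
  let ω : W ⟶ sigmaOver Y g := (yon S).preimage fstW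
  have hω : (yon S).map ω = fstW := Functor.map_preimage _ _
  let V : ι → W.left.Opens := fun i => ω.left ⁻¹ᵁ (Sigma.ι Y i).opensRange
  have hV : iSup V = ⊤ := by
    rw [eq_top_iff]
    intro w _
    obtain ⟨y, hy⟩ := (sigmaOpenCover Y).covers (ω.left w)
    exact TopologicalSpace.Opens.mem_iSup.2 ⟨(sigmaOpenCover Y).idx (ω.left w), ⟨y, hy⟩⟩
  change Q sndW.left
  refine IsZariskiLocalAtSource.of_iSup_eq_top V hV fun i => ?_
  have hVi : Set.range ((V i).ι ≫ ω.left) ⊆ Set.range (Sigma.ι Y i) := by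
    rintro _ ⟨y, rfl⟩
    exact y.2
  let ωi₀ : (V i).toScheme ⟶ Y i := IsOpenImmersion.lift (Sigma.ι Y i) ((V i).ι ≫ ω.left) hVi
  have hωi₀ : ωi₀ ≫ Sigma.ι Y i = (V i).ι ≫ ω.left := IsOpenImmersion.lift_fac _ _ _
  let ωi : ov W (V i) ⟶ Over.mk (g i) := Over.homMk ωi₀ (by
    change ωi₀ ≫ g i = (V i).ι ≫ W.hom
    rw [← Over.w ω, ← Category.assoc, ← hωi₀, Category.assoc]
    congr 1
    exact (Sigma.ι_desc g i).symm)
  have hωi : ωi ≫ sigmaOverι Y g i = ovι W (V i) ≫ ω := by ext; exact hωi₀
  have sq0 : IsPullback ωi (ovι W (V i)) (sigmaOverι Y g i) ω :=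
    IsPullback.of_map (Over.forget S) hωi
      (IsOpenImmersion.isPullback ωi₀ (V i).ι (Sigma.ι Y i) ω.left hωi₀.symm
        (by rw [Scheme.Opens.opensRange_ι]))
  have sq' : IsPullback ((yon S).map ω) ((yon S).map sndW) P b := by rw [hω]; exact sq
  have sq1 := (sq0.map (yon S)).paste_vert sq'
  have := (h i).property b ((yon S).map ωi) (ovι W (V i) ≫ sndW) (by
    rw [Functor.map_comp]; exact sq1)
  exact this


/-- A sheaf covered by open subspaces which are algebraic spaces is an algebraic space. -/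
theorem isAlgSpace_of_openCover' {F : Sp S} {ι : Type u} {Fi : ι → Sp S} {f : ∀ i, Fi i ⟶ F}
    (hopen : ∀ i, RepWith @IsOpenImmersion (f i))
    (hcov : (⋃ i, Set.range (Points.map (f i))) = Set.univ) (halg : ∀ i, IsAlgSpace (Fi i)) :
    IsAlgSpace F := by
  have hrep : ∀ {T : Over S} (a : (yon S).obj T ⟶ F), Representable a := fun a =>
    representable_from_yon_of_openCover hopen hcov halg a
  refine ⟨Functor.relativelyRepresentable.diag_of_map_from_obj (fun _ g => hrep g), ?_⟩
  choose U p hpe hps using fun i => (halg i).atlas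
  let Y : ι → Scheme.{u} := fun i => (U i).left
  let g : ∀ i, Y i ⟶ S := fun i => (U i).hom
  let P : (yon S).obj (sigmaOver Y g) ⟶ F :=
    Cofan.IsColimit.desc (isColimitYonSigmaOver Y g) (fun i => (p i ≫ f i : (yon S).obj (Over.mk (g i)) ⟶ F))
  have hP : ∀ i, (yon S).map (sigmaOverι Y g i) ≫ P = p i ≫ f i := fun i =>
    Cofan.IsColimit.fac (isColimitYonSigmaOver Y g) _ i
  have hfe : ∀ i, RepWith @Etale (f i) := fun i =>
    MorphismProperty.relative_monotone (fun _ _ φ hφ => by
      have : IsOpenImmersion ((Over.forget S).map φ) := hφ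
      change Etale ((Over.forget S).map φ)
      infer_instance) _ (hopen i)
  have hPe : RepWith @Etale P := by
    refine repWith_of_source_sigma @Etale Y g P (hrep P) fun i => ?_
    rw [hP i]
    exact (RepWith (S := S) @Etale).comp_mem _ _ (hpe i) (hfe i)
  refine ⟨sigmaOver Y g, P, hPe, ?_⟩
  apply Groth.Agent.H52.repWith_surjective_of_surjective_points P (hrep P)
  intro x
  have hx : x ∈ ⋃ i, Set.range (Points.map (f i)) := by rw [hcov]; trivial
  obtain ⟨i, xi, rfl⟩ := Set.mem_iUnion.1 hx
  obtain ⟨y, rfl⟩ := Groth.Agent.H52.surjective_points_of_repWith_surjective (p i) (hps i) xi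
  refine ⟨Points.map ((yon S).map (sigmaOverι Y g i)) y, ?_⟩
  rw [← Points.map_comp, ← Points.map_comp]
  exact congrArg (fun φ => Points.map φ y) (hP i)

end Groth.Agent.H53.ZarGlue
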