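import Groth.Agent.H53.QcImageG
import Groth.Agent.Lib.Helper18.IdealComap
import Groth.Prelude.Def_AlgSpModX
import Groth.Agent.H53.ZarGlueAlg

set_option autoImplicit false
set_option backward.isDefEq.respectTransparency false
universe u
open CategoryTheory CategoryTheory.Limits AlgebraicGeometry Opposite Topology TopologicalSpace
open AlgSp

namespace Groth.Agent.H53.QcIdeal

open Groth.Agent.H53.LocPrinc Groth.Agent.H53.QcImage

variable {S : Scheme.{u}} {X Y : Sp S} {f : X ⟶ Y}

/-- The values of `idealOfRep` are the global sections of the kernel ideal sheaf of the projection. -/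
theorem idealOfRep_ideal (hf : Representable f) (E : EtOver Y) (hE : IsAffine E.obj.left.left) :
    (idealOfRep hf).ideal E hE =
      (EtOver.bcπ hf E).left.ker.ideal ⟨⊤, isAffineOpen_top _⟩ := by
  rw [Scheme.ker_of_isAffine]
  change RingHom.ker (EtOver.bcπ hf E).left.appTop.hom = _
  simp

/-- The kernel family of a quasi-compact representable morphism is quasi-coherent. -/
theorem isQCoh_idealOfRep (hf : Representable f) (hqc : IsQuasiCompactMor f) :
    (idealOfRep hf).IsQCoh := by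
  intro E E' g hE hE'
  have hfq : RepWith @QuasiCompact f :=
    Groth.Agent.H52.repWith_quasiCompact_of_isQuasiCompactMor f hf hqc
  have hdq : QuasiCompact (EtOver.bcπ hf E).left :=
    hfq.property E.obj.hom _ _ (EtOver.isPullback_bcObj hf E)
  have hget : Etale g.hom.left.left := EtOver.etale_left g
  have hk := ker_eq_comap_of_isPullback (EtOver.bcπ hf E).left g.hom.left.left _ _
    (EtOver.isPullback_bcMap_left hf g)
  rw [idealOfRep_ideal hf E' hE', idealOfRep_ideal hf E hE, hk,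
    Groth.Agent.Lib.Helper18.ideal_comap_of_le g.hom.left.left _ ⟨⊤, isAffineOpen_top _⟩
      ⟨⊤, isAffineOpen_top _⟩ le_top]
  apply le_of_eq
  congr 2
  rw [Scheme.Hom.appTop, Scheme.Hom.app_eq_appLE]
  rfl


/-- If `h_c` is the scheme theoretic image of `h_g`, then `c` and `g` have the same kernel. -/
theorem ker_eq_of_isSchImage_yon {T C W : Over S} (g : W ⟶ T) (c : C ⟶ T)
    (h : IsSchImage ((yon S).map g) ((yon S).map c)) : c.left.ker = g.left.ker := by
  obtain ⟨hci, ⟨u', hu'⟩, hmin⟩ := h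
  have hcC : IsClosedImmersion c.left := (repWith_yon_map_iff _ _).1 hci
  obtain ⟨u, rfl⟩ := (yon S).map_surjective u'
  have hu : u ≫ c = g := by
    apply (yon S).map_injective
    rw [Functor.map_comp, hu']
  have hul : u.left ≫ c.left = g.left := congrArg (fun k => k.left) hu
  apply le_antisymm
  · rw [← hul]
    exact Scheme.Hom.le_ker_comp _ _
  · obtain ⟨f₀, hf₀⟩ := exists_lift_subOver g g.left.ker le_rfl
    have hci' : RepWith @IsClosedImmersion ((yon S).map (subOverι T g.left.ker)) := by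
      rw [repWith_yon_map_iff]
      change IsClosedImmersion g.left.ker.subschemeι
      infer_instance
    obtain ⟨k, hk⟩ := hmin ((yon S).map (subOverι T g.left.ker)) (IsAlgSpace.yon_obj _) hci'
      ⟨(yon S).map f₀, by rw [← Functor.map_comp, hf₀]⟩
    obtain ⟨k₀, rfl⟩ := (yon S).map_surjective k
    refine le_ker_of_lift_subOver c g.left.ker k₀ ?_
    apply (yon S).map_injective
    rw [Functor.map_comp, hk]

/-- The scheme theoretic image of a quasi-compact representable morphism is cut out by its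
kernel family. -/
theorem idealOfRep_eq_of_isSchImage {Z : Sp S} (hX : IsAlgSpace X) (hY : IsAlgSpace Y)
    (hf : Representable f) (hqc : IsQuasiCompactMor f) (i : Z ⟶ Y) (hZi : IsSchImage f i) :
    idealOfRep hZi.1.1 = idealOfRep hf := by
  apply IdealEt.ext
  funext E hE
  have hflat : LocP @Flat E.obj.hom :=
    locP_flat_of_isEtaleMor (Groth.Agent.H52.isEtaleMor_of_repWith_etale _ E.property)
  have hIm := isSchImage_pullback_of_flat (IsAlgSpace.yon_obj _) hY hX E.obj.hom hflat f hqc i hZi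
    _ _ (EtOver.isPullback_bcObj hf E) _ _ (EtOver.isPullback_bcObj hZi.1.1 E)
  rw [idealOfRep_ideal, idealOfRep_ideal, ker_eq_of_isSchImage_yon _ _ hIm]


open Groth.Agent.Lib.Helper51 in
/-- A closed subspace whose kernel family contains that of another closed subspace factors
through it. -/
theorem exists_factor_of_idealOfRep_le {Z Z₀ : Sp S} (hY : IsAlgSpace Y) (hZ : IsAlgSpace Z)
    (i : Z ⟶ Y) (hi : RepWith @IsClosedImmersion i) (i₀ : Z₀ ⟶ Y)
    (hi₀ : RepWith @IsClosedImmersion i₀)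
    (hle : ∀ E hE, (idealOfRep hi₀.1).ideal E hE ≤ (idealOfRep hi.1).ideal E hE) :
    ∃ k : Z ⟶ Z₀, k ≫ i₀ = i := by
  have : Mono i₀ := Groth.Agent.H53.SchImageRed.mono_of_repWith_isClosedImmersion i₀ hi₀
  obtain ⟨U, a, hae, has⟩ := hY.atlas
  let 𝒰 := U.left.affineCover
  have : (RepWith (S := S) @Etale).IsMultiplicative := repWith_isMultiplicative _
  let A : 𝒰.I₀ → Over S := fun j => Over.mk (𝒰.f j ≫ U.hom)
  let α : ∀ j, A j ⟶ U := fun j => Over.homMk (𝒰.f j) rfl
  have hαe : ∀ j, RepWith @Etale ((yon S).map (α j) ≫ a) := fun j =>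
    (RepWith @Etale).comp_mem _ _ ((repWith_yon_map_iff _ _).2 (by
      change Etale (𝒰.f j)
      infer_instance)) hae
  let E : 𝒰.I₀ → EtOver Y := fun j => EtOver.mk ((yon S).map (α j) ≫ a) (hαe j)
  have hEaff : ∀ j, IsAffine (E j).obj.left.left := fun j => by
    change IsAffine (𝒰.X j)
    infer_instance
  have hc : ∀ j, IsClosedImmersion (EtOver.bcπ hi.1 (E j)).left := fun j =>
    hi.property_snd (E j).obj.hom
  have hc₀ : ∀ j, IsClosedImmersion (EtOver.bcπ hi₀.1 (E j)).left := fun j =>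
    hi₀.property_snd (E j).obj.hom
  have hker : ∀ j, (EtOver.bcπ hi₀.1 (E j)).left.ker ≤ (EtOver.bcπ hi.1 (E j)).left.ker := by
    intro j
    have := hEaff j
    apply Scheme.IdealSheafData.le_of_isAffine
    rw [← idealOfRep_ideal hi₀.1 (E j) (hEaff j), ← idealOfRep_ideal hi.1 (E j) (hEaff j)]
    exact hle _ _
  have hl : ∀ j, ∃ l : (EtOver.bcObj hi.1 (E j)).obj.left ⟶ (EtOver.bcObj hi₀.1 (E j)).obj.left,
      l ≫ EtOver.bcπ hi₀.1 (E j) = EtOver.bcπ hi.1 (E j) := by
    intro j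
    have := hc j
    have := hc₀ j
    have hfac : IsClosedImmersion.lift (EtOver.bcπ hi₀.1 (E j)).left (EtOver.bcπ hi.1 (E j)).left
        (hker j) ≫ (EtOver.bcπ hi₀.1 (E j)).left = (EtOver.bcπ hi.1 (E j)).left :=
      IsClosedImmersion.lift_fac _ _ _
    generalize IsClosedImmersion.lift (EtOver.bcπ hi₀.1 (E j)).left (EtOver.bcπ hi.1 (E j)).left
        (hker j) = l₀ at hfac
    refine ⟨Over.homMk l₀ ?_, ?_⟩
    · rw [← Over.w (EtOver.bcπ hi₀.1 (E j)), ← Category.assoc, hfac, Over.w]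
    · ext
      exact hfac
  choose l hl using hl
  let Wf : 𝒰.I₀ → Scheme.{u} := fun j => ((EtOver.bcObj hi.1 (E j)).obj.left).left
  let gW : ∀ j, Wf j ⟶ S := fun j => ((EtOver.bcObj hi.1 (E j)).obj.left).hom
  let e : (yon S).obj (sigmaOver Wf gW) ⟶ Z :=
    Cofan.IsColimit.desc (isColimitYonSigmaOver Wf gW)
      (fun j => ((EtOver.bcObj hi.1 (E j)).obj.hom : (yon S).obj (Over.mk (gW j)) ⟶ Z))
  have he : ∀ j, (yon S).map (sigmaOverι Wf gW j) ≫ e = (EtOver.bcObj hi.1 (E j)).obj.hom :=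
    fun j => Cofan.IsColimit.fac (isColimitYonSigmaOver Wf gW) _ j
  let m : (yon S).obj (sigmaOver Wf gW) ⟶ Z₀ :=
    Cofan.IsColimit.desc (isColimitYonSigmaOver Wf gW)
      (fun j => ((yon S).map (l j) ≫ (EtOver.bcObj hi₀.1 (E j)).obj.hom :
        (yon S).obj (Over.mk (gW j)) ⟶ Z₀))
  have hm : ∀ j, (yon S).map (sigmaOverι Wf gW j) ≫ m =
      (yon S).map (l j) ≫ (EtOver.bcObj hi₀.1 (E j)).obj.hom :=
    fun j => Cofan.IsColimit.fac (isColimitYonSigmaOver Wf gW) _ j
  have hcomm : m ≫ i₀ = e ≫ i := by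
    apply Cofan.IsColimit.hom_ext (isColimitYonSigmaOver Wf gW)
    intro j
    change (yon S).map (sigmaOverι Wf gW j) ≫ m ≫ i₀ = (yon S).map (sigmaOverι Wf gW j) ≫ e ≫ i
    rw [← Category.assoc, ← Category.assoc, hm j, he j, Category.assoc,
      (EtOver.isPullback_bcObj hi₀.1 (E j)).w, ← Category.assoc, ← Functor.map_comp, hl j,
      (EtOver.isPullback_bcObj hi.1 (E j)).w]
  have hee : RepWith @Etale e := by
    refine Groth.Agent.H53.ZarGlue.repWith_of_source_sigma @Etale Wf gW e (hZ.representable_from_yon e)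
      fun j => ?_
    rw [he j]
    exact (EtOver.bcObj hi.1 (E j)).property
  have hes : RepWith @Surjective e := by
    apply Groth.Agent.H52.repWith_surjective_of_surjective_points e (hZ.representable_from_yon e)
    intro z
    obtain ⟨y, hy⟩ := Groth.Agent.H52.surjective_points_of_repWith_surjective a has (Points.map i z)
    obtain ⟨u, rfl⟩ := Groth.Agent.Lib.Helper54.exists_ofScheme_eq U y
    obtain ⟨aj, haj⟩ := 𝒰.covers u
    have hx : Points.map i z = Points.map (E (𝒰.idx u)).obj.hom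
        (Points.ofScheme (A (𝒰.idx u)) aj) := by
      rw [← hy, ← Points.ofPt_eq_map_ofScheme]
      change _ = Points.map ((yon S).map (α (𝒰.idx u)) ≫ a) (Points.ofScheme (A (𝒰.idx u)) aj)
      rw [← Points.ofPt_eq_map_ofScheme, Groth.Agent.H53.FibrePts.ofPt_yon_map_comp]
      congr 1
      exact haj.symm
    obtain ⟨p, hp1, -⟩ := Groth.Agent.H52.exists_point_of_isPullback
      (EtOver.isPullback_bcObj hi.1 (E (𝒰.idx u))) z _ hx
    refine ⟨Points.map ((yon S).map (sigmaOverι Wf gW (𝒰.idx u))) p, ?_⟩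
    rw [← Points.map_comp, ← hp1]
    exact congrArg (fun φ => Points.map φ p) (he (𝒰.idx u))
  have : Epi e := Groth.Agent.H52.epi_of_repWith_etale_surjective e hee hes
  exact Groth.Agent.Lib.Helper54.exists_factor_mono_of_epi i₀ i e m hcomm


/-- The scheme theoretic image of a quasi-compact representable morphism is exactly the closed
subspace cut out by its (quasi-coherent) kernel family. -/
theorem main (hX : IsAlgSpace X) (hY : IsAlgSpace Y) (hf : Representable f)
    (hqc : IsQuasiCompactMor f) :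
    (idealOfRep hf).IsQCoh ∧ ∀ (Z : Sp S), IsAlgSpace Z → ∀ (i : Z ⟶ Y),
      (IsSchImage f i ↔ IsCutOutBy (idealOfRep hf) i) := by
  refine ⟨isQCoh_idealOfRep hf hqc, fun Z hZ i => ⟨fun hZi =>
    ⟨hZi.1, idealOfRep_eq_of_isSchImage hX hY hf hqc i hZi⟩, ?_⟩⟩
  rintro ⟨hi, heq⟩
  obtain ⟨Z₀, i₀, hZ₀, hIm₀⟩ := Groth.Agent.H53.SchImage.exists_isSchImage hX hY f
  have heq₀ := idealOfRep_eq_of_isSchImage hX hY hf hqc i₀ hIm₀
  obtain ⟨k, hk⟩ := exists_factor_of_idealOfRep_le hY hZ i hi i₀ hIm₀.1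
    (fun E hE => by rw [heq₀, heq])
  obtain ⟨k', hk'⟩ := exists_factor_of_idealOfRep_le hY hZ₀ i₀ hIm₀.1 i hi
    (fun E hE => by rw [heq₀, heq])
  obtain ⟨-, ⟨f₀, hf₀⟩, hmin⟩ := hIm₀
  refine ⟨hi, ⟨f₀ ≫ k', by rw [Category.assoc, hk', hf₀]⟩, fun Z' i' hZ' hi' hf'' => ?_⟩
  obtain ⟨k₀, hk₀⟩ := hmin i' hZ' hi' hf''
  exact ⟨k ≫ k₀, by rw [Category.assoc, hk₀, hk]⟩

end Groth.Agent.H53.QcIdeal
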