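import Groth.Agent.H53.QcIdeal

set_option autoImplicit false
set_option backward.isDefEq.respectTransparency false
universe u
open CategoryTheory CategoryTheory.Limits AlgebraicGeometry Opposite Topology TopologicalSpace
open AlgSp

namespace Groth.Agent.H53.QcIdeal

open Groth.Agent.H53.LocPrinc Groth.Agent.H53.QcImage

variable {S : Scheme.{u}} {Y : Sp S}

open Groth.Agent.Lib.Helper51 in
/-- A representable morphism from an algebraic space whose kernel family contains that of a closed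
subspace factors through it. -/
theorem exists_factor_of_idealOfRep_le' {F Z₀ : Sp S} (hY : IsAlgSpace Y) (hF : IsAlgSpace F)
    (h : F ⟶ Y) (hh : Representable h) (i₀ : Z₀ ⟶ Y)
    (hi₀ : RepWith @IsClosedImmersion i₀)
    (hle : ∀ E hE, (idealOfRep hi₀.1).ideal E hE ≤ (idealOfRep hh).ideal E hE) :
    ∃ k : F ⟶ Z₀, k ≫ i₀ = h := by
  have : Mono i₀ := Groth.Agent.H53.SchImageRed.mono_of_repWith_isClosedImmersion i₀ hi₀
  obtain ⟨U, a, hae, has⟩ := hY.atlas
  let 𝒰 := U.left.affineCover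
  have : (RepWith (S := S) @Etale).IsMultiplicative := repWith_isMultiplicative _
  let A : 𝒰.I₀ → Over S := fun j => Over.mk (𝒰.f j ≫ U.hom)
  let α : ∀ j, A j ⟶ U := fun j => Over.homMk (𝒰.f j) rfl
  have hαe : ∀ j, RepWith @Etale ((yon S).map (α j) ≫ a) := fun j =>
    (RepWith @Etale).comp_mem _ _ ((repWith_yon_map_iff _ _).2 (by
      change Etale (𝒰.f j)
      infer_instance)) hae
  let E : 𝒰.I₀ → EtOver Y := fun j => EtOver.mk ((yon S).map (α j) ≫ a) (hαe j)
  have hEaff : ∀ j, IsAffine (E j).obj.left.left := fun j => by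
    change IsAffine (𝒰.X j)
    infer_instance
  have hc₀ : ∀ j, IsClosedImmersion (EtOver.bcπ hi₀.1 (E j)).left := fun j =>
    hi₀.property_snd (E j).obj.hom
  have hker : ∀ j, (EtOver.bcπ hi₀.1 (E j)).left.ker ≤ (EtOver.bcπ hh (E j)).left.ker := by
    intro j
    have := hEaff j
    apply Scheme.IdealSheafData.le_of_isAffine
    rw [← idealOfRep_ideal hi₀.1 (E j) (hEaff j), ← idealOfRep_ideal hh (E j) (hEaff j)]
    exact hle _ _
  have hl : ∀ j, ∃ l : (EtOver.bcObj hh (E j)).obj.left ⟶ (EtOver.bcObj hi₀.1 (E j)).obj.left,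
      l ≫ EtOver.bcπ hi₀.1 (E j) = EtOver.bcπ hh (E j) := by
    intro j
    have := hc₀ j
    have hfac : IsClosedImmersion.lift (EtOver.bcπ hi₀.1 (E j)).left (EtOver.bcπ hh (E j)).left
        (hker j) ≫ (EtOver.bcπ hi₀.1 (E j)).left = (EtOver.bcπ hh (E j)).left :=
      IsClosedImmersion.lift_fac _ _ _
    generalize IsClosedImmersion.lift (EtOver.bcπ hi₀.1 (E j)).left (EtOver.bcπ hh (E j)).left
        (hker j) = l₀ at hfac
    refine ⟨Over.homMk l₀ ?_, ?_⟩
    · rw [← Over.w (EtOver.bcπ hi₀.1 (E j)), ← Category.assoc, hfac, Over.w]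
    · ext
      exact hfac
  choose l hl using hl
  let Wf : 𝒰.I₀ → Scheme.{u} := fun j => ((EtOver.bcObj hh (E j)).obj.left).left
  let gW : ∀ j, Wf j ⟶ S := fun j => ((EtOver.bcObj hh (E j)).obj.left).hom
  let e : (yon S).obj (sigmaOver Wf gW) ⟶ F :=
    Cofan.IsColimit.desc (isColimitYonSigmaOver Wf gW)
      (fun j => ((EtOver.bcObj hh (E j)).obj.hom : (yon S).obj (Over.mk (gW j)) ⟶ F))
  have he : ∀ j, (yon S).map (sigmaOverι Wf gW j) ≫ e = (EtOver.bcObj hh (E j)).obj.hom :=
    fun j => Cofan.IsColimit.fac (isColimitYonSigmaOver Wf gW) _ j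
  let m : (yon S).obj (sigmaOver Wf gW) ⟶ Z₀ :=
    Cofan.IsColimit.desc (isColimitYonSigmaOver Wf gW)
      (fun j => ((yon S).map (l j) ≫ (EtOver.bcObj hi₀.1 (E j)).obj.hom :
        (yon S).obj (Over.mk (gW j)) ⟶ Z₀))
  have hm : ∀ j, (yon S).map (sigmaOverι Wf gW j) ≫ m =
      (yon S).map (l j) ≫ (EtOver.bcObj hi₀.1 (E j)).obj.hom :=
    fun j => Cofan.IsColimit.fac (isColimitYonSigmaOver Wf gW) _ j
  have hcomm : m ≫ i₀ = e ≫ h := by
    apply Cofan.IsColimit.hom_ext (isColimitYonSigmaOver Wf gW)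
    intro j
    change (yon S).map (sigmaOverι Wf gW j) ≫ m ≫ i₀ = (yon S).map (sigmaOverι Wf gW j) ≫ e ≫ h
    rw [← Category.assoc, ← Category.assoc, hm j, he j, Category.assoc,
      (EtOver.isPullback_bcObj hi₀.1 (E j)).w, ← Category.assoc, ← Functor.map_comp, hl j,
      (EtOver.isPullback_bcObj hh (E j)).w]
  have hee : RepWith @Etale e := by
    refine Groth.Agent.H53.ZarGlue.repWith_of_source_sigma @Etale Wf gW e (hF.representable_from_yon e)
      fun j => ?_
    rw [he j]
    exact (EtOver.bcObj hh (E j)).property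
  have hes : RepWith @Surjective e := by
    apply Groth.Agent.H52.repWith_surjective_of_surjective_points e (hF.representable_from_yon e)
    intro z
    obtain ⟨y, hy⟩ := Groth.Agent.H52.surjective_points_of_repWith_surjective a has (Points.map h z)
    obtain ⟨u, rfl⟩ := Groth.Agent.Lib.Helper54.exists_ofScheme_eq U y
    obtain ⟨aj, haj⟩ := 𝒰.covers u
    have hx : Points.map h z = Points.map (E (𝒰.idx u)).obj.hom
        (Points.ofScheme (A (𝒰.idx u)) aj) := by
      rw [← hy, ← Points.ofPt_eq_map_ofScheme]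
      change _ = Points.map ((yon S).map (α (𝒰.idx u)) ≫ a) (Points.ofScheme (A (𝒰.idx u)) aj)
      rw [← Points.ofPt_eq_map_ofScheme, Groth.Agent.H53.FibrePts.ofPt_yon_map_comp]
      congr 1
      exact haj.symm
    obtain ⟨p, hp1, -⟩ := Groth.Agent.H52.exists_point_of_isPullback
      (EtOver.isPullback_bcObj hh (E (𝒰.idx u))) z _ hx
    refine ⟨Points.map ((yon S).map (sigmaOverι Wf gW (𝒰.idx u))) p, ?_⟩
    rw [← Points.map_comp, ← hp1]
    exact congrArg (fun φ => Points.map φ p) (he (𝒰.idx u))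
  have : Epi e := Groth.Agent.H52.epi_of_repWith_etale_surjective e hee hes
  exact Groth.Agent.Lib.Helper54.exists_factor_mono_of_epi i₀ h e m hcomm

/-- If `h` factors through the closed subspace `i₀`, the kernel family of `i₀` is contained in that
of `h`. -/
theorem idealOfRep_le_of_factor {F Z₀ : Sp S} (h : F ⟶ Y) (hh : Representable h) (i₀ : Z₀ ⟶ Y)
    (hi₀ : Representable i₀) (k : F ⟶ Z₀) (hk : k ≫ i₀ = h) :
    idealOfRep hi₀ ≤ idealOfRep hh := by
  rw [IdealEt.le_def]
  intro E hE a ha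
  rw [mem_idealOfRep_iff] at ha ⊢
  -- the projection of `h` factors through that of `i₀`
  obtain ⟨t, ht⟩ := (yon S).map_surjective
    ((EtOver.isPullback_bcObj hi₀ E).lift ((EtOver.bcObj hh E).obj.hom ≫ k)
      ((yon S).map (EtOver.bcπ hh E)) (by
        rw [Category.assoc, hk, (EtOver.isPullback_bcObj hh E).w]))
  have ht2 : t ≫ EtOver.bcπ hi₀ E = EtOver.bcπ hh E := by
    apply (yon S).map_injective
    rw [Functor.map_comp, ht, IsPullback.lift_snd]
  have h2 : (EtOver.bcπ hh E).left = t.left ≫ (EtOver.bcπ hi₀ E).left :=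
    congrArg (fun k => k.left) ht2.symm
  rw [h2, Scheme.Hom.comp_appTop, CommRingCat.hom_comp, RingHom.comp_apply, ha, map_zero]

end Groth.Agent.H53.QcIdeal
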