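import Groth.Agent.H53.QcIdeal3
import Groth.Agent.Lib.Helper54.LocPCalc

set_option autoImplicit false
set_option backward.isDefEq.respectTransparency false
universe u
open CategoryTheory CategoryTheory.Limits AlgebraicGeometry Opposite Topology TopologicalSpace
open AlgSp

namespace Groth.Agent.H53.QcIdeal

open Groth.Agent.H53.LocPrinc Groth.Agent.H53.QcImage

/-- The kernel of a surjective ring homomorphism of finite presentation is finitely generated. -/
theorem ker_fg_of_finitePresentation_surjective {A B : Type u} [CommRing A] [CommRing B]
    (f : A →+* B) (hf : f.FinitePresentation) (hs : Function.Surjective f) :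
    (RingHom.ker f).FG := by
  algebraize [f]
  have h := Algebra.FinitePresentation.ker_fG_of_surjective (R := A) (Algebra.ofId A B) hs
  exact h

/-- A closed immersion whose ideal sheaf is finitely generated on affine opens is locally of
finite presentation. -/
theorem locallyOfFinitePresentation_of_fg {C V : Scheme.{u}} (c : C ⟶ V) [IsClosedImmersion c]
    (h : ∀ A : V.affineOpens, (c.ker.ideal A).FG) : LocallyOfFinitePresentation c := by
  rw [HasRingHomProperty.iff_exists_appLE (P := @LocallyOfFinitePresentation)
    (RingHom.finitePresentation_stableUnderComposition.stableUnderCompositionWithLocalizationAway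
      RingHom.finitePresentation_holdsForLocalizationAway).1]
  intro x
  obtain ⟨A, hA, hxA, -⟩ := Opens.isBasis_iff_nbhd.mp V.isBasis_affineOpens
    (Opens.mem_top (c x))
  refine ⟨⟨A, hA⟩, ⟨c ⁻¹ᵁ A, hA.preimage c⟩, hxA, le_rfl, ?_⟩
  rw [Scheme.Hom.appLE_eq_app]
  refine RingHom.FinitePresentation.of_surjective _ (c.app_surjective A hA) ?_
  rw [← Scheme.Hom.ker_apply c ⟨A, hA⟩]
  exact h ⟨A, hA⟩

variable {S : Scheme.{u}} {Z X : Sp S}

open Groth.Agent.H52 in
/-- A closed immersion is locally of finite presentation iff its kernel family is of finite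
type. -/
theorem locP_lfp_iff_fg (i : Z ⟶ X) (hi : RepWith @IsClosedImmersion i) :
    LocP @LocallyOfFinitePresentation i ↔
      ∀ (E : EtOver X) (hE : IsAffine E.obj.left.left), ((idealOfRep hi.1).ideal E hE).FG := by
  constructor
  · intro h E hE
    have hc : IsClosedImmersion (EtOver.bcπ hi.1 E).left := hi.property_snd E.obj.hom
    have hl : LocallyOfFinitePresentation (EtOver.bcπ hi.1 E).left :=
      h _ _ (EtOver.bcπ hi.1 E) (EtOver.bcObj hi.1 E).property E.property
        (EtOver.isPullback_bcObj hi.1 E).w
    obtain ⟨haff, hsurj⟩ := IsClosedImmersion.isAffine_surjective_of_isAffine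
      (EtOver.bcπ hi.1 E).left
    have hfp := Scheme.Hom.finitePresentation_appTop (EtOver.bcπ hi.1 E).left
    exact ker_fg_of_finitePresentation_surjective _ hfp hsurj
  · intro h U V a b g ha hb hcomm
    have sq := hi.rep.isPullback b
    have hc : IsClosedImmersion (hi.rep.snd b).left := hi.property_snd b
    have hfe : RepWith @Etale (hi.rep.fst b) := MorphismProperty.of_isPullback sq.flip hb
    generalize hi.rep.fst b = fstV at sq hfe
    generalize hi.rep.snd b = c at sq hc
    generalize hi.rep.pullback b = C at fstV c
    obtain ⟨l, hl⟩ := (yon S).map_surjective (sq.lift a ((yon S).map g) hcomm)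
    have hl1 : (yon S).map l ≫ fstV = a := by rw [hl, sq.lift_fst]
    have hl2 : l ≫ c = g := by
      apply (yon S).map_injective
      rw [Functor.map_comp, hl, sq.lift_snd]
    have hle : Etale l.left := by
      rw [← repWith_yon_map_iff (S := S) @Etale l]
      exact Groth.Agent.Lib.Helper54.repWith_etale_of_postcomp _ fstV hfe (by rw [hl1]; exact ha)
    have hcl : LocallyOfFinitePresentation c.left := by
      apply locallyOfFinitePresentation_of_fg
      intro A
      have hE := repWith_etale_overOpenι_comp b hb A.1
      have hA : IsAffine (EtOver.mk ((yon S).map (overOpenι V A.1) ≫ b) hE).obj.left.left := A.2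
      have e := idealOfRep_ideal_overOpen hi.1 b c fstV sq A hE hA
      have hfg := h _ hA
      rw [e] at hfg
      have h2 := hfg.map A.1.topIso.hom.hom
      rw [Ideal.map_map] at h2
      have : A.1.topIso.hom.hom.comp A.1.topIso.inv.hom = RingHom.id _ := by
        rw [← CommRingCat.hom_comp, Iso.inv_hom_id]
        rfl
      rwa [this, Ideal.map_id] at h2
    rw [← hl2, Over.comp_left]
    infer_instance

end Groth.Agent.H53.QcIdeal
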