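import Groth.Agent.Lib.Helper18.IdealComap
import Mathlib.AlgebraicGeometry.Morphisms.Flat
import Mathlib.AlgebraicGeometry.Limits
import Mathlib.RingTheory.Flat.FaithfullyFlat.Algebra

set_option autoImplicit false
set_option backward.isDefEq.respectTransparency false
universe u
open CategoryTheory CategoryTheory.Limits AlgebraicGeometry Opposite Topology TopologicalSpace

namespace Groth.Agent.H53.QcIdeal

/-- Two ideal sheaves agreeing after restriction to a jointly surjective family of open immersions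
from affine schemes are equal. -/
theorem idealSheafData_ext_of_openImmersions {X : Scheme.{u}} {ι : Type*} (Y : ι → Scheme.{u})
    (f : ∀ j, Y j ⟶ X) [∀ j, IsOpenImmersion (f j)] [∀ j, IsAffine (Y j)]
    (hf : ∀ x : X, ∃ j, x ∈ Set.range (f j)) (𝓛₁ 𝓛₂ : X.IdealSheafData)
    (h : ∀ j, (𝓛₁.comap (f j)).ideal ⟨⊤, isAffineOpen_top _⟩ =
      (𝓛₂.comap (f j)).ideal ⟨⊤, isAffineOpen_top _⟩) :
    𝓛₁ = 𝓛₂ := by
  refine Scheme.IdealSheafData.ext_of_iSup_eq_top
    (fun j => ⟨(f j) ''ᵁ ⊤, (isAffineOpen_top _).image_of_isOpenImmersion (f j)⟩) ?_ ?_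
  · rw [eq_top_iff]
    intro x _
    obtain ⟨j, y, rfl⟩ := hf x
    exact Opens.mem_iSup.2 ⟨j, ⟨y, trivial, rfl⟩⟩
  · intro j
    have h1 := Scheme.IdealSheafData.ideal_comap_of_isOpenImmersion 𝓛₁ (f j)
      ⟨⊤, isAffineOpen_top _⟩
    have h2 := Scheme.IdealSheafData.ideal_comap_of_isOpenImmersion 𝓛₂ (f j)
      ⟨⊤, isAffineOpen_top _⟩
    have h3 := h j
    rw [h1, h2] at h3
    refine Ideal.comap_injective_of_surjective _ ?_ h3
    exact (ConcreteCategory.bijective_of_isIso ((f j).appIso ⊤).inv).2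

/-- Faithfully flat descent of equality of ideals along a flat cover of an affine scheme by affine
schemes with open images. -/
theorem ideal_eq_of_flat_cover {E : Scheme.{u}} [IsAffine E] {σ : Type u} (B : σ → Scheme.{u})
    [∀ y, IsAffine (B y)] (g : ∀ y, B y ⟶ E) [∀ y, Flat (g y)]
    (hopen : ∀ y, IsOpen (Set.range (g y))) (hsurj : ∀ x : E, ∃ y, x ∈ Set.range (g y))
    (K₁ K₂ : Ideal Γ(E, ⊤)) (h : ∀ y, K₁.map (g y).appTop.hom = K₂.map (g y).appTop.hom) :
    K₁ = K₂ := by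
  obtain ⟨F, hF⟩ := isCompact_univ.elim_finite_subcover (fun y => Set.range (g y)) hopen
    (fun x _ => Set.mem_iUnion.2 (hsurj x))
  let B' : {y // y ∈ F} → Scheme.{u} := fun y => B y.1
  let g' : ∐ B' ⟶ E := Sigma.desc (fun y => g y.1)
  have hflat : Flat g' := IsZariskiLocalAtSource.sigmaDesc (fun y => inferInstance)
  have hs : Surjective g' := ⟨fun x => by
    obtain ⟨y, hy, z, rfl⟩ : ∃ y ∈ F, x ∈ Set.range (g y) := by
      simpa using hF (Set.mem_univ x)
    exact ⟨Sigma.ι B' ⟨y, hy⟩ z, by rw [← Scheme.Hom.comp_apply, Sigma.ι_desc]⟩⟩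
  have hff : g'.appTop.hom.FaithfullyFlat :=
    (Flat.flat_and_surjective_iff_faithfullyFlat_of_isAffine (f := g')).1 ⟨hflat, hs⟩
  have key : K₁.map g'.appTop.hom = K₂.map g'.appTop.hom := by
    have hcov : ∀ x : (∐ B' : Scheme.{u}), ∃ y, x ∈ Set.range (Sigma.ι B' y) := by
      intro x
      obtain ⟨⟨y, z⟩, rfl⟩ := (sigmaMk B').surjective x
      exact ⟨y, z, (sigmaMk_mk B' y z).symm⟩
    have := idealSheafData_ext_of_openImmersions B' (Sigma.ι B') hcov
      (Scheme.IdealSheafData.ofIdealTop (K₁.map g'.appTop.hom))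
      (Scheme.IdealSheafData.ofIdealTop (K₂.map g'.appTop.hom)) ?_
    · simpa using congrArg (fun L => L.ideal ⟨⊤, isAffineOpen_top _⟩) this
    · intro y
      rw [Groth.Agent.Lib.Helper18.ideal_comap_top_of_isAffine,
        Groth.Agent.Lib.Helper18.ideal_comap_top_of_isAffine]
      have e : ∀ K : Ideal Γ(E, ⊤), ((Scheme.IdealSheafData.ofIdealTop
          (K.map g'.appTop.hom)).ideal ⟨⊤, isAffineOpen_top _⟩).map (Sigma.ι B' y).appTop.hom =
          K.map (g y.1).appTop.hom := by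
        intro K
        have : (Scheme.IdealSheafData.ofIdealTop (K.map g'.appTop.hom)).ideal
            ⟨⊤, isAffineOpen_top _⟩ = K.map g'.appTop.hom := by simp
        rw [this, Ideal.map_map, ← CommRingCat.hom_comp, ← Scheme.Hom.comp_appTop, Sigma.ι_desc]
      rw [e, e, h]
  algebraize [g'.appTop.hom]
  have : Module.FaithfullyFlat Γ(E, ⊤) Γ(∐ B', ⊤) := hff
  exact Ideal.map_injective_of_faithfullyFlat (B := Γ(∐ B', ⊤)) key

end Groth.Agent.H53.QcIdeal
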