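import Groth.Agent.H53.QcImageB

set_option autoImplicit false
set_option backward.isDefEq.respectTransparency false
universe u
open CategoryTheory CategoryTheory.Limits AlgebraicGeometry Opposite Topology TopologicalSpace
open AlgSp

namespace Groth.Agent.H53.QcImage

open Groth.Agent.H53.LocPrinc Groth.Agent.Lib.Helper51

variable {S : Scheme.{u}}

/-- Scheme-level: if `r ≫ t` factors through `V(N)` and `N.comap s ≤ N.comap t`... -/
theorem le_ker_comp_of_comap_le {R U T : Scheme.{u}} (s t : R ⟶ U) (r : T ⟶ R)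
    (N : U.IdealSheafData) (hst : N.comap s ≤ N.comap t) (h : N ≤ (r ≫ t).ker) :
    N ≤ (r ≫ s).ker := by
  rw [Scheme.Hom.ker_comp, Scheme.IdealSheafData.le_map_iff_comap_le] at h ⊢
  exact hst.trans h

/-- The kernel ideal on a quasi-compact atlas is saturated. -/
theorem comap_eq_of_atlas {V Y P : Sp S} (g : V ⟶ Y)
    {U W : Over S} (a : (yon S).obj U ⟶ Y) (pr : P ⟶ V) (q : P ⟶ (yon S).obj U)
    (sqP : IsPullback pr q g a)
    (e : (yon S).obj W ⟶ P) (hee : RepWith @Etale e) (hes : RepWith @Surjective e)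
    (d : W ⟶ U) (hd : (yon S).map d = e ≫ q) [QuasiCompact d.left]
    {R : Over S} (s t : R ⟶ U) [Flat s.left] [Flat t.left]
    (hst : (yon S).map s ≫ a = (yon S).map t ≫ a) :
    d.left.ker.comap s.left = d.left.ker.comap t.left := by
  have sqR : IsPullback (pullback.fst g ((yon S).map s ≫ a)) (pullback.snd g ((yon S).map s ≫ a)) g
      ((yon S).map s ≫ a) := IsPullback.of_hasPullback _ _
  generalize pullback.fst g ((yon S).map s ≫ a) = pr₁ at sqR
  generalize pullback.snd g ((yon S).map s ≫ a) = q₁ at sqR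
  generalize pullback g ((yon S).map s ≫ a) = P₁ at pr₁ q₁
  have h1 := isKer_comap_of_flat g a pr q sqP e hee hes d hd s _ _ sqR
  rw [hst] at sqR
  have h2 := isKer_comap_of_flat g a pr q sqP e hee hes d hd t _ _ sqR
  exact h1.unique h2


/-- The scheme theoretic image of a quasi-compact morphism, with its flat base change property
and the density of the image. -/
theorem exists_qcImage {V Y : Sp S} (hV : IsAlgSpace V) (hY : IsAlgSpace Y) (g : V ⟶ Y)
    (hg : IsQuasiCompactMor g) :
    ∃ (Z₀ : Sp S) (i₀ : Z₀ ⟶ Y), IsAlgSpace Z₀ ∧ RepWith @IsClosedImmersion i₀ ∧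
      (∃ g' : V ⟶ Z₀, g' ≫ i₀ = g) ∧
      (∀ {X VX ZX Z' : Sp S}, IsAlgSpace X → ∀ (f : X ⟶ Y), LocP @Flat f →
        ∀ (g₁ : VX ⟶ V) (gX : VX ⟶ X), IsPullback g₁ gX g f →
        ∀ (i₁ : ZX ⟶ Z₀) (iX : ZX ⟶ X), IsPullback i₁ iX i₀ f →
        ∀ (i' : Z' ⟶ X), RepWith @IsClosedImmersion i' → (∃ f'' : VX ⟶ Z', f'' ≫ i' = gX) →
          ∃ k : ZX ⟶ Z', k ≫ i' = iX) ∧
      Set.range (Points.map i₀) ⊆ closure (Set.range (Points.map g)) := by
  obtain ⟨U, W, a, P, pr, q, e, d, hae, has, sqP, hee, hes, hd, hdq⟩ := exists_qc_atlas hV hY g hg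
  set N := d.left.ker with hN
  let ZO : Over S := subOver U N
  let jZ : ZO ⟶ U := subOverι U N
  have hjZci : IsClosedImmersion jZ.left := by
    change IsClosedImmersion N.subschemeι
    infer_instance
  -- saturation
  have sqR := hae.rep.isPullback' a
  have hse : Etale (hae.rep.snd a).left := hae.property_snd a
  have hte : Etale (hae.rep.fst' a).left := hae.property a _ _ sqR.flip
  have hNst : N.comap (hae.rep.snd a).left = N.comap (hae.rep.fst' a).left :=
    comap_eq_of_atlas g a pr q sqP e hee hes d hd _ _ sqR.w.symm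
  generalize hae.rep.fst' a = t at sqR hte hNst
  generalize hae.rep.snd a = s at sqR hse hNst
  generalize hae.rep.pullback a = R at s t
  have hsat : ∀ (T : Over S) (v : (yon S).obj T ⟶ (yon S).obj U)
      (w₁ : (yon S).obj T ⟶ (yon S).obj ZO), v ≫ a = w₁ ≫ (yon S).map jZ ≫ a →
      ∃ w : (yon S).obj T ⟶ (yon S).obj ZO, w ≫ (yon S).map jZ = v := by
    intro T v w₁ hv
    obtain ⟨v₀, rfl⟩ := (yon S).map_surjective v
    obtain ⟨w₀, rfl⟩ := (yon S).map_surjective w₁
    obtain ⟨r, hr⟩ := (yon S).map_surjective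
      (sqR.lift ((yon S).map (w₀ ≫ jZ)) ((yon S).map v₀) (by
        rw [Functor.map_comp, Category.assoc, hv]))
    have hr1 : r ≫ t = w₀ ≫ jZ := by
      apply (yon S).map_injective
      rw [Functor.map_comp, hr, sqR.lift_fst]
    have hr2 : r ≫ s = v₀ := by
      apply (yon S).map_injective
      rw [Functor.map_comp, hr, sqR.lift_snd]
    have h1 : N ≤ (r.left ≫ t.left).ker := by
      have := le_ker_of_lift_subOver (r ≫ t) N w₀ hr1.symm
      rwa [Over.comp_left] at this
    have h2 : N ≤ (r.left ≫ s.left).ker :=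
      le_ker_comp_of_comap_le s.left t.left r.left N (le_of_eq hNst) h1
    obtain ⟨l, hl⟩ := exists_lift_subOver v₀ N (by rw [← hr2, Over.comp_left]; exact h2)
    exact ⟨(yon S).map l, by rw [← Functor.map_comp, hl]⟩
  obtain ⟨Z₀, i₀, e₀, hZ₀, hmono, hci, sq₀, he₀e, he₀s⟩ :=
    Groth.Agent.H53.ClosedDescend.exists_closed_subspace_of_saturated hY a hae has jZ hsat
  have hpre : RepWith @Etale pr := MorphismProperty.of_isPullback sqP.flip hae
  have hprs : RepWith @Surjective pr := MorphismProperty.of_isPullback sqP.flip has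
  have hepr : Epi pr := Groth.Agent.H52.epi_of_repWith_etale_surjective pr hpre hprs
  have hepe : Epi e := Groth.Agent.H52.epi_of_repWith_etale_surjective e hee hes
  refine ⟨Z₀, i₀, hZ₀, hci, ?_, ?_, ?_⟩
  · obtain ⟨l, hl⟩ := exists_lift_subOver d N le_rfl
    exact Groth.Agent.Lib.Helper54.exists_factor_mono_of_epi i₀ g (e ≫ pr) ((yon S).map l ≫ e₀) (by
      rw [Category.assoc, sq₀.w, ← Category.assoc, ← Functor.map_comp, hl, hd, Category.assoc,
        Category.assoc, sqP.w])
  · intro X VX ZX Z' hX f hf g₁ gX sqV i₁ iX sqZ i' hi' hf''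
    obtain ⟨f'', hf''⟩ := hf''
    have : Mono i' := Groth.Agent.H53.SchImageRed.mono_of_repWith_isClosedImmersion i' hi'
    obtain ⟨U₀, p, hpe, hps⟩ := hX.atlas
    obtain ⟨U₁, a₁, h, ha₁, sqc, hrep⟩ := Groth.Agent.Lib.Helper54.exists_chart_square f p hpe a hae
    have hsurj := Groth.Agent.Lib.Helper54.repWith_surjective_of_chart_square hps has sqc
    have hflat : Flat h.left := Groth.Agent.Lib.Helper54.locP_of_chart_square hf hae sqc hrep
    have hcomm : ((yon S).map a₁ ≫ p) ≫ f = (yon S).map h ≫ a := by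
      rw [Category.assoc]; exact sqc.w
    generalize (yon S).map a₁ ≫ p = pX at hsurj hrep hcomm
    -- the base change of gX to the chart
    have sq1 : IsPullback (pullback.fst gX pX) (pullback.snd gX pX) gX pX :=
      IsPullback.of_hasPullback _ _
    generalize pullback.fst gX pX = pr₁ at sq1
    generalize pullback.snd gX pX = q₁ at sq1
    generalize pullback gX pX = P₁ at pr₁ q₁
    have sq2 : IsPullback (pr₁ ≫ g₁) q₁ g ((yon S).map h ≫ a) := by
      rw [← hcomm]
      exact (sq1.flip.paste_vert sqV.flip).flip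
    have hK := isKer_comap_of_flat g a pr q sqP e hee hes d hd h _ _ sq2
    -- the chart of Z'
    have sqC := hi'.rep.isPullback pX
    have hcC : IsClosedImmersion (hi'.rep.snd pX).left := hi'.property_snd pX
    generalize hi'.rep.fst pX = fstC at sqC
    generalize hi'.rep.snd pX = c' at sqC hcC
    generalize hi'.rep.pullback pX = C' at fstC c'
    let l₁ : P₁ ⟶ (yon S).obj C' := sqC.lift (pr₁ ≫ f'') q₁ (by rw [Category.assoc, hf'', sq1.w])
    have hl₁ : l₁ ≫ (yon S).map c' = q₁ := sqC.lift_snd _ _ _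
    -- C' factors through the closed subscheme of its kernel
    obtain ⟨m₀, hm₀⟩ := exists_lift_subOver c' c'.left.ker le_rfl
    have hle : c'.left.ker ≤ N.comap h.left :=
      (hK c'.left.ker).1 ⟨l₁ ≫ (yon S).map m₀, by rw [Category.assoc, ← Functor.map_comp, hm₀, hl₁]⟩
    -- the closed subscheme of N.comap h lifts to C'
    have hle' : c'.left.ker ≤ (subOverι U₁ (N.comap h.left)).left.ker := by
      change _ ≤ (N.comap h.left).subschemeι.ker
      rw [Scheme.IdealSheafData.ker_subschemeι]
      exact hle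
    have hlam0 : IsClosedImmersion.lift c'.left (subOverι U₁ (N.comap h.left)).left hle' ≫ c'.left =
        (subOverι U₁ (N.comap h.left)).left := IsClosedImmersion.lift_fac _ _ _
    generalize IsClosedImmersion.lift c'.left (subOverι U₁ (N.comap h.left)).left hle' = lam0 at hlam0
    let lam : subOver U₁ (N.comap h.left) ⟶ C' := Over.homMk lam0 (by
      rw [← Over.w c', ← Category.assoc, hlam0, Over.w])
    have hlam : lam ≫ c' = subOverι U₁ (N.comap h.left) := by
      ext
      exact hlam0
    -- the chart of the pullback of Z₀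
    obtain ⟨fst', sq'⟩ := exists_isPullback_comap_chart i₀ a N e₀ sq₀ h
    let m : (yon S).obj (subOver U₁ (N.comap h.left)) ⟶ ZX :=
      sqZ.lift fst' ((yon S).map (subOverι U₁ (N.comap h.left)) ≫ pX) (by
        rw [sq'.w, Category.assoc, hcomm])
    have hm1 : m ≫ i₁ = fst' := sqZ.lift_fst _ _ _
    have hm2 : m ≫ iX = (yon S).map (subOverι U₁ (N.comap h.left)) ≫ pX := sqZ.lift_snd _ _ _
    have sqm : IsPullback m ((yon S).map (subOverι U₁ (N.comap h.left))) iX pX := by
      refine IsPullback.of_right ?_ hm2 sqZ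
      rw [hm1, hcomm]
      exact sq'
    have hme : RepWith @Etale m := MorphismProperty.of_isPullback sqm.flip hrep
    have hms : RepWith @Surjective m := MorphismProperty.of_isPullback sqm.flip hsurj
    have : Epi m := Groth.Agent.H52.epi_of_repWith_etale_surjective m hme hms
    exact Groth.Agent.Lib.Helper54.exists_factor_mono_of_epi i' iX m ((yon S).map lam ≫ fstC) (by
      rw [Category.assoc, sqC.w, ← Category.assoc, ← Functor.map_comp, hlam, hm2])
  · rintro _ ⟨z, rfl⟩
    obtain ⟨x, rfl⟩ := Groth.Agent.H52.surjective_points_of_repWith_surjective e₀ he₀s z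
    obtain ⟨x₀, rfl⟩ := Groth.Agent.Lib.Helper54.exists_ofScheme_eq ZO x
    have h1 : Points.map i₀ (Points.map e₀ (Points.ofScheme ZO x₀)) = Points.ofPt a (jZ.left x₀) := by
      rw [← Points.map_comp, ← Points.ofPt_eq_map_ofScheme, sq₀.w,
        Groth.Agent.H53.FibrePts.ofPt_yon_map_comp]
    rw [h1]
    have hx₀ : jZ.left x₀ ∈ closure (Set.range d.left) := by
      have : jZ.left x₀ ∈ (N.support : Set U.left) := by
        rw [← Scheme.IdealSheafData.range_subschemeι]
        exact ⟨x₀, rfl⟩
      rwa [hN, Scheme.Hom.support_ker] at this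
    have hcont := Points.continuous_ofPt a
    have := image_closure_subset_closure_image hcont ⟨_, hx₀, rfl⟩
    refine closure_mono ?_ this
    rintro _ ⟨_, ⟨w, rfl⟩, rfl⟩
    refine ⟨Points.ofPt (e ≫ pr) w, ?_⟩
    rw [Points.map_ofPt, Category.assoc, sqP.w, ← Category.assoc, ← hd,
      Groth.Agent.H53.FibrePts.ofPt_yon_map_comp]

end Groth.Agent.H53.QcImage
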