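import Groth.Agent.H53.QcIdeal6
import Groth.Agent.H53.QcIdeal3
import Groth.Agent.H53.QcImageC
import Groth.Agent.H53.ClosedDescend

set_option autoImplicit false
set_option backward.isDefEq.respectTransparency false
universe u
open CategoryTheory CategoryTheory.Limits AlgebraicGeometry Opposite Topology TopologicalSpace
open AlgSp

namespace Groth.Agent.H53.QcIdeal

open Groth.Agent.H53.LocPrinc Groth.Agent.H53.QcImage Groth.Agent.H52

variable {S : Scheme.{u}} {X : Sp S}

/-- For a quasi-coherent family the ideal upstairs is the extension of the ideal downstairs. -/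
theorem isQCoh_ideal_eq {I : IdealEt X} (hI : I.IsQCoh) {E E' : EtOver X} (g : E' ⟶ E)
    (hE : IsAffine E.obj.left.left) (hE' : IsAffine E'.obj.left.left) :
    I.ideal E' hE' = (I.ideal E hE).map g.hom.left.left.appTop.hom :=
  le_antisymm (hI g hE hE') (I.map_le g hE hE')

/-- Two quasi-coherent families of ideals which agree on the affine objects of the site that
factor through a given atlas are equal. -/
theorem idealEt_ext_of_atlas {U : Over S} (a : (yon S).obj U ⟶ X) (hae : RepWith @Etale a)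
    (has : RepWith @Surjective a) (I J : IdealEt X) (hI : I.IsQCoh) (hJ : J.IsQCoh)
    (h : ∀ (E : EtOver X) (hE : IsAffine E.obj.left.left) (k : E.obj.left ⟶ U),
      (yon S).map k ≫ a = E.obj.hom → I.ideal E hE = J.ideal E hE) : I = J := by
  apply IdealEt.ext
  funext E hE
  have sq := hae.rep.isPullback E.obj.hom
  have hpe : Etale (hae.rep.snd E.obj.hom).left := hae.property_snd _
  have hps : Surjective (hae.rep.snd E.obj.hom).left := has.property_snd _
  obtain ⟨q₀, hq₀⟩ := (yon S).map_surjective (hae.rep.fst E.obj.hom)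
  rw [← hq₀] at sq
  clear hq₀
  generalize hae.rep.snd E.obj.hom = p at sq hpe hps
  generalize hae.rep.pullback E.obj.hom = P at q₀ p
  have : (RepWith (S := S) @Etale).IsMultiplicative := repWith_isMultiplicative _
  let Ey : P.left.affineOpens → EtOver X := fun y =>
    EtOver.mk ((yon S).map (overOpenι P y.1 ≫ p) ≫ E.obj.hom)
      ((RepWith @Etale).comp_mem _ _ ((repWith_yon_map_iff _ _).2 (by
        change Etale (y.1.ι ≫ p.left)
        infer_instance)) E.property)
  let γ : ∀ y, Ey y ⟶ E := fun y => EtOver.homMk (overOpenι P y.1 ≫ p) rfl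
  have hEy : ∀ y, IsAffine (Ey y).obj.left.left := fun y => y.2
  have hk : ∀ y, (yon S).map (overOpenι P y.1 ≫ q₀) ≫ a = (Ey y).obj.hom := by
    intro y
    change _ = (yon S).map (overOpenι P y.1 ≫ p) ≫ E.obj.hom
    rw [Functor.map_comp, Functor.map_comp, Category.assoc, Category.assoc, sq.w]
  have : ∀ y : P.left.affineOpens, IsAffine ((fun y : P.left.affineOpens => (y.1 : Scheme.{u})) y) :=
    fun y => y.2
  refine ideal_eq_of_flat_cover (fun y : P.left.affineOpens => (y.1 : Scheme.{u}))
    (fun y => y.1.ι ≫ p.left) ?_ ?_ _ _ (fun y => ?_)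
  · intro y
    exact (y.1.ι ≫ p.left).isOpenMap.isOpen_range
  · intro x
    obtain ⟨z, rfl⟩ := hps.surj x
    obtain ⟨_, ⟨B, hB, rfl⟩, hzB, -⟩ :=
      (P.left.isBasis_affineOpens).exists_subset_of_mem_open (Set.mem_univ z) isOpen_univ
    exact ⟨⟨B, hB⟩, ⟨z, hzB⟩, rfl⟩
  · have e1 := isQCoh_ideal_eq hI (γ y) hE (hEy y)
    have e2 := isQCoh_ideal_eq hJ (γ y) hE (hEy y)
    exact e1.symm.trans ((h (Ey y) (hEy y) _ (hk y)).trans e2)

/-- The chart `A ⟶ U ⟶ X` for an open `A` of the atlas. -/
noncomputable abbrev atlasObj {U : Over S} (a : (yon S).obj U ⟶ X) (hae : RepWith @Etale a)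
    (A : U.left.Opens) : EtOver X :=
  EtOver.mk ((yon S).map (overOpenι U A) ≫ a) (repWith_etale_overOpenι_comp a hae A)

/-- The ideal sheaf on the atlas defined by a quasi-coherent family. -/
noncomputable def atlasIdeal {U : Over S} (a : (yon S).obj U ⟶ X) (hae : RepWith @Etale a)
    (I : IdealEt X) (hI : I.IsQCoh) : U.left.IdealSheafData where
  ideal A := (I.ideal (atlasObj a hae A.1) A.2).map A.1.topIso.hom.hom
  map_ideal_basicOpen A f := by
    let g : atlasObj a hae (U.left.basicOpen f) ⟶ atlasObj a hae A.1 :=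
      EtOver.homMk (overOpenHom U (U.left.basicOpen_le f)) (by
        change (yon S).map (overOpenHom U (U.left.basicOpen_le f)) ≫
          (yon S).map (overOpenι U A.1) ≫ a = (yon S).map (overOpenι U (U.left.basicOpen f)) ≫ a
        rw [← Category.assoc, ← Functor.map_comp, overOpenHom_ι])
    have e := isQCoh_ideal_eq hI g A.2 (U.left.affineBasicOpen f).2
    change _ = (I.ideal (atlasObj a hae (U.left.basicOpen f)) (U.left.affineBasicOpen f).2).map _
    rw [e, Ideal.map_map, Ideal.map_map]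
    congr 1
    change (A.1.topIso.hom ≫ U.left.presheaf.map (homOfLE (U.left.basicOpen_le f)).op).hom =
      ((U.left.homOfLE (U.left.basicOpen_le f)).appTop ≫ (U.left.basicOpen f).topIso.hom).hom
    congr 1
    rw [Scheme.homOfLE_appTop]
    simp only [Scheme.Opens.topIso_hom]
    rw [← Functor.map_comp, ← Functor.map_comp]
    rfl

theorem atlasIdeal_ideal {U : Over S} (a : (yon S).obj U ⟶ X) (hae : RepWith @Etale a)
    (I : IdealEt X) (hI : I.IsQCoh) (A : U.left.affineOpens) :
    (atlasIdeal a hae I hI).ideal A =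
      (I.ideal (atlasObj a hae A.1) A.2).map A.1.topIso.hom.hom := rfl

/-- The restriction of the atlas ideal to an affine open of the atlas. -/
theorem atlasIdeal_comap_ι {U : Over S} (a : (yon S).obj U ⟶ X) (hae : RepWith @Etale a)
    (I : IdealEt X) (hI : I.IsQCoh) (A : U.left.affineOpens) :
    haveI : IsAffine (A.1 : Scheme.{u}) := A.2
    ((atlasIdeal a hae I hI).comap A.1.ι).ideal ⟨⊤, isAffineOpen_top (A.1 : Scheme.{u})⟩ =
      I.ideal (atlasObj a hae A.1) A.2 := by
  have : IsAffine (A.1 : Scheme.{u}) := A.2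
  rw [Groth.Agent.Lib.Helper18.ideal_comap_ι_top, atlasIdeal_ideal, Ideal.map_map]
  have : A.1.topIso.inv.hom.comp A.1.topIso.hom.hom = RingHom.id _ := by
    rw [← CommRingCat.hom_comp, Iso.hom_inv_id]
    rfl
  rw [this]
  exact Ideal.map_id _

/-- The pullback of the atlas ideal to any affine object of the site over the atlas is the value
of the family. -/
theorem atlasIdeal_comap_ideal {U : Over S} (a : (yon S).obj U ⟶ X) (hae : RepWith @Etale a)
    (I : IdealEt X) (hI : I.IsQCoh) (E : EtOver X) (hE : IsAffine E.obj.left.left)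
    (k : E.obj.left ⟶ U) (hk : (yon S).map k ≫ a = E.obj.hom) :
    ((atlasIdeal a hae I hI).comap k.left).ideal ⟨⊤, isAffineOpen_top _⟩ = I.ideal E hE := by
  set N := atlasIdeal a hae I hI with hN
  suffices h : N.comap k.left = Scheme.IdealSheafData.ofIdealTop (I.ideal E hE) by
    rw [h]
    simp
  have hcov : ∀ x : E.obj.left.left, ∃ B : {B : E.obj.left.left.affineOpens //
      ∃ A : U.left.affineOpens, B.1 ≤ k.left ⁻¹ᵁ A.1}, x ∈ Set.range B.1.1.ι := by
    intro x
    obtain ⟨_, ⟨A, hA, rfl⟩, hxA, -⟩ :=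
      (U.left.isBasis_affineOpens).exists_subset_of_mem_open (Set.mem_univ (k.left x)) isOpen_univ
    obtain ⟨_, ⟨B, hB, rfl⟩, hxB, hBA⟩ :=
      (E.obj.left.left.isBasis_affineOpens).exists_subset_of_mem_open
        (show x ∈ ((k.left ⁻¹ᵁ A : E.obj.left.left.Opens) : Set _) from hxA) (k.left ⁻¹ᵁ A).isOpen
    exact ⟨⟨⟨B, hB⟩, ⟨A, hA⟩, hBA⟩, ⟨x, hxB⟩, rfl⟩
  have haff : ∀ B : {B : E.obj.left.left.affineOpens //
      ∃ A : U.left.affineOpens, B.1 ≤ k.left ⁻¹ᵁ A.1}, IsAffine (B.1.1 : Scheme.{u}) :=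
    fun B => B.1.2
  refine idealSheafData_ext_of_openImmersions (fun B : {B : E.obj.left.left.affineOpens //
      ∃ A : U.left.affineOpens, B.1 ≤ k.left ⁻¹ᵁ A.1} => (B.1.1 : Scheme.{u}))
    (fun B => B.1.1.ι) hcov _ _ ?_
  rintro ⟨B, A, e⟩
  have : IsAffine (A.1 : Scheme.{u}) := A.2
  have : IsAffine (B.1 : Scheme.{u}) := B.2
  have h1 : (N.comap k.left).comap B.1.ι = (N.comap A.1.ι).comap (k.left.resLE A.1 B.1 e) := by
    rw [← Scheme.IdealSheafData.comap_comp, ← Scheme.IdealSheafData.comap_comp,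
      Scheme.Hom.resLE_comp_ι]
  change ((N.comap k.left).comap B.1.ι).ideal _ = ((Scheme.IdealSheafData.ofIdealTop
    (I.ideal E hE)).comap B.1.ι).ideal _
  rw [h1, Groth.Agent.Lib.Helper18.ideal_comap_top_of_isAffine (k.left.resLE A.1 B.1 e),
    atlasIdeal_comap_ι a hae I hI A,
    Groth.Agent.Lib.Helper18.ideal_comap_top_of_isAffine B.1.ι]
  have : (RepWith (S := S) @Etale).IsMultiplicative := repWith_isMultiplicative _
  let EB : EtOver X := EtOver.mk ((yon S).map (overOpenι E.obj.left B.1) ≫ E.obj.hom)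
    (repWith_etale_overOpenι_comp E.obj.hom E.property B.1)
  let r : overOpen E.obj.left B.1 ⟶ overOpen U A.1 := Over.homMk (k.left.resLE A.1 B.1 e) (by
    change k.left.resLE A.1 B.1 e ≫ A.1.ι ≫ U.hom = B.1.ι ≫ E.obj.left.hom
    rw [← Category.assoc, Scheme.Hom.resLE_comp_ι, Category.assoc, Over.w k])
  have hr : r ≫ overOpenι U A.1 = overOpenι E.obj.left B.1 ≫ k := by
    ext
    exact Scheme.Hom.resLE_comp_ι _ _
  let g₁ : EB ⟶ atlasObj a hae A.1 := EtOver.homMk r (by
    change (yon S).map r ≫ (yon S).map (overOpenι U A.1) ≫ a =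
      (yon S).map (overOpenι E.obj.left B.1) ≫ E.obj.hom
    rw [← Category.assoc, ← Functor.map_comp, hr, Functor.map_comp, Category.assoc, hk])
  let g₂ : EB ⟶ E := EtOver.homMk (overOpenι E.obj.left B.1) rfl
  have e1 := isQCoh_ideal_eq hI g₁ A.2 B.2
  have e2 := isQCoh_ideal_eq hI g₂ hE B.2
  have e3 : (Scheme.IdealSheafData.ofIdealTop (I.ideal E hE)).ideal ⟨⊤, isAffineOpen_top _⟩ =
      I.ideal E hE := by simp
  rw [e3]
  exact e1.symm.trans e2

/-- Every quasi-coherent family of ideals cuts out a closed subspace. -/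
theorem exists_isCutOutBy (hX : IsAlgSpace X) (I : IdealEt X) (hI : I.IsQCoh) :
    ∃ (Z : Sp S) (i : Z ⟶ X), IsAlgSpace Z ∧ IsCutOutBy I i := by
  obtain ⟨U, a, hae, has⟩ := hX.atlas
  set N := atlasIdeal a hae I hI with hN
  let ZO : Over S := subOver U N
  let jZ : ZO ⟶ U := subOverι U N
  have hjZci : IsClosedImmersion jZ.left := by
    change IsClosedImmersion N.subschemeι
    infer_instance
  have : (RepWith (S := S) @Etale).IsMultiplicative := repWith_isMultiplicative _
  -- saturation
  have sqR := hae.rep.isPullback' a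
  have hse : Etale (hae.rep.snd a).left := hae.property_snd a
  have hte : Etale (hae.rep.fst' a).left := hae.property a _ _ sqR.flip
  generalize hae.rep.fst' a = t at sqR hte
  generalize hae.rep.snd a = s at sqR hse
  generalize hae.rep.pullback a = R at s t
  have hNst : N.comap s.left = N.comap t.left := by
    have haff : ∀ B : R.left.affineOpens, IsAffine (B.1 : Scheme.{u}) := fun B => B.2
    refine idealSheafData_ext_of_openImmersions (fun B : R.left.affineOpens => (B.1 : Scheme.{u}))
      (fun B => B.1.ι) ?_ _ _ ?_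
    · intro x
      obtain ⟨_, ⟨B, hB, rfl⟩, hxB, -⟩ :=
        (R.left.isBasis_affineOpens).exists_subset_of_mem_open (Set.mem_univ x) isOpen_univ
      exact ⟨⟨B, hB⟩, ⟨x, hxB⟩, rfl⟩
    · intro B
      let EB : EtOver X := EtOver.mk ((yon S).map (overOpenι R B.1 ≫ s) ≫ a)
        ((RepWith @Etale).comp_mem _ _ ((repWith_yon_map_iff _ _).2 (by
          change Etale (B.1.ι ≫ s.left)
          infer_instance)) hae)
      have h1 := atlasIdeal_comap_ideal a hae I hI EB B.2 (overOpenι R B.1 ≫ s) rfl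
      have h2 := atlasIdeal_comap_ideal a hae I hI EB B.2 (overOpenι R B.1 ≫ t) (by
        change _ = (yon S).map (overOpenι R B.1 ≫ s) ≫ a
        rw [Functor.map_comp, Functor.map_comp, Category.assoc, Category.assoc, sqR.w])
      change ((N.comap s.left).comap B.1.ι).ideal _ = ((N.comap t.left).comap B.1.ι).ideal _
      rw [← Scheme.IdealSheafData.comap_comp, ← Scheme.IdealSheafData.comap_comp]
      exact h1.trans h2.symm
  have hsat : ∀ (T : Over S) (v : (yon S).obj T ⟶ (yon S).obj U)
      (w₁ : (yon S).obj T ⟶ (yon S).obj ZO), v ≫ a = w₁ ≫ (yon S).map jZ ≫ a →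
      ∃ w : (yon S).obj T ⟶ (yon S).obj ZO, w ≫ (yon S).map jZ = v := by
    intro T v w₁ hv
    obtain ⟨v₀, rfl⟩ := (yon S).map_surjective v
    obtain ⟨w₀, rfl⟩ := (yon S).map_surjective w₁
    obtain ⟨r, hr⟩ := (yon S).map_surjective
      (sqR.lift ((yon S).map (w₀ ≫ jZ)) ((yon S).map v₀) (by
        rw [Functor.map_comp, Category.assoc, hv]))
    have hr1 : r ≫ t = w₀ ≫ jZ := by
      apply (yon S).map_injective
      rw [Functor.map_comp, hr, sqR.lift_fst]
    have hr2 : r ≫ s = v₀ := by
      apply (yon S).map_injective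
      rw [Functor.map_comp, hr, sqR.lift_snd]
    have h1 : N ≤ (r.left ≫ t.left).ker := by
      have := le_ker_of_lift_subOver (r ≫ t) N w₀ hr1.symm
      rwa [Over.comp_left] at this
    have h2 : N ≤ (r.left ≫ s.left).ker :=
      le_ker_comp_of_comap_le s.left t.left r.left N (le_of_eq hNst) h1
    obtain ⟨l, hl⟩ := exists_lift_subOver v₀ N (by rw [← hr2, Over.comp_left]; exact h2)
    exact ⟨(yon S).map l, by rw [← Functor.map_comp, hl]⟩
  obtain ⟨Z₀, i₀, e₀, hZ₀, hmono, hci, sq₀, he₀e, he₀s⟩ :=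
    Groth.Agent.H53.ClosedDescend.exists_closed_subspace_of_saturated hX a hae has jZ hsat
  refine ⟨Z₀, i₀, hZ₀, hci, ?_⟩
  have hqc : IsQuasiCompactMor i₀ :=
    isQuasiCompactMor_of_repWith_quasiCompact i₀
      (MorphismProperty.relative_monotone (fun _ _ φ hφ => by
        have : IsClosedImmersion ((Over.forget S).map φ) := hφ
        change QuasiCompact ((Over.forget S).map φ)
        infer_instance) _ hci)
  refine idealEt_ext_of_atlas a hae has _ _ (isQCoh_idealOfRep hci.1 hqc) hI (fun E hE k hk => ?_)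
  rw [idealOfRep_ideal_of_chart' hci.1 a jZ e₀ sq₀ E hE k hk]
  have hker : jZ.left.ker = N := Scheme.IdealSheafData.ker_subschemeι _
  rw [hker]
  exact atlasIdeal_comap_ideal a hae I hI E hE k hk

end Groth.Agent.H53.QcIdeal
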