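import Groth.Agent.H53.ClosedDescend

set_option autoImplicit false
set_option backward.isDefEq.respectTransparency false
universe u
open CategoryTheory CategoryTheory.Limits AlgebraicGeometry Opposite Topology TopologicalSpace
open AlgSp

namespace Groth.Agent.H53.SchImage

variable {S : Scheme.{u}}

/-- The kernel ideals, on an atlas of `Y`, of the closed subspaces of `Y` through which `f`
factors. -/
def compIdeals {X Y : Sp S} (f : X ⟶ Y) {U : Over S} (a : (yon S).obj U ⟶ Y) :
    Set U.left.IdealSheafData :=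
  {J | ∃ (Z' : Sp S) (i' : Z' ⟶ Y) (W : Over S) (c : W ⟶ U) (fst : (yon S).obj W ⟶ Z'),
    IsAlgSpace Z' ∧ RepWith @IsClosedImmersion i' ∧ (∃ f'' : X ⟶ Z', f'' ≫ i' = f) ∧
    IsPullback fst ((yon S).map c) i' a ∧ J = c.left.ker}

theorem sSup_compIdeals_le_iff {X Y : Sp S} (f : X ⟶ Y) {U : Over S} (a : (yon S).obj U ⟶ Y)
    {T : Over S} (g : T ⟶ U) :
    sSup (compIdeals f a) ≤ g.left.ker ↔
      ∀ (Z' : Sp S) (i' : Z' ⟶ Y), IsAlgSpace Z' → RepWith @IsClosedImmersion i' →
        (∃ f'' : X ⟶ Z', f'' ≫ i' = f) →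
        ∃ z : (yon S).obj T ⟶ Z', z ≫ i' = (yon S).map g ≫ a := by
  constructor
  · intro h Z' i' hZ' hi' hf''
    have sq' := hi'.rep.isPullback a
    have hc : IsClosedImmersion (hi'.rep.snd a).left := hi'.property_snd a
    have hJ : (hi'.rep.snd a).left.ker ∈ compIdeals f a :=
      ⟨Z', i', _, hi'.rep.snd a, hi'.rep.fst a, hZ', hi', hf'', sq', rfl⟩
    have hle : (hi'.rep.snd a).left.ker ≤ g.left.ker := (le_sSup hJ).trans h
    have hl : IsClosedImmersion.lift (hi'.rep.snd a).left g.left hle ≫ (hi'.rep.snd a).left =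
        g.left := IsClosedImmersion.lift_fac _ _ _
    generalize IsClosedImmersion.lift (hi'.rep.snd a).left g.left hle = l at hl
    let l' : T ⟶ hi'.rep.pullback a := Over.homMk l (by
      rw [← Over.w (hi'.rep.snd a), ← Category.assoc, hl, Over.w])
    have hl' : l' ≫ hi'.rep.snd a = g := by
      ext
      exact hl
    refine ⟨(yon S).map l' ≫ hi'.rep.fst a, ?_⟩
    rw [Category.assoc, sq'.w, ← Category.assoc, ← Functor.map_comp, hl']
  · intro h
    refine sSup_le ?_
    rintro J ⟨Z', i', W, c, fst, hZ', hi', hf'', sq', rfl⟩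
    obtain ⟨z, hz⟩ := h Z' i' hZ' hi' hf''
    obtain ⟨l', hl'⟩ := (yon S).map_surjective (sq'.lift z ((yon S).map g) hz)
    have h2 : l' ≫ c = g := by
      apply (yon S).map_injective
      rw [Functor.map_comp, hl', sq'.lift_snd]
    rw [← h2, Over.comp_left]
    exact Scheme.Hom.le_ker_comp _ _

/-- Every morphism of algebraic spaces has a scheme theoretic image. -/
theorem exists_isSchImage {X Y : Sp S} (hX : IsAlgSpace X) (hY : IsAlgSpace Y) (f : X ⟶ Y) :
    ∃ (Z : Sp S) (i : Z ⟶ Y), IsAlgSpace Z ∧ IsSchImage f i := by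
  obtain ⟨U, a, hae, has⟩ := hY.atlas
  let ιI := (sSup (compIdeals f a)).subschemeι
  have hker : ιI.ker = sSup (compIdeals f a) := Scheme.IdealSheafData.ker_subschemeι _
  let ZO : Over S := Over.mk (ιI ≫ U.hom)
  let jZ : ZO ⟶ U := Over.homMk ιI rfl
  have hjZci : IsClosedImmersion jZ.left := by
    change IsClosedImmersion ιI
    infer_instance
  have hfac : ∀ {T : Over S} (g : T ⟶ U), sSup (compIdeals f a) ≤ g.left.ker →
      ∃ w : (yon S).obj T ⟶ (yon S).obj ZO, w ≫ (yon S).map jZ = (yon S).map g := by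
    intro T g h
    have hle : ιI.ker ≤ g.left.ker := by rw [hker]; exact h
    have hl : IsClosedImmersion.lift ιI g.left hle ≫ ιI = g.left := IsClosedImmersion.lift_fac _ _ _
    generalize IsClosedImmersion.lift ιI g.left hle = l at hl
    let l' : T ⟶ ZO := Over.homMk l (by
      change l ≫ ιI ≫ U.hom = T.hom
      rw [← Category.assoc, hl, Over.w])
    refine ⟨(yon S).map l', ?_⟩
    rw [← Functor.map_comp]
    congr 1
    ext
    exact hl
  have hjZ : ∀ (Z' : Sp S) (i' : Z' ⟶ Y), IsAlgSpace Z' → RepWith @IsClosedImmersion i' →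
      (∃ f'' : X ⟶ Z', f'' ≫ i' = f) →
      ∃ z : (yon S).obj ZO ⟶ Z', z ≫ i' = (yon S).map jZ ≫ a :=
    (sSup_compIdeals_le_iff f a jZ).1 (by change _ ≤ ιI.ker; rw [hker])
  have hsat : ∀ (T : Over S) (v : (yon S).obj T ⟶ (yon S).obj U)
      (w₁ : (yon S).obj T ⟶ (yon S).obj ZO), v ≫ a = w₁ ≫ (yon S).map jZ ≫ a →
      ∃ w : (yon S).obj T ⟶ (yon S).obj ZO, w ≫ (yon S).map jZ = v := by
    intro T v w₁ hv
    obtain ⟨g, rfl⟩ := (yon S).map_surjective v
    apply hfac
    rw [sSup_compIdeals_le_iff]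
    intro Z' i' hZ' hi' hf''
    obtain ⟨z₀, hz₀⟩ := hjZ Z' i' hZ' hi' hf''
    exact ⟨w₁ ≫ z₀, by rw [Category.assoc, hz₀, hv]⟩
  obtain ⟨Z, i, e, hZ, hmono, hci, sq, hee, hes⟩ :=
    Groth.Agent.H53.ClosedDescend.exists_closed_subspace_of_saturated hY a hae has jZ hsat
  have hepi : Epi e := Groth.Agent.H52.epi_of_repWith_etale_surjective e hee hes
  refine ⟨Z, i, hZ, hci, ?_, ?_⟩
  · obtain ⟨W, eX, hXe, hXs⟩ := hX.atlas
    have : Epi eX := Groth.Agent.H52.epi_of_repWith_etale_surjective eX hXe hXs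
    have sqW := hae.rep.isPullback' (eX ≫ f)
    generalize hae.rep.fst' (eX ≫ f) = c at sqW
    generalize hae.rep.snd (eX ≫ f) = d at sqW
    generalize hae.rep.pullback (eX ≫ f) = W' at c d
    have hde : RepWith @Etale ((yon S).map d) := MorphismProperty.of_isPullback sqW hae
    have hds : RepWith @Surjective ((yon S).map d) := MorphismProperty.of_isPullback sqW has
    have : Epi ((yon S).map d) := Groth.Agent.H52.epi_of_repWith_etale_surjective _ hde hds
    obtain ⟨w, hw⟩ := hfac c (by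
      rw [sSup_compIdeals_le_iff]
      rintro Z' i' hZ' hi' ⟨f'', hf''⟩
      exact ⟨(yon S).map d ≫ eX ≫ f'', by
        rw [Category.assoc, Category.assoc, hf'', sqW.w]⟩)
    obtain ⟨g', hg'⟩ := Groth.Agent.Lib.Helper54.exists_factor_mono_of_epi i (eX ≫ f)
      ((yon S).map d) (w ≫ e) (by rw [Category.assoc, sq.w, ← Category.assoc, hw, sqW.w])
    exact Groth.Agent.Lib.Helper54.exists_factor_mono_of_epi i f eX g' hg'
  · intro Z' i' hZ' hi' hf''
    have : Mono i' := Groth.Agent.H53.SchImageRed.mono_of_repWith_isClosedImmersion i' hi'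
    obtain ⟨z₀, hz₀⟩ := hjZ Z' i' hZ' hi' hf''
    exact Groth.Agent.Lib.Helper54.exists_factor_mono_of_epi i' i e z₀ (by rw [hz₀, sq.w])

end Groth.Agent.H53.SchImage
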