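import Groth.Agent.H53.EffCart3
import Groth.Agent.H53.SchImage
import Mathlib.AlgebraicGeometry.Morphisms.SchemeTheoreticallyDominant

set_option autoImplicit false
set_option backward.isDefEq.respectTransparency false
universe u
open CategoryTheory CategoryTheory.Limits AlgebraicGeometry Opposite Topology TopologicalSpace
open AlgSp

namespace Groth.Agent.H53.QcImage

open Groth.Agent.H53.LocPrinc

/-- The canonical map to the scheme theoretic image is scheme theoretically dominant. -/
theorem ker_toImage_eq_bot {X Y : Scheme.{u}} (f : X ⟶ Y) : f.toImage.ker = ⊥ := by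
  set J := f.toImage.ker with hJ
  let c : J.subscheme ⟶ Y := J.subschemeι ≫ f.imageι
  have hfac : f.toImage.toImage ≫ c = f := by
    simp only [c]
    rw [← Category.assoc, Scheme.Hom.toImage_imageι, Scheme.Hom.toImage_imageι]
  have hle : c.ker ≤ f.imageι.ker := by
    rw [Scheme.IdealSheafData.ker_subschemeι]
    conv_rhs => rw [← hfac]
    exact Scheme.Hom.le_ker_comp _ _
  have hs : IsClosedImmersion.lift c f.imageι hle ≫ c = f.imageι := IsClosedImmersion.lift_fac _ _ _
  generalize IsClosedImmersion.lift c f.imageι hle = s at hs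
  have hs' : s ≫ J.subschemeι = 𝟙 _ := by
    rw [← cancel_mono f.imageι, Category.assoc, Category.id_comp]
    exact hs
  have hiso : IsIso J.subschemeι := by
    refine ⟨s, ?_, hs'⟩
    rw [← cancel_mono J.subschemeι, Category.assoc, hs', Category.comp_id, Category.id_comp]
  have := Scheme.Hom.ker_eq_bot_of_isIso J.subschemeι
  rwa [Scheme.IdealSheafData.ker_subschemeι] at this

instance {X Y : Scheme.{u}} (f : X ⟶ Y) : IsSchemeTheoreticallyDominant f.toImage :=
  ⟨ker_toImage_eq_bot f⟩

/-- Flat base change of the kernel of a quasi-compact morphism. -/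
theorem ker_eq_comap_of_isPullback {W T T' W' : Scheme.{u}} (d : W ⟶ T) [QuasiCompact d]
    (h : T' ⟶ T) [Flat h] (pr : W' ⟶ W) (d' : W' ⟶ T') (sq : IsPullback pr d' d h) :
    d'.ker = d.ker.comap h := by
  apply le_antisymm
  · -- the real content
    let Q := pullback h d.imageι
    have sqQ : IsPullback (pullback.fst h d.imageι) (pullback.snd h d.imageι) h d.imageι :=
      IsPullback.of_hasPullback _ _
    let m : W' ⟶ Q := sqQ.lift d' (pr ≫ d.toImage) (by
      rw [Category.assoc, Scheme.Hom.toImage_imageι, sq.w])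
    have hm1 : m ≫ pullback.fst h d.imageι = d' := sqQ.lift_fst _ _ _
    have hm2 : m ≫ pullback.snd h d.imageι = pr ≫ d.toImage := sqQ.lift_snd _ _ _
    have sqm : IsPullback pr m d.toImage (pullback.snd h d.imageι) := by
      refine IsPullback.of_bot ?_ hm2.symm sqQ.flip
      rw [hm1, Scheme.Hom.toImage_imageι]
      exact sq
    have : Flat (pullback.snd h d.imageι) := MorphismProperty.pullback_snd _ _ inferInstance
    have hmd : IsSchemeTheoreticallyDominant m := IsSchemeTheoreticallyDominant.of_isPullback sqm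
    rw [← hm1, Scheme.Hom.ker_comp, hmd.ker_eq_bot, Scheme.IdealSheafData.map_bot]
    exact le_of_eq rfl
  · rw [← Scheme.IdealSheafData.le_map_iff_comap_le, ← Scheme.Hom.ker_comp, ← sq.w]
    exact Scheme.Hom.le_ker_comp _ _


variable {S : Scheme.{u}}

instance mono_yon_subOverι (T : Over S) (I : T.left.IdealSheafData) :
    Mono ((yon S).map (subOverι T I)) := by
  have : Mono (subOverι T I).left := by
    change Mono I.subschemeι
    infer_instance
  have : Mono (subOverι T I) := Groth.Agent.H52.mono_over_of_mono_left _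
  exact Groth.Agent.H52.mono_yon_map _

/-- `K` is the kernel ideal of `q : P ⟶ h_T`: the closed subschemes of `T` through which `q`
factors are exactly those whose ideal is contained in `K`. -/
def IsKer {P : Sp S} {T : Over S} (q : P ⟶ (yon S).obj T) (K : T.left.IdealSheafData) : Prop :=
  ∀ I : T.left.IdealSheafData,
    (∃ l : P ⟶ (yon S).obj (subOver T I), l ≫ (yon S).map (subOverι T I) = q) ↔ I ≤ K

theorem IsKer.unique {P : Sp S} {T : Over S} {q : P ⟶ (yon S).obj T}
    {K K' : T.left.IdealSheafData} (h : IsKer q K) (h' : IsKer q K') : K = K' :=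
  le_antisymm ((h' K).1 ((h K).2 le_rfl)) ((h K').1 ((h' K').2 le_rfl))

/-- Lifting an `Over S`-morphism through a closed subscheme. -/
theorem exists_lift_subOver {W T : Over S} (d : W ⟶ T) (I : T.left.IdealSheafData)
    (h : I ≤ d.left.ker) : ∃ l : W ⟶ subOver T I, l ≫ subOverι T I = d := by
  have hle : I.subschemeι.ker ≤ d.left.ker := by
    rw [Scheme.IdealSheafData.ker_subschemeι]; exact h
  have hl : IsClosedImmersion.lift I.subschemeι d.left hle ≫ I.subschemeι = d.left :=
    IsClosedImmersion.lift_fac _ _ _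
  generalize IsClosedImmersion.lift I.subschemeι d.left hle = l at hl
  refine ⟨Over.homMk l (by
    change l ≫ I.subschemeι ≫ T.hom = W.hom
    rw [← Category.assoc, hl, Over.w]), ?_⟩
  ext
  exact hl

theorem le_ker_of_lift_subOver {W T : Over S} (d : W ⟶ T) (I : T.left.IdealSheafData)
    (l : W ⟶ subOver T I) (hl : l ≫ subOverι T I = d) : I ≤ d.left.ker := by
  rw [← hl, Over.comp_left]
  change I ≤ (l.left ≫ I.subschemeι).ker
  conv_lhs => rw [← Scheme.IdealSheafData.ker_subschemeι I]
  exact Scheme.Hom.le_ker_comp _ _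

/-- Lemma A: the kernel of `q` is the kernel of any atlas of `P` composed with `q`. -/
theorem isKer_of_atlas {P : Sp S} {T W : Over S} (q : P ⟶ (yon S).obj T)
    (e : (yon S).obj W ⟶ P) [Epi e] (d : W ⟶ T) (hd : (yon S).map d = e ≫ q) :
    IsKer q d.left.ker := by
  intro I
  constructor
  · rintro ⟨l, hl⟩
    obtain ⟨l₀, hl₀⟩ := (yon S).map_surjective (e ≫ l)
    refine le_ker_of_lift_subOver d I l₀ ?_
    apply (yon S).map_injective
    rw [Functor.map_comp, hl₀, Category.assoc, hl, hd]
  · intro h
    obtain ⟨l, hl⟩ := exists_lift_subOver d I h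
    exact Groth.Agent.Lib.Helper54.exists_factor_mono_of_epi _ q e ((yon S).map l)
      (by rw [← Functor.map_comp, hl, hd])


/-- Lemma B: flat base change of the kernel ideal computed on a quasi-compact atlas. -/
theorem isKer_comap_of_flat {V Y P P' : Sp S} (g : V ⟶ Y) {T W T' : Over S}
    (τ : (yon S).obj T ⟶ Y) (pr : P ⟶ V) (q : P ⟶ (yon S).obj T) (sqP : IsPullback pr q g τ)
    (e : (yon S).obj W ⟶ P) (hee : RepWith @Etale e) (hes : RepWith @Surjective e)
    (d : W ⟶ T) (hd : (yon S).map d = e ≫ q) [QuasiCompact d.left]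
    (h : T' ⟶ T) [Flat h.left] (pr' : P' ⟶ V) (q' : P' ⟶ (yon S).obj T')
    (sqP' : IsPullback pr' q' g ((yon S).map h ≫ τ)) :
    IsKer q' (d.left.ker.comap h.left) := by
  -- the scheme-level pullback
  let W' : Over S := Over.mk (pullback.fst d.left h.left ≫ W.hom)
  let prW : W' ⟶ W := Over.homMk (pullback.fst d.left h.left) rfl
  let d' : W' ⟶ T' := Over.homMk (pullback.snd d.left h.left) (by
    change pullback.snd d.left h.left ≫ T'.hom = pullback.fst d.left h.left ≫ W.hom
    rw [← Over.w h, ← Category.assoc, ← pullback.condition, Category.assoc, Over.w])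
  have hw : prW ≫ d = d' ≫ h := by
    ext
    exact pullback.condition
  have sqW : IsPullback ((yon S).map prW) ((yon S).map d') ((yon S).map d) ((yon S).map h) :=
    Groth.Agent.Lib.Helper54.isPullback_yon_of_isPullback_left hw
      (IsPullback.of_hasPullback d.left h.left)
  -- the comparison P' ⟶ P
  let ρ : P' ⟶ P := sqP.lift pr' (q' ≫ (yon S).map h) (by rw [sqP'.w, Category.assoc])
  have hρ1 : ρ ≫ pr = pr' := sqP.lift_fst _ _ _
  have hρ2 : ρ ≫ q = q' ≫ (yon S).map h := sqP.lift_snd _ _ _
  have sqρ : IsPullback ρ q' q ((yon S).map h) := by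
    refine IsPullback.of_right ?_ hρ2 sqP
    rw [hρ1]
    exact sqP'
  -- the induced atlas of P'
  let e' : (yon S).obj W' ⟶ P' := sqρ.lift ((yon S).map prW ≫ e) ((yon S).map d') (by
    rw [Category.assoc, ← hd, sqW.w])
  have he'1 : e' ≫ ρ = (yon S).map prW ≫ e := sqρ.lift_fst _ _ _
  have he'2 : e' ≫ q' = (yon S).map d' := sqρ.lift_snd _ _ _
  have sqe : IsPullback e' ((yon S).map prW) ρ e := by
    refine IsPullback.of_right ?_ he'1 sqρ.flip
    rw [he'2, ← hd]
    exact sqW.flip
  have hee' : RepWith @Etale e' := MorphismProperty.of_isPullback sqe.flip hee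
  have hes' : RepWith @Surjective e' := MorphismProperty.of_isPullback sqe.flip hes
  have : Epi e' := Groth.Agent.H52.epi_of_repWith_etale_surjective e' hee' hes'
  have hA := isKer_of_atlas q' e' d' he'2.symm
  have hB : d'.left.ker = d.left.ker.comap h.left :=
    ker_eq_comap_of_isPullback d.left h.left (pullback.fst d.left h.left)
      (pullback.snd d.left h.left) (IsPullback.of_hasPullback d.left h.left)
  rw [← hB]
  exact hA

end Groth.Agent.H53.QcImage
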