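import Mathlib.AlgebraicGeometry.Limits
import Mathlib.AlgebraicGeometry.Morphisms.QuasiSeparated

set_option autoImplicit false
set_option backward.isDefEq.respectTransparency false
universe u
open CategoryTheory CategoryTheory.Limits AlgebraicGeometry Opposite Topology TopologicalSpace

namespace Groth.Agent.H53.QcImage

/-- A morphism between disjoint unions which is componentwise a morphism from a quasi-compact scheme
to an affine scheme is quasi-compact. -/
theorem quasiCompact_of_sigma {ι : Type u} (Wf Af : ι → Scheme.{u}) (d : ∐ Wf ⟶ ∐ Af)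
    (di : ∀ i, Wf i ⟶ Af i) (h : ∀ i, Sigma.ι Wf i ≫ d = di i ≫ Sigma.ι Af i)
    [∀ i, CompactSpace (Wf i)] [∀ i, IsAffine (Af i)] : QuasiCompact d := by
  refine (IsZariskiLocalAtTarget.iff_of_openCover (P := @QuasiCompact) (sigmaOpenCover Af)).2 fun i => ?_
  change QuasiCompact (pullback.snd d (Sigma.ι Af i))
  let κ : Wf i ⟶ pullback d (Sigma.ι Af i) := pullback.lift (Sigma.ι Wf i) (di i) (h i)
  have hκ1 : κ ≫ pullback.fst d (Sigma.ι Af i) = Sigma.ι Wf i := pullback.lift_fst _ _ _
  have hsurj : Function.Surjective κ := by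
    intro z
    obtain ⟨⟨j, wj⟩, hwj⟩ := (sigmaMk Wf).surjective (pullback.fst d (Sigma.ι Af i) z)
    rw [sigmaMk_mk] at hwj
    have h1 : d (Sigma.ι Wf j wj) = Sigma.ι Af j (di j wj) := by
      rw [← Scheme.Hom.comp_apply, h j, Scheme.Hom.comp_apply]
    have h2 : d (pullback.fst d (Sigma.ι Af i) z) = Sigma.ι Af i (pullback.snd d (Sigma.ι Af i) z) := by
      rw [← Scheme.Hom.comp_apply, pullback.condition, Scheme.Hom.comp_apply]
    have hji : j = i := by
      by_contra hne
      have hdis := disjoint_opensRange_sigmaι Af j i hne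
      rw [hwj, h2] at h1
      have hmem : Sigma.ι Af i (pullback.snd d (Sigma.ι Af i) z) ∈
          (Sigma.ι Af j).opensRange ⊓ (Sigma.ι Af i).opensRange :=
        ⟨⟨_, h1.symm⟩, ⟨_, rfl⟩⟩
      rw [disjoint_iff.mp hdis] at hmem
      exact hmem
    subst hji
    refine ⟨wj, ?_⟩
    apply (pullback.fst d (Sigma.ι Af j)).isOpenEmbedding.injective
    rw [← Scheme.Hom.comp_apply, hκ1, hwj]
  have : CompactSpace ↥(pullback d (Sigma.ι Af i)) :=
    Function.Surjective.compactSpace κ.continuous hsurj
  infer_instance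

end Groth.Agent.H53.QcImage
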