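import Groth.Agent.H53.QcImageA
import Groth.Agent.H53.QcSigma
import Groth.Agent.H53.ZarGlueAlg
import Groth.Agent.H53.FibrePts

set_option autoImplicit false
set_option backward.isDefEq.respectTransparency false
universe u
open CategoryTheory CategoryTheory.Limits AlgebraicGeometry Opposite Topology TopologicalSpace
open AlgSp

namespace Groth.Agent.H53.QcImage

open Groth.Agent.H53.LocPrinc Groth.Agent.Lib.Helper51

variable {S : Scheme.{u}}

/-- A quasi-compact morphism of algebraic spaces admits an atlas of the target over which the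
source has an atlas that is quasi-compact over it. -/
theorem exists_qc_atlas {V Y : Sp S} (hV : IsAlgSpace V) (hY : IsAlgSpace Y) (g : V ⟶ Y)
    (hg : IsQuasiCompactMor g) :
    ∃ (U W : Over S) (a : (yon S).obj U ⟶ Y) (P : Sp S) (pr : P ⟶ V) (q : P ⟶ (yon S).obj U)
      (e : (yon S).obj W ⟶ P) (d : W ⟶ U),
      RepWith @Etale a ∧ RepWith @Surjective a ∧ IsPullback pr q g a ∧ RepWith @Etale e ∧
        RepWith @Surjective e ∧ (yon S).map d = e ≫ q ∧ QuasiCompact d.left := by
  obtain ⟨U₀, a₀, ha₀e, ha₀s⟩ := hY.atlas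
  let 𝒰 := U₀.left.affineCover
  let Af : 𝒰.I₀ → Scheme.{u} := fun i => 𝒰.X i
  let gA : ∀ i, Af i ⟶ S := fun i => 𝒰.f i ≫ U₀.hom
  let U : Over S := sigmaOver Af gA
  let σ : U ⟶ U₀ := Over.homMk (Sigma.desc 𝒰.f) (by
    apply Sigma.hom_ext
    intro i
    simp [U, gA])
  have hσe : Etale σ.left := by
    change Etale (Sigma.desc 𝒰.f)
    exact IsZariskiLocalAtSource.sigmaDesc (fun i => inferInstance)
  have hσs : Surjective σ.left := by
    change Surjective (Sigma.desc fun i => 𝒰.f i)
    infer_instance
  have : (RepWith (S := S) @Etale).IsMultiplicative := repWith_isMultiplicative _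
  have : (RepWith (S := S) @Surjective).IsMultiplicative := repWith_isMultiplicative _
  let a : (yon S).obj U ⟶ Y := (yon S).map σ ≫ a₀
  have hae : RepWith @Etale a :=
    (RepWith @Etale).comp_mem _ _ ((repWith_yon_map_iff _ _).2 hσe) ha₀e
  have has : RepWith @Surjective a :=
    (RepWith @Surjective).comp_mem _ _ ((repWith_yon_map_iff _ _).2 hσs) ha₀s
  have sqP : IsPullback (pullback.fst g a) (pullback.snd g a) g a := IsPullback.of_hasPullback g a
  generalize pullback.fst g a = pr at sqP
  generalize pullback.snd g a = q at sqP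
  generalize pullback g a = P at pr q
  have hP : IsAlgSpace P := Groth.Agent.H52.isAlgSpace_of_isPullback sqP hV hY (IsAlgSpace.yon_obj _)
  -- the pieces
  have sqi : ∀ i, IsPullback (pullback.fst q ((yon S).map (sigmaOverι Af gA i)))
      (pullback.snd q ((yon S).map (sigmaOverι Af gA i))) q ((yon S).map (sigmaOverι Af gA i)) :=
    fun i => IsPullback.of_hasPullback _ _
  have hqc : ∀ i, IsQuasiCompactSp (pullback q ((yon S).map (sigmaOverι Af gA i))) := by
    intro i
    refine hg (IsAlgSpace.yon_obj (Over.mk (gA i))) ⟨Over.mk (gA i), 𝟙 _, repWith_id _ _, repWith_id _ _, ?_⟩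
      ((yon S).map (sigmaOverι Af gA i) ≫ a)
      (pullback.fst q ((yon S).map (sigmaOverι Af gA i)) ≫ pr)
      (pullback.snd q ((yon S).map (sigmaOverι Af gA i))) ?_
    · change CompactSpace ↥(𝒰.X i)
      infer_instance
    · exact ((sqi i).flip.paste_vert sqP.flip).flip
  choose Wi p hpe hps hWc using hqc
  let Wf : 𝒰.I₀ → Scheme.{u} := fun i => (Wi i).left
  let gW : ∀ i, Wf i ⟶ S := fun i => (Wi i).hom
  let W : Over S := sigmaOver Wf gW
  let e : (yon S).obj W ⟶ P :=
    Cofan.IsColimit.desc (isColimitYonSigmaOver Wf gW)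
      (fun i => (p i ≫ pullback.fst q ((yon S).map (sigmaOverι Af gA i)) :
        (yon S).obj (Over.mk (gW i)) ⟶ P))
  have he : ∀ i, (yon S).map (sigmaOverι Wf gW i) ≫ e =
      p i ≫ pullback.fst q ((yon S).map (sigmaOverι Af gA i)) := fun i =>
    Cofan.IsColimit.fac (isColimitYonSigmaOver Wf gW) _ i
  have hfe : ∀ i, RepWith @Etale (pullback.fst q ((yon S).map (sigmaOverι Af gA i))) := by
    intro i
    refine MorphismProperty.of_isPullback (sqi i).flip ((repWith_yon_map_iff _ _).2 ?_)
    change Etale (Sigma.ι Af i)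
    infer_instance
  have hee : RepWith @Etale e := by
    refine Groth.Agent.H53.ZarGlue.repWith_of_source_sigma @Etale Wf gW e (hP.representable_from_yon e) fun i => ?_
    rw [he i]
    exact (RepWith (S := S) @Etale).comp_mem _ _ (hpe i) (hfe i)
  have hes : RepWith @Surjective e := by
    apply Groth.Agent.H52.repWith_surjective_of_surjective_points e (hP.representable_from_yon e)
    intro x
    obtain ⟨u, hu⟩ := Groth.Agent.Lib.Helper54.exists_ofScheme_eq U (Points.map q x)
    obtain ⟨⟨i, ai⟩, hai⟩ := (sigmaMk Af).surjective u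
    rw [sigmaMk_mk] at hai
    have hx : Points.map q x = Points.map ((yon S).map (sigmaOverι Af gA i))
        (Points.ofScheme (Over.mk (gA i)) ai) := by
      rw [← hu, ← hai, ← Points.ofPt_eq_map_ofScheme, Groth.Agent.H53.FibrePts.ofPt_yon_map]
      rfl
    obtain ⟨y, hy1, -⟩ := Groth.Agent.H52.exists_point_of_isPullback (sqi i) x _ hx
    obtain ⟨z, rfl⟩ := Groth.Agent.H52.surjective_points_of_repWith_surjective (p i) (hps i) y
    refine ⟨Points.map ((yon S).map (sigmaOverι Wf gW i)) z, ?_⟩
    rw [← Points.map_comp, ← hy1, ← Points.map_comp]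
    exact congrArg (fun φ => Points.map φ z) (he i)
  obtain ⟨d, hd⟩ := (yon S).map_surjective (e ≫ q)
  refine ⟨U, W, a, P, pr, q, e, d, hae, has, sqP, hee, hes, hd, ?_⟩
  -- quasi-compactness of d
  choose di hdi using fun i => (yon S).map_surjective
    (p i ≫ pullback.snd q ((yon S).map (sigmaOverι Af gA i)))
  have hcomm : ∀ i, sigmaOverι Wf gW i ≫ d = di i ≫ sigmaOverι Af gA i := by
    intro i
    apply (yon S).map_injective
    rw [Functor.map_comp, Functor.map_comp, hd, hdi, ← Category.assoc, he i, Category.assoc,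
      Category.assoc, (sqi i).w]
  have : ∀ i, CompactSpace ↥(Wf i) := hWc
  have : ∀ i, IsAffine (Af i) := fun i => by
    change IsAffine (𝒰.X i)
    infer_instance
  exact quasiCompact_of_sigma Wf Af d.left (fun i => (di i).left)
    (fun i => congrArg (fun k => k.left) (hcomm i))

end Groth.Agent.H53.QcImage
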