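import Groth.Agent.H53.QcImageC
import Groth.Agent.Lib.Helper54.SourceLocal2

set_option autoImplicit false
set_option backward.isDefEq.respectTransparency false
universe u
open CategoryTheory CategoryTheory.Limits AlgebraicGeometry Opposite Topology TopologicalSpace
open AlgSp

namespace Groth.Agent.H53.QcImage

variable {S : Scheme.{u}}

theorem locP_flat_of_isEtaleMor {X Y : Sp S} {f : X ⟶ Y} (hf : IsEtaleMor f) : LocP @Flat f :=
  Groth.Agent.Lib.Helper54.locP_mono (fun _ _ φ (_ : Etale φ) => (inferInstance : Flat φ))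
    (Groth.Agent.Lib.Helper54.locP_etale_of_isEtaleMor hf)

theorem locP_flat_id (Y : Sp S) : LocP @Flat (𝟙 Y) :=
  locP_flat_of_isEtaleMor (fun U φ hφ => by rw [Category.comp_id]; exact hφ)

/-- Comparison of a scheme theoretic image of a quasi-compact morphism with the canonical one:
the universal flat base change property and density transfer to any scheme theoretic image. -/
theorem isSchImage_qc {V Y Z : Sp S} (hV : IsAlgSpace V) (hY : IsAlgSpace Y) (g : V ⟶ Y)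
    (hg : IsQuasiCompactMor g) (i : Z ⟶ Y) (hZi : IsSchImage g i) :
    (∀ {X VX ZX Z' : Sp S}, IsAlgSpace X → ∀ (f : X ⟶ Y), LocP @Flat f →
        ∀ (g₁ : VX ⟶ V) (gX : VX ⟶ X), IsPullback g₁ gX g f →
        ∀ (i₁ : ZX ⟶ Z) (iX : ZX ⟶ X), IsPullback i₁ iX i f →
        ∀ (i' : Z' ⟶ X), RepWith @IsClosedImmersion i' → (∃ f'' : VX ⟶ Z', f'' ≫ i' = gX) →
          ∃ k : ZX ⟶ Z', k ≫ i' = iX) ∧
      Set.range (Points.map i) ⊆ closure (Set.range (Points.map g)) := by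
  obtain ⟨Z₀, i₀, hZ₀, hci₀, ⟨g₀', hg₀'⟩, huniv, hdense⟩ := exists_qcImage hV hY g hg
  obtain ⟨hci, ⟨g', hg'⟩, hmin⟩ := hZi
  obtain ⟨k₁, hk₁⟩ := hmin i₀ hZ₀ hci₀ ⟨g₀', hg₀'⟩
  have sqk : IsPullback k₁ i i₀ (𝟙 Y) := by
    obtain ⟨k₂, hk₂⟩ := huniv hY (𝟙 Y) (locP_flat_id Y) (𝟙 V) g
      (IsPullback.of_horiz_isIso ⟨by simp⟩) (𝟙 Z₀) i₀ (IsPullback.of_horiz_isIso ⟨by simp⟩) i hci
      ⟨g', hg'⟩
    have : Mono i := Groth.Agent.H53.SchImageRed.mono_of_repWith_isClosedImmersion i hci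
    have : Mono i₀ := Groth.Agent.H53.SchImageRed.mono_of_repWith_isClosedImmersion i₀ hci₀
    have h12 : k₁ ≫ k₂ = 𝟙 _ := by
      rw [← cancel_mono i, Category.assoc, hk₂, hk₁, Category.id_comp]
    have h21 : k₂ ≫ k₁ = 𝟙 _ := by
      rw [← cancel_mono i₀, Category.assoc, hk₁, hk₂, Category.id_comp]
    have : IsIso k₁ := ⟨k₂, h12, h21⟩
    exact IsPullback.of_horiz_isIso ⟨by rw [hk₁, Category.comp_id]⟩
  refine ⟨?_, ?_⟩
  · intro X VX ZX Z' hX f hf g₁ gX sqV i₁ iX sqZ i' hi' hf''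
    have sqZ' : IsPullback (i₁ ≫ k₁) iX i₀ f := by
      have := sqZ.paste_horiz sqk
      rwa [Category.comp_id] at this
    exact huniv hX f hf g₁ gX sqV (i₁ ≫ k₁) iX sqZ' i' hi' hf''
  · rintro _ ⟨z, rfl⟩
    apply hdense
    exact ⟨Points.map k₁ z, by rw [← Points.map_comp, hk₁]⟩

/-- Flat base change of the scheme theoretic image of a quasi-compact morphism. -/
theorem isSchImage_pullback_of_flat {X Y V Z VX ZX : Sp S} (hX : IsAlgSpace X) (hY : IsAlgSpace Y)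
    (hV : IsAlgSpace V) (f : X ⟶ Y) (hf : LocP @Flat f) (g : V ⟶ Y)
    (hg : IsQuasiCompactMor g) (i : Z ⟶ Y) (hZi : IsSchImage g i) (g₁ : VX ⟶ V) (gX : VX ⟶ X)
    (sqV : IsPullback g₁ gX g f) (i₁ : ZX ⟶ Z) (iX : ZX ⟶ X) (sqZ : IsPullback i₁ iX i f) :
    IsSchImage gX iX := by
  obtain ⟨huniv, -⟩ := isSchImage_qc hV hY g hg i hZi
  obtain ⟨hci, ⟨g', hg'⟩, -⟩ := hZi
  refine ⟨MorphismProperty.of_isPullback sqZ hci,
    ⟨sqZ.lift (g₁ ≫ g') gX (by rw [Category.assoc, hg', sqV.w]), sqZ.lift_snd _ _ _⟩, ?_⟩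
  intro Z' i' _ hi' hf''
  exact huniv hX f hf g₁ gX sqV i₁ iX sqZ i' hi' hf''

end Groth.Agent.H53.QcImage
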