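import Groth.Agent.H53.QcImageD
import Groth.Agent.H53.EffCart2
import Groth.Agent.H52.ThickLift2
import Groth.Agent.H52.QC
import Groth.Agent.Lib.Helper69.SchDenseFibre

set_option autoImplicit false
set_option backward.isDefEq.respectTransparency false
universe u
open CategoryTheory CategoryTheory.Limits AlgebraicGeometry Opposite Topology TopologicalSpace
open AlgSp

namespace Groth.Agent.H53.QcImage

open Groth.Agent.H53.LocPrinc

variable {S : Scheme.{u}}

/-- For a quasi-compact open subspace, scheme theoretic density is equivalent to the scheme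
theoretic closure being everything. -/
theorem isSchDense_iff_isSchImage_id {U X : Sp S} (hU : IsAlgSpace U) (hX : IsAlgSpace X)
    (j : U ⟶ X) (hj : RepWith @IsOpenImmersion j) (hq : IsQuasiCompactMor j) :
    IsSchDense j ↔ IsSchImage j (𝟙 X) := by
  have hjq : RepWith @QuasiCompact j :=
    Groth.Agent.H52.repWith_quasiCompact_of_isQuasiCompactMor j hj.rep hq
  constructor
  · rintro ⟨-, T, φ, W, fst, hφe, hφs, sq, hW⟩
    refine ⟨Groth.Agent.H52.repWith_of_isIso _ _, ⟨j, Category.comp_id j⟩, ?_⟩
    rintro Z' i' hZ' hi' ⟨f'', hf''⟩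
    have : Mono i' := Groth.Agent.H53.SchImageRed.mono_of_repWith_isClosedImmersion i' hi'
    have : Epi φ := Groth.Agent.H52.epi_of_repWith_etale_surjective φ hφe hφs
    let ιW : Over.mk (W.ι ≫ T.hom) ⟶ T := Over.homMk W.ι rfl
    have hWq : QuasiCompact W.ι := hjq.property φ fst ιW sq
    have hdom : IsSchemeTheoreticallyDominant W.ι :=
      Groth.Agent.Lib.Helper69.isSchemeTheoreticallyDominant_of_isSchematicallyDense W hW
    have sqC := hi'.rep.isPullback φ
    have hcC : IsClosedImmersion (hi'.rep.snd φ).left := hi'.property_snd φ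
    generalize hi'.rep.fst φ = fstC at sqC
    generalize hi'.rep.snd φ = c' at sqC hcC
    generalize hi'.rep.pullback φ = C' at fstC c'
    obtain ⟨l₀, hl₀⟩ := (yon S).map_surjective
      (sqC.lift (fst ≫ f'') ((yon S).map ιW) (by rw [Category.assoc, hf'', sq.w]))
    have hl₀' : l₀ ≫ c' = ιW := by
      apply (yon S).map_injective
      rw [Functor.map_comp, hl₀, sqC.lift_snd]
    have hker : c'.left.ker = ⊥ := by
      rw [eq_bot_iff, ← hdom.ker_eq_bot]
      have : W.ι = l₀.left ≫ c'.left := congrArg (fun k => k.left) hl₀'.symm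
      rw [this]
      exact Scheme.Hom.le_ker_comp _ _
    have hle : c'.left.ker ≤ (𝟙 T.left : T.left ⟶ T.left).ker := by rw [hker]; exact bot_le
    have hs : IsClosedImmersion.lift c'.left (𝟙 T.left) hle ≫ c'.left = 𝟙 _ :=
      IsClosedImmersion.lift_fac _ _ _
    generalize IsClosedImmersion.lift c'.left (𝟙 T.left) hle = s₀ at hs
    let s : T ⟶ C' := Over.homMk s₀ (by
      rw [← Over.w c', ← Category.assoc, hs, Category.id_comp])
    have hsc : s ≫ c' = 𝟙 T := by
      ext
      exact hs
    exact Groth.Agent.Lib.Helper54.exists_factor_mono_of_epi i' (𝟙 X) φ ((yon S).map s ≫ fstC) (by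
      rw [Category.assoc, sqC.w, ← Category.assoc, ← Functor.map_comp, hsc, CategoryTheory.Functor.map_id,
        Category.id_comp, Category.comp_id])
  · intro h
    obtain ⟨huniv, -⟩ := isSchImage_qc hU hX j hq (𝟙 X) h
    obtain ⟨T, φ, hφe, hφs⟩ := hX.atlas
    have ho : IsOpenImmersion (hj.rep.snd φ).left := hj.property_snd φ
    let W : T.left.Opens := (hj.rep.snd φ).left.opensRange
    obtain ⟨fst, sq⟩ := Groth.Agent.H53.LocPrinc.exists_isPullback_opens j hj φ W rfl
    let ιW : Over.mk (W.ι ≫ T.hom) ⟶ T := Over.homMk W.ι rfl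
    have hWq : QuasiCompact W.ι := hjq.property φ fst ιW sq
    set K := W.ι.ker with hK
    obtain ⟨f₀, hf₀⟩ := exists_lift_subOver ιW K le_rfl
    have hci : RepWith @IsClosedImmersion ((yon S).map (subOverι T K)) := by
      rw [repWith_yon_map_iff]
      change IsClosedImmersion K.subschemeι
      infer_instance
    obtain ⟨k, hk⟩ := huniv (IsAlgSpace.yon_obj T) φ
      (locP_flat_of_isEtaleMor (Groth.Agent.H52.isEtaleMor_of_repWith_etale φ hφe))
      fst ((yon S).map ιW) sq φ (𝟙 _) (IsPullback.of_vert_isIso ⟨by simp⟩)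
      ((yon S).map (subOverι T K)) hci ⟨(yon S).map f₀, by rw [← Functor.map_comp, hf₀]⟩
    obtain ⟨k₀, rfl⟩ := (yon S).map_surjective k
    have hk₀ : k₀ ≫ subOverι T K = 𝟙 T := by
      apply (yon S).map_injective
      rw [Functor.map_comp, hk, CategoryTheory.Functor.map_id]
    have hbot : K = ⊥ := by
      rw [eq_bot_iff]
      have := le_ker_of_lift_subOver (𝟙 T) K k₀ hk₀
      rwa [Over.id_left, Scheme.Hom.ker_eq_bot_of_isIso] at this
    have hdom : IsSchemeTheoreticallyDominant W.ι := ⟨hbot⟩
    exact ⟨hj, T, φ, W, fst, hφe, hφs, sq,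
      Groth.Agent.Lib.Helper69.isSchematicallyDense_of_isSchemeTheoreticallyDominant W⟩

end Groth.Agent.H53.QcImage
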