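import Groth.Agent.H53.QcImageE
import Groth.Agent.H52.QC5
import Groth.Agent.Lib.Helper54.LocalST

set_option autoImplicit false
set_option backward.isDefEq.respectTransparency false
universe u
open CategoryTheory CategoryTheory.Limits AlgebraicGeometry Opposite Topology TopologicalSpace
open AlgSp

namespace Groth.Agent.H53.QcImage

variable {S : Scheme.{u}}

/-- For a separated `f : X ⟶ Y` and a section `s` of `f` over a quasi-compact open `V` of `Y`, the
scheme theoretic image of `s` maps isomorphically to `Y` over `V`. -/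
theorem isIso_snd_of_section {X Y V Y' P : Sp S} (hX : IsAlgSpace X) (hY : IsAlgSpace Y)
    (hV : IsAlgSpace V) (f : X ⟶ Y) (s : V ⟶ X) (hj : RepWith @IsOpenImmersion (s ≫ f))
    (hjq : IsQuasiCompactMor (s ≫ f)) (hf : IsSeparatedMor f) (c : Y' ⟶ X)
    (hc : IsSchImage s c) (fst : P ⟶ Y') (snd : P ⟶ V)
    (sq : IsPullback fst snd (c ≫ f) (s ≫ f)) : IsIso snd := by
  have hqs : IsQuasiSeparatedMor f :=
    MorphismProperty.relative_monotone (fun _ _ φ hφ => by
      have : IsClosedImmersion ((Over.forget S).map φ) := hφ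
      change QuasiCompact ((Over.forget S).map φ)
      infer_instance) _ hf
  have hsq : IsQuasiCompactMor s := Groth.Agent.H52.isQuasiCompactMor_of_comp hV hX hY s f hjq hqs
  have sqXV : IsPullback (pullback.fst (s ≫ f) f) (pullback.snd (s ≫ f) f) (s ≫ f) f :=
    IsPullback.of_hasPullback _ _
  have hΓ : RepWith @IsClosedImmersion (pullback.lift (𝟙 V) s (by simp) : V ⟶ pullback (s ≫ f) f) :=
    MorphismProperty.of_isPullback (pullback_lift_diagonal_isPullback s f) hf
  have hΓ1 : (pullback.lift (𝟙 V) s (by simp) : V ⟶ pullback (s ≫ f) f) ≫ pullback.fst (s ≫ f) f = 𝟙 V :=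
    pullback.lift_fst _ _ _
  have hΓ2 : (pullback.lift (𝟙 V) s (by simp) : V ⟶ pullback (s ≫ f) f) ≫ pullback.snd (s ≫ f) f = s :=
    pullback.lift_snd _ _ _
  generalize (pullback.lift (𝟙 V) s (by simp) : V ⟶ pullback (s ≫ f) f) = Γ at hΓ hΓ1 hΓ2
  generalize pullback.fst (s ≫ f) f = pV at sqXV hΓ1
  generalize pullback.snd (s ≫ f) f = pX at sqXV hΓ2
  generalize pullback (s ≫ f) f = XV at pV pX Γ
  have hXV : IsAlgSpace XV := Groth.Agent.H52.isAlgSpace_of_isPullback sqXV hV hY hX
  have hpX : RepWith @IsOpenImmersion pX := MorphismProperty.of_isPullback sqXV hj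
  have hflat : LocP @Flat pX :=
    locP_flat_of_isEtaleMor (Groth.Agent.Lib.Helper54.isEtaleMor_of_repWith_isOpenImmersion hpX)
  have : Mono pX := Groth.Agent.H52.mono_of_repWith pX @IsOpenImmersion
    (fun _ _ g hg => by have : IsOpenImmersion g := hg; infer_instance) hpX
  have sqV : IsPullback (𝟙 V) Γ s pX :=
    IsPullback.of_horiz_isIso_mono ⟨by rw [Category.id_comp, hΓ2]⟩
  let iX : P ⟶ XV := sqXV.lift snd (fst ≫ c) (by rw [Category.assoc, sq.w])
  have hiX1 : iX ≫ pV = snd := sqXV.lift_fst _ _ _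
  have hiX2 : iX ≫ pX = fst ≫ c := sqXV.lift_snd _ _ _
  have sqZ : IsPullback fst iX c pX := by
    refine IsPullback.of_bot ?_ hiX2.symm sqXV.flip
    rw [hiX1]
    exact sq
  obtain ⟨hciX, ⟨m, hm⟩, hmin⟩ :=
    isSchImage_pullback_of_flat hXV hX hV pX hflat s hsq c hc (𝟙 V) Γ sqV fst iX sqZ
  obtain ⟨k, hk⟩ := hmin Γ hV hΓ ⟨𝟙 V, Category.id_comp _⟩
  have hsk : snd = k := by
    rw [← hiX1, ← hk, Category.assoc, hΓ1, Category.comp_id]
  have : Mono iX := Groth.Agent.H53.SchImageRed.mono_of_repWith_isClosedImmersion iX hciX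
  refine ⟨m, ?_, ?_⟩
  · rw [← cancel_mono iX, Category.assoc, hm, hsk, hk, Category.id_comp]
  · rw [← hiX1, ← Category.assoc, hm, hΓ1]

end Groth.Agent.H53.QcImage
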