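import Groth.Agent.H53.QcImageF
import Groth.Agent.Lib.Helper51.OpenImmDescent
import Mathlib.AlgebraicGeometry.Morphisms.Immersion

set_option autoImplicit false
set_option backward.isDefEq.respectTransparency false
universe u
open CategoryTheory CategoryTheory.Limits AlgebraicGeometry Opposite Topology TopologicalSpace
open AlgSp

namespace Groth.Agent.H53.QcImage

open Groth.Agent.H53.LocPrinc

/-- Scheme level: a quasi-compact immersion is an open immersion into any closed subscheme with
the same kernel, and is scheme theoretically dominant there. -/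
theorem isOpenImmersion_of_ker_eq {Z T C : Scheme.{u}} (g : Z ⟶ T) [IsImmersion g] [QuasiCompact g]
    (c : C ⟶ T) [IsClosedImmersion c] (u : Z ⟶ C) (hu : u ≫ c = g) (hker : c.ker = g.ker) :
    IsOpenImmersion u ∧ u.ker = ⊥ := by
  have hle : c.ker ≤ g.imageι.ker := by
    rw [Scheme.IdealSheafData.ker_subschemeι]; exact hker.le
  have hθ : IsClosedImmersion.lift c g.imageι hle ≫ c = g.imageι := IsClosedImmersion.lift_fac _ _ _
  generalize IsClosedImmersion.lift c g.imageι hle = θ at hθ
  have hiso : IsIso θ := IsClosedImmersion.isIso_of_ker_eq g.imageι c θ hθ (by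
    rw [Scheme.IdealSheafData.ker_subschemeι, hker])
  have hu' : u = g.toImage ≫ θ := by
    rw [← cancel_mono c, Category.assoc, hθ, hu, Scheme.Hom.toImage_imageι]
  refine ⟨by rw [hu']; infer_instance, ?_⟩
  rw [hu', Scheme.Hom.ker_comp, ker_toImage_eq_bot, Scheme.IdealSheafData.map_bot,
    Scheme.Hom.ker_eq_bot_of_isIso]

variable {S : Scheme.{u}}

/-- Transport of a pullback square along the identification of an open immersion with the
inclusion of its range. -/
theorem exists_isPullback_overOpen {F F' : Sp S} (φ' : F' ⟶ F) {A C : Over S}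
    (π : (yon S).obj C ⟶ F) (fstA : (yon S).obj A ⟶ F') (u : A ⟶ C) [IsOpenImmersion u.left]
    (sq : IsPullback fstA ((yon S).map u) φ' π) :
    ∃ ηW : (yon S).obj (Groth.Agent.H52.overOpen C u.left.opensRange) ⟶ F',
      IsPullback ηW ((yon S).map (Groth.Agent.H52.overOpenι C u.left.opensRange)) φ' π := by
  set W := u.left.opensRange with hW
  let e0 : W.toScheme ≅ A.left :=
    IsOpenImmersion.isoOfRangeEq W.ι u.left (by rw [Scheme.Opens.range_ι]; rfl)
  have he0 : e0.hom ≫ u.left = W.ι := IsOpenImmersion.isoOfRangeEq_hom_fac _ _ _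
  let e : Groth.Agent.H52.overOpen C W ≅ A := Over.isoMk e0 (by
    change e0.hom ≫ A.hom = W.ι ≫ C.hom
    rw [← Over.w u, ← Category.assoc, he0])
  have he : e.hom ≫ u = Groth.Agent.H52.overOpenι C W := by
    apply Over.OverMorphism.ext
    exact he0
  refine ⟨(yon S).map e.hom ≫ fstA, ?_⟩
  refine IsPullback.of_iso sq ((yon S).mapIso e).symm (Iso.refl _) (Iso.refl _) (Iso.refl _) ?_ ?_
    (by simp) (by simp)
  · simp only [Iso.refl_hom, Category.comp_id, Iso.symm_hom, Functor.mapIso_inv]
    rw [← Category.assoc, ← Functor.map_comp, Iso.inv_hom_id, (yon S).map_id, Category.id_comp]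
  · simp only [Iso.refl_hom, Category.comp_id, Iso.symm_hom, Functor.mapIso_inv]
    rw [← he, Functor.map_comp, ← Category.assoc, ← Functor.map_comp, Iso.inv_hom_id, (yon S).map_id,
      Category.id_comp]


/-- Scheme level: the inclusion of the range of an open immersion has the same kernel and is
quasi-compact when the immersion is. -/
theorem opensRange_ι_props {A C : Scheme.{u}} (u : A ⟶ C) [IsOpenImmersion u] :
    u.opensRange.ι.ker = u.ker ∧ (QuasiCompact u → QuasiCompact u.opensRange.ι) := by
  let e0 : u.opensRange.toScheme ≅ A :=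
    IsOpenImmersion.isoOfRangeEq u.opensRange.ι u (by rw [Scheme.Opens.range_ι]; rfl)
  have he0 : e0.hom ≫ u = u.opensRange.ι := IsOpenImmersion.isoOfRangeEq_hom_fac _ _ _
  refine ⟨by rw [← he0, Scheme.Hom.ker_comp_of_isIso], fun _ => by rw [← he0]; infer_instance⟩

/-- A quasi-compact immersion of algebraic spaces is a scheme theoretically dense, topologically
dense open immersion into its scheme theoretic image. -/
theorem immersion_toImage {Z X Zbar : Sp S} (hZ : IsAlgSpace Z) (hX : IsAlgSpace X)
    (h : Z ⟶ X) (hh : RepWith @IsImmersion h) (hq : IsQuasiCompactMor h) (c : Zbar ⟶ X)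
    (hc : IsSchImage h c) (h' : Z ⟶ Zbar) (fac : h' ≫ c = h) :
    RepWith @IsOpenImmersion h' ∧ IsSchDense h' ∧ Dense (Set.range (Points.map h')) := by
  obtain ⟨T, φ, hφe, hφs⟩ := hX.atlas
  have hci := hc.1
  have : Mono c := Groth.Agent.H53.SchImageRed.mono_of_repWith_isClosedImmersion c hci
  have hmh : Mono h := Groth.Agent.H52.mono_of_repWith h @IsImmersion
    (fun _ _ g hg => by have : IsImmersion g := hg; infer_instance) hh
  have : Mono h' := by
    have : Mono (h' ≫ c) := by rw [fac]; exact hmh
    exact mono_of_mono h' c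
  have hhq : RepWith @QuasiCompact h :=
    Groth.Agent.H52.repWith_quasiCompact_of_isQuasiCompactMor h hh.rep hq
  have sqC := hci.rep.isPullback φ
  have hcC : IsClosedImmersion (hci.rep.snd φ).left := hci.property_snd φ
  generalize hci.rep.fst φ = fstC at sqC
  generalize hci.rep.snd φ = cT at sqC hcC
  generalize hci.rep.pullback φ = C at fstC cT
  have sqZ := hh.rep.isPullback φ
  have hgi : IsImmersion (hh.rep.snd φ).left := hh.property_snd φ
  have hgq : QuasiCompact (hh.rep.snd φ).left := hhq.property φ _ _ sqZ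
  generalize hh.rep.fst φ = fstZ at sqZ
  generalize hh.rep.snd φ = gT at sqZ hgi hgq
  generalize hh.rep.pullback φ = ZT at fstZ gT
  have hflat : LocP @Flat φ :=
    locP_flat_of_isEtaleMor (Groth.Agent.H52.isEtaleMor_of_repWith_etale φ hφe)
  obtain ⟨-, ⟨u', hu'⟩, hmin⟩ := isSchImage_pullback_of_flat (IsAlgSpace.yon_obj T) hX hZ φ hflat h hq
    c hc fstZ ((yon S).map gT) sqZ fstC ((yon S).map cT) sqC
  obtain ⟨u, rfl⟩ := (yon S).map_surjective u'
  have hu : u ≫ cT = gT := by
    apply (yon S).map_injective
    rw [Functor.map_comp, hu']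
  have hul : u.left ≫ cT.left = gT.left := congrArg (fun k => k.left) hu
  have hker : cT.left.ker = gT.left.ker := by
    apply le_antisymm
    · rw [← hul]
      exact Scheme.Hom.le_ker_comp _ _
    · obtain ⟨f₀, hf₀⟩ := exists_lift_subOver gT gT.left.ker le_rfl
      have hci' : RepWith @IsClosedImmersion ((yon S).map (subOverι T gT.left.ker)) := by
        rw [repWith_yon_map_iff]
        change IsClosedImmersion gT.left.ker.subschemeι
        infer_instance
      obtain ⟨k, hk⟩ := hmin ((yon S).map (subOverι T gT.left.ker)) (IsAlgSpace.yon_obj _) hci'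
        ⟨(yon S).map f₀, by rw [← Functor.map_comp, hf₀]⟩
      obtain ⟨k₀, rfl⟩ := (yon S).map_surjective k
      refine le_ker_of_lift_subOver cT gT.left.ker k₀ ?_
      apply (yon S).map_injective
      rw [Functor.map_comp, hk]
  obtain ⟨huo, huk⟩ := isOpenImmersion_of_ker_eq gT.left cT.left u.left hul hker
  have huq : QuasiCompact u.left := by
    have : QuasiCompact (u.left ≫ cT.left) := by rw [hul]; exact hgq
    exact QuasiCompact.of_comp u.left cT.left
  have sqT : IsPullback fstZ ((yon S).map u) h' fstC := by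
    refine IsPullback.of_bot ?_ ?_ sqC
    · rw [← Functor.map_comp, hu, fac]
      exact sqZ
    · rw [← cancel_mono c, Category.assoc, fac, sqZ.w, Category.assoc, sqC.w, ← Category.assoc,
        ← Functor.map_comp, hu]
  have hfe : RepWith @Etale fstC := MorphismProperty.of_isPullback sqC.flip hφe
  have hfs : RepWith @Surjective fstC := MorphismProperty.of_isPullback sqC.flip hφs
  have : Epi fstC := Groth.Agent.H52.epi_of_repWith_etale_surjective fstC hfe hfs
  obtain ⟨ηW, sqW⟩ := exists_isPullback_overOpen h' fstC fstZ u sqT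
  have hOI : RepWith @IsOpenImmersion h' :=
    Groth.Agent.Lib.Helper51.repWith_isOpenImmersion_of_isPullback_epi h' fstC _ ηW sqW
  obtain ⟨hWk, hWq⟩ := opensRange_ι_props u.left
  have hWq' : QuasiCompact u.left.opensRange.ι := hWq huq
  have hWd : IsSchemeTheoreticallyDominant u.left.opensRange.ι := ⟨by rw [hWk, huk]⟩
  refine ⟨hOI, ⟨hOI, C, fstC, u.left.opensRange, ηW, hfe, hfs, sqW,
    Groth.Agent.Lib.Helper69.isSchematicallyDense_of_isSchemeTheoreticallyDominant _⟩, ?_⟩
  have hsurj : Function.Surjective (Points.ofPt fstC) := by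
    intro z
    obtain ⟨x, rfl⟩ := Groth.Agent.H52.surjective_points_of_repWith_surjective fstC hfs z
    obtain ⟨x₀, rfl⟩ := Groth.Agent.Lib.Helper54.exists_ofScheme_eq C x
    exact ⟨x₀, Points.ofPt_eq_map_ofScheme _ _⟩
  have hd : DenseRange (Points.ofPt fstC ∘ u.left.opensRange.ι) :=
    hsurj.denseRange.comp u.left.opensRange.ι.denseRange (Points.continuous_ofPt fstC)
  refine Dense.mono ?_ hd
  rintro _ ⟨w, rfl⟩
  refine ⟨Points.ofPt ηW w, ?_⟩
  rw [Points.map_ofPt, sqW.w, Groth.Agent.H53.FibrePts.ofPt_yon_map_comp]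
  rfl

end Groth.Agent.H53.QcImage
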