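import Groth.Agent.H53.QcImageG
import Groth.Agent.H53.RedInduced
import Groth.Agent.H53.ResidualClosed
import Groth.Agent.H52.FieldPoints
import Groth.Agent.Lib.Helper18.SchemDense
import Groth.Agent.Lib.Helper54.GeomReducedBC2

set_option autoImplicit false
set_option backward.isDefEq.respectTransparency false
universe u
open CategoryTheory CategoryTheory.Limits AlgebraicGeometry Opposite Topology TopologicalSpace
open AlgSp

namespace Groth.Agent.H53.QcImage

open Groth.Agent.H53.LocPrinc

/-- Scheme level: an immersion with dense range into a reduced scheme is an open immersion. -/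
theorem isOpenImmersion_of_denseRange {Z C : Scheme.{u}} [IsReduced C] (u : Z ⟶ C) [IsImmersion u]
    (hd : DenseRange u) : IsOpenImmersion u := by
  have hcl : IsClosed (Set.range u.liftCoborder) := u.liftCoborder.isClosedEmbedding.isClosed_range
  have hsurj : Surjective u.liftCoborder := ⟨fun x => by
    have h1 : x ∈ closure (Set.range u.liftCoborder) := by
      rw [u.coborderRange.ι.isOpenEmbedding.isInducing.closure_eq_preimage_closure_image,
        ← Set.range_comp]
      have : (u.coborderRange.ι : _ → _) ∘ (u.liftCoborder : _ → _) = u := by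
        funext z
        rw [Function.comp_apply, ← Scheme.Hom.comp_apply, Scheme.Hom.liftCoborder_ι]
      rw [this, hd.closure_range]
      trivial
    rwa [hcl.closure_eq] at h1⟩
  have : IsIso u.liftCoborder := isIso_of_isClosedImmersion_of_surjective _
  rw [← u.liftCoborder_ι]
  infer_instance

variable {S : Scheme.{u}}

/-- An immersion of algebraic spaces with reduced source is a scheme theoretically dense,
topologically dense open immersion into its scheme theoretic image. -/
theorem immersion_toImage_of_reduced {Z X Zbar : Sp S} (hX : IsAlgSpace X)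
    (hZbar : IsAlgSpace Zbar) (h : Z ⟶ X) (hh : RepWith @IsImmersion h) (hred : IsReducedSp Z)
    (c : Zbar ⟶ X) (hc : IsSchImage h c) (h' : Z ⟶ Zbar) (fac : h' ≫ c = h) :
    RepWith @IsOpenImmersion h' ∧ IsSchDense h' ∧ Dense (Set.range (Points.map h')) := by
  obtain ⟨hci, -, hredbar⟩ := Groth.Agent.H53.SchImageRed.isRedInduced_of_isSchImage hX h c hred hc
  have : Mono c := Groth.Agent.H53.SchImageRed.mono_of_repWith_isClosedImmersion c hci
  have hmh : Mono h := Groth.Agent.H52.mono_of_repWith h @IsImmersion
    (fun _ _ g hg => by have : IsImmersion g := hg; infer_instance) hh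
  have : Mono h' := by
    have : Mono (h' ≫ c) := by rw [fac]; exact hmh
    exact mono_of_mono h' c
  -- density of the image
  have hdense : Dense (Set.range (Points.map h')) := by
    obtain ⟨Z₂, i₂, hZ₂, hmono₂, hci₂, hr₂, hred₂⟩ :=
      Groth.Agent.H53.RedInduced.exists_isRedInduced hZbar (closure (Set.range (Points.map h')))
        isClosed_closure
    obtain ⟨f₂, hf₂⟩ := Groth.Agent.H53.SchImageRed.exists_factor_of_isReducedSp hred h' i₂ hci₂
      (by rw [hr₂]; exact subset_closure)
    have : (RepWith (S := S) @IsClosedImmersion).IsMultiplicative := repWith_isMultiplicative _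
    have hci₃ : RepWith @IsClosedImmersion (i₂ ≫ c) := (RepWith @IsClosedImmersion).comp_mem _ _ hci₂ hci
    obtain ⟨k, hk⟩ := hc.2.2 (i₂ ≫ c) hZ₂ hci₃ ⟨f₂, by rw [← Category.assoc, hf₂, fac]⟩
    have hk' : k ≫ i₂ = 𝟙 Zbar := by
      rw [← cancel_mono c, Category.assoc, hk, Category.id_comp]
    rw [dense_iff_closure_eq, ← hr₂, Set.eq_univ_iff_forall]
    intro z
    exact ⟨Points.map k z, by rw [← Points.map_comp, hk', Points.map_id]⟩
  -- the chart
  obtain ⟨T, φ, hφe, hφs⟩ := hX.atlas
  have sqC := hci.rep.isPullback φ
  have hcC : IsClosedImmersion (hci.rep.snd φ).left := hci.property_snd φ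
  generalize hci.rep.fst φ = fstC at sqC
  generalize hci.rep.snd φ = cT at sqC hcC
  generalize hci.rep.pullback φ = C at fstC cT
  have sqZ := hh.rep.isPullback φ
  have hgi : IsImmersion (hh.rep.snd φ).left := hh.property_snd φ
  generalize hh.rep.fst φ = fstZ at sqZ
  generalize hh.rep.snd φ = gT at sqZ hgi
  generalize hh.rep.pullback φ = ZT at fstZ gT
  obtain ⟨u, hu'⟩ := (yon S).map_surjective
    (sqC.lift (fstZ ≫ h') ((yon S).map gT) (by rw [Category.assoc, fac, sqZ.w]))
  have hu1 : (yon S).map u ≫ fstC = fstZ ≫ h' := by rw [hu', sqC.lift_fst]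
  have hu : u ≫ cT = gT := by
    apply (yon S).map_injective
    rw [Functor.map_comp, hu', sqC.lift_snd]
  have hul : u.left ≫ cT.left = gT.left := congrArg (fun k => k.left) hu
  have sqT : IsPullback fstZ ((yon S).map u) h' fstC := by
    refine IsPullback.of_bot ?_ hu1.symm sqC
    rw [← Functor.map_comp, hu, fac]
    exact sqZ
  have hfe : RepWith @Etale fstC := MorphismProperty.of_isPullback sqC.flip hφe
  have hfs : RepWith @Surjective fstC := MorphismProperty.of_isPullback sqC.flip hφs
  have : Epi fstC := Groth.Agent.H52.epi_of_repWith_etale_surjective fstC hfe hfs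
  have hCred : IsReduced C.left := Groth.Agent.Lib.Helper54.isReduced_chart_of_etaleLocally hredbar fstC hfe
  have hui : IsImmersion u.left := by
    have : IsImmersion (u.left ≫ cT.left) := by rw [hul]; exact hgi
    exact IsImmersion.of_comp u.left cT.left
  have hud : DenseRange u.left := by
    change Dense (Set.range u.left)
    rw [Groth.Agent.H53.ResidualClosed.range_eq_preimage_range h' fstC fstZ u sqT]
    exact hdense.preimage (Groth.Agent.H52.isOpenMap_ofPt_of_etale fstC hfe)
  have huo : IsOpenImmersion u.left := isOpenImmersion_of_denseRange u.left hud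
  obtain ⟨ηW, sqW⟩ := exists_isPullback_overOpen h' fstC fstZ u sqT
  have hOI : RepWith @IsOpenImmersion h' :=
    Groth.Agent.Lib.Helper51.repWith_isOpenImmersion_of_isPullback_epi h' fstC _ ηW sqW
  exact ⟨hOI, ⟨hOI, C, fstC, u.left.opensRange, ηW, hfe, hfs, sqW,
    Groth.Agent.Lib.Helper18.isSchematicallyDense_of_dense _ hud⟩, hdense⟩

end Groth.Agent.H53.QcImage
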