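import Groth.Agent.H53.QcImageD
import Groth.Agent.H53.ProperImage
import Groth.Agent.H52.QC5
import Groth.Agent.H53.LocPCalc

set_option autoImplicit false
set_option backward.isDefEq.respectTransparency false
universe u
open CategoryTheory CategoryTheory.Limits AlgebraicGeometry Opposite Topology TopologicalSpace
open AlgSp

namespace Groth.Agent.H53.QcImage

variable {S : Scheme.{u}}

/-- The scheme theoretic image of a space proper over `B` in a space separated and locally of finite
type over `B` is proper over `B`, and the source surjects onto it. -/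
theorem isProperMor_schImage {X Y Z B : Sp S} (hX : IsAlgSpace X) (hY : IsAlgSpace Y)
    (hZ : IsAlgSpace Z) (hB : IsAlgSpace B) (h : X ⟶ Y) (f : X ⟶ B) (g : Y ⟶ B)
    (comm : h ≫ g = f) (hf : IsProperMor f) (hg : IsSeparatedMor g)
    (hg' : LocP @LocallyOfFiniteType g) (i : Z ⟶ Y) (hZi : IsSchImage h i) (h' : X ⟶ Z)
    (fac : h' ≫ i = h) :
    IsProperMor (i ≫ g) ∧ IsSurjectiveMor h' := by
  have hqs : IsQuasiSeparatedMor g :=
    MorphismProperty.relative_monotone (fun _ _ φ hφ => by
      have : IsClosedImmersion ((Over.forget S).map φ) := hφ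
      change QuasiCompact ((Over.forget S).map φ)
      infer_instance) _ hg
  have hhq : IsQuasiCompactMor h :=
    Groth.Agent.H52.isQuasiCompactMor_of_comp hX hY hB h g (by rw [comm]; exact hf.2.1.2) hqs
  obtain ⟨-, hdense⟩ := isSchImage_qc hX hY h hhq i hZi
  have hcl : IsClosed (Set.range (Points.map h)) := by
    have := (Groth.Agent.H53.ProperImage.exists_proper_image hY hB hX f g h comm hg' hg (𝟙 X)
      (by rw [Category.id_comp]; exact hf)).1
    rwa [Set.range_eq_univ.2 (fun x => ⟨x, Points.map_id x⟩), Set.image_univ] at this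
  have hci := hZi.1
  have hsurj : Function.Surjective (Points.map h') := by
    intro z
    have hz : Points.map i z ∈ Set.range (Points.map h) := by
      rw [← hcl.closure_eq]
      exact hdense ⟨z, rfl⟩
    obtain ⟨x, hx⟩ := hz
    refine ⟨x, ?_⟩
    apply Groth.Agent.H53.ProperImage.injective_points_of_repWith_isClosedImmersion i hci
    rw [← Points.map_comp, fac, hx]
  have : Mono i := Groth.Agent.H53.SchImageRed.mono_of_repWith_isClosedImmersion i hci
  have hsep : IsSeparatedMor (i ≫ g) :=
    Groth.Agent.H52.repWith_diagonal_comp @IsClosedImmersion _ _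
      (Groth.Agent.H52.isSeparatedMor_of_repWith_mono _) hg
  have hlft : LocP @LocallyOfFiniteType (i ≫ g) :=
    Groth.Agent.H53.locP_comp Groth.Agent.H53.locPCalc_locallyOfFiniteType hZ hY hB i g
      (Groth.Agent.H53.ProperImage.locP_lft_of_repWith_isClosedImmersion i hci) hg'
  refine ⟨Groth.Agent.H53.ProperImage.isProperMor_of_surjective_triangle hZ hB h' (i ≫ g) hsurj hsep hlft
    (by rw [← Category.assoc, fac, comm]; exact hf), hsurj⟩

end Groth.Agent.H53.QcImage
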