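import Groth.Agent.H53.SchImageRed
import Groth.Agent.H53.ResidualClosed
import Groth.Agent.H53.SpTop
import Groth.Agent.Lib.Helper54.LocalST
import Groth.Agent.Lib.Helper54.Transfer
import Groth.Agent.Lib.Helper54.Reduced

set_option autoImplicit false
set_option backward.isDefEq.respectTransparency false
universe u
open CategoryTheory CategoryTheory.Limits AlgebraicGeometry Opposite Topology TopologicalSpace
open AlgSp

namespace Groth.Agent.H53.RedImageBC

variable {S : Scheme.{u}}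

/-- An étale morphism of algebraic spaces is open on points. -/
theorem isOpenMap_points_of_isEtaleMor {V Y : Sp S} (hV : IsAlgSpace V) (b : V ⟶ Y)
    (hb : IsEtaleMor b) : IsOpenMap (Points.map b) := by
  obtain ⟨U, p, hpe, hps⟩ := hV.atlas
  intro O hO
  have hsurj := Groth.Agent.H52.surjective_points_of_repWith_surjective p hps
  have : Points.map b '' O = Points.ofPt (p ≫ b) '' (Points.ofPt p ⁻¹' O) := by
    ext y
    constructor
    · rintro ⟨v, hv, rfl⟩
      obtain ⟨x, rfl⟩ := hsurj v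
      obtain ⟨u, rfl⟩ := Groth.Agent.Lib.Helper54.exists_ofScheme_eq U x
      refine ⟨u, ?_, ?_⟩
      · change Points.ofPt p u ∈ O
        rw [Points.ofPt_eq_map_ofScheme]
        exact hv
      · rw [← Points.map_ofPt, Points.ofPt_eq_map_ofScheme]
    · rintro ⟨u, hu, rfl⟩
      exact ⟨Points.ofPt p u, hu, Points.map_ofPt _ _ _⟩
  rw [this]
  exact Groth.Agent.H53.isOpenMap_ofPt_of_etale (p ≫ b) (hb p hpe) _
    (hO.preimage (Points.continuous_ofPt p))

/-- Etale base change of the scheme theoretic image of a morphism from a reduced space. -/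
theorem isSchImage_etale_base_change_of_reduced {X Y Z V XV ZV : Sp S} (hY : IsAlgSpace Y)
    (hV : IsAlgSpace V) (hZV : IsAlgSpace ZV) (f : X ⟶ Y) (i : Z ⟶ Y)
    (hX : IsReducedSp X) (hZi : IsSchImage f i) (b : V ⟶ Y) (hb : IsEtaleMor b) (f₁ : XV ⟶ X)
    (fV : XV ⟶ V) (i₁ : ZV ⟶ Z) (iV : ZV ⟶ V) (sqX : IsPullback f₁ fV f b)
    (sqZ : IsPullback i₁ iV i b) : IsSchImage fV iV := by
  obtain ⟨hci, hri, hZred⟩ := Groth.Agent.H53.SchImageRed.isRedInduced_of_isSchImage hY f i hX hZi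
  obtain ⟨-, ⟨f', hf'⟩, -⟩ := hZi
  have hi₁ : LocP @Etale i₁ :=
    Groth.Agent.Lib.Helper54.locP_of_isPullback_of_isAlgSpace Groth.Agent.Lib.Helper54.etLocal_etale
      hV hY sqZ.flip (Groth.Agent.Lib.Helper54.locP_etale_of_isEtaleMor hb)
  have hZVred : IsReducedSp ZV :=
    Groth.Agent.Lib.Helper54.etaleLocally_of_locP
      (fun _ _ k (_ : Etale k) (_ : IsReduced _) =>
        Groth.Agent.Lib.Helper54.isReduced_of_etale_scheme k) hZV i₁ hi₁ hZred
  have hciV : RepWith @IsClosedImmersion iV := MorphismProperty.of_isPullback sqZ hci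
  refine ⟨hciV, ⟨sqZ.lift (f₁ ≫ f') fV (by rw [Category.assoc, hf', sqX.w]), sqZ.lift_snd _ _ _⟩, ?_⟩
  rintro Z' i' hZ' hi' ⟨f'', hf''⟩
  apply Groth.Agent.H53.SchImageRed.exists_factor_of_isReducedSp hZVred iV i' hi'
  have hcl : IsClosed (Set.range (Points.map i')) :=
    Groth.Agent.H53.ResidualClosed.isClosed_range_of_repWith_isClosedImmersion hV i' hi'
  have h1 : closure (Set.range (Points.map fV)) ⊆ Set.range (Points.map i') := by
    refine closure_minimal ?_ hcl
    rintro _ ⟨x, rfl⟩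
    exact ⟨Points.map f'' x, by rw [← Points.map_comp, hf'']⟩
  refine subset_trans ?_ h1
  rintro _ ⟨zv, rfl⟩
  rw [mem_closure_iff]
  intro O hO hzO
  have hbo := isOpenMap_points_of_isEtaleMor hV b hb O hO
  have hmem : Points.map b (Points.map iV zv) ∈ closure (Set.range (Points.map f)) := by
    rw [← hri, ← Points.map_comp, ← sqZ.w, Points.map_comp]
    exact ⟨_, rfl⟩
  obtain ⟨y, ⟨v', hv'O, rfl⟩, ⟨x, hx⟩⟩ := mem_closure_iff.1 hmem _ hbo ⟨_, hzO, rfl⟩
  obtain ⟨p, -, hp2⟩ := Groth.Agent.H52.exists_point_of_isPullback sqX x v' hx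
  exact ⟨v', hv'O, ⟨p, hp2⟩⟩

end Groth.Agent.H53.RedImageBC
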