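import Groth.Agent.H53.DimIneq3
import Groth.Agent.H53.CodimOneQF

set_option autoImplicit false
set_option backward.isDefEq.respectTransparency false
universe u
open CategoryTheory CategoryTheory.Limits AlgebraicGeometry Opposite Topology

namespace Groth.Agent.H53.CodimQF

/-- Transport of algebraicity of the residue field extension of `h` at `u₀` to affine charts. -/
theorem isAlgebraic_residueField_of_scheme {U V : Scheme.{u}} (h : U ⟶ V) (u₀ : U)
    {V₀ : V.Opens} (hV₀ : IsAffineOpen V₀) {U₀ : U.Opens} (hU₀ : IsAffineOpen U₀)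
    (hle : U₀ ≤ h ⁻¹ᵁ V₀) (hu₀ : u₀ ∈ U₀)
    (halg : letI := (h.residueFieldMap u₀).hom.toAlgebra
      Algebra.IsAlgebraic (V.residueField (h u₀)) (U.residueField u₀)) :
    letI := (h.appLE V₀ U₀ hle).hom.toAlgebra
    letI : (hU₀.primeIdealOf ⟨u₀, hu₀⟩).asIdeal.LiesOver
        (hV₀.primeIdealOf ⟨h u₀, hle hu₀⟩).asIdeal :=
      ⟨congrArg PrimeSpectrum.asIdeal
        (IsAffineOpen.comap_primeIdealOf_appLE V₀ hV₀ U₀ hU₀ hle hu₀).symm⟩
    letI := Localization.AtPrime.algebraOfLiesOver (hV₀.primeIdealOf ⟨h u₀, hle hu₀⟩).asIdeal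
      (hU₀.primeIdealOf ⟨u₀, hu₀⟩).asIdeal
    Algebra.IsAlgebraic (hV₀.primeIdealOf ⟨h u₀, hle hu₀⟩).asIdeal.ResidueField
      (hU₀.primeIdealOf ⟨u₀, hu₀⟩).asIdeal.ResidueField := by
  letI := (h.appLE V₀ U₀ hle).hom.toAlgebra
  letI : (hU₀.primeIdealOf ⟨u₀, hu₀⟩).asIdeal.LiesOver
      (hV₀.primeIdealOf ⟨h u₀, hle hu₀⟩).asIdeal :=
    ⟨congrArg PrimeSpectrum.asIdeal
      (IsAffineOpen.comap_primeIdealOf_appLE V₀ hV₀ U₀ hU₀ hle hu₀).symm⟩
  letI := Localization.AtPrime.algebraOfLiesOver (hV₀.primeIdealOf ⟨h u₀, hle hu₀⟩).asIdeal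
    (hU₀.primeIdealOf ⟨u₀, hu₀⟩).asIdeal
  letI := (h.residueFieldMap u₀).hom.toAlgebra
  have halg' : Algebra.IsAlgebraic (V.residueField (h u₀)) (U.residueField u₀) := halg
  let e := IsAffineOpen.arrowStalkMapIso h V₀ hV₀ U₀ hU₀ hle hu₀
  have hw := e.hom.w
  let fL : V.presheaf.stalk (h u₀) →+* Localization.AtPrime (hV₀.primeIdealOf ⟨h u₀, hle hu₀⟩).asIdeal :=
    e.hom.left.hom
  let gR : U.presheaf.stalk u₀ →+* Localization.AtPrime (hU₀.primeIdealOf ⟨u₀, hu₀⟩).asIdeal :=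
    e.hom.right.hom
  haveI : IsLocalHom fL := isLocalHom_of_isIso e.hom.left
  haveI : IsLocalHom gR := isLocalHom_of_isIso e.hom.right
  let f := IsLocalRing.ResidueField.map fL
  let g := IsLocalRing.ResidueField.map gR
  refine Algebra.IsAlgebraic.ringHom_of_comp_eq (R := V.residueField (h u₀))
    (A := U.residueField u₀) f g f.injective ?_ ?_
  · intro y
    obtain ⟨y', rfl⟩ := IsLocalRing.residue_surjective y
    have hs : Function.Surjective gR := (ConcreteCategory.bijective_of_isIso e.hom.right).2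
    obtain ⟨t, rfl⟩ := hs y'
    exact ⟨IsLocalRing.residue _ t, IsLocalRing.ResidueField.map_residue _ _⟩
  · ext x
    obtain ⟨x, rfl⟩ := IsLocalRing.residue_surjective x
    have hw' : gR ((h.stalkMap u₀).hom x) = (algebraMap (Localization.AtPrime (hV₀.primeIdealOf ⟨h u₀, hle hu₀⟩).asIdeal)
        (Localization.AtPrime (hU₀.primeIdealOf ⟨u₀, hu₀⟩).asIdeal)) (fL x) := by
      have := congrArg (fun k => k.hom x) hw
      exact this.symm
    change (algebraMap (hV₀.primeIdealOf ⟨h u₀, hle hu₀⟩).asIdeal.ResidueField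
      (hU₀.primeIdealOf ⟨u₀, hu₀⟩).asIdeal.ResidueField) (f (IsLocalRing.residue _ x)) =
      g ((h.residueFieldMap u₀).hom (IsLocalRing.residue _ x))
    have h1 : f (IsLocalRing.residue _ x) = IsLocalRing.residue _ (fL x) :=
      IsLocalRing.ResidueField.map_residue _ _
    have h2 : (h.residueFieldMap u₀).hom (IsLocalRing.residue _ x) =
        IsLocalRing.residue _ ((h.stalkMap u₀).hom x) :=
      IsLocalRing.ResidueField.map_residue _ _
    rw [h1, h2]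
    have h3 : g (IsLocalRing.residue _ ((h.stalkMap u₀).hom x)) =
        IsLocalRing.residue _ (gR ((h.stalkMap u₀).hom x)) :=
      IsLocalRing.ResidueField.map_residue _ _
    rw [h3, hw']
    rfl

/-- Scheme level: quasi-finiteness over a point of codimension at most one, from algebraicity of the
residue field extensions at the relevant codimension zero points. -/
theorem quasiFiniteAt_of_codim_le_one_of_isAlgebraic {U V : Scheme.{u}} (h : U ⟶ V)
    [LocallyOfFiniteType h] [IsLocallyNoetherian V] (v : V)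
    (hv : ringKrullDim (V.presheaf.stalk v) ≤ 1)
    (H : ∀ u₀ : U, ringKrullDim (U.presheaf.stalk u₀) = 0 → h u₀ ⤳ v →
      letI := (h.residueFieldMap u₀).hom.toAlgebra
      Algebra.IsAlgebraic (V.residueField (h u₀)) (U.residueField u₀))
    (u : U) (hu : h u = v) : h.QuasiFiniteAt u := by
  apply quasiFiniteAt_of_fibre_no_specialization h v _ u hu
  intro u' u'' hu' hu'' hs
  obtain ⟨u₀, hu₀, hdim₀⟩ := exists_generalization_dim_zero U u'
  have hsp₀ : h u₀ ⤳ v := by rw [← hu']; exact hu₀.map h.continuous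
  have halg₀ := H u₀ hdim₀ hsp₀
  obtain ⟨V₀, hV₀, hvV₀, -⟩ := exists_isAffineOpen_mem_and_subset (X := V) (x := h u'')
    (U := ⊤) trivial
  obtain ⟨U₀, hU₀, huU₀, hle⟩ := exists_isAffineOpen_mem_and_subset (X := U) (x := u'')
    (U := h ⁻¹ᵁ V₀) hvV₀
  have hu'U₀ : u' ∈ U₀ := hs.mem_open U₀.2 huU₀
  have hu₀U₀ : u₀ ∈ U₀ := hu₀.mem_open U₀.2 hu'U₀
  have hft : (h.appLE V₀ U₀ hle).hom.FiniteType := h.finiteType_appLE hV₀ hU₀ hle
  have halgR := isAlgebraic_residueField_of_scheme h u₀ hV₀ hU₀ hle hu₀U₀ halg₀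
  algebraize [(h.appLE V₀ U₀ hle).hom]
  haveI : IsNoetherianRing Γ(V, V₀) := IsLocallyNoetherian.component_noetherian ⟨V₀, hV₀⟩
  have hle₀ := primeIdealOf_le_of_specializes hU₀ hu₀U₀ hu'U₀ hu₀
  have hle₁ := primeIdealOf_le_of_specializes hU₀ hu'U₀ huU₀ hs
  haveI : (hU₀.primeIdealOf ⟨u₀, hu₀U₀⟩).asIdeal.LiesOver
      (hV₀.primeIdealOf ⟨h u₀, hle hu₀U₀⟩).asIdeal :=
    ⟨congrArg PrimeSpectrum.asIdeal
      (IsAffineOpen.comap_primeIdealOf_appLE V₀ hV₀ U₀ hU₀ hle hu₀U₀).symm⟩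
  letI := Localization.AtPrime.algebraOfLiesOver (hV₀.primeIdealOf ⟨h u₀, hle hu₀U₀⟩).asIdeal
    (hU₀.primeIdealOf ⟨u₀, hu₀U₀⟩).asIdeal
  haveI : Algebra.IsAlgebraic (hV₀.primeIdealOf ⟨h u₀, hle hu₀U₀⟩).asIdeal.ResidueField
      (hU₀.primeIdealOf ⟨u₀, hu₀U₀⟩).asIdeal.ResidueField := halgR
  haveI : Algebra.IsAlgebraic (Γ(V, V₀) ⧸ (hV₀.primeIdealOf ⟨h u₀, hle hu₀U₀⟩).asIdeal)
      (Γ(U, U₀) ⧸ (hU₀.primeIdealOf ⟨u₀, hu₀U₀⟩).asIdeal) :=
    DimIneq.isAlgebraic_quotient_of_residueField _ _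
  have hunder : ∀ (z : U) (hz : z ∈ U₀), (hU₀.primeIdealOf ⟨z, hz⟩).asIdeal.under Γ(V, V₀) =
      (hV₀.primeIdealOf ⟨h z, hle hz⟩).asIdeal := fun z hz =>
    congrArg PrimeSpectrum.asIdeal (IsAffineOpen.comap_primeIdealOf_appLE V₀ hV₀ U₀ hU₀ hle hz)
  have hht : ((hU₀.primeIdealOf ⟨u'', huU₀⟩).asIdeal.under Γ(V, V₀)).height ≤ 1 := by
    rw [hunder]
    let _ := V.presheaf.algebra_section_stalk ⟨h u'', hle huU₀⟩
    have := hV₀.isLocalization_stalk ⟨h u'', hle huU₀⟩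
    have e := IsLocalization.AtPrime.ringKrullDim_eq_height
      (hV₀.primeIdealOf ⟨h u'', hle huU₀⟩).asIdeal (V.presheaf.stalk (h u''))
    have hv' : ringKrullDim (V.presheaf.stalk (h u'')) ≤ 1 := by rw [hu'']; exact hv
    rw [e] at hv'
    exact_mod_cast hv'
  have hueq : (hU₀.primeIdealOf ⟨u', hu'U₀⟩).asIdeal.under Γ(V, V₀) =
      (hU₀.primeIdealOf ⟨u'', huU₀⟩).asIdeal.under Γ(V, V₀) := by
    rw [hunder, hunder]
    have : h u' = h u'' := by rw [hu', hu'']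
    congr 3
  have he := DimIneq.eq_of_le_of_le_of_isAlgebraic (A := Γ(V, V₀))
    (hV₀.primeIdealOf ⟨h u₀, hle hu₀U₀⟩).asIdeal _ _ _ hle₀ hle₁ hueq hht
  exact eq_of_primeIdealOf_asIdeal_eq hU₀ hu'U₀ huU₀ he

end Groth.Agent.H53.CodimQF
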