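import Groth.Agent.H53.EffCart3
import Groth.Agent.Lib.Helper69.SchDenseFibre
import Groth.Agent.H52.QC

set_option autoImplicit false
set_option backward.isDefEq.respectTransparency false
universe u
open CategoryTheory CategoryTheory.Limits AlgebraicGeometry Opposite Topology TopologicalSpace
open AlgSp

namespace Groth.Agent.H53.SchDenseFlat

/-- The preimage of a quasi-compact schematically dense open under a flat morphism is
schematically dense. -/
theorem isSchematicallyDense_preimage_of_flat {T V : Scheme.{u}} (h : T ⟶ V) [Flat h]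
    (W : V.Opens) [QuasiCompact W.ι] (hW : CInt.IsSchematicallyDense W) :
    CInt.IsSchematicallyDense (h ⁻¹ᵁ W) := by
  have h1 : IsSchemeTheoreticallyDominant W.ι :=
    Groth.Agent.Lib.Helper69.isSchemeTheoreticallyDominant_of_isSchematicallyDense W hW
  have sq := isPullback_morphismRestrict h W
  have h2 : IsSchemeTheoreticallyDominant (h ⁻¹ᵁ W).ι :=
    IsSchemeTheoreticallyDominant.of_isPullback sq
  have h3 : QuasiCompact (h ⁻¹ᵁ W).ι := MorphismProperty.of_isPullback (P := @QuasiCompact) sq inferInstance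
  exact Groth.Agent.Lib.Helper69.isSchematicallyDense_of_isSchemeTheoreticallyDominant (h ⁻¹ᵁ W)

variable {S : Scheme.{u}}

/-- The preimage of an open subscheme is the pullback, as representable sheaves. -/
theorem exists_isPullback_preimage {V U : Over S} (h : U ⟶ V) (W : V.left.Opens) :
    ∃ k : Groth.Agent.H52.overOpen U (h.left ⁻¹ᵁ W) ⟶ Groth.Agent.H52.overOpen V W,
      IsPullback ((yon S).map k) ((yon S).map (Groth.Agent.H52.overOpenι U (h.left ⁻¹ᵁ W)))
        ((yon S).map (Groth.Agent.H52.overOpenι V W)) ((yon S).map h) := by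
  have hk0 : (h.left ∣_ W) ≫ W.ι = (h.left ⁻¹ᵁ W).ι ≫ h.left := morphismRestrict_ι h.left W
  let k : Groth.Agent.H52.overOpen U (h.left ⁻¹ᵁ W) ⟶ Groth.Agent.H52.overOpen V W :=
    Over.homMk (h.left ∣_ W) (by
      change (h.left ∣_ W) ≫ W.ι ≫ V.hom = (h.left ⁻¹ᵁ W).ι ≫ U.hom
      rw [← Category.assoc, hk0, Category.assoc, Over.w h])
  have hw : k ≫ Groth.Agent.H52.overOpenι V W =
      Groth.Agent.H52.overOpenι U (h.left ⁻¹ᵁ W) ≫ h := by
    apply Over.OverMorphism.ext
    exact hk0
  refine ⟨k, Groth.Agent.Lib.Helper54.isPullback_yon_of_isPullback_left hw ?_⟩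
  exact isPullback_morphismRestrict h.left W

/-- Transport of the chart square of an open subspace along a morphism of charts. -/
theorem exists_isPullback_preimage_chart {Y G : Sp S} (j : G ⟶ Y) {V U : Over S}
    (φ : (yon S).obj V ⟶ Y) (W : V.left.Opens)
    (fstG : (yon S).obj (Groth.Agent.H52.overOpen V W) ⟶ G)
    (sq : IsPullback fstG ((yon S).map (Groth.Agent.H52.overOpenι V W)) j φ) (h : U ⟶ V) :
    ∃ fst' : (yon S).obj (Groth.Agent.H52.overOpen U (h.left ⁻¹ᵁ W)) ⟶ G,
      IsPullback fst' ((yon S).map (Groth.Agent.H52.overOpenι U (h.left ⁻¹ᵁ W))) j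
        ((yon S).map h ≫ φ) := by
  obtain ⟨k, hk⟩ := exists_isPullback_preimage h W
  exact ⟨(yon S).map k ≫ fstG, hk.paste_horiz sq⟩

/-- The inverse image of a quasi-compact scheme theoretically dense open subspace under a flat
morphism is scheme theoretically dense. -/
theorem isSchDense_preimage_of_flat {X Y G G' : Sp S} (hX : IsAlgSpace X) (f : X ⟶ Y)
    (hf : LocP @Flat f) (j : G ⟶ Y) (hj : IsSchDense j) (hjq : IsQuasiCompactMor j)
    (fst : G' ⟶ G) (jX : G' ⟶ X) (sq : IsPullback fst jX j f) : IsSchDense jX := by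
  obtain ⟨hjo, V, φ, W, fstG, hφe, hφs, sqG, hW⟩ := hj
  have hqc : QuasiCompact W.ι :=
    (Groth.Agent.H52.repWith_quasiCompact_of_isQuasiCompactMor j hjo.rep hjq).property φ fstG
      (Groth.Agent.H52.overOpenι V W) sqG
  obtain ⟨U₀, p, hpe, hps⟩ := hX.atlas
  obtain ⟨U₁, a, h, ha, sqc, hrep⟩ := Groth.Agent.Lib.Helper54.exists_chart_square f p hpe φ hφe
  have hsurj := Groth.Agent.Lib.Helper54.repWith_surjective_of_chart_square hps hφs sqc
  have hflat : Flat h.left := Groth.Agent.Lib.Helper54.locP_of_chart_square hf hφe sqc hrep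
  obtain ⟨fst', sq'⟩ := exists_isPullback_preimage_chart j φ W fstG sqG h
  have hcomm : ((yon S).map a ≫ p) ≫ f = (yon S).map h ≫ φ := by
    rw [Category.assoc]; exact sqc.w
  refine ⟨MorphismProperty.of_isPullback sq hjo, U₁, (yon S).map a ≫ p, h.left ⁻¹ᵁ W,
    sq.lift fst' ((yon S).map (Groth.Agent.H52.overOpenι U₁ (h.left ⁻¹ᵁ W)) ≫ (yon S).map a ≫ p)
      (by rw [sq'.w, Category.assoc, hcomm]), hrep, hsurj, ?_,
    isSchematicallyDense_preimage_of_flat h.left W hW⟩
  refine IsPullback.of_right ?_ (sq.lift_snd _ _ _) sq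
  rw [sq.lift_fst, hcomm]
  exact sq'

end Groth.Agent.H53.SchDenseFlat
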