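import Groth.Agent.H53.RedInduced
import Groth.Agent.Lib.Helper54.ReducedFactor

set_option autoImplicit false
set_option backward.isDefEq.respectTransparency false
universe u
open CategoryTheory CategoryTheory.Limits AlgebraicGeometry Opposite Topology TopologicalSpace
open AlgSp

namespace Groth.Agent.H53.SchImageRed

variable {S : Scheme.{u}}

theorem mono_of_repWith_isClosedImmersion {Z Y : Sp S} (i : Z ⟶ Y)
    (hi : RepWith @IsClosedImmersion i) : Mono i :=
  Groth.Agent.H52.mono_of_repWith i @IsClosedImmersion (fun A B g hg => by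
    have : IsClosedImmersion g := hg
    infer_instance) hi

/-- A morphism from a reduced scheme whose image lies in a closed subspace factors through it. -/
theorem exists_factor_of_reduced_scheme {Z Y : Sp S} (i : Z ⟶ Y)
    (hi : RepWith @IsClosedImmersion i) {W : Over S} [IsReduced W.left]
    (g : (yon S).obj W ⟶ Y) (hg : ∀ w, Points.ofPt g w ∈ Set.range (Points.map i)) :
    ∃ k : (yon S).obj W ⟶ Z, k ≫ i = g := by
  have sq := hi.rep.isPullback g
  have hci : IsClosedImmersion (hi.rep.snd g).left := hi.property_snd g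
  have hr := Groth.Agent.H53.ResidualClosed.range_eq_preimage_range i g _ _ sq
  have hsurj : Surjective (hi.rep.snd g).left := ⟨fun w => by
    have : w ∈ Set.range (hi.rep.snd g).left := by rw [hr]; exact hg w
    exact this⟩
  have hiso : IsIso (hi.rep.snd g).left := isIso_of_isClosedImmersion_of_surjective _
  have hiso'' : IsIso ((Over.forget S).map (hi.rep.snd g)) := hiso
  have hiso' : IsIso (hi.rep.snd g) := isIso_of_reflects_iso _ (Over.forget S)
  refine ⟨inv ((yon S).map (hi.rep.snd g)) ≫ hi.rep.fst g, ?_⟩
  rw [Category.assoc, sq.w, IsIso.inv_hom_id_assoc]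

/-- A morphism from a reduced space whose image lies in a closed subspace factors through it. -/
theorem exists_factor_of_isReducedSp {A Z Y : Sp S} (hA : IsReducedSp A) (h : A ⟶ Y) (i : Z ⟶ Y)
    (hi : RepWith @IsClosedImmersion i)
    (hr : Set.range (Points.map h) ⊆ Set.range (Points.map i)) : ∃ k : A ⟶ Z, k ≫ i = h := by
  obtain ⟨W, e, hee, hes, hW⟩ := hA
  have : IsReduced W.left := hW
  have : Mono i := mono_of_repWith_isClosedImmersion i hi
  have : Epi e := Groth.Agent.H52.epi_of_repWith_etale_surjective e hee hes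
  obtain ⟨g', hg'⟩ := exists_factor_of_reduced_scheme i hi (e ≫ h) (fun w => by
    apply hr
    rw [← Points.map_ofPt]
    exact ⟨_, rfl⟩)
  exact Groth.Agent.Lib.Helper54.exists_factor_mono_of_epi i h e g' hg'

/-- The scheme theoretic image of a morphism from a reduced space is the reduced induced closed
subspace on the closure of the image. -/
theorem isRedInduced_of_isSchImage {X Y Z : Sp S} (hY : IsAlgSpace Y)
    (f : X ⟶ Y) (i : Z ⟶ Y) (hX : IsReducedSp X) (hZ : IsSchImage f i) :
    IsRedInduced (closure (Set.range (Points.map f))) i := by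
  obtain ⟨hci, ⟨f', hf'⟩, hmin⟩ := hZ
  obtain ⟨ZT, iT, hZT, hmonoT, hciT, hrT, hredT⟩ :=
    Groth.Agent.H53.RedInduced.exists_isRedInduced hY (closure (Set.range (Points.map f)))
      isClosed_closure
  have : Mono i := mono_of_repWith_isClosedImmersion i hci
  obtain ⟨f'', hf''⟩ := exists_factor_of_isReducedSp hX f iT hciT (by rw [hrT]; exact subset_closure)
  obtain ⟨k, hk⟩ := hmin iT hZT hciT ⟨f'', hf''⟩
  have hri : Set.range (Points.map i) = closure (Set.range (Points.map f)) := by
    apply subset_antisymm
    · rw [← hrT, ← hk]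
      rintro _ ⟨z, rfl⟩
      exact ⟨Points.map k z, (Points.map_comp k iT z).symm⟩
    · refine closure_minimal ?_
        (Groth.Agent.H53.ResidualClosed.isClosed_range_of_repWith_isClosedImmersion hY i hci)
      rw [← hf']
      rintro _ ⟨x, rfl⟩
      exact ⟨Points.map f' x, (Points.map_comp f' i x).symm⟩
  obtain ⟨l, hl⟩ := exists_factor_of_isReducedSp hredT iT i hci (by rw [hrT, hri])
  have hlk : l ≫ k = 𝟙 ZT := by
    rw [← cancel_mono iT, Category.assoc, hk, hl, Category.id_comp]
  have hkl : k ≫ l = 𝟙 Z := by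
    rw [← cancel_mono i, Category.assoc, hl, hk, Category.id_comp]
  have hliso : IsIso l := ⟨k, hlk, hkl⟩
  refine ⟨hci, hri, ?_⟩
  obtain ⟨W, e, hee, hes, hW⟩ := hredT
  exact ⟨W, e ≫ l, MorphismProperty.comp_mem _ _ _ hee (Groth.Agent.H52.repWith_of_isIso _ l),
    MorphismProperty.comp_mem _ _ _ hes (Groth.Agent.H52.repWith_of_isIso _ l), hW⟩

end Groth.Agent.H53.SchImageRed
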