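import Groth.Agent.H53.ProperSupport
import Groth.Agent.Lib.Helper66.UnivClosedQC
import Groth.Agent.H52.QC5
import Groth.Agent.H52.QC2
import Groth.Agent.H52.DiagSp2

set_option autoImplicit false
set_option backward.isDefEq.respectTransparency false
universe u
open CategoryTheory CategoryTheory.Limits AlgebraicGeometry Opposite Topology TopologicalSpace
open AlgSp

namespace Groth.Agent.H53.SepDescend

variable {S : Scheme.{u}}

section
variable {A B Y : Sp S} (k : A ⟶ B) (q : B ⟶ Y)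

/-- First partial product map. -/
noncomputable abbrev l₁ : pullback (k ≫ q) (k ≫ q) ⟶ pullback q (k ≫ q) :=
  pullback.map (k ≫ q) (k ≫ q) q (k ≫ q) k (𝟙 A) (𝟙 Y) (by simp) (by simp)

/-- Second partial product map. -/
noncomputable abbrev l₂ : pullback q (k ≫ q) ⟶ pullback q q :=
  pullback.map q (k ≫ q) q q (𝟙 B) k (𝟙 Y) (by simp) (by simp)

theorem sq₁ : IsPullback (l₁ k q) (pullback.fst (k ≫ q) (k ≫ q)) (pullback.fst q (k ≫ q)) k := by
  refine IsPullback.of_right (h₁₂ := pullback.snd q (k ≫ q)) (h₂₂ := q) (v₁₃ := k ≫ q) ?_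
    (by simp [l₁]) (IsPullback.of_hasPullback q (k ≫ q)).flip
  have : l₁ k q ≫ pullback.snd q (k ≫ q) = pullback.snd (k ≫ q) (k ≫ q) := by simp [l₁]
  rw [this]
  exact (IsPullback.of_hasPullback (k ≫ q) (k ≫ q)).flip

theorem sq₂ : IsPullback (l₂ k q) (pullback.snd q (k ≫ q)) (pullback.snd q q) k := by
  refine IsPullback.of_right (h₁₂ := pullback.fst q q) (h₂₂ := q) (v₁₃ := q) ?_
    (by simp [l₂]) (IsPullback.of_hasPullback q q)
  have : l₂ k q ≫ pullback.fst q q = pullback.fst q (k ≫ q) := by simp [l₂]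
  rw [this]
  exact IsPullback.of_hasPullback q (k ≫ q)

theorem diag_eq : k ≫ pullback.diagonal q = pullback.diagonal (k ≫ q) ≫ l₁ k q ≫ l₂ k q := by
  apply pullback.hom_ext <;> simp [l₁, l₂]

end

/-- If `k : A ⟶ B` is surjective and universally closed and `A ⟶ Y` is separated, then `B ⟶ Y` is
separated. -/
theorem isSeparatedMor_of_surjective_univClosed {A B Y : Sp S} (hA : IsAlgSpace A)
    (hB : IsAlgSpace B) (hY : IsAlgSpace Y)
    (k : A ⟶ B) (q : B ⟶ Y) (hk : IsUnivClosedMor k)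
    (hks : Function.Surjective (Points.map k)) (hs : IsSeparatedMor (k ≫ q)) :
    IsSeparatedMor q := by
  rw [Groth.Agent.H53.isSeparatedMor_iff_isUnivClosedMor_diagonal hB q]
  have hP1 : IsAlgSpace (pullback q (k ≫ q)) :=
    H52.isAlgSpace_of_isPullback (IsPullback.of_hasPullback q (k ≫ q)) hB hY hA
  have hP2 : IsAlgSpace (pullback q q) :=
    H52.isAlgSpace_of_isPullback (IsPullback.of_hasPullback q q) hB hY hB
  have h1 : IsUnivClosedMor (l₁ k q) := Groth.Agent.H53.univSp_of_isPullback _ (sq₁ k q).flip hk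
  have h2 : IsUnivClosedMor (l₂ k q) := Groth.Agent.H53.univSp_of_isPullback _ (sq₂ k q).flip hk
  have h0 : IsUnivClosedMor (pullback.diagonal (k ≫ q)) :=
    Groth.Agent.H53.isUnivClosedMor_of_repWith_isClosedImmersion _ hs
  have h12 : IsUnivClosedMor (l₁ k q ≫ l₂ k q) :=
    Groth.Agent.H53.isUnivClosedMor_comp hP1 hP2 _ _ h1 h2
  have h3 : IsUnivClosedMor (pullback.diagonal (k ≫ q) ≫ l₁ k q ≫ l₂ k q) :=
    Groth.Agent.H53.isUnivClosedMor_comp
      (H52.isAlgSpace_of_isPullback (IsPullback.of_hasPullback (k ≫ q) (k ≫ q)) hA hY hA) hP2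
      _ _ h0 h12
  apply Groth.Agent.H53.isUnivClosedMor_of_surjective_triangle k _ hks
  rw [diag_eq]
  exact h3

/-- If `k : A ⟶ B` is surjective and universally closed and `A ⟶ Y` is quasi-separated, then
`B ⟶ Y` is quasi-separated. -/
theorem isQuasiSeparatedMor_of_surjective_univClosed {A B Y : Sp S} (hA : IsAlgSpace A)
    (hB : IsAlgSpace B) (hY : IsAlgSpace Y)
    (k : A ⟶ B) (q : B ⟶ Y) (hk : IsUnivClosedMor k)
    (hks : Function.Surjective (Points.map k)) (hs : IsQuasiSeparatedMor (k ≫ q)) :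
    IsQuasiSeparatedMor q := by
  have hP0 : IsAlgSpace (pullback (k ≫ q) (k ≫ q)) :=
    H52.isAlgSpace_of_isPullback (IsPullback.of_hasPullback (k ≫ q) (k ≫ q)) hA hY hA
  have hP1 : IsAlgSpace (pullback q (k ≫ q)) :=
    H52.isAlgSpace_of_isPullback (IsPullback.of_hasPullback q (k ≫ q)) hB hY hA
  have hP2 : IsAlgSpace (pullback q q) :=
    H52.isAlgSpace_of_isPullback (IsPullback.of_hasPullback q q) hB hY hB
  have hkq : IsQuasiCompactMor k := Lib.Helper66.UnivClosedQC.isQuasiCompactMor_of_isUnivClosedMor hA hB k hk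
  have h1 : IsQuasiCompactMor (l₁ k q) := H52.isQuasiCompactMor_of_isPullback (sq₁ k q).flip hkq
  have h2 : IsQuasiCompactMor (l₂ k q) := H52.isQuasiCompactMor_of_isPullback (sq₂ k q).flip hkq
  have h0 : IsQuasiCompactMor (pullback.diagonal (k ≫ q)) :=
    H52.isQuasiCompactMor_of_repWith_quasiCompact _ hs
  have h12 : IsQuasiCompactMor (l₁ k q ≫ l₂ k q) := H52.isQuasiCompactMor_comp hP1 hP2 _ _ h1 h2
  have h3 : IsQuasiCompactMor (pullback.diagonal (k ≫ q) ≫ l₁ k q ≫ l₂ k q) :=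
    H52.isQuasiCompactMor_comp hP0 hP2 _ _ h0 h12
  rw [← diag_eq] at h3
  have h4 : IsQuasiCompactMor (pullback.diagonal q) :=
    H52.isQuasiCompactMor_of_surjective_triangle hB hP2 k _ hks h3
  exact H52.repWith_quasiCompact_of_isQuasiCompactMor _ (H52.diagonal_properties hB q).1 h4

end Groth.Agent.H53.SepDescend
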