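import Mathlib

set_option autoImplicit false
open Topology TopologicalSpace

namespace Groth.Agent.H53.SoberTop

variable {U Y : Type*} [TopologicalSpace U] [TopologicalSpace Y]

/-- Closed subsets of a prespectral space are closed for the constructible topology. -/
theorem isClosed_constructible_of_isClosed [PrespectralSpace U] {C : Set U} (hC : IsClosed C) :
    IsClosed[constructibleTopology U] C := by
  rw [← @isOpen_compl_iff _ _ (constructibleTopology U)]
  have hb := PrespectralSpace.isTopologicalBasis (X := U)
  obtain ⟨B, hB, hBC⟩ := hb.open_eq_sUnion hC.isOpen_compl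
  rw [hBC]
  refine @isOpen_sUnion _ (constructibleTopology U) _ (fun s hs => ?_)
  exact (hB hs).2.isOpen_constructibleTopology_of_isOpen (hB hs).1

theorem isClosed_constructible_of_isCompact_isOpen {W : Set U} (hW : IsCompact W) (hWo : IsOpen W) :
    IsClosed[constructibleTopology U] W := by
  rw [← @isOpen_compl_iff _ _ (constructibleTopology U)]
  exact IsCompact.isOpen_constructibleTopology_of_isClosed (by rwa [compl_compl])
    hWo.isClosed_compl

theorem compactSpace_constructible [CompactSpace U] [QuasiSober U] [PrespectralSpace U]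
    [QuasiSeparatedSpace U] : @CompactSpace U (constructibleTopology U) := by
  have h : CompactSpace (WithConstructibleTopology U) := inferInstance
  exact @Function.Surjective.compactSpace _ _ _ (constructibleTopology U)
    WithTopology.ofTopology (WithTopology.continuous_ofTopology _) h
    (WithTopology.ofTopology_surjective _)

end Groth.Agent.H53.SoberTop

namespace Groth.Agent.H53.SoberTop

variable {U Y : Type*} [TopologicalSpace U] [TopologicalSpace Y]

/-- Generic points descend along open maps from spectral spaces with compact saturations. -/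
theorem exists_isGenericPoint_of_isOpenMap [CompactSpace U] [QuasiSober U] [PrespectralSpace U]
    [QuasiSeparatedSpace U] (π : U → Y) (hc : Continuous π) (ho : IsOpenMap π)
    (hsat : ∀ V : Set U, IsOpen V → IsCompact V → IsCompact (π ⁻¹' (π '' V)))
    (T : Set Y) (hT : IsClosed T) (hTi : IsIrreducible T) (hTm : (T ∩ Set.range π).Nonempty) :
    ∃ y, IsGenericPoint y T := by
  classical
  have hcomp := compactSpace_constructible (U := U)
  let ι := {V : Set U // IsOpen V ∧ IsCompact V ∧ (V ∩ π ⁻¹' T).Nonempty}
  have hTc : @IsCompact U (constructibleTopology U) (π ⁻¹' T) :=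
    @IsClosed.isCompact U (constructibleTopology U) _ hcomp
      (isClosed_constructible_of_isClosed (hT.preimage hc))
  have hne : (π ⁻¹' T ∩ ⋂ i : ι, π ⁻¹' (π '' i.1)).Nonempty := by
    refine @IsCompact.inter_iInter_nonempty U (constructibleTopology U) _ ι hTc
      (fun i : ι => π ⁻¹' (π '' i.1))
      (fun i => isClosed_constructible_of_isCompact_isOpen (hsat _ i.2.1 i.2.2.1)
        ((ho _ i.2.1).preimage hc)) (fun u => ?_)
    have key := (isIrreducible_iff_sInter.1 hTi)
      (insert (Set.range π) (u.image (fun i : ι => π '' i.1))) ?_ ?_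
    · obtain ⟨y, hyT, hy⟩ := key
      rw [Set.mem_sInter] at hy
      obtain ⟨c, rfl⟩ : y ∈ Set.range π := hy _ (by simp)
      refine ⟨c, hyT, ?_⟩
      simp only [Set.mem_iInter]
      intro i hi
      exact hy _ (by
        simp only [Finset.coe_insert, Finset.coe_image, Set.mem_insert_iff, Set.mem_image,
          Finset.mem_coe]
        exact Or.inr ⟨i, hi, rfl⟩)
    · intro O hO
      simp only [Finset.mem_insert, Finset.mem_image] at hO
      rcases hO with rfl | ⟨i, -, rfl⟩
      · exact ho.isOpen_range
      · exact ho _ i.2.1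
    · intro O hO
      simp only [Finset.mem_insert, Finset.mem_image] at hO
      rcases hO with rfl | ⟨i, -, rfl⟩
      · exact hTm
      · obtain ⟨v, hv, hvT⟩ := i.2.2.2
        exact ⟨π v, hvT, v, hv, rfl⟩
  obtain ⟨c, hcT, hcV⟩ := hne
  simp only [Set.mem_iInter] at hcV
  refine ⟨π c, ?_⟩
  change closure {π c} = T
  apply subset_antisymm
  · exact closure_minimal (Set.singleton_subset_iff.2 hcT) hT
  · intro t₀ ht₀
    rw [mem_closure_iff]
    intro O hO ht₀O
    obtain ⟨y, hyT, hyO, u₀, rfl⟩ : (T ∩ (O ∩ Set.range π)).Nonempty :=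
      hTi.2 O (Set.range π) hO ho.isOpen_range ⟨t₀, ht₀, ht₀O⟩ hTm
    obtain ⟨V, ⟨hVo, hVc⟩, hu₀V, hVO⟩ :=
      (PrespectralSpace.isTopologicalBasis (X := U)).exists_subset_of_mem_open
        (show u₀ ∈ π ⁻¹' O from hyO) (hO.preimage hc)
    obtain ⟨v, hv, hvc⟩ := hcV ⟨V, hVo, hVc, u₀, hu₀V, hyT⟩
    refine ⟨π c, ?_, rfl⟩
    rw [← hvc]
    exact hVO hv

end Groth.Agent.H53.SoberTop
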