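import Mathlib.CategoryTheory.Triangulated.TStructure.TruncLEGT
import Mathlib.CategoryTheory.Triangulated.TStructure.Heart
import Mathlib.CategoryTheory.Triangulated.Subcategory
import Mathlib.CategoryTheory.Triangulated.Functor
import Mathlib.CategoryTheory.Localization.Predicate
import Mathlib.CategoryTheory.Localization.CalculusOfFractions
import Mathlib.CategoryTheory.Localization.Triangulated

set_option autoImplicit false
universe v u v' u'
open CategoryTheory CategoryTheory.Limits CategoryTheory.Pretriangulated CategoryTheory.Triangulated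

namespace Groth.Agent.H53.TStrQuot

variable {C : Type u} [Category.{v} C] [Preadditive C] [HasZeroObject C] [HasShift C ℤ]
  [∀ n : ℤ, (shiftFunctor C n).Additive] [Pretriangulated C] [IsTriangulated C]
  (t : TStructure C) (D : ObjectProperty C) [D.IsTriangulated] [D.IsClosedUnderIsomorphisms]

/-- Truncations (from above) of objects of `D` are in `D`. -/
theorem truncLT_mem (hb : ∀ X : C, t.bounded X)
    (h1 : ∀ X : C, D X → ∀ n : ℤ, D ((t.truncGELE n n).obj X)) (N : C) (hN : D N) (n : ℤ) :
    D ((t.truncLT n).obj N) := by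
  obtain ⟨⟨a, ha⟩, -⟩ := hb N
  have key : ∀ k : ℕ, D ((t.truncLT (a + k)).obj N) := by
    intro k
    induction k with
    | zero =>
      have h0 : IsZero ((t.truncLT a).obj N) := t.isZero_truncLT_obj_of_isGE a N
      simpa using D.prop_of_isZero h0
    | succ k ih =>
      have hT := t.triangleLTLTGELT_distinguished (a + k) (a + k + 1) (by lia) N
      have h3 : D ((t.truncGELT (a + k) (a + k + 1)).obj N) :=
        D.prop_of_iso ((t.truncGELEIsoTruncGELT (a + k) (a + k) (a + k + 1) rfl).app N)
          (h1 N hN (a + k))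
      have := D.ext_of_isTriangulatedClosed₂ _ hT ih h3
      simpa [add_assoc] using this
  by_cases h : n ≤ a
  · have : t.IsGE N n := t.isGE_of_ge N n a h
    exact D.prop_of_isZero (t.isZero_truncLT_obj_of_isGE n N)
  · obtain ⟨k, rfl⟩ : ∃ k : ℕ, n = a + k := ⟨(n - a).toNat, by lia⟩
    exact key k

/-- Truncations (from below) of objects of `D` are in `D`. -/
theorem truncGE_mem (hb : ∀ X : C, t.bounded X)
    (h1 : ∀ X : C, D X → ∀ n : ℤ, D ((t.truncGELE n n).obj X)) (N : C) (hN : D N) (n : ℤ) :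
    D ((t.truncGE n).obj N) :=
  D.ext_of_isTriangulatedClosed₃ _ (t.triangleLTGE_distinguished n N)
    (truncLT_mem t D hb h1 N hN n) hN

/-- If `A ⟶ N ⟶ Q ⟶ A⟦1⟧` is distinguished with `A < n`, `Q ≥ n` and `N` in `D`,
then `A` is in `D`. -/
theorem mem_of_triangle_lt_ge (hb : ∀ X : C, t.bounded X)
    (h1 : ∀ X : C, D X → ∀ n : ℤ, D ((t.truncGELE n n).obj X)) (T : Triangle C)
    (hT : T ∈ distTriang C) (n : ℤ) (hA : t.IsLE T.obj₁ (n - 1)) (hQ : t.IsGE T.obj₃ n)
    (hN : D T.obj₂) : D T.obj₁ := by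
  have h := t.isIso₁_truncLT_map_of_isGE T hT n hQ
  have hi : IsIso ((t.truncLTι n).app T.obj₁) :=
    (t.isLE_iff_isIso_truncLTι_app (n - 1) n (by lia) T.obj₁).1 hA
  exact D.prop_of_iso ((asIso ((t.truncLT n).map T.mor₁)).symm ≪≫ asIso ((t.truncLTι n).app T.obj₁))
    (truncLT_mem t D hb h1 _ hN n)

end Groth.Agent.H53.TStrQuot
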