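import Groth.Agent.H53.TStrQuot1

set_option autoImplicit false
universe v u v' u'
open CategoryTheory CategoryTheory.Limits CategoryTheory.Pretriangulated CategoryTheory.Triangulated

namespace Groth.Agent.H53.TStrQuot

variable {C : Type u} [Category.{v} C] [Preadditive C] [HasZeroObject C] [HasShift C ℤ]
  [∀ n : ℤ, (shiftFunctor C n).Additive] [Pretriangulated C] [IsTriangulated C]
  (t : TStructure C) (D : ObjectProperty C) [D.IsTriangulated] [D.IsClosedUnderIsomorphisms]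

/-- Key claim: if `Y ≥ 1` and `Y ⟶ Y'` has cone in `D`, then `τ^{≤ 0} Y'` is in `D`. -/
theorem truncLT_one_mem_of_cone_mem (hb : ∀ X : C, t.bounded X)
    (h1 : ∀ X : C, D X → ∀ n : ℤ, D ((t.truncGELE n n).obj X))
    (h2 : ∀ (X Y Z : C) (f : X ⟶ Y) (g : Y ⟶ Z) (h : Z ⟶ X⟦(1 : ℤ)⟧),
      Triangle.mk f g h ∈ distTriang C → t.heart X → t.heart Y → t.heart Z → D Y → D X ∧ D Z)
    {Y Y' N : C} (s : Y ⟶ Y') (p : Y' ⟶ N) (δ : N ⟶ Y⟦(1 : ℤ)⟧)
    (hT : Triangle.mk s p δ ∈ distTriang C) (hY : t.IsGE Y 1) (hN : D N) :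
    D ((t.truncLT 1).obj Y') := by
  -- notation
  set L := (t.truncLT 1).obj Y' with hLdef
  have hL0 : t.IsLE L 0 := t.isLE_truncLT_obj Y' 1 0
  -- octahedron 1
  obtain ⟨Q, g₂, g₃, mem⟩ := distinguished_cocone_triangle ((t.truncLTι 1).app Y' ≫ p)
  have H := someOctahedron rfl (t.triangleLTGE_distinguished 1 Y') (rot_of_distTriang _ hT) mem
  have hQ0 : t.IsGE Q 0 := by
    refine t.isGE₂ _ H.mem 0 ?_ ?_
    · change t.IsGE ((t.truncGE 1).obj Y') 0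
      exact t.isGE_of_ge _ 0 1 (by lia)
    · exact t.isGE_shift Y 1 1 0
  -- factor through the truncation of `N`
  let g₀ : L ⟶ (t.truncLT 1).obj N := t.liftTruncLT ((t.truncLTι 1).app Y' ≫ p) 0 1 rfl
  have hg₀ : g₀ ≫ (t.truncLTι 1).app N = (t.truncLTι 1).app Y' ≫ p := t.liftTruncLT_ι _ 0 1 rfl
  have hN₀ : D ((t.truncLT 1).obj N) := truncLT_mem t D hb h1 N hN 1
  have hN₀le : t.IsLE ((t.truncLT 1).obj N) 0 := t.isLE_truncLT_obj N 1 0
  -- octahedron 2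
  obtain ⟨Q', a, b, mem'⟩ := distinguished_cocone_triangle g₀
  have H' := someOctahedron hg₀ mem' (t.triangleLTGE_distinguished 1 N) mem
  have hQ'le : t.IsLE Q' 0 := by
    refine t.isLE₂ _ (rot_of_distTriang _ mem') 0 hN₀le ?_
    have : t.IsLE (L⟦(1 : ℤ)⟧) (-1) := t.isLE_shift L 0 1 (-1)
    change t.IsLE (L⟦(1 : ℤ)⟧) 0
    exact t.isLE_of_le _ (-1) 0 (by lia)
  have hQ'ge : t.IsGE Q' 0 := by
    refine t.isGE₂ _ (inv_rot_of_distTriang _ H'.mem) 0 ?_ hQ0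
    have : t.IsGE (((t.truncGE 1).obj N)⟦(-1 : ℤ)⟧) 2 := t.isGE_shift _ 1 (-1) 2
    change t.IsGE (((t.truncGE 1).obj N)⟦(-1 : ℤ)⟧) 0
    exact t.isGE_of_ge _ 0 2 (by lia)
  -- octahedron 3
  obtain ⟨M, c, d, mem''⟩ := distinguished_cocone_triangle ((t.truncLTι 0).app L ≫ g₀)
  have H'' := someOctahedron rfl (t.triangleLTGE_distinguished 0 L) mem' mem''
  have hLzle : t.IsLE ((t.truncGE 0).obj L) 0 := inferInstance
  have hLzge : t.IsGE ((t.truncGE 0).obj L) 0 := inferInstance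
  have hMle : t.IsLE M 0 := t.isLE₂ _ H''.mem 0 hLzle hQ'le
  have hMge : t.IsGE M 0 := t.isGE₂ _ H''.mem 0 hLzge hQ'ge
  have hLm : D ((t.truncLT 0).obj L) :=
    mem_of_triangle_lt_ge t D hb h1 (Triangle.mk ((t.truncLTι 0).app L ≫ g₀) c d) mem'' 0
      (t.isLE_truncLT_obj L 0 (0 - 1)) hMge hN₀
  have hM : D M := D.ext_of_isTriangulatedClosed₃ _ mem'' hLm hN₀
  have hLz : D ((t.truncGE 0).obj L) :=
    (h2 _ _ _ _ _ _ H''.mem ((t.mem_heart_iff _).2 ⟨hLzle, hLzge⟩)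
      ((t.mem_heart_iff _).2 ⟨hMle, hMge⟩) ((t.mem_heart_iff _).2 ⟨hQ'le, hQ'ge⟩) hM).1
  exact D.ext_of_isTriangulatedClosed₂ _ (t.triangleLTGE_distinguished 0 L) hLm hLz

end Groth.Agent.H53.TStrQuot
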