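import Groth.Agent.H53.TStrQuot2

set_option autoImplicit false
universe v u v' u'
open CategoryTheory CategoryTheory.Limits CategoryTheory.Pretriangulated CategoryTheory.Triangulated

namespace Groth.Agent.H53.TStrQuot

variable {C : Type u} [Category.{v} C] [Preadditive C] [HasZeroObject C] [HasShift C ℤ]
  [∀ n : ℤ, (shiftFunctor C n).Additive] [Pretriangulated C] [IsTriangulated C]
  (t : TStructure C) (D : ObjectProperty C) [D.IsTriangulated] [D.IsClosedUnderIsomorphisms]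
  {E : Type u'} [Category.{v'} E] [Preadditive E] [HasZeroObject E] [HasShift E ℤ]
  [∀ n : ℤ, (shiftFunctor E n).Additive] [Pretriangulated E]
  (q : C ⥤ E) [q.CommShift ℤ] [q.IsTriangulated] [q.IsLocalization D.trW]

/-- Vanishing of morphisms in the Verdier quotient from `≤ 0` to `≥ 1`. -/
theorem map_eq_zero (hb : ∀ X : C, t.bounded X)
    (h1 : ∀ X : C, D X → ∀ n : ℤ, D ((t.truncGELE n n).obj X))
    (h2 : ∀ (X Y Z : C) (f : X ⟶ Y) (g : Y ⟶ Z) (h : Z ⟶ X⟦(1 : ℤ)⟧),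
      Triangle.mk f g h ∈ distTriang C → t.heart X → t.heart Y → t.heart Z → D Y → D X ∧ D Z)
    {X Y : C} (hX : t.IsLE X 0) (hY : t.IsGE Y 1) (φ : q.obj X ⟶ q.obj Y) : φ = 0 := by
  obtain ⟨ψ, rfl⟩ := Localization.exists_leftFraction q D.trW φ
  rw [MorphismProperty.LeftFraction.map_eq]
  obtain ⟨Z, g, h, hT, hZ⟩ := ψ.hs
  have hL : D ((t.truncLT 1).obj ψ.Y') :=
    truncLT_one_mem_of_cone_mem t D hb h1 h2 ψ.s g h hT hY hZ
  have hu : D.trW ((t.truncGEπ 1).app ψ.Y') :=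
    ObjectProperty.trW.mk' D (t.triangleLTGE_distinguished 1 ψ.Y') hL
  have hiso : IsIso (q.map ((t.truncGEπ 1).app ψ.Y')) := Localization.inverts q D.trW _ hu
  have hzero : ψ.f ≫ (t.truncGEπ 1).app ψ.Y' = 0 := t.zero _ 0 1
  have : q.map ψ.f = 0 := by
    rw [← cancel_mono (q.map ((t.truncGEπ 1).app ψ.Y')), ← q.map_comp, hzero, q.map_zero,
      zero_comp]
  rw [this, zero_comp]

end Groth.Agent.H53.TStrQuot
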