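import Groth.Agent.H53.TStrQuot3

set_option autoImplicit false
universe v u v' u'
open CategoryTheory CategoryTheory.Limits CategoryTheory.Pretriangulated CategoryTheory.Triangulated

namespace Groth.Agent.H53.TStrQuot

variable {C : Type u} [Category.{v} C] [Preadditive C] [HasZeroObject C] [HasShift C ℤ]
  [∀ n : ℤ, (shiftFunctor C n).Additive] [Pretriangulated C] [IsTriangulated C]
  (t : TStructure C) (D : ObjectProperty C) [D.IsTriangulated] [D.IsClosedUnderIsomorphisms]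
  {E : Type u'} [Category.{v'} E] [Preadditive E] [HasZeroObject E] [HasShift E ℤ]
  [∀ n : ℤ, (shiftFunctor E n).Additive] [Pretriangulated E]
  (q : C ⥤ E) [q.CommShift ℤ] [q.IsTriangulated] [q.IsLocalization D.trW]

theorem tStructure_ext (t₁ t₂ : TStructure E) (hle : ∀ n, t₁.le n = t₂.le n)
    (hge : ∀ n, t₁.ge n = t₂.ge n) : t₁ = t₂ := by
  cases t₁
  cases t₂
  simp only [TStructure.mk.injEq]
  exact ⟨funext hle, funext hge⟩

set_option backward.isDefEq.respectTransparency false in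
set_option backward.defeqAttrib.useBackward true in
/-- The induced t-structure on the Verdier quotient. -/
noncomputable def quotTStructure (hb : ∀ X : C, t.bounded X)
    (h1 : ∀ X : C, D X → ∀ n : ℤ, D ((t.truncGELE n n).obj X))
    (h2 : ∀ (X Y Z : C) (f : X ⟶ Y) (g : Y ⟶ Z) (h : Z ⟶ X⟦(1 : ℤ)⟧),
      Triangle.mk f g h ∈ distTriang C → t.heart X → t.heart Y → t.heart Z → D Y → D X ∧ D Z) :
    TStructure E where
  le n := fun Y => ∃ X : C, t.le n X ∧ Nonempty (q.obj X ≅ Y)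
  ge n := fun Y => ∃ X : C, t.ge n X ∧ Nonempty (q.obj X ≅ Y)
  le_isClosedUnderIsomorphisms n := ⟨fun e ⟨X, hX, ⟨e'⟩⟩ => ⟨X, hX, ⟨e' ≪≫ e⟩⟩⟩
  ge_isClosedUnderIsomorphisms n := ⟨fun e ⟨X, hX, ⟨e'⟩⟩ => ⟨X, hX, ⟨e' ≪≫ e⟩⟩⟩
  le_shift n a n' h Y := by
    rintro ⟨X, hX, ⟨e⟩⟩
    exact ⟨X⟦a⟧, t.le_shift n a n' h X hX,
      ⟨(q.commShiftIso a).app X ≪≫ (shiftFunctor E a).mapIso e⟩⟩
  ge_shift n a n' h Y := by
    rintro ⟨X, hX, ⟨e⟩⟩
    exact ⟨X⟦a⟧, t.ge_shift n a n' h X hX,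
      ⟨(q.commShiftIso a).app X ≪≫ (shiftFunctor E a).mapIso e⟩⟩
  zero' := by
    rintro Y₁ Y₂ f ⟨X₁, hX₁, ⟨e₁⟩⟩ ⟨X₂, hX₂, ⟨e₂⟩⟩
    have h0 : e₁.hom ≫ f ≫ e₂.inv = 0 := map_eq_zero t D q hb h1 h2 ⟨hX₁⟩ ⟨hX₂⟩ _
    have : f = e₁.inv ≫ (e₁.hom ≫ f ≫ e₂.inv) ≫ e₂.hom := by simp
    rw [this, h0, zero_comp, comp_zero]
  le_zero_le := fun Y ⟨X, hX, e⟩ => ⟨X, t.le_zero_le _ hX, e⟩
  ge_one_le := fun Y ⟨X, hX, e⟩ => ⟨X, t.ge_one_le _ hX, e⟩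
  exists_triangle_zero_one A := by
    have := Localization.essSurj q D.trW
    let e : q.obj (q.objPreimage A) ≅ A := q.objObjPreimageIso A
    obtain ⟨X₀, X₁, h₀, h₁, f, g, h, mem⟩ := t.exists_triangle_zero_one (q.objPreimage A)
    refine ⟨q.obj X₀, q.obj X₁, ⟨X₀, h₀, ⟨Iso.refl _⟩⟩, ⟨X₁, h₁, ⟨Iso.refl _⟩⟩,
      q.map f ≫ e.hom, e.inv ≫ q.map g, q.map h ≫ (q.commShiftIso (1 : ℤ)).hom.app X₀, ?_⟩
    refine isomorphic_distinguished _ (q.map_distinguished _ mem) _ ?_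
    refine Triangle.isoMk _ _ (Iso.refl _) e.symm (Iso.refl _) ?_ ?_ ?_
    all_goals simp

end Groth.Agent.H53.TStrQuot
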