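import Groth.Agent.H53.TStrQuot4

set_option autoImplicit false
universe v u v' u'
open CategoryTheory CategoryTheory.Limits CategoryTheory.Pretriangulated CategoryTheory.Triangulated

namespace Groth.Agent.H53.TStrQuot

variable {C : Type u} [Category.{v} C] [Preadditive C] [HasZeroObject C] [HasShift C ℤ]
  [∀ n : ℤ, (shiftFunctor C n).Additive] [Pretriangulated C] [IsTriangulated C]
  (t : TStructure C) (D : ObjectProperty C) [D.IsTriangulated] [D.IsClosedUnderIsomorphisms]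
  {E : Type u'} [Category.{v'} E] [Preadditive E] [HasZeroObject E] [HasShift E ℤ]
  [∀ n : ℤ, (shiftFunctor E n).Additive] [Pretriangulated E]
  (q : C ⥤ E) [q.CommShift ℤ] [q.IsTriangulated] [q.IsLocalization D.trW]

theorem main (hb : ∀ X : C, t.bounded X)
    (h1 : ∀ X : C, D X → ∀ n : ℤ, D ((t.truncGELE n n).obj X))
    (h2 : ∀ (X Y Z : C) (f : X ⟶ Y) (g : Y ⟶ Z) (h : Z ⟶ X⟦(1 : ℤ)⟧),
      Triangle.mk f g h ∈ distTriang C → t.heart X → t.heart Y → t.heart Z → D Y → D X ∧ D Z) :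
    ∃ t' : TStructure E,
      (∀ (X : C) (n : ℤ), t.IsLE X n → t'.IsLE (q.obj X) n) ∧
      (∀ (X : C) (n : ℤ), t.IsGE X n → t'.IsGE (q.obj X) n) ∧
      (∀ (Y : E) (n : ℤ), t'.IsLE Y n ↔ ∃ X : C, t.IsLE X n ∧ Nonempty (q.obj X ≅ Y)) ∧
      (∀ (Y : E) (n : ℤ), t'.IsGE Y n ↔ ∃ X : C, t.IsGE X n ∧ Nonempty (q.obj X ≅ Y)) ∧
      ∀ t'' : TStructure E,
        (∀ (X : C) (n : ℤ), t.IsLE X n → t''.IsLE (q.obj X) n) →
        (∀ (X : C) (n : ℤ), t.IsGE X n → t''.IsGE (q.obj X) n) → t'' = t' := by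
  let t' := quotTStructure t D q hb h1 h2
  have hle : ∀ (Y : E) (n : ℤ), t'.IsLE Y n ↔ ∃ X : C, t.IsLE X n ∧ Nonempty (q.obj X ≅ Y) :=
    fun Y n => ⟨fun h => by
      obtain ⟨X, hX, e⟩ := h.le
      exact ⟨X, ⟨hX⟩, e⟩, fun ⟨X, hX, e⟩ => ⟨⟨X, hX.le, e⟩⟩⟩
  have hge : ∀ (Y : E) (n : ℤ), t'.IsGE Y n ↔ ∃ X : C, t.IsGE X n ∧ Nonempty (q.obj X ≅ Y) :=
    fun Y n => ⟨fun h => by
      obtain ⟨X, hX, e⟩ := h.ge
      exact ⟨X, ⟨hX⟩, e⟩, fun ⟨X, hX, e⟩ => ⟨⟨X, hX.ge, e⟩⟩⟩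
  refine ⟨t', fun X n hX => (hle _ n).2 ⟨X, hX, ⟨Iso.refl _⟩⟩,
    fun X n hX => (hge _ n).2 ⟨X, hX, ⟨Iso.refl _⟩⟩, hle, hge, ?_⟩
  intro t'' hl'' hg''
  have h1le : ∀ (Y : E) (n : ℤ), t'.IsLE Y n → t''.IsLE Y n := by
    intro Y n hY
    obtain ⟨X, hX, ⟨e⟩⟩ := (hle Y n).1 hY
    have := hl'' X n hX
    exact t''.isLE_of_iso e n
  have h1ge : ∀ (Y : E) (n : ℤ), t'.IsGE Y n → t''.IsGE Y n := by
    intro Y n hY
    obtain ⟨X, hX, ⟨e⟩⟩ := (hge Y n).1 hY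
    have := hg'' X n hX
    exact t''.isGE_of_iso e n
  have h2le : ∀ (Y : E) (n : ℤ), t''.IsLE Y n → t'.IsLE Y n := by
    intro Y n hY
    rw [t'.isLE_iff_orthogonal n (n + 1) rfl]
    intro Y₂ f hY₂
    have := h1ge Y₂ (n + 1) hY₂
    exact t''.zero f n (n + 1)
  have h2ge : ∀ (Y : E) (n : ℤ), t''.IsGE Y n → t'.IsGE Y n := by
    intro Y n hY
    rw [t'.isGE_iff_orthogonal (n - 1) n (by lia)]
    intro Y₂ f hY₂
    have := h1le Y₂ (n - 1) hY₂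
    exact t''.zero f (n - 1) n
  apply tStructure_ext
  · intro n
    ext Y
    exact ⟨fun h => (h2le Y n ⟨h⟩).le, fun h => (h1le Y n ⟨h⟩).le⟩
  · intro n
    ext Y
    exact ⟨fun h => (h2ge Y n ⟨h⟩).ge, fun h => (h1ge Y n ⟨h⟩).ge⟩

end Groth.Agent.H53.TStrQuot
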