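import Groth.Agent.H53.Valuative
import Groth.Agent.H53.SpBasic
import Groth.Agent.H53.SpTop
import Groth.Agent.H52.Points
import Groth.Agent.H52.QC5
import Groth.Agent.H52.FibreProd
import Mathlib.AlgebraicGeometry.ValuativeCriterion
import Groth.Prelude.Def_AlgSpDec

/-!
# Quasi-compact morphisms satisfying the existence part of the valuative criterion are universally closed (helper53)
-/

set_option autoImplicit false
universe u
open CategoryTheory CategoryTheory.Limits AlgebraicGeometry Opposite IsLocalRing

namespace Groth.Agent.H53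
open AlgSp

variable {S : Scheme.{u}}

/-- A specialization of the image of a field-valued point of a scheme is realised by a valuation subring of
the field. -/
theorem exists_valuationSubring_of_specializes {V₀ : Scheme.{u}} {K : Type u} [Field K]
    (μ : Spec (CommRingCat.of K) ⟶ V₀) {v v' : ↥V₀} (hμ : μ (closedPoint K) = v) (h : v ⤳ v') :
    ∃ (A : ValuationSubring K) (β : Spec (CommRingCat.of A) ⟶ V₀),
      Spec.map (CommRingCat.ofHom (algebraMap A K)) ≫ β = μ ∧ β (closedPoint A) = v' := by
  obtain ⟨⟨v₀, a⟩, rfl⟩ := (Scheme.SpecToEquivOfField K V₀).symm.surjective μ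
  obtain rfl : v₀ = v := by
    rw [← hμ]
    simp [Scheme.SpecToEquivOfField]
  let φ₀ : V₀.presheaf.stalk v' ⟶ CommRingCat.of K :=
    V₀.presheaf.stalkSpecializes h ≫ V₀.residue v₀ ≫ a
  obtain ⟨A, hA, hloc⟩ := exists_factor_valuationRing φ₀.hom
  let toA : V₀.presheaf.stalk v' ⟶ CommRingCat.of A :=
    CommRingCat.ofHom (φ₀.hom.codRestrict _ hA)
  refine ⟨A, Spec.map toA ≫ V₀.fromSpecStalk v', ?_, ?_⟩
  · change _ = Spec.map a ≫ V₀.fromSpecResidueField v₀
    rw [Scheme.fromSpecResidueField, ← Scheme.SpecMap_stalkSpecializes_fromSpecStalk h]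
    simp_rw [← Spec.map_comp_assoc]
    rfl
  · rw [Scheme.Hom.comp_apply]
    have : Spec.map toA (closedPoint A) = closedPoint (V₀.presheaf.stalk v') :=
      comap_closedPoint (S := A) (φ₀.hom.codRestrict A.toSubring hA)
    rw [this, V₀.fromSpecStalk_closedPoint]

/-- For a morphism satisfying the existence part of the valuative criterion, the inverse image in a scheme of the
image of a closed set of points is stable under specialization. -/
theorem stableUnderSpecialization_preimage_image {X Y : Sp S} (f : X ⟶ Y) (he : ExistVC f)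
    (T : Set (Points X)) (hT : IsClosed T) {V : Over S} (q : (yon S).obj V ⟶ Y) :
    StableUnderSpecialization ((Points.ofPt q) ⁻¹' (Points.map f '' T)) := by
  intro v v' hvv' hv
  obtain ⟨x, hxT, hx⟩ := hv
  obtain ⟨w, hw1, hw2⟩ := H52.exists_point_of_isPullback (IsPullback.of_hasPullback f q) x
    (Points.ofScheme V v) (by rw [hx, Points.ofPt_eq_map_ofScheme])
  induction w using Points.ind with | h r =>
  obtain ⟨m, hm⟩ := (yon S).map_surjective (r.toHom ≫ pullback.snd f q)
  have hmv : m.left (closedPoint r.K) = v := by
    apply (Points.schemeEquiv V).injective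
    change Points.ofScheme V _ = Points.ofScheme V v
    rw [← hw2]
    have h1 : Points.ofPt ((yon S).map m) (closedPoint r.K) =
        Points.ofScheme V (m.left (closedPoint r.K)) := by
      have h0 := ofPt_yon_map_comp m (𝟙 _) (closedPoint r.K)
      rw [Category.comp_id] at h0
      exact h0
    rw [← h1, hm, ← Points.map_ofPt, Points.ofPt_toHom]
  obtain ⟨A, β, hβ1, hβ2⟩ := exists_valuationSubring_of_specializes m.left hmv hvv'
  let str : Spec (CommRingCat.of A) ⟶ S := β ≫ V.hom
  let βO : Over.mk str ⟶ V := Over.homMk β rfl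
  have hstr : Spec.map (CommRingCat.ofHom (algebraMap A r.K)) ≫ str = r.str := by
    change _ ≫ β ≫ V.hom = _
    rw [← Category.assoc, hβ1]
    exact Over.w m
  let iK : Over.mk (Spec.map (CommRingCat.ofHom (algebraMap A r.K)) ≫ str) ⟶ r.pt :=
    Over.homMk (𝟙 _) (by rw [Category.id_comp]; exact hstr.symm)
  let sq : ValSq f :=
    { A := A, K := r.K, str := str
      top := (yon S).map iK ≫ r.toHom ≫ pullback.fst f q
      bot := (yon S).map βO ≫ q
      comm := by
        have e1 : iK ≫ m = (Over.homMk (Spec.map (CommRingCat.ofHom (algebraMap A r.K))) rfl :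
            Over.mk (Spec.map (CommRingCat.ofHom (algebraMap A r.K)) ≫ str) ⟶ Over.mk str) ≫ βO := by
          apply Over.OverMorphism.ext
          change 𝟙 _ ≫ m.left = Spec.map _ ≫ β
          rw [Category.id_comp, hβ1]
        rw [Category.assoc, Category.assoc, pullback.condition, ← Category.assoc r.toHom, ← hm]
        rw [← Category.assoc ((yon S).map iK), ← Functor.map_comp, e1, Functor.map_comp,
          Category.assoc] }
  obtain ⟨e, l, hl1, hl2⟩ := he sq
  refine ⟨Points.ofPt l (closedPoint e.A'), ?_, ?_⟩
  · -- the closed point is a specialization of the image of the generic point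
    refine hT.stableUnderSpecialization ?_ hxT
    have hsp := (specializes_closedPoint
      (Spec.map (CommRingCat.ofHom (algebraMap e.A' e.K')) (closedPoint e.K'))).map
      (Points.continuous_ofPt l)
    have hgen : Points.ofPt l (Spec.map (CommRingCat.ofHom (algebraMap e.A' e.K')) (closedPoint e.K')) = x := by
      have h2 := ofPt_yon_map_comp (Over.homMk (Spec.map (CommRingCat.ofHom (algebraMap e.A' e.K'))) rfl :
        e.ptK' ⟶ e.ptA') l (closedPoint e.K')
      change _ = Points.ofPt l (Spec.map (CommRingCat.ofHom (algebraMap e.A' e.K')) (closedPoint e.K')) at h2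
      rw [← h2, hl1, ofPt_yon_map_comp]
      change Points.ofPt ((yon S).map iK ≫ r.toHom ≫ pullback.fst f q) _ = x
      rw [ofPt_yon_map_comp, ← Points.map_ofPt, Points.ofPt_toHom]
      exact hw1
    rw [hgen] at hsp
    exact hsp
  · rw [Points.map_ofPt, hl2, ofPt_yon_map_comp]
    change Points.ofPt ((yon S).map βO ≫ q) (Spec.map (CommRingCat.ofHom e.φ) (closedPoint e.A')) = _
    have hcl : Spec.map (CommRingCat.ofHom e.φ) (closedPoint e.A') = closedPoint A := by
      have := e.isLocalHom
      exact comap_closedPoint e.φ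
    rw [hcl, ofPt_yon_map_comp]
    exact congrArg _ hβ2

end Groth.Agent.H53
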