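import Groth.Agent.H53.ValuativeUC
import Groth.Agent.H53.EtaleResidue
import Mathlib.AlgebraicGeometry.Morphisms.Flat

/-!
# The existence part of the valuative criterion with finite separable extensions (helper53)
-/

set_option autoImplicit false
set_option backward.isDefEq.respectTransparency false
universe u
open CategoryTheory CategoryTheory.Limits AlgebraicGeometry Opposite IsLocalRing

namespace Groth.Agent.H53
open AlgSp

variable {S : Scheme.{u}}

theorem ofPt_yon_map' {T U : Over S} (g : T ⟶ U) (x : ↥T.left) :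
    Points.ofPt ((yon S).map g) x = Points.ofScheme U (g.left x) := by
  have h0 := ofPt_yon_map_comp g (𝟙 _) x
  rw [Category.comp_id] at h0
  exact h0

theorem existVC_finite_separable {X Y : Sp S} (hX : IsAlgSpace X) (hY : IsAlgSpace Y) (f : X ⟶ Y)
    (hf : ExistVC f) (sq : ValSq f) :
    ∃ e : sq.DomExt, (letI := e.ψ.toAlgebra; Module.Finite sq.K e.K' ∧ Algebra.IsSeparable sq.K e.K') ∧
      e.HasLift := by
  obtain ⟨e₀, l₀, hl₀1, hl₀2⟩ := hf sq
  have hB : IsAlgSpace ((yon S).obj sq.ptA) := IsAlgSpace.yon_obj _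
  let P := pullback f sq.bot
  let fst : P ⟶ X := pullback.fst f sq.bot
  let snd : P ⟶ (yon S).obj sq.ptA := pullback.snd f sq.bot
  have pb : IsPullback fst snd f sq.bot := IsPullback.of_hasPullback _ _
  have hP : IsAlgSpace P := H52.isAlgSpace_of_isPullback pb hX hY hB
  let t : (yon S).obj sq.ptK ⟶ P := pullback.lift sq.top ((yon S).map sq.j) sq.comm
  have ht1 : t ≫ fst = sq.top := pullback.lift_fst _ _ _
  have ht2 : t ≫ snd = (yon S).map sq.j := pullback.lift_snd _ _ _
  let φO : e₀.ptA' ⟶ sq.ptA := Over.homMk (Spec.map (CommRingCat.ofHom e₀.φ)) rfl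
  let t' : (yon S).obj e₀.ptA' ⟶ P := pullback.lift l₀ ((yon S).map φO) hl₀2
  have ht'1 : t' ≫ fst = l₀ := pullback.lift_fst _ _ _
  have ht'2 : t' ≫ snd = (yon S).map φO := pullback.lift_snd _ _ _
  let jO' : e₀.ptK' ⟶ e₀.ptA' := Over.homMk (Spec.map (CommRingCat.ofHom (algebraMap e₀.A' e₀.K'))) rfl
  let ψO' : e₀.ptK' ⟶ sq.ptK := Over.homMk (Spec.map (CommRingCat.ofHom e₀.ψ)) (by
          change Spec.map _ ≫ Spec.map _ ≫ _ = Spec.map _ ≫ Spec.map _ ≫ _
          rw [← Spec.map_comp_assoc, ← Spec.map_comp_assoc, ← CommRingCat.ofHom_comp,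
            ← CommRingCat.ofHom_comp, e₀.comm])
  have hl₀1' : (yon S).map jO' ≫ l₀ = (yon S).map ψO' ≫ sq.top := hl₀1
  have hjφ : jO' ≫ φO = ψO' ≫ sq.j := by
    apply Over.OverMorphism.ext
    change Spec.map _ ≫ Spec.map _ = Spec.map _ ≫ Spec.map _
    rw [← Spec.map_comp, ← Spec.map_comp, ← CommRingCat.ofHom_comp, ← CommRingCat.ofHom_comp, e₀.comm]
  have htt' : (yon S).map jO' ≫ t' = (yon S).map ψO' ≫ t := by
    apply pb.hom_ext
    · rw [Category.assoc, Category.assoc, ht'1, ht1, hl₀1']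
    · rw [Category.assoc, Category.assoc, ht'2, ht2, ← Functor.map_comp, ← Functor.map_comp, hjφ]
  -- a chart of `P`
  obtain ⟨U, a, ha1, ha2⟩ := hP.atlas
  obtain ⟨g, hg⟩ := (yon S).map_surjective (a ≫ snd)
  -- base change of the chart to `Spec A'`
  have sq' := ha1.rep.isPullback t'
  have hq'et : Etale (ha1.rep.snd t').left := ha1.property_snd t'
  have hq'surj : Surjective (ha1.rep.snd t').left := ha2.property_snd t'
  obtain ⟨p', hp'⟩ := (yon S).map_surjective (ha1.rep.fst t')
  have hp'g : p' ≫ g = ha1.rep.snd t' ≫ φO := by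
    apply (yon S).map_injective
    rw [Functor.map_comp, Functor.map_comp, hp', hg, ← Category.assoc, sq'.w, Category.assoc, ht'2]
  obtain ⟨v'₀, hv'₀⟩ := hq'surj.surj (closedPoint e₀.A')
  let η' : PrimeSpectrum e₀.A' := ⊥
  have hη's : η' ⤳ (ha1.rep.snd t').left v'₀ := by
    rw [hv'₀]
    exact (PrimeSpectrum.le_iff_specializes η' (closedPoint e₀.A')).1 bot_le
  obtain ⟨v'η, hvv', hv'η⟩ := Flat.generalizingMap (ha1.rep.snd t').left hη's
  let u' : ↥U.left := p'.left v'₀
  let u : ↥U.left := p'.left v'η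
  have huu' : u ⤳ u' := hvv'.map p'.left.continuous
  have hgu' : g.left u' = closedPoint sq.A := by
    have h1 : g.left u' = (p' ≫ g).left v'₀ := rfl
    rw [h1, hp'g]
    change (Spec.map (CommRingCat.ofHom e₀.φ)) ((ha1.rep.snd t').left v'₀) = _
    rw [hv'₀]
    have := e₀.isLocalHom
    exact IsLocalRing.comap_closedPoint e₀.φ
  -- base change of the chart to `Spec K`
  have sqK := ha1.rep.isPullback t
  have hqKet : Etale (ha1.rep.snd t).left := ha1.property_snd t
  obtain ⟨pK, hpK⟩ := (yon S).map_surjective (ha1.rep.fst t)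
  have hpKg : pK ≫ g = ha1.rep.snd t ≫ sq.j := by
    apply (yon S).map_injective
    rw [Functor.map_comp, Functor.map_comp, hpK, hg, ← Category.assoc, sqK.w, Category.assoc, ht2]
  -- the image of `u` in `P` is the image of the `K`-point
  have hη' : Spec.map (CommRingCat.ofHom (algebraMap e₀.A' e₀.K')) (closedPoint e₀.K') = η' := by
    change PrimeSpectrum.comap (algebraMap e₀.A' e₀.K') (closedPoint e₀.K') = ⊥
    apply PrimeSpectrum.ext
    change Ideal.comap (algebraMap e₀.A' e₀.K') (maximalIdeal e₀.K') = ⊥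
    rw [IsLocalRing.maximalIdeal_eq_bot, ← RingHom.ker_eq_comap_bot]
    exact (RingHom.injective_iff_ker_eq_bot _).1 (IsFractionRing.injective e₀.A' e₀.K')
  have hau : Points.ofPt a u = Points.ofPt t (closedPoint sq.K) := by
    have h1 : Points.ofPt a u = Points.ofPt ((yon S).map p' ≫ a) v'η :=
      (ofPt_yon_map_comp p' a v'η).symm
    rw [h1, hp', sq'.w, ofPt_yon_map_comp, hv'η, ← hη']
    have h2 : Points.ofPt ((yon S).map jO' ≫ t') (closedPoint e₀.K') =
        Points.ofPt t' (Spec.map (CommRingCat.ofHom (algebraMap e₀.A' e₀.K')) (closedPoint e₀.K')) :=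
      ofPt_yon_map_comp jO' t' (closedPoint e₀.K')
    rw [← h2, htt', ofPt_yon_map_comp]
    congr 1
    exact @Subsingleton.elim _ (inferInstanceAs (Subsingleton (PrimeSpectrum sq.K))) _ _
  obtain ⟨w, hw1, hw2⟩ := H52.exists_point_of_isPullback sqK
    (Points.ofScheme U u) (Points.ofScheme sq.ptK (closedPoint sq.K))
    (by rw [← Points.ofPt_eq_map_ofScheme, ← Points.ofPt_eq_map_ofScheme, hau])
  obtain ⟨ξ, rfl⟩ := (Points.schemeEquiv (ha1.rep.pullback t)).surjective w
  have hξu : pK.left ξ = u := by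
    apply (Points.schemeEquiv U).injective
    change Points.ofScheme U _ = Points.ofScheme U u
    rw [← hw1, ← hpK]
    exact (ofPt_yon_map' pK ξ).symm
  -- the residue field at `ξ`
  let Z : Scheme.{u} := (ha1.rep.pullback t).left
  let ρ : Spec (CommRingCat.of (Z.residueField ξ)) ⟶ Z := Z.fromSpecResidueField ξ
  let μ : Spec (CommRingCat.of (Z.residueField ξ)) ⟶ U.left := ρ ≫ pK.left
  have hμ : μ (closedPoint (Z.residueField ξ)) = u := by
    change pK.left (ρ (closedPoint (Z.residueField ξ))) = u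
    rw [show ρ (closedPoint (Z.residueField ξ)) = ξ from Scheme.fromSpecResidueField_apply _ _, hξu]
  obtain ⟨A', β, φ, h1, h2, h3, hloc⟩ := exists_valuationSubring_dominating g.left huu' hgu' μ hμ
  let qK : Z ⟶ Spec (CommRingCat.of sq.K) := (ha1.rep.snd t).left
  let ψc : CommRingCat.of sq.K ⟶ CommRingCat.of (Z.residueField ξ) := Spec.preimage (ρ ≫ qK)
  have hψc : Spec.map ψc = ρ ≫ qK := Spec.map_preimage _
  have hfs := finite_separable_residueField_of_etale qK ξ ψc.hom hψc
  have hcomm : μ ≫ g.left = (ρ ≫ qK) ≫ Spec.map (CommRingCat.ofHom (algebraMap sq.A sq.K)) := by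
    have := congrArg (fun k => k.left) hpKg
    change pK.left ≫ g.left = qK ≫ Spec.map (CommRingCat.ofHom (algebraMap sq.A sq.K)) at this
    rw [Category.assoc, Category.assoc, this]
  have hcomm' : (algebraMap A' (Z.residueField ξ)).comp φ = ψc.hom.comp (algebraMap sq.A sq.K) := by
    have e1 : Spec.map (CommRingCat.ofHom ((algebraMap A' (Z.residueField ξ)).comp φ)) =
        Spec.map (CommRingCat.ofHom (ψc.hom.comp (algebraMap sq.A sq.K))) := by
      have l1 : CommRingCat.ofHom ((algebraMap A' (Z.residueField ξ)).comp φ) =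
          CommRingCat.ofHom φ ≫ CommRingCat.ofHom (algebraMap A' (Z.residueField ξ)) := rfl
      have l2 : CommRingCat.ofHom (ψc.hom.comp (algebraMap sq.A sq.K)) =
          CommRingCat.ofHom (algebraMap sq.A sq.K) ≫ ψc := rfl
      rw [l1, l2, Spec.map_comp, Spec.map_comp, h3, ← Category.assoc, h1, hψc]
      exact hcomm
    exact congrArg CommRingCat.Hom.hom (Spec.map_injective e1)
  let e : sq.DomExt :=
    { A' := A', K' := Z.residueField ξ, φ := φ, ψ := ψc.hom, comm := hcomm', isLocalHom := hloc }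
  refine ⟨e, hfs, ?_⟩
  have hβstr : β ≫ U.hom = Spec.map (CommRingCat.ofHom φ) ≫ sq.str := by
    rw [h3, Category.assoc]
    congr 1
    exact (Over.w g).symm
  let βO : e.ptA' ⟶ U := Over.homMk β hβstr
  have hβg : βO ≫ g = (Over.homMk (Spec.map (CommRingCat.ofHom e.φ)) rfl : e.ptA' ⟶ sq.ptA) :=
    Over.OverMorphism.ext h3.symm
  have hρstr : ρ ≫ (ha1.rep.pullback t).hom =
      Spec.map (CommRingCat.ofHom (algebraMap A' (Z.residueField ξ))) ≫
        Spec.map (CommRingCat.ofHom φ) ≫ sq.str := by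
    rw [← hβstr, ← Category.assoc, h1, Category.assoc]
    congr 1
    exact (Over.w pK).symm
  let ρO : e.ptK' ⟶ ha1.rep.pullback t := Over.homMk ρ hρstr
  have hρβ : (Over.homMk (Spec.map (CommRingCat.ofHom (algebraMap e.A' e.K'))) rfl : e.ptK' ⟶ e.ptA') ≫ βO =
      ρO ≫ pK := by
    apply Over.OverMorphism.ext
    exact h1
  refine ⟨(yon S).map βO ≫ a ≫ fst, ?_, ?_⟩
  · rw [← Category.assoc, ← Functor.map_comp, hρβ, Functor.map_comp, Category.assoc,
      ← Category.assoc ((yon S).map pK), hpK, sqK.w, Category.assoc, ht1, ← Category.assoc,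
      ← Functor.map_comp]
    congr 2
    apply Over.OverMorphism.ext
    exact hψc.symm
  · rw [Category.assoc, Category.assoc, pb.w, ← Category.assoc a, ← hg, ← Category.assoc,
      ← Functor.map_comp, hβg]

end Groth.Agent.H53
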