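import Groth.Agent.H53.ValuativeUC
import Groth.Agent.Lib.Helper54.Points

/-!
# Decent universally closed morphisms satisfy the existence part of the valuative criterion (helper53)
-/

set_option autoImplicit false
universe u
open CategoryTheory CategoryTheory.Limits AlgebraicGeometry Opposite IsLocalRing

namespace Groth.Agent.H53
open AlgSp

variable {S : Scheme.{u}}

/-- A decent universally closed morphism of algebraic spaces satisfies the existence part of the
valuative criterion. -/
theorem existVC_of_isUnivClosedMor_of_isDecentMor {X Y : Sp S} (hX : IsAlgSpace X) (hY : IsAlgSpace Y)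
    (f : X ⟶ Y) (hd : IsDecentMor f) (hc : IsUnivClosedMor f) : ExistVC f := by
  intro sq
  have hB : IsAlgSpace ((yon S).obj sq.ptA) := IsAlgSpace.yon_obj _
  let P := pullback f sq.bot
  let fst : P ⟶ X := pullback.fst f sq.bot
  let snd : P ⟶ (yon S).obj sq.ptA := pullback.snd f sq.bot
  have pb : IsPullback fst snd f sq.bot := IsPullback.of_hasPullback _ _
  have hP : IsAlgSpace P := H52.isAlgSpace_of_isPullback pb hX hY hB
  have hcl : IsClosedMap (Points.map snd) := hc hB sq.bot fst snd pb
  have hPdec : IsDecent P := hd sq.bot fst snd pb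
  let t : (yon S).obj sq.ptK ⟶ P := pullback.lift sq.top ((yon S).map sq.j) sq.comm
  have ht1 : t ≫ fst = sq.top := pullback.lift_fst _ _ _
  have ht2 : t ≫ snd = (yon S).map sq.j := pullback.lift_snd _ _ _
  let pK : FieldPt P := H52.fieldPtOfHom _ t
  have hpK : pK.toHom = t := Equiv.symm_apply_apply _ _
  have hxK : Points.mk pK = Points.ofPt t (closedPoint sq.K) := by
    rw [← hpK]
    exact (Points.ofPt_toHom pK _).symm
  -- the image of the generic point specializes to a point over the closed point
  let η : ↥(Spec (CommRingCat.of sq.A)) := Spec.map (CommRingCat.ofHom (algebraMap sq.A sq.K)) (closedPoint sq.K)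
  have hsndx : Points.map snd (Points.mk pK) = Points.ofScheme sq.ptA η := by
    rw [hxK, Points.map_ofPt, ht2]
    have h0 := ofPt_yon_map_comp sq.j (𝟙 _) (closedPoint sq.K)
    rw [Category.comp_id] at h0
    exact h0
  have hsp : Points.ofScheme sq.ptA η ⤳ Points.ofScheme sq.ptA (closedPoint sq.A) :=
    (specializes_closedPoint η).map (Points.continuous_ofPt _)
  have hmem : Points.ofScheme sq.ptA (closedPoint sq.A) ∈ Points.map snd '' closure {Points.mk pK} :=
    (hcl _ isClosed_closure).stableUnderSpecialization hsp ⟨_, subset_closure rfl, hsndx⟩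
  obtain ⟨x', hx'cl, hx'⟩ := hmem
  have hxx' : Points.mk pK ⤳ x' := specializes_iff_mem_closure.2 hx'cl
  -- lift to a chart
  obtain ⟨U, a, ha1, ha2⟩ := hP.atlas
  obtain ⟨u', hu'⟩ := surjective_ofPt_of_surjective a ha2 x'
  obtain ⟨q, hq, -, hqqc⟩ := hPdec (Points.mk pK)
  obtain ⟨u, huu', hu⟩ := exists_generalization_of_quasiCompact_point q hqqc (hq ▸ hxx') a ha1 u' hu'
  rw [hq] at hu
  -- a field-valued point of the chart over `u` and the given point of `P`
  obtain ⟨w, hw1, hw2⟩ := H52.exists_point_of_isPullback (IsPullback.of_hasPullback a t)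
    (Points.ofScheme U u) (Points.ofScheme sq.ptK (closedPoint sq.K))
    (by rw [← Points.ofPt_eq_map_ofScheme, ← Points.ofPt_eq_map_ofScheme, hu, hxK])
  induction w using Points.ind with | h r =>
  obtain ⟨μO, hμO⟩ := (yon S).map_surjective (r.toHom ≫ pullback.fst a t)
  obtain ⟨ψO, hψO⟩ := (yon S).map_surjective (r.toHom ≫ pullback.snd a t)
  obtain ⟨g, hg⟩ := (yon S).map_surjective (a ≫ snd)
  have hμu : μO.left (closedPoint r.K) = u := by
    apply (Points.schemeEquiv U).injective
    change Points.ofScheme U _ = Points.ofScheme U u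
    rw [← hw1]
    have h1 : Points.ofPt ((yon S).map μO) (closedPoint r.K) =
        Points.ofScheme U (μO.left (closedPoint r.K)) := by
      have h0 := ofPt_yon_map_comp μO (𝟙 _) (closedPoint r.K)
      rw [Category.comp_id] at h0
      exact h0
    rw [← h1, hμO, ← Points.map_ofPt, Points.ofPt_toHom]
  have hgu' : g.left u' = closedPoint sq.A := by
    apply (Points.schemeEquiv sq.ptA).injective
    change Points.ofScheme sq.ptA _ = Points.ofScheme sq.ptA _
    rw [← hx', ← hu']
    have h0 := ofPt_yon_map_comp g (𝟙 _) u'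
    rw [Category.comp_id] at h0
    rw [Points.map_ofPt, ← hg]
    exact h0.symm
  have hcomm : μO ≫ g = ψO ≫ sq.j := by
    apply (yon S).map_injective
    rw [Functor.map_comp, Functor.map_comp, hμO, hψO, hg, Category.assoc, Category.assoc,
      ← Category.assoc (pullback.fst a t), pullback.condition, Category.assoc, ht2]
  let γ₀ : U.left ⟶ Spec (CommRingCat.of sq.A) := g.left
  let μ : Spec (CommRingCat.of r.K) ⟶ U.left := μO.left
  obtain ⟨A', β, φ, h1, h2, h3, hloc⟩ := exists_valuationSubring_dominating γ₀ huu' hgu' μ hμu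
  let ψc : CommRingCat.of sq.K ⟶ CommRingCat.of r.K := Spec.preimage ψO.left
  have hψc : Spec.map ψc = ψO.left := Spec.map_preimage _
  have hcomm' : (algebraMap A' r.K).comp φ = ψc.hom.comp (algebraMap sq.A sq.K) := by
    have e1 : Spec.map (CommRingCat.ofHom ((algebraMap A' r.K).comp φ)) =
        Spec.map (CommRingCat.ofHom (ψc.hom.comp (algebraMap sq.A sq.K))) := by
      have l1 : CommRingCat.ofHom ((algebraMap A' r.K).comp φ) =
          CommRingCat.ofHom φ ≫ CommRingCat.ofHom (algebraMap A' r.K) := rfl
      have l2 : CommRingCat.ofHom (ψc.hom.comp (algebraMap sq.A sq.K)) =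
          CommRingCat.ofHom (algebraMap sq.A sq.K) ≫ ψc := rfl
      rw [l1, l2, Spec.map_comp, Spec.map_comp, h3, ← Category.assoc, h1, hψc]
      exact congrArg (fun k => k.left) hcomm
    exact congrArg CommRingCat.Hom.hom (Spec.map_injective e1)
  let e : sq.DomExt :=
    { A' := A', K' := r.K, φ := φ, ψ := ψc.hom, comm := hcomm', isLocalHom := hloc }
  refine ⟨e, ?_⟩
  have hβstr : β ≫ U.hom = Spec.map (CommRingCat.ofHom φ) ≫ sq.str := by
    rw [h3, Category.assoc]
    congr 1
    exact (Over.w g).symm
  let βO : e.ptA' ⟶ U := Over.homMk β hβstr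
  have hβg : βO ≫ g = (Over.homMk (Spec.map (CommRingCat.ofHom e.φ)) rfl : e.ptA' ⟶ sq.ptA) :=
    Over.OverMorphism.ext h3.symm
  have hrstr : Spec.map (CommRingCat.ofHom (algebraMap A' r.K)) ≫ Spec.map (CommRingCat.ofHom φ) ≫ sq.str =
      r.str := by
    rw [← hβstr, ← Category.assoc, h1]
    exact Over.w μO
  let ι : e.ptK' ⟶ r.pt := Over.homMk (𝟙 _) (by rw [Category.id_comp]; exact hrstr.symm)
  have hιμ : (Over.homMk (Spec.map (CommRingCat.ofHom (algebraMap e.A' e.K'))) rfl : e.ptK' ⟶ e.ptA') ≫ βO =
      ι ≫ μO := by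
    apply Over.OverMorphism.ext
    change Spec.map _ ≫ β = 𝟙 _ ≫ μO.left
    rw [Category.id_comp]
    exact h1
  refine ⟨(yon S).map βO ≫ a ≫ fst, ?_, ?_⟩
  · rw [← Category.assoc, ← Functor.map_comp, hιμ, Functor.map_comp, Category.assoc,
      ← Category.assoc ((yon S).map μO), hμO, Category.assoc, Category.assoc,
      ← Category.assoc (pullback.fst a t), pullback.condition, Category.assoc, ht1,
      ← Category.assoc r.toHom, ← hψO, ← Category.assoc, ← Functor.map_comp]
    congr 2
    apply Over.OverMorphism.ext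
    change 𝟙 _ ≫ ψO.left = Spec.map (CommRingCat.ofHom ψc.hom)
    rw [Category.id_comp]
    exact hψc.symm
  · rw [Category.assoc, Category.assoc, pb.w, ← Category.assoc a, ← hg, ← Category.assoc,
      ← Functor.map_comp, hβg]

/-- A universally closed morphism of algebraic spaces with decent source satisfies the existence part of the
valuative criterion. -/
theorem existVC_of_isUnivClosedMor_of_isDecent {X Y : Sp S} (hX : IsAlgSpace X) (hY : IsAlgSpace Y)
    (f : X ⟶ Y) (hd : IsDecent X) (hc : IsUnivClosedMor f) : ExistVC f :=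
  existVC_of_isUnivClosedMor_of_isDecentMor hX hY f
    (Lib.Helper54.isDecentMor_of_isDecent_source f (fun T g => hY.representable_from_yon g) hd) hc

end Groth.Agent.H53
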