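import Groth.Agent.H53.ZarGlueInt

set_option autoImplicit false
set_option backward.isDefEq.respectTransparency false
universe u
open CategoryTheory CategoryTheory.Limits AlgebraicGeometry Opposite

namespace Groth.Agent.H53.ZarGlue

open AlgSp Groth.Agent.Lib.Helper51

variable {S : Scheme.{u}}

/-- If every base change of `φ` to an affine scheme is representable with `P` (for `P` Zariski local at the target),
then `φ` is representable with `P`. -/
theorem repWith_of_affine_base_change (P : MorphismProperty Scheme.{u}) [IsZariskiLocalAtTarget P]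
    {F G : Sp S} (φ : F ⟶ G)
    (h : ∀ (Z : Over S), IsAffine Z.left → ∀ (g : (yon S).obj Z ⟶ G) (P₀ : Sp S)
      (fst : P₀ ⟶ F) (snd : P₀ ⟶ (yon S).obj Z), IsPullback fst snd φ g → RepWith P snd) :
    RepWith P φ := by
  refine repWith_of_affine_local P fun Z hZ g => ?_
  have hsnd := h Z hZ g (pullback φ g) (pullback.fst φ g) (pullback.snd φ g)
    (IsPullback.of_hasPullback φ g)
  have sq := hsnd.rep.isPullback (𝟙 ((yon S).obj Z))
  have hP : P (hsnd.rep.snd (𝟙 ((yon S).obj Z))).left := hsnd.property_snd _
  refine ⟨hsnd.rep.pullback (𝟙 _), hsnd.rep.snd (𝟙 _), hsnd.rep.fst (𝟙 _) ≫ pullback.fst φ g,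
    ?_, hP⟩
  have := sq.paste_horiz (IsPullback.of_hasPullback φ g)
  simpa using this

end Groth.Agent.H53.ZarGlue
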