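import Groth.Agent.H53.SoberSp
import Groth.Agent.H52.QSChart

set_option autoImplicit false
set_option backward.isDefEq.respectTransparency false
universe u
open CategoryTheory CategoryTheory.Limits AlgebraicGeometry Opposite Topology TopologicalSpace
open AlgSp

namespace Groth.Agent.H53.ZarQS

variable {S : Scheme.{u}}

/-- Zariski locally quasi-separated ⟺ Zariski locally admitting a quasi-compact étale surjective
affine chart. -/
theorem zariski_locally_qs_iff (X : Space S) :
    (∃ (ι : Type u) (Xi : ι → Space S) (j : ∀ i, Xi i ⟶ X),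
        IsZarCover (fun i => (Xi i).obj) (fun i => (j i).hom) ∧
          ∀ i, IsQuasiSeparatedSp (Xi i).obj) ↔
      (∃ (ι : Type u) (Xi : ι → Space S) (j : ∀ i, Xi i ⟶ X),
        IsZarCover (fun i => (Xi i).obj) (fun i => (j i).hom) ∧
          ∀ i, ∃ (U : Over S) (p : (yon S).obj U ⟶ (Xi i).obj), IsAffine U.left ∧
            RepWith @QuasiCompact p ∧ RepWith @Etale p ∧ RepWith @Surjective p) := by
  constructor
  · rintro ⟨ι, Xi, j, hj, hqs⟩
    choose A a hae has using fun i => (Xi i).property.atlas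
    have key : ∀ k : (Σ i : ι, ↥(A i).left), ∃ (V : Over S) (b : (yon S).obj V ⟶ (Xi k.1).obj)
        (v : ↥V.left), IsAffine V.left ∧ RepWith @Etale b ∧
          Points.ofPt b v = Points.ofPt (a k.1) k.2 ∧ CompactSpace ↥(pullback V.hom V.hom) :=
      fun k => Groth.Agent.H53.SoberSp.exists_affine_chart_over_affine (Xi k.1).property _
    choose V b v hV hbe hv hVV using key
    refine ⟨Σ i : ι, ↥(A i).left,
      fun k => ⟨Sheaf.image (b k),
        Groth.Agent.H52.isAlgSpace_image (Xi k.1).property (b k) (hbe k)⟩,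
      fun k => ObjectProperty.homMk (Sheaf.imageι (b k)) ≫ j k.1, ⟨fun k => ?_, fun x => ?_⟩,
      fun k => ⟨V k, Sheaf.toImage (b k), hV k, ?_, ?_, ?_⟩⟩
    · exact MorphismProperty.comp_mem _ _ _
        (Groth.Agent.H52.repWith_isOpenImmersion_imageι (b k) (hbe k)) (hj.1 k.1)
    · obtain ⟨i, xi, rfl⟩ := hj.2 x
      obtain ⟨w, rfl⟩ := Groth.Agent.H53.surjective_ofPt_of_surjective (a i) (has i) xi
      have hmem : Points.ofPt (a i) w ∈ Set.range (Points.map (Sheaf.imageι (b ⟨i, w⟩))) := by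
        rw [Groth.Agent.H52.range_points_map_imageι (b ⟨i, w⟩) (hbe ⟨i, w⟩)]
        exact ⟨v ⟨i, w⟩, hv ⟨i, w⟩⟩
      obtain ⟨z, hz⟩ := hmem
      refine ⟨⟨i, w⟩, z, ?_⟩
      change Points.map (Sheaf.imageι (b ⟨i, w⟩) ≫ (j i).hom) z = _
      rw [Points.map_comp, hz]
    · have : IsAffine (V k).left := hV k
      exact Groth.Agent.H53.SoberSp.repWith_quasiCompact_toImage_of_affine (Xi k.1).property
        (hqs k.1) (hVV k) (b k) (hbe k)
    · exact Groth.Agent.H52.repWith_etale_toImage (b k) (hbe k)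
    · exact Groth.Agent.H52.repWith_surjective_toImage (b k) (hbe k)
  · rintro ⟨ι, Xi, j, hj, hch⟩
    refine ⟨ι, Xi, j, hj, fun i => ?_⟩
    obtain ⟨U, p, hU, hpq, hpe, hps⟩ := hch i
    have : IsAffine U.left := hU
    have sq := hpe.rep.isPullback' p
    have : QuasiCompact (hpe.rep.fst' p).left := hpq.property _ _ _ sq.flip
    exact Groth.Agent.H52.isQuasiSeparatedSp_of_chart (Xi i).property p hpe hps
      (hpe.rep.snd p) (hpe.rep.fst' p) sq

end Groth.Agent.H53.ZarQS
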