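import Mathlib
import Groth.Prelude

set_option autoImplicit false
set_option backward.isDefEq.respectTransparency false
universe u
open CategoryTheory CategoryTheory.Limits AlgebraicGeometry TopologicalSpace

namespace Groth.Agent.H53.ZeroDim

variable {X : Scheme.{u}}

/-- A compact open inside an affine open of a `T1` scheme is relatively closed. -/
theorem isOpen_sdiff_of_isAffineOpen [T1Space X] {W : X.Opens} (hW : IsAffineOpen W)
    (Q : X.Opens) (hQ : IsCompact (Q : Set X)) (hQW : Q ≤ W) :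
    IsOpen ((W : Set X) \ (Q : Set X)) := by
  have hf : Topology.IsOpenEmbedding hW.fromSpec := hW.fromSpec.isOpenEmbedding
  have hrange : Set.range hW.fromSpec = (W : Set X) := hW.range_fromSpec
  have hQ' : IsCompact (hW.fromSpec ⁻¹' (Q : Set X)) :=
    hf.isInducing.isCompact_preimage' hQ (by rw [hrange]; exact hQW)
  have hT1 : T1Space (PrimeSpectrum Γ(X, W)) := hf.isEmbedding.t1Space
  have hcl : IsClosed (hW.fromSpec ⁻¹' (Q : Set X)) :=
    PrimeSpectrum.isClosed_of_stableUnderSpecialization_of_isConstructible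
      (fun x y hxy hx => by rwa [← (specializes_iff_eq.1 hxy)])
      (hQ'.isConstructible (Q.2.preimage hW.fromSpec.continuous))
  have h2 : (W : Set X) \ (Q : Set X) = hW.fromSpec '' (hW.fromSpec ⁻¹' (Q : Set X))ᶜ := by
    ext x
    constructor
    · rintro ⟨hxW, hxQ⟩
      rw [← hrange] at hxW
      obtain ⟨y, rfl⟩ := hxW
      exact ⟨y, hxQ, rfl⟩
    · rintro ⟨y, hy, rfl⟩
      exact ⟨hrange ▸ Set.mem_range_self y, hy⟩
  rw [h2]
  exact hf.isOpenMap _ hcl.isOpen_compl

/-- A relatively clopen subset of an affine open is affine. -/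
theorem isAffineOpen_of_relClopen {W : X.Opens} (hW : IsAffineOpen W) (Q : X.Opens) (hQW : Q ≤ W)
    (hopen : IsOpen ((W : Set X) \ (Q : Set X))) : IsAffineOpen Q := by
  have hrange : Set.range hW.fromSpec = (W : Set X) := hW.range_fromSpec
  have hs : IsClopen (hW.fromSpec ⁻¹' (Q : Set X)) := by
    refine ⟨?_, Q.2.preimage hW.fromSpec.continuous⟩
    rw [← isOpen_compl_iff]
    have : (hW.fromSpec ⁻¹' (Q : Set X))ᶜ = hW.fromSpec ⁻¹' ((W : Set X) \ (Q : Set X)) := by
      ext y
      simp only [Set.mem_compl_iff, Set.mem_preimage, Set.mem_sdiff]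
      constructor
      · intro hy
        exact ⟨hrange ▸ Set.mem_range_self y, hy⟩
      · exact fun hy => hy.2
    rw [this]
    exact hopen.preimage hW.fromSpec.continuous
  obtain ⟨e, ⟨-, he⟩, -⟩ := PrimeSpectrum.existsUnique_idempotent_basicOpen_eq_of_isClopen hs
  have hpre : (hW.fromSpec ⁻¹ᵁ X.basicOpen e : Set _) = hW.fromSpec ⁻¹' (Q : Set X) := by
    rw [hW.fromSpec_preimage_basicOpen, he]
  have hQe : Q = X.basicOpen e := by
    apply le_antisymm
    · intro x hx
      have hxW : x ∈ (W : Set X) := hQW hx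
      rw [← hrange] at hxW
      obtain ⟨y, rfl⟩ := hxW
      have : y ∈ (hW.fromSpec ⁻¹ᵁ X.basicOpen e : Set _) := by rw [hpre]; exact hx
      exact this
    · intro x hx
      have hxW : x ∈ (W : Set X) := X.basicOpen_le e hx
      rw [← hrange] at hxW
      obtain ⟨y, rfl⟩ := hxW
      have : y ∈ hW.fromSpec ⁻¹' (Q : Set X) := by rw [← hpre]; exact hx
      exact this
  rw [hQe]
  exact hW.basicOpen e

/-- In a quasi-separated `T1` scheme every quasi-compact open is affine. -/
theorem isAffineOpen_of_isCompact [T1Space X] [QuasiSeparatedSpace X] (V : X.Opens)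
    (hV : IsCompact (V : Set X)) : IsAffineOpen V := by
  refine compact_open_induction_on (P := fun V => IsAffineOpen V) V hV (isAffineOpen_bot X) ?_
  intro S hS W hSaff
  have hQc : IsCompact ((S ⊓ W.1 : X.Opens) : Set X) :=
    QuasiSeparatedSpace.inter_isCompact _ _ S.2 hS W.1.2 W.2.isCompact
  have hopen : IsOpen ((S : Set X) \ ((S ⊓ W.1 : X.Opens) : Set X)) :=
    isOpen_sdiff_of_isAffineOpen hSaff (S ⊓ W.1) hQc inf_le_left
  let S' : X.Opens := ⟨(S : Set X) \ ((S ⊓ W.1 : X.Opens) : Set X), hopen⟩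
  have hS'S : S' ≤ S := fun x hx => hx.1
  have hS'aff : IsAffineOpen S' := by
    refine isAffineOpen_of_relClopen hSaff S' hS'S ?_
    have : (S : Set X) \ (S' : Set X) = ((S ⊓ W.1 : X.Opens) : Set X) := by
      ext x
      simp only [S', Opens.coe_mk, Set.mem_sdiff, Opens.coe_inf, Set.mem_inter_iff, SetLike.mem_coe]
      tauto
    rw [this]
    exact (S ⊓ W.1).2
  have hdisj : Disjoint S' W.1 := by
    rw [← Opens.coe_disjoint, Set.disjoint_left]
    rintro x ⟨hxS, hxn⟩ hxW
    exact hxn ⟨hxS, hxW⟩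
  have heq : S ⊔ W.1 = S' ⊔ W.1 := by
    ext x
    simp only [S', Opens.coe_sup, Opens.coe_mk, Set.mem_union, Set.mem_sdiff, Opens.coe_inf,
      Set.mem_inter_iff, SetLike.mem_coe]
    tauto
  rw [heq]
  exact hS'aff.sup_of_disjoint W.2 hdisj

end Groth.Agent.H53.ZeroDim
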