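import Mathlib
import Groth.Prelude

set_option autoImplicit false
set_option backward.isDefEq.respectTransparency false
universe u
open CategoryTheory CategoryTheory.Limits AlgebraicGeometry TopologicalSpace

namespace Groth.Agent.H53.ZeroDim

variable {X : Scheme.{u}}

theorem mono_appTop_specMap_of_injective {R K : CommRingCat.{u}} (φ : R ⟶ K)
    (hφ : Function.Injective φ.hom) : Mono (Spec.map φ).appTop := by
  have h1 : (Spec.map φ).appTop = (Scheme.ΓSpecIso R).hom ≫ φ ≫ (Scheme.ΓSpecIso K).inv := by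
    rw [← Category.assoc, ← Scheme.ΓSpecIso_naturality, Category.assoc, Iso.hom_inv_id,
      Category.comp_id]
  have : Mono φ := ConcreteCategory.mono_of_injective φ hφ
  rw [h1]
  infer_instance

/-- A quasi-separated `T1` scheme is separated. -/
theorem isSeparated_of_t1Space [T1Space X] [QuasiSeparatedSpace X] : X.IsSeparated := by
  have hqs : QuasiSeparated (terminal.from X) :=
    (quasiSeparatedSpace_iff_quasiSeparated X).1 inferInstance
  refine ⟨IsSeparated.of_valuativeCriterion _ ?_⟩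
  intro Sq
  refine ⟨fun l₁ l₂ => ?_⟩
  let ι := Spec.map (CommRingCat.ofHom (algebraMap Sq.R Sq.K))
  let η : Spec (CommRingCat.of Sq.K) := (⊥ : PrimeSpectrum Sq.K)
  let x : X := Sq.i₁ η
  have hgen : ∀ p : Spec (CommRingCat.of Sq.R), ι η ⤳ p := by
    intro p
    rw [← PrimeSpectrum.le_iff_specializes]
    change (PrimeSpectrum.comap (algebraMap Sq.R Sq.K) (⊥ : PrimeSpectrum Sq.K)) ≤ p
    intro r hr
    have hr' : algebraMap Sq.R Sq.K r = 0 := hr
    have : r = 0 := (IsFractionRing.injective Sq.R Sq.K) (by rw [hr', map_zero])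
    rw [this]
    exact Ideal.zero_mem _
  have hpt : ∀ (l : Sq.commSq.LiftStruct) (p : Spec (CommRingCat.of Sq.R)), l.l p = x := by
    intro l p
    have h1 : l.l (ι η) ⤳ l.l p := (hgen p).map l.l.continuous
    have h2 : l.l (ι η) = x := by
      change (ι ≫ l.l) η = Sq.i₁ η
      rw [l.fac_left]
    rw [← h2]
    exact (specializes_iff_eq.1 h1).symm
  obtain ⟨W, hW, hxW⟩ : ∃ W : X.Opens, IsAffineOpen W ∧ x ∈ W := by
    obtain ⟨_, ⟨W, hW : IsAffineOpen W, rfl⟩, hxW, -⟩ :=
      X.isBasis_affineOpens.exists_subset_of_mem_open (Set.mem_univ x) isOpen_univ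
    exact ⟨W, hW, hxW⟩
  have hr : ∀ l : Sq.commSq.LiftStruct, Set.range l.l ⊆ Set.range W.ι := by
    rintro l _ ⟨p, rfl⟩
    rw [Scheme.Opens.range_ι, hpt l p]
    exact hxW
  let l₁' := IsOpenImmersion.lift W.ι l₁.l (hr l₁)
  let l₂' := IsOpenImmersion.lift W.ι l₂.l (hr l₂)
  have h1 : l₁' ≫ W.ι = l₁.l := IsOpenImmersion.lift_fac _ _ _
  have h2 : l₂' ≫ W.ι = l₂.l := IsOpenImmersion.lift_fac _ _ _
  have hι : ι ≫ l₁' = ι ≫ l₂' := by
    rw [← cancel_mono W.ι, Category.assoc, Category.assoc, h1, h2, l₁.fac_left, l₂.fac_left]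
  have : IsAffine (W : Scheme) := hW
  have hmono : Mono ι.appTop :=
    mono_appTop_specMap_of_injective _ (IsFractionRing.injective Sq.R Sq.K)
  have happ : l₁'.appTop = l₂'.appTop := by
    rw [← cancel_mono ι.appTop, ← Scheme.Hom.comp_appTop, ← Scheme.Hom.comp_appTop, hι]
  have : l₁' = l₂' := ext_of_isAffine happ
  apply CommSq.LiftStruct.ext
  rw [← h1, ← h2, this]

end Groth.Agent.H53.ZeroDim
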