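import Groth.Agent.H53.ZeroDim
import Groth.Agent.H53.ZeroDimSep
import Groth.Agent.H53.FieldLqfSp
import Groth.Agent.H53.SpTop
import Groth.Agent.H52.DimZero
import Groth.Agent.H52.LocNoeth
import Groth.Agent.H52.DiagLfp
import Groth.Agent.Lib.Helper54.QSepSchematic
import Groth.Agent.Lib.Helper54.EtaleOverField
import Groth.Agent.S10482

set_option autoImplicit false
set_option backward.isDefEq.respectTransparency false
universe u
open CategoryTheory CategoryTheory.Limits AlgebraicGeometry AlgSp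

namespace Groth.Agent.H53.ZeroDim

variable {S : Scheme.{u}}

theorem topologicalKrullDim_le_of_chart {X : Sp S} (hd : AlgSp.dim X ≤ 0) {U : Over S}
    (a : (yon S).obj U ⟶ X) (ha : RepWith @Etale a) : topologicalKrullDim ↥U.left ≤ 0 := by
  refine le_trans ?_ hd
  unfold AlgSp.dim
  exact le_iSup_of_le U (le_iSup_of_le a (le_iSup_of_le ha le_rfl))

theorem t1Space_of_topologicalKrullDim_le_zero {U : Scheme.{u}} (h : topologicalKrullDim ↥U ≤ 0) :
    T1Space ↥U :=
  ⟨fun x => H52.isClosed_singleton_of_topologicalKrullDim_le_zero h x⟩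

attribute [local instance] specializationOrder in
theorem ringKrullDim_stalk_eq_zero_of_t1Space {U : Scheme.{u}} [T1Space ↥U] (u : U) :
    ringKrullDim ↥(U.presheaf.stalk u) = 0 := by
  rw [ringKrullDim_stalk_eq_coheight]
  have hmax : IsMax u := by
    intro ζ (hζ : ζ ⤳ u)
    change u ⤳ ζ
    rw [specializes_iff_eq.1 hζ]
  exact_mod_cast Order.coheight_eq_zero.2 hmax

/-- A quasi-separated algebraic space of dimension at most zero is a scheme. -/
theorem isRepresentable_of_dim_le_zero {X : Sp S} (hX : IsAlgSpace X) (hqs : IsQuasiSeparatedSp X)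
    (hd : AlgSp.dim X ≤ 0) : X.obj.IsRepresentable := by
  apply Lib.Helper54.isRepresentable_of_schematicLocus_eq_univ hX
  rw [Set.eq_univ_iff_forall]
  intro x
  obtain ⟨U, a, hae, has⟩ := hX.atlas
  obtain ⟨u, rfl⟩ := H53.surjective_ofPt_of_surjective a has x
  have hT1 : T1Space ↥U.left :=
    t1Space_of_topologicalKrullDim_le_zero (topologicalKrullDim_le_of_chart hd a hae)
  exact Lib.Helper54.codim_zero_mem_schematicLocus_of_qs hX hqs _
    ⟨U, a, u, hae, rfl, ringKrullDim_stalk_eq_zero_of_t1Space u⟩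

/-- S10450. -/
theorem sep_affine_of_qs_dim_zero [QuasiSeparatedSpace S] {X : Sp S} (hX : IsAlgSpace X)
    (hqs : IsQuasiSeparatedSp X) (hd : AlgSp.dim X ≤ 0) :
    ∃ (U : Over S) (_ : (yon S).obj U ≅ X), U.left.IsSeparated ∧
      ∀ V : U.left.Opens, IsCompact (V : Set ↥U.left) → IsAffineOpen V := by
  obtain ⟨⟨U, ⟨r⟩⟩⟩ := isRepresentable_of_dim_le_zero hX hqs hd
  let e := isoOfRepresentableBy r
  have hT1 : T1Space ↥U.left :=
    t1Space_of_topologicalKrullDim_le_zero
      (topologicalKrullDim_le_of_chart hd e.hom (H52.repWith_of_isIso _ _))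
  have hqsU : IsQuasiSeparatedSp ((yon S).obj U) :=
    H52.isQuasiSeparatedSp_of_isQuasiSeparatedMor e.hom (H52.isQuasiSeparatedMor_of_mono _) hqs
  have h1 : QuasiCompact (pullback.diagonal U.hom) := (repWith_diag_yon_iff _ U).1 hqsU
  have h2 : QuasiSeparated U.hom := ⟨h1⟩
  have h3 : QuasiSeparatedSpace ↥U.left := quasiSeparatedSpace_of_quasiSeparated U.hom
  exact ⟨U, e, isSeparated_of_t1Space, fun V hV => isAffineOpen_of_isCompact V hV⟩

/-- S10451. -/
theorem sep_affine_of_lft_dim_zero (k : Type u) [Field k] {X : Space (Spec (CommRingCat.of k))}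
    (p : X.obj ⟶ (yon (Spec (CommRingCat.of k))).obj (Over.mk (𝟙 _)))
    (hp : LocP @LocallyOfFiniteType p) (hd : AlgSp.dim X.obj ≤ 0) :
    ∃ (U : Over (Spec (CommRingCat.of k))) (_ : (yon _).obj U ≅ X.obj), U.left.IsSeparated ∧
      ∀ V : U.left.Opens, IsCompact (V : Set ↥U.left) → IsAffineOpen V := by
  have hlqf := (Groth.Agent.S10482.result k X p).2 ⟨hp, hd⟩
  obtain ⟨⟨U, ⟨r⟩⟩⟩ := FieldLqf.isRepresentable_of_lqf X.property p hlqf
  let e := isoOfRepresentableBy r
  have hU := FieldLqf.lqf_hom_of_chart p hlqf e.hom (H52.repWith_of_isIso _ _)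
  have := hU.1
  have hArt : IsLocallyArtinian U.left := FieldLqf.isLocallyArtinian_of_lqf U.hom
  have h3 : QuasiSeparatedSpace ↥U.left := inferInstance
  exact ⟨U, e, isSeparated_of_t1Space, fun V hV => isAffineOpen_of_isCompact V hV⟩

end Groth.Agent.H53.ZeroDim
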